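import Groth.Agent.RootBase.Unip

/-!
# The big cell of a split reductive group
-/

set_option autoImplicit false
set_option backward.isDefEq.respectTransparency false
set_option linter.style.haveILetI false
set_option maxHeartbeats 1000000
set_option synthInstance.maxHeartbeats 400000

universe u

open CategoryTheory Limits MonoidalCategory CartesianMonoidalCategory MonObj GrpObj AlgebraicGeometry LieS
open scoped CategoryTheory.Obj

noncomputable section

namespace Groth.Agent.RootBase

open Groth.Agent.HomDiag Groth.Agent.DynPar Groth.Agent.RootSys Groth.Agent.MTBridge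
open Groth.Agent.DynPar.Der (dv uB pl sG)

/-- A functional which is positive on the simple roots. -/
theorem exists_pos_hom {idx M : Type} [AddCommGroup M] [Module.Free ℤ M] [Module.Finite ℤ M]
    (P : RootPairing idx ℤ M (Module.Dual ℤ M)) (b : P.Base) :
    ∃ mu : M →+ ℤ, (∀ a, 0 < mu (P.root a) ↔ a ∈ RedSub.posRoots P b) ∧
      (∀ a, 0 < (-mu) (P.root a) ↔ a ∈ RedSub.negRoots P b) ∧ ∀ a, mu (P.root a) ≠ 0 := by
  classical
  let B := Module.finBasis ℤ M
  let incl : M →ₗ[ℤ] (Fin (Module.finrank ℤ M) → ℚ) :=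
    LinearMap.pi fun j => (Algebra.linearMap ℤ ℚ).comp (B.coord j)
  have hincl : Function.Injective incl := fun x y h => B.repr.injective (Finsupp.ext fun j => by
    have h1 := congrFun h j
    exact Int.cast_injective (α := ℚ) h1)
  have hli : LinearIndependent ℚ (fun a : b.support => incl (P.root a)) := by
    rw [← LinearIndependent.iff_fractionRing (R := ℤ) (K := ℚ)]
    exact (b.linearIndepOn_root : LinearIndependent ℤ fun a : b.support => P.root a).map' incl
      (LinearMap.ker_eq_bot.2 hincl)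
  obtain ⟨g, hg⟩ := LinearMap.exists_leftInverse_of_injective
    (Finsupp.linearCombination ℚ fun a : b.support => incl (P.root a)) (LinearMap.ker_eq_bot.2 hli)
  let φ : (Fin (Module.finrank ℤ M) → ℚ) →ₗ[ℚ] ℚ :=
    (Finsupp.linearCombination ℚ fun _ : b.support => (1 : ℚ)).comp g
  have hφ : ∀ a : b.support, φ (incl (P.root a)) = 1 := fun a => by
    have h1 := LinearMap.congr_fun hg (Finsupp.single a 1)
    rw [LinearMap.comp_apply, Finsupp.linearCombination_single, one_smul, LinearMap.id_apply] at h1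
    show Finsupp.linearCombination ℚ _ (g _) = 1
    rw [h1, Finsupp.linearCombination_single, one_smul]
  let N : ℕ := ∏ j, (φ (incl (B j))).den
  have hN : 0 < N := Finset.prod_pos fun j _ => (φ (incl (B j))).den_pos
  have hint : ∀ j, ∃ z : ℤ, (z : ℚ) = N * φ (incl (B j)) := fun j => by
    refine ⟨(φ (incl (B j))).num * ∏ i ∈ Finset.univ.erase j, ((φ (incl (B i))).den : ℤ), ?_⟩
    have h1 : N = (φ (incl (B j))).den * ∏ i ∈ Finset.univ.erase j, (φ (incl (B i))).den :=
      (Finset.mul_prod_erase Finset.univ (fun i => (φ (incl (B i))).den) (Finset.mem_univ j)).symm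
    rw [h1]
    push_cast
    rw [mul_comm ((φ (incl (B j))).den : ℚ), _root_.mul_assoc, mul_comm ((φ (incl (B j))).den : ℚ) (φ (incl (B j))),
      Rat.mul_den_eq_num, mul_comm]
  choose z hz using hint
  let mu : M →+ ℤ := (B.constr ℤ z).toAddMonoidHom
  have hmu : ∀ x, (mu x : ℚ) = N * φ (incl x) := fun x => by
    have h1 : (Algebra.linearMap ℤ ℚ).comp (B.constr ℤ z) = (N : ℚ) • (φ.restrictScalars ℤ).comp incl :=
      B.ext fun j => by
        simp only [LinearMap.comp_apply, B.constr_basis, LinearMap.smul_apply, smul_eq_mul]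
        exact hz j
    exact LinearMap.congr_fun h1 x
  have hsimp : ∀ a ∈ b.support, 0 < mu (P.root a) := fun a ha => by
    have h1 := hmu (P.root a)
    rw [hφ ⟨a, ha⟩, _root_.mul_one] at h1
    rw [show mu (P.root a) = (N : ℤ) by exact_mod_cast h1]
    exact_mod_cast hN
  have hclo : ∀ x ∈ AddSubmonoid.closure (P.root '' (b.support : Set idx)), x = 0 ∨ 0 < mu x := fun x hx => by
    induction hx using AddSubmonoid.closure_induction with
    | mem x hx => obtain ⟨a, ha, rfl⟩ := hx; exact Or.inr (hsimp a ha)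
    | zero => exact Or.inl rfl
    | add x y _ _ hx hy =>
      rcases hx with rfl | hx
      · rwa [zero_add]
      rcases hy with rfl | hy
      · rw [add_zero]; exact Or.inr hx
      exact Or.inr (by rw [map_add]; omega)
  have hne : ∀ a, P.root a ≠ 0 := fun a h => by
    have h2 := P.root_coroot_two a
    rw [h, map_zero, LinearMap.zero_apply] at h2
    exact two_ne_zero h2.symm
  have hp : ∀ a ∈ RedSub.posRoots P b, 0 < mu (P.root a) := fun a ha => (hclo _ ha).resolve_left (hne a)
  have hn : ∀ a ∈ RedSub.negRoots P b, mu (P.root a) < 0 := fun a ha => by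
    have := (hclo _ ha).resolve_left (neg_ne_zero.2 (hne a))
    rw [map_neg] at this
    omega
  refine ⟨mu, fun a => ⟨fun h => ?_, hp a⟩, fun a => ⟨fun h => ?_, fun h => ?_⟩, fun a => ?_⟩
  · exact (b.root_mem_or_neg_mem a).resolve_right fun h' => by have := hn a h'; omega
  · rw [AddMonoidHom.neg_apply] at h
    exact (b.root_mem_or_neg_mem a).resolve_left fun h' => by have := hp a h'; omega
  · rw [AddMonoidHom.neg_apply]; have := hn a h; omega
  · rcases b.root_mem_or_neg_mem a with h | h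
    · exact (hp a h).ne'
    · exact (hn a h).ne

theorem range_iso_comp {X Y Z : Scheme.{u}} (e : X ⟶ Y) [IsIso e] (g : Y ⟶ Z) :
    Set.range ⇑(e ≫ g) = Set.range ⇑g := by
  ext z
  constructor
  · rintro ⟨x, rfl⟩
    exact ⟨e x, (Scheme.Hom.comp_apply e g x).symm⟩
  · rintro ⟨y, rfl⟩
    obtain ⟨x, rfl⟩ := (Scheme.Hom.homeomorph e).surjective y
    exact ⟨x, Scheme.Hom.comp_apply e g x⟩

section CellC

variable {S : Scheme.{u}} {G : Over S} [GrpObj G] {M : Type} [AddCommGroup M]

/-- The cell map of lists of root homomorphisms. -/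
def cellC (c : Red.DS S M ⟶ G) {n m : ℕ} (wn : Fin n → (Red.Ga S ⟶ G)) (wp : Fin m → (Red.Ga S ⟶ G)) :
    RedSub.pow (Red.Ga S) n ⊗ (Red.DS S M ⊗ RedSub.pow (Red.Ga S) m) ⟶ G :=
  (fst _ _ ≫ RedSub.prodMap (Red.Ga S) n wn) *
    ((snd _ _ ≫ fst _ _ ≫ c) * (snd _ _ ≫ snd _ _ ≫ RedSub.prodMap (Red.Ga S) m wp))

theorem comp_cellC (c : Red.DS S M ⟶ G) {n m : ℕ} (wn : Fin n → (Red.Ga S ⟶ G)) (wp : Fin m → (Red.Ga S ⟶ G))
    {X : Over S} (x : X ⟶ RedSub.pow (Red.Ga S) n) (t : X ⟶ Red.DS S M) (y : X ⟶ RedSub.pow (Red.Ga S) m) :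
    lift x (lift t y) ≫ cellC c wn wp =
      (x ≫ RedSub.prodMap (Red.Ga S) n wn) * ((t ≫ c) * (y ≫ RedSub.prodMap (Red.Ga S) m wp)) := by
  rw [cellC, MonObj.comp_mul, MonObj.comp_mul]
  simp only [lift_fst_assoc, lift_snd_assoc]

theorem exists_cellC_bc {S' : Scheme.{u}} (τ : S' ⟶ S) (c : Red.DS S M ⟶ G) {n m : ℕ}
    (wn : Fin n → (Red.Ga S ⟶ G)) (wp : Fin m → (Red.Ga S ⟶ G)) :
    ∃ ζ : Red.bc τ (RedSub.pow (Red.Ga S) n ⊗ (Red.DS S M ⊗ RedSub.pow (Red.Ga S) m)) ⟶
        RedSub.pow (Red.Ga S') n ⊗ (Red.DS S' M ⊗ RedSub.pow (Red.Ga S') m),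
      IsIso ζ ∧ ζ ≫ cellC (bcHom' τ c) (fun l => bcGa τ (wn l)) (fun l => bcGa τ (wp l)) =
        (Over.pullback τ).map (cellC c wn wp) := by
  obtain ⟨κn, hn, hκn⟩ := exists_powBC τ (G := G) n
  obtain ⟨κm, hm, hκm⟩ := exists_powBC τ (G := G) m
  haveI := hn; haveI := hm
  haveI := isIso_ej τ M
  let F := Over.pullback τ
  refine ⟨lift (F.map (fst _ _) ≫ inv κn)
    (lift (F.map (snd _ _ ≫ fst _ _) ≫ inv (ej τ M)) (F.map (snd _ _ ≫ snd _ _) ≫ inv κm)), ?_, ?_⟩
  · have e : lift (F.map (fst (RedSub.pow (Red.Ga S) n) (Red.DS S M ⊗ RedSub.pow (Red.Ga S) m)) ≫ inv κn)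
        (lift (F.map (snd _ _ ≫ fst _ _) ≫ inv (ej τ M)) (F.map (snd _ _ ≫ snd _ _) ≫ inv κm)) =
        CartesianMonoidalCategory.prodComparison F _ _ ≫
          (inv κn ⊗ₘ (CartesianMonoidalCategory.prodComparison F _ _ ≫ (inv (ej τ M) ⊗ₘ inv κm))) := by
      refine CartesianMonoidalCategory.hom_ext _ _ ?_ (CartesianMonoidalCategory.hom_ext _ _ ?_ ?_) <;>
        simp
    rw [e]
    infer_instance
  · rw [comp_cellC, cellC, Functor.map_mul, Functor.map_mul, ← hκn wn, ← hκm wp, bcHom']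
    simp only [Category.assoc, IsIso.inv_hom_id_assoc, Functor.map_comp]
    rfl

end CellC

section Affine

variable {R : Type u} [CommRing R] {G : Over (Spec (CommRingCat.of R))} [GrpObj G] [IsAffine G.left]
  {M : Type} [AddCommGroup M] [Module.Free ℤ M] [Module.Finite ℤ M]
  {c : Red.DS (Spec (CommRingCat.of R)) M ⟶ G} [IsMonHom c] {idx : Type} [Fintype idx] {root : idx → M}
  {u : idx → (Red.Ga (Spec (CommRingCat.of R)) ⟶ G)}

/-- **A functional without zeros on the roots centralises exactly the torus.** -/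
theorem Frame.centralizer (F : Frame c root u) (mu : M →+ ℤ) (hmu : ∀ a, mu (root a) ≠ 0) :
    Red.IsCentralizerOf (Red.DSmap (Spec (CommRingCat.of R)) mu ≫ c) c := by
  let S := Spec (CommRingCat.of R)
  haveI := F.hG.1
  haveI := F.hG.2.1
  haveI := F.hc.2.1
  obtain ⟨Z, _, z, hz, hzc, hZs⟩ := exists_centralizer_DS (G := G) inferInstance inferInstance (Red.DSmap S mu ≫ c)
  haveI := hz.1; haveI := hz.2.1; haveI := hzc; haveI := hZs
  obtain ⟨tC, htC⟩ := (hz.2.2 _ c).2 fun X' x h => by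
    show (x ≫ c) * (h ≫ Red.DSmap _ mu ≫ c) = (h ≫ Red.DSmap _ mu ≫ c) * (x ≫ c)
    rw [← Category.assoc, ← MonObj.mul_comp, ← MonObj.mul_comp,
      show x * (h ≫ Red.DSmap S mu) = (h ≫ Red.DSmap S mu) * x from ch_ext fun m => by rw [ch_mul, ch_mul, mul_comm]]
  haveI : IsMonHom tC := MTSplit.isMonHom_of_comp_mono tC z c htC
  haveI := locallyOfFinitePresentation_of_isMultTypeFT _ (MTBridge.isMultTypeFT_of_isTorus _ F.hc.2.2.1)
  haveI := flat_of_isMultTypeFT _ (MTBridge.isMultTypeFT_of_isTorus _ F.hc.2.2.1)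
  haveI : IsIso tC := ParNorm.isIso_of_geomPts tC fun s => by
    let τ := Red.geomPt s
    let K := AlgebraicClosure (S.residueField s)
    let SK := Spec (CommRingCat.of K)
    let cK := bcHom' τ c
    haveI : IsMonHom cK := isMonHom_bcHom' τ c
    haveI : IsMonHom (bcHom' τ tC) := isMonHom_bcHom' τ tC
    have FK := F.bc τ
    haveI : IsAffine (Red.bc τ G).left := (F.hG.2.2 s).1
    haveI : Smooth (Red.bc τ G).hom := MorphismProperty.pullback_snd (P := @Smooth) G.hom τ inferInstance
    haveI : IsAffineHom (Red.bc τ G).hom := isAffineHom_of_isAffine _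
    haveI hzK : IsClosedImmersion ((Over.pullback τ).map z).left :=
      MorphismProperty.overPullbackMap (P := @IsClosedImmersion) τ z hzc
    haveI : IsAffine (Red.bc τ Z).left := isAffine_of_isAffineHom ((Over.pullback τ).map z).left
    haveI : IsAffineHom (Red.bc τ Z).hom := isAffineHom_of_isAffine _
    haveI : Smooth (Red.bc τ Z).hom := MorphismProperty.pullback_snd (P := @Smooth) Z.hom τ hZs
    have hzc' : Red.IsCentralizerOf (Red.DSmap SK mu ≫ cK) ((Over.pullback τ).map z) := by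
      rw [← bcHom'_DSmap]; exact centralizer_bc τ hz
    have htz : bcHom' τ tC ≫ (Over.pullback τ).map z = cK := by
      rw [bcHom', Category.assoc, ← Functor.map_comp, htC]
      rfl
    haveI := FK.hc.2.1
    haveI := Chev.smooth_of_isTorus FK.hc.2.2.1
    haveI := Chev.isAffine_of_isTorus FK.hc.2.2.1
    haveI : IsAffineHom (Red.DS SK M).hom := isAffineHom_of_isAffine _
    haveI : IsClosedImmersion (bcHom' τ tC).left := by
      haveI : IsClosedImmersion cK.left := MTBridge.isClosedImmersion_of_mono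
        (MTBridge.locally_of_isMultTypeFT' _ (MTBridge.isMultTypeFT_of_isTorus _ FK.hc.2.2.1)) inferInstance cK
      haveI : IsClosedImmersion ((bcHom' τ tC).left ≫ ((Over.pullback τ).map z).left) := by
        rw [← Over.comp_left, htz]; infer_instance
      exact IsClosedImmersion.of_comp (bcHom' τ tC).left ((Over.pullback τ).map z).left
    obtain ⟨P, _, p, hP⟩ := exists_isP (G := Red.bc τ G) (Red.DSmap SK mu ≫ cK)
    obtain ⟨U, _, uU, hU⟩ := exists_isU (G := Red.bc τ G) (Red.DSmap SK mu ≫ cK)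
    haveI := DynPar.isIso_of_lie (bcHom' τ tC) inferInstance inferInstance inferInstance
      (fun t => (geom_fibre (G := Red.bc τ G) inferInstance (fun t => (FK.hG.2.2 t).2.2.1) hP hU hzc' t).2.2.1)
      fun B _ _ => eq_top_iff.2 fun v _ => by
        let v' := LieS.map B _ ((Over.pullback τ).map z) v
        have hZv : (v'.1 : pt (DualNumber B) _ ⟶ Red.bc τ G) ∈ ZSub _ (Red.DSmap SK mu ≫ cK) :=
          mem_ZSub_of_centralizer hzc' v.1
        rw [mem_ZSub_iff cK mu gens_univ] at hZv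
        have h0 : IsWt cK v' 0 := by
          obtain ⟨Fs, comp, hcd, hcomp, -⟩ := exists_wt_decomp (c := cK) v'
          intro x d hd
          by_cases hmd : mu d = 0
          · rw [← hcd]
            by_contra hne
            obtain ⟨w, hw, hw1⟩ := exists_wt_field (hcomp d) (fun e => hne (by rw [e, Der.dv_one]))
            obtain ⟨a, ha⟩ := FK.exists_eq_root ⟨hd, w, hw, hw1⟩
            exact hmu a (by rw [ha, hmd])
          · rw [← rp_vec_snd, hZv x (Set.mem_univ x) d hmd, TrivSqZeroExt.snd_zero]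
        obtain ⟨y, hy⟩ := exists_centralizer_lift (RedCartan.centralizer_self_of_isReductive FK.hG cK FK.hc)
          ((mem_ZSub_iff_isWt_zero cK v').2 h0)
        let y' : dpt B _ ⟶ Red.DS SK M := y
        have hy' : y' ≫ cK = v.1 ≫ (Over.pullback τ).map z := hy
        haveI : Mono ((Over.pullback τ).map z) := Over.mono_of_mono_left _
        have hy'' : y' ≫ bcHom' τ tC = v.1 := by
          rw [← cancel_mono ((Over.pullback τ).map z), Category.assoc, htz, hy']
        refine ⟨⟨y', (mem_Lie_iff _ B _ _).2 ?_⟩, trivial, Subtype.ext hy''⟩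
        haveI : Mono (bcHom' τ tC) := Over.mono_of_mono_left _
        rw [← cancel_mono (bcHom' τ tC), Category.assoc, hy'', (mem_Lie_iff _ B _ _).1 v.2, MonObj.one_comp]
    haveI := isIso_ej τ M
    haveI : IsIso (ej τ M ≫ (Over.pullback τ).map tC) := ‹IsIso (bcHom' τ tC)›
    exact IsIso.of_isIso_comp_left (ej τ M) _
  have hself := RedCartan.centralizer_self_of_isReductive F.hG c F.hc
  refine centralizer_congr hself fun B _ f g => ⟨fun hg => ?_, fun hg => ?_⟩
  · rw [show c = Red.DSmap S (AddMonoidHom.id M) ≫ c by rw [DSmap_id, Category.id_comp], mem_ZSub_iff c _ gens_univ] at hg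
    rw [mem_ZSub_iff c _ gens_univ]
    exact fun a ha m hm => hg a ha m fun h => hm (by rw [show m = 0 from h, map_zero])
  · obtain ⟨y, hy⟩ := exists_centralizer_lift hz hg
    rw [← hy, ← IsIso.inv_hom_id_assoc tC z, htC, ← Category.assoc]
    exact mem_ZSub_of_centralizer hself _

variable {n m : ℕ} (eneg : Fin n → idx) (epos : Fin m → idx)

/-- **The cell over an affine base.** -/
theorem Frame.cell_affine (F : Frame c root u) (mu : M →+ ℤ) (hmu : ∀ a, mu (root a) ≠ 0)
    (hneg : RedSub.Enumerates {a | 0 < (-mu) (root a)} eneg) (hpos : RedSub.Enumerates {a | 0 < mu (root a)} epos)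
    {V P : Over (Spec (CommRingCat.of R))} [GrpObj V] [GrpObj P] {v : V ⟶ G} {p : P ⟶ G}
    (hV : IsU (Red.DSmap (Spec (CommRingCat.of R)) (-mu) ≫ c) v)
    (hP : IsP (Red.DSmap (Spec (CommRingCat.of R)) mu ≫ c) p) :
    IsOpenImmersion (cellC c (fun l => u (eneg l)) (fun l => u (epos l))).left ∧
      Set.range (cellC c (fun l => u (eneg l)) (fun l => u (epos l))).left = Set.range (upMap v p).left := by
  haveI := F.hG.1
  haveI := F.hG.2.1
  obtain ⟨U, _, uU, hU⟩ := exists_isU (G := G) (Red.DSmap (Spec (CommRingCat.of R)) mu ≫ c)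
  obtain ⟨L⟩ := exists_leviData hP hU (F.centralizer mu hmu)
  haveI := L.iso
  obtain ⟨zn, hzn⟩ := F.isIso_prod (-mu) eneg hneg hV
  obtain ⟨zm, hzm⟩ := F.isIso_prod mu epos hpos hU
  let φ := zn.hom ⊗ₘ ((𝟙 (Red.DS (Spec (CommRingCat.of R)) M) ⊗ₘ zm.hom) ≫ (L.l ⊗ₘ L.iu) ≫ μ)
  haveI : IsIso φ := inferInstance
  haveI : IsIso φ.left := inferInstanceAs (IsIso ((Over.forget _).map φ))
  have hlu : (L.l ⊗ₘ L.iu) ≫ μ ≫ p = (fst _ _ ≫ c) * (snd _ _ ≫ uU) := by
    haveI := hP.1
    rw [← Category.assoc, show (L.l ⊗ₘ L.iu) ≫ μ = (fst _ _ ≫ L.l) * (snd _ _ ≫ L.iu) by rw [Hom.mul_def]; congr 1,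
      MonObj.mul_comp, Category.assoc, Category.assoc, L.l_p, L.iu_p]
  have hmap : φ ≫ upMap v p = cellC c (fun l => u (eneg l)) (fun l => u (epos l)) := by
    rw [upMap, MonObj.comp_mul, cellC]
    simp only [φ, tensorHom_fst_assoc, tensorHom_snd_assoc, Category.assoc, hzn, hlu, MonObj.comp_mul,
      Category.id_comp, hzm]
  haveI := isOpenImmersion_upMap mu hV hP
  rw [← hmap]
  refine ⟨by rw [Over.comp_left]; infer_instance, ?_⟩
  have hs : Function.Surjective φ.left := φ.left.homeomorph.surjective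
  rw [Over.comp_left, show ⇑(φ.left ≫ (upMap v p).left) = ⇑(upMap v p).left ∘ ⇑φ.left from
    funext fun x => Scheme.Hom.comp_apply _ _ _]
  exact hs.range_comp _

end Affine

section Global

variable {S : Scheme.{u}} {G : Over S} [GrpObj G] {M : Type} [AddCommGroup M] [Module.Free ℤ M] [Module.Finite ℤ M]
  {c : Red.DS S M ⟶ G} {idx : Type} [Fintype idx] {root : idx → M} {u : idx → (Red.Ga S ⟶ G)}

/-- **The cell**: an open immersion with image independent of the orders. -/
theorem Frame.cell (F : Frame c root u) (mu : M →+ ℤ) (hmu : ∀ a, mu (root a) ≠ 0)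
    {n m : ℕ} (eneg eneg' : Fin n → idx) (epos epos' : Fin m → idx)
    (hneg : RedSub.Enumerates {a | 0 < (-mu) (root a)} eneg) (hpos : RedSub.Enumerates {a | 0 < mu (root a)} epos)
    (hneg' : RedSub.Enumerates {a | 0 < (-mu) (root a)} eneg') (hpos' : RedSub.Enumerates {a | 0 < mu (root a)} epos') :
    IsOpenImmersion (cellC c (fun l => u (eneg l)) (fun l => u (epos l))).left ∧
      Set.range (cellC c (fun l => u (eneg' l)) (fun l => u (epos' l))).left =
        Set.range (cellC c (fun l => u (eneg l)) (fun l => u (epos l))).left := by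
  haveI := F.hG.1
  haveI := F.hG.2.1
  haveI := F.hc.1
  let 𝒱 := S.affineOpenCover.openCover
  let f := fun (e₁ : Fin n → idx) (e₂ : Fin m → idx) => cellC c (fun l => u (e₁ l)) (fun l => u (e₂ l))
  have key : ∀ i, IsOpenImmersion ((Over.pullback (𝒱.f i)).map (f eneg epos)).left ∧
      Set.range ((Over.pullback (𝒱.f i)).map (f eneg' epos')).left =
        Set.range ((Over.pullback (𝒱.f i)).map (f eneg epos)).left := by
    intro i
    let A : CommRingCat.{u} := S.affineOpenCover.X i
    let j : Spec (CommRingCat.of A) ⟶ S := 𝒱.f i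
    have F' := F.bc j
    haveI : IsMonHom (bcHom' j c) := isMonHom_bcHom' j c
    haveI := F'.hG.1
    haveI : IsAffine (Red.bc j G).left := isAffine_of_isAffineHom (Red.bc j G).hom
    obtain ⟨V, _, v, hV⟩ := exists_isU (G := Red.bc j G) (Red.DSmap _ (-mu) ≫ bcHom' j c)
    obtain ⟨P, _, p, hP⟩ := exists_isP (G := Red.bc j G) (Red.DSmap _ mu ≫ bcHom' j c)
    obtain ⟨h1, h1'⟩ := F'.cell_affine eneg epos mu hmu hneg hpos hV hP
    obtain ⟨-, h2⟩ := F'.cell_affine eneg' epos' mu hmu hneg' hpos' hV hP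
    have hr : ∀ (e₁ : Fin n → idx) (e₂ : Fin m → idx),
        ∃ ζ : Red.bc j (RedSub.pow (Red.Ga S) n ⊗ (Red.DS S M ⊗ RedSub.pow (Red.Ga S) m)) ⟶ _, IsIso ζ.left ∧
          ζ.left ≫ (cellC (bcHom' j c) (fun l => bcGa j (u (e₁ l))) (fun l => bcGa j (u (e₂ l)))).left =
            ((Over.pullback j).map (f e₁ e₂)).left := fun e₁ e₂ => by
      obtain ⟨ζ, hζ, hζe⟩ := exists_cellC_bc j c (fun l => u (e₁ l)) (fun l => u (e₂ l))
      haveI := hζ
      exact ⟨ζ, inferInstanceAs (IsIso ((Over.forget _).map ζ)), congrArg CommaMorphism.left hζe⟩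
    obtain ⟨ζ, hζ, hζe⟩ := hr eneg epos
    obtain ⟨ζ', hζ', hζe'⟩ := hr eneg' epos'
    haveI := hζ; haveI := hζ'
    show IsOpenImmersion ((Over.pullback j).map (f eneg epos)).left ∧
      Set.range ((Over.pullback j).map (f eneg' epos')).left = Set.range ((Over.pullback j).map (f eneg epos)).left
    rw [← hζe, ← hζe']
    haveI := h1
    refine ⟨inferInstance, ?_⟩
    rw [range_iso_comp, range_iso_comp]
    exact h2.trans h1'.symm
  have hrange : ∀ i (e₁ : Fin n → idx) (e₂ : Fin m → idx),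
      Set.range ((Over.pullback (𝒱.f i)).map (f e₁ e₂)).left =
        (pullback.fst G.hom (𝒱.f i)) ⁻¹' Set.range (f e₁ e₂).left := fun i e₁ e₂ => by
    have sq := MTImage.isPullback_map (f e₁ e₂) (𝒱.f i)
    rw [← sq.isoPullback_hom_snd, ← Scheme.Pullback.range_snd]
    exact range_iso_comp _ _
  refine ⟨IsZariskiLocalAtTarget.of_openCover (P := @IsOpenImmersion) (𝒱.pullback₁ G.hom) fun i => ?_, ?_⟩
  · have sq := MTImage.isPullback_map (f eneg epos) (𝒱.f i)
    haveI := (key i).1
    show IsOpenImmersion (pullback.snd (f eneg epos).left (pullback.fst G.hom (𝒱.f i)))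
    rw [← sq.isoPullback_inv_snd]
    infer_instance
  · ext x
    obtain ⟨i, y, rfl⟩ := Scheme.Cover.exists_eq (𝒱.pullback₁ G.hom) x
    have h := Set.ext_iff.1 ((hrange i eneg' epos').symm.trans ((key i).2.trans (hrange i eneg epos))) y
    exact h

end Global

end Groth.Agent.RootBase
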