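import Groth.Agent.RootBase.WeylWord

/-!
# The Chevalley system of a pinning
-/

set_option autoImplicit false
set_option backward.isDefEq.respectTransparency false
set_option linter.style.haveILetI false
set_option maxHeartbeats 1000000
set_option synthInstance.maxHeartbeats 400000

universe u

open CategoryTheory Limits MonoidalCategory CartesianMonoidalCategory MonObj GrpObj AlgebraicGeometry LieS
open scoped CategoryTheory.Obj

noncomputable section

namespace Groth.Agent.RootBase

open Groth.Agent.HomDiag Groth.Agent.DynPar Groth.Agent.RootSys Groth.Agent.MTBridge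

variable {S : Scheme.{u}} {G : Over S} [GrpObj G] {M : Type} [AddCommGroup M]
  {c : Red.DS S M ⟶ G} {idx : Type} {P : RootPairing idx ℤ M (Module.Dual ℤ M)} {u : idx → (Red.Ga S ⟶ G)}

theorem cls_inv [IsMonHom c] {g : 𝟙_ (Over S) ⟶ G}
    (hg : g ∈ Subgroup.normalizer (signTorus c : Set (𝟙_ (Over S) ⟶ G))) : cls c g⁻¹ = (cls c g)⁻¹ := by
  refine eq_inv_of_mul_eq_one_left ?_
  rw [← cls_mul (inv_mem hg) hg, inv_mul_cancel, cls_one]

omit [GrpObj G] [AddCommGroup M] in
theorem subsingleton_gamma (X : Over S) [IsEmpty X.left] : Subsingleton Γ(X.left, ⊤) :=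
  inferInstance

variable [Module.Free ℤ M] [Module.Finite ℤ M] [Fintype idx] [P.IsReduced]
variable {B : P.Base} {w : idx → (𝟙_ (Over S) ⟶ G)} (H : WeylCore c P B u w)
include H

theorem WeylCore.rootHom_word {r : idx} {v : Red.Ga S ⟶ G} (hv : Red.IsRootHom c (Red.chi S (P.root r)) v) :
    ∀ (l : List idx), (∀ x ∈ l, x ∈ B.support) →
      Red.IsRootHom c (Red.chi S (P.root ((l.map (RootPairing.Equiv.reflection P)).prod • r))) (cj (l.map w).prod v) := by
  intro l
  induction l with
  | nil => intro _; simpa [one_cj] using hv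
  | cons x l ih =>
    intro hl
    have h := (H.weyl x (hl x List.mem_cons_self)).rootHom_refl H.cor
      (ih fun y hy => hl y (List.mem_cons_of_mem _ hy))
    rw [List.map_cons, List.prod_cons, List.map_cons, List.prod_cons, ← cj_cj, mul_smul]
    exact h

theorem WeylCore.cj_coroot_word (y : idx) {X : Over S} (z : X ⟶ Red.Gm S) :
    ∀ (l : List idx), (∀ x ∈ l, x ∈ B.support) →
      cj (l.map w).prod (z ≫ Red.DSmap S (P.coroot y).toAddMonoidHom ≫ c) =
        z ≫ Red.DSmap S (P.coroot ((l.map (RootPairing.Equiv.reflection P)).prod • y)).toAddMonoidHom ≫ c := by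
  intro l
  induction l with
  | nil => intro _; simp [one_cj]
  | cons x l ih =>
    intro hl
    rw [List.map_cons, List.prod_cons, List.map_cons, List.prod_cons, ← cj_cj,
      ih (fun k hk => hl k (List.mem_cons_of_mem _ hk)), mul_smul]
    generalize (l.map (RootPairing.Equiv.reflection P)).prod • y = y'
    have W := H.weyl x (hl x List.mem_cons_self)
    have h := W.torus X (z ≫ Red.DSmap S (P.coroot y').toAddMonoidHom)
    simp only [Category.assoc] at h
    rw [h]
    simp only [← Category.assoc]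
    congr 1
    refine ch_ext fun m => ?_
    obtain ⟨m, rfl⟩ : ∃ n : M, Multiplicative.ofAdd n = m := ⟨m.toAdd, rfl⟩
    rw [ch_refl, ch_DSmap, ch_DSmap, toAdd_ofAdd, toAdd_ofAdd]
    congr 2
    show P.coroot y' (m - P.coroot x m • P.root x) = P.coroot (P.reflectionPerm x y') m
    rw [P.coroot_reflectionPerm, P.coreflection_apply, LinearMap.sub_apply, LinearMap.smul_apply,
      _root_.map_sub, _root_.map_smul, H.cor, P.root_coroot_eq_pairing]
    simp only [smul_eq_mul]
    ring

omit H in
theorem exists_word_conj (B : P.Base) (r : idx) : ∃ (l : List idx) (a : idx), (∀ x ∈ l, x ∈ B.support) ∧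
    a ∈ B.support ∧ (l.map (RootPairing.Equiv.reflection P)).prod • a = r ∧ (r ∈ B.support → l = [] ∧ a = r) := by
  by_cases hr : r ∈ B.support
  · exact ⟨[], r, by simp, hr, by simp, fun _ => ⟨rfl, rfl⟩⟩
  obtain ⟨g, hg, j, hj, e⟩ := base_conj_simple B r
  obtain ⟨l, hl, rfl⟩ := (baseReflData B).exists_word hg
  exact ⟨l, j, hl, hj, e, fun h => absurd h hr⟩

theorem WeylCore.cls_reverse [IsMonHom c] {l : List idx} (hl : ∀ x ∈ l, x ∈ B.support) :
    cls c (l.reverse.map w).prod = (cls c (l.map w).prod)⁻¹ := by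
  have hn : ∀ x ∈ B.support, w x ∈ Subgroup.normalizer (signTorus c : Set (𝟙_ (Over S) ⟶ G)) :=
    fun x hx => (H.weyl x hx).mem_normalizer
  have hr : ∀ x ∈ l.reverse, x ∈ B.support := fun x hx => hl x (List.mem_reverse.1 hx)
  obtain ⟨f, hf⟩ := H.word_eq (l := l.reverse ++ l) (l' := [])
    (fun x hx => (List.mem_append.1 hx).elim (hr x) (hl x)) (by simp) (by
      rw [List.map_append, List.prod_append, (baseReflData B).prod_reverse hl, inv_mul_cancel]; simp)
  simp only [List.map_append, List.prod_append, List.map_nil, List.prod_nil, _root_.one_mul] at hf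
  obtain ⟨p1, -⟩ := cls_prod (c := c) (l.reverse.map w) fun g hg => by
    obtain ⟨x, hx, rfl⟩ := List.mem_map.1 hg; exact hn x (hr x hx)
  obtain ⟨q1, -⟩ := cls_prod (c := c) (l.map w) fun g hg => by
    obtain ⟨x, hx, rfl⟩ := List.mem_map.1 hg; exact hn x (hl x hx)
  refine eq_inv_of_mul_eq_one_left ?_
  rw [← cls_mul p1 q1, hf]
  exact cls_cpt ⟨f, rfl⟩

/-- The conjugates of the pinning are permuted up to sign by the conjugates of the Weyl elements. -/
theorem WeylCore.smove_conj {l lb l' : List idx} {a ab a'' : idx} (hl : ∀ x ∈ l, x ∈ B.support)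
    (hlb : ∀ x ∈ lb, x ∈ B.support) (hl' : ∀ x ∈ l', x ∈ B.support) (ha : a ∈ B.support) (hab : ab ∈ B.support)
    (ha'' : a'' ∈ B.support)
    (he : (l'.map (RootPairing.Equiv.reflection P)).prod • a'' =
      P.reflectionPerm ((l.map (RootPairing.Equiv.reflection P)).prod • a)
        ((lb.map (RootPairing.Equiv.reflection P)).prod • ab)) :
    SMove ((l.map w).prod * w a * ((l.map w).prod)⁻¹) (cj (lb.map w).prod (u ab)) (cj (l'.map w).prod (u a'')) := by
  haveI := H.hc
  have hn : ∀ x ∈ B.support, w x ∈ Subgroup.normalizer (signTorus c : Set (𝟙_ (Over S) ⟶ G)) :=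
    fun x hx => (H.weyl x hx).mem_normalizer
  have hmem : ∀ m : List idx, (∀ x ∈ m, x ∈ B.support) →
      (m.map w).prod ∈ Subgroup.normalizer (signTorus c : Set (𝟙_ (Over S) ⟶ G)) := fun m hm =>
    (cls_prod (c := c) (m.map w) fun g hg => by obtain ⟨x, hx, rfl⟩ := List.mem_map.1 hg; exact hn x (hm x hx)).1
  have hl0 : ∀ x ∈ l.reverse, x ∈ B.support := fun x hx => hl x (List.mem_reverse.1 hx)
  have hl1 : ∀ x ∈ l'.reverse, x ∈ B.support := fun x hx => hl' x (List.mem_reverse.1 hx)
  let R := l'.reverse ++ l ++ [a] ++ l.reverse ++ lb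
  have hR : ∀ x ∈ R, x ∈ B.support := fun x hx => by
    simp only [R, List.mem_append, List.mem_singleton] at hx
    rcases hx with (((h | h) | rfl) | h) | h
    exacts [hl1 x h, hl x h, ha, hl0 x h, hlb x h]
  have hRab : (R.map (RootPairing.Equiv.reflection P)).prod • ab = a'' := by
    simp only [R, List.map_append, List.prod_append, List.map_cons, List.map_nil, List.prod_cons, List.prod_nil,
      _root_.mul_one, (baseReflData B).prod_reverse hl, (baseReflData B).prod_reverse hl', mul_smul]
    rw [← mul_smul _ ((l.map (RootPairing.Equiv.reflection P)).prod)⁻¹, ← mul_smul (l.map _).prod,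
      ← _root_.mul_assoc, gconj_reflection, inv_smul_eq_iff, he]
    rfl
  have hmove := H.smove_word R hR ab hab (by rw [hRab]; exact ha'')
  rw [hRab] at hmove
  have m1 := hmem l hl; have m2 := hmem lb hlb; have m3 := hmem l' hl'; have m4 := hn a ha
  let g := ((l'.map w).prod)⁻¹ * ((l.map w).prod * w a * ((l.map w).prod)⁻¹) * (lb.map w).prod
  have mg : g ∈ Subgroup.normalizer (signTorus c : Set (𝟙_ (Over S) ⟶ G)) :=
    mul_mem (mul_mem (inv_mem m3) (mul_mem (mul_mem m1 m4) (inv_mem m1))) m2
  have hcls : cls c g = cls c (R.map w).prod := by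
    have n1 := hmem _ hl0; have n2 := hmem _ hl1
    simp only [g, R, List.map_append, List.prod_append, List.map_cons, List.map_nil, List.prod_cons, List.prod_nil,
      _root_.mul_one]
    rw [cls_mul (mul_mem (inv_mem m3) (mul_mem (mul_mem m1 m4) (inv_mem m1))) m2,
      cls_mul (inv_mem m3) (mul_mem (mul_mem m1 m4) (inv_mem m1)), cls_mul (mul_mem m1 m4) (inv_mem m1),
      cls_mul m1 m4, cls_mul (mul_mem (mul_mem (mul_mem n2 m1) m4) n1) m2,
      cls_mul (mul_mem (mul_mem n2 m1) m4) n1, cls_mul (mul_mem n2 m1) m4, cls_mul n2 m1, cls_inv m1, cls_inv m3,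
      H.cls_reverse hl, H.cls_reverse hl']
    simp only [_root_.mul_assoc]
  obtain ⟨f, hf⟩ := exists_of_cls mg (hmem R hR) hcls
  obtain ⟨t, ht, hm⟩ := (smove_cpt (H.weyl ab hab).hua f).comp hmove
  refine ⟨t, ht, fun X x => ?_⟩
  rw [comp_cj, cj_cj, comp_cj, show (l.map w).prod * w a * ((l.map w).prod)⁻¹ * (lb.map w).prod =
    (l'.map w).prod * ((R.map w).prod * cpt c f) by rw [← hf]; simp only [g]; group, ← cj_cj, hm]

end Groth.Agent.RootBase
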