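import Groth.Agent.RootBase.Dense
import Groth.Agent.RedR1.Present
import Groth.Agent.RootBase.ChevSys
import Groth.Agent.RootBase.BigCell
import Groth.Agent.RedCent.Reductive
import Groth.Agent.LieWeight.Central
import Groth.Agent.MTCentre.Main
import Groth.Agent.Chev.CentralMT
import Groth.Agent.Chev.CentBC
import Groth.Agent.DynPar.TwoBorels

/-!
# Homomorphisms agreeing on the torus and the simple root groups
-/

set_option autoImplicit false
set_option backward.isDefEq.respectTransparency false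
set_option linter.style.haveILetI false
set_option maxHeartbeats 1000000
set_option synthInstance.maxHeartbeats 400000

universe u

open CategoryTheory Limits MonoidalCategory CartesianMonoidalCategory MonObj GrpObj AlgebraicGeometry
open scoped CategoryTheory.Obj

noncomputable section

namespace Groth.Agent.RootBase

open Groth.Agent.HomDiag Groth.Agent.DynPar

variable {S : Scheme.{u}} {G : Over S} [GrpObj G] {M : Type} [AddCommGroup M] {c : Red.DS S M ⟶ G}

/-- Conjugation by an element inducing a reflection on the torus preserves root homomorphisms. -/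
theorem rootHom_of_refl {a : M} {f : M →+ ℤ} (hf : f a = 2) {N : 𝟙_ (Over S) ⟶ G}
    (hN : ∀ (X : Over S) (t : X ⟶ Red.DS S M), cj N (t ≫ c) = refl a f t ≫ c)
    {v : Red.Ga S ⟶ G} {m : M} (hv : Red.IsRootHom c (Red.chi S m) v) :
    Red.IsRootHom c (Red.chi S (m - f m • a)) (cj N v) := by
  haveI := hv.1
  refine ⟨HomDiag.isMonHom_of_mul _ fun X x y => by simp only [comp_cj, MonObj.mul_comp, cj_mul], ?_,
    fun X t x => ?_⟩
  · have h : cj N v = v ≫ (cjIso N).hom := by rw [cjIso, comp_cj, Category.comp_id]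
    rw [h, Over.comp_left]
    haveI := hv.2.1
    haveI : IsIso (cjIso N).hom.left := ((Over.forget _).mapIso (cjIso N)).isIso_hom
    infer_instance
  · obtain ⟨y, hy, hy'⟩ := hv.2.2 X (refl a f t) x
    refine ⟨y, ?_, ?_⟩
    · have h := hN X (refl a f t)
      rw [refl_refl hf t] at h
      rw [comp_cj, comp_cj, hy, cj_mul, cj_mul, cj_inv, h]
    · rw [hy', RootIntrinsic.gmFn_chi, RootIntrinsic.gmFn_chi, ch_refl]

theorem prod_comp {X H : Over S} [GrpObj H] (f : G ⟶ H) [IsMonHom f] :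
    ∀ l : List (X ⟶ G), l.prod ≫ f = (l.map fun x => x ≫ f).prod := fun l => by
  induction l with
  | nil => rw [List.prod_nil, MonObj.one_comp, List.map_nil, List.prod_nil]
  | cons x l ih => rw [List.prod_cons, MonObj.mul_comp, ih, List.map_cons, List.prod_cons]

theorem prodMap_comp {H : Over S} [GrpObj H] (f g : G ⟶ H) [IsMonHom f] [IsMonHom g] {m : ℕ}
    (w : Fin m → (Red.Ga S ⟶ G)) {X : Over S} (y : X ⟶ RedSub.pow (Red.Ga S) m)
    (h : ∀ k, w k ≫ f = w k ≫ g ∨ y ≫ proj S m k = 1) (hw : ∀ k, IsMonHom (w k)) :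
    (y ≫ RedSub.prodMap (Red.Ga S) m w) ≫ f = (y ≫ RedSub.prodMap (Red.Ga S) m w) ≫ g := by
  rw [comp_prodMap_eq, prod_comp, prod_comp, List.map_ofFn, List.map_ofFn]
  congr 2
  funext k
  haveI := hw k
  show ((y ≫ proj S m k) ≫ w k) ≫ f = ((y ≫ proj S m k) ≫ w k) ≫ g
  rcases h k with h | h
  · rw [Category.assoc, Category.assoc, Category.assoc, Category.assoc, h]
  · rw [h, MonObj.one_comp, MonObj.one_comp, MonObj.one_comp]

/-- The product map at the point with trivial coordinates. -/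
theorem prodMap_one {m : ℕ} (w : Fin m → (Red.Ga S ⟶ G)) (hw : ∀ k, IsMonHom (w k)) {X : Over S}
    (y : X ⟶ RedSub.pow (Red.Ga S) m) (h : ∀ k, y ≫ proj S m k = 1) : y ≫ RedSub.prodMap (Red.Ga S) m w = 1 := by
  rw [comp_prodMap_eq]
  refine List.prod_eq_one fun x hx => ?_
  obtain ⟨l, rfl⟩ := (List.mem_ofFn' _ _).1 hx
  haveI := hw l
  beta_reduce
  rw [h, MonObj.one_comp]

theorem cj_comp {H : Over S} [GrpObj H] (f g : G ⟶ H) [IsMonHom f] [IsMonHom g] {N : 𝟙_ (Over S) ⟶ G}
    (hN : N ≫ f = N ≫ g) {X : Over S} {x : X ⟶ G} (hx : x ≫ f = x ≫ g) :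
    cj N x ≫ f = cj N x ≫ g := by
  simp only [cj, MonObj.mul_comp, GrpObj.inv_comp, Category.assoc, hN, hx]

theorem word_comp {idx : Type} {H : Over S} [GrpObj H] (f g : G ⟶ H) [IsMonHom f] [IsMonHom g]
    (w : idx → (𝟙_ (Over S) ⟶ G)) (l : List idx) (h : ∀ x ∈ l, w x ≫ f = w x ≫ g) :
    (l.map w).prod ≫ f = (l.map w).prod ≫ g := by
  induction l with
  | nil => rw [List.map_nil, List.prod_nil, MonObj.one_comp, MonObj.one_comp]
  | cons x l ih =>
    rw [List.map_cons, List.prod_cons, MonObj.mul_comp, MonObj.mul_comp, h x List.mem_cons_self,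
      ih fun y hy => h y (List.mem_cons_of_mem _ hy)]

/-- Flat locally there is a unit a power of which minus one is invertible. -/
theorem exists_unit_cover (X : Over S) {k : ℤ} (hk : k ≠ 0) :
    ∃ (X' : Over S) (q : X' ⟶ X) (z : X' ⟶ Red.Gm S), Epi q ∧
      IsUnit (ch z (Multiplicative.ofAdd k) - 1) := by
  let n := k.natAbs
  have hn : n ≠ 0 := Int.natAbs_ne_zero.2 hk
  obtain ⟨X', q, r, hq, hr⟩ := RedR1.exists_value_cover X
    (Polynomial.X * (Polynomial.X ^ n - Polynomial.C 1)) fun Q hQ => by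
      haveI := hQ
      haveI : IsDomain (Γ(X.left, ⊤) ⧸ Q) := Ideal.Quotient.isDomain _
      rw [Polynomial.map_mul, Polynomial.map_sub, Polynomial.map_pow, Polynomial.map_X, Polynomial.map_C, map_one]
      exact mul_ne_zero Polynomial.X_ne_zero (Polynomial.X_pow_sub_C_ne_zero (Nat.pos_of_ne_zero hn) 1)
  simp only [Polynomial.eval₂_mul, Polynomial.eval₂_sub, Polynomial.eval₂_X_pow, Polynomial.eval₂_X,
    Polynomial.eval₂_C, Polynomial.eval₂_one, map_one] at hr
  obtain ⟨⟨v, rfl⟩, hr2⟩ := IsUnit.mul_iff.1 hr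
  let z : X' ⟶ Red.Gm S := GmPts.ptOfUnit v
  refine ⟨X', q, z, hq, ?_⟩
  have h1 : (ch z).toHomUnits (Multiplicative.ofAdd (1 : ℤ)) = v := Units.ext (by
    rw [MonoidHom.coe_toHomUnits, ← RootIntrinsic.gmFn_eq_ch]
    exact GmPts.gmFn_ptOfUnit v)
  have h2 : (ch z).toHomUnits (Multiplicative.ofAdd k) = v ^ k := by
    rw [← h1, ← map_zpow]
    congr 1
    exact Multiplicative.toAdd.injective (by simp)
  rw [show ch z (Multiplicative.ofAdd k) = ((v ^ k : (Γ(X'.left, ⊤))ˣ) : Γ(X'.left, ⊤)) from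
    congrArg Units.val h2]
  rcases Int.natAbs_eq k with h | h
  · rw [h, zpow_natCast, Units.val_pow_eq_pow_val]; exact hr2
  · rw [h, zpow_neg, zpow_natCast]
    have e : ((v ^ n)⁻¹ : (Γ(X'.left, ⊤))ˣ).val - 1 = -((v ^ n)⁻¹ : (Γ(X'.left, ⊤))ˣ).val * ((v : Γ(X'.left, ⊤)) ^ n - 1) := by
      rw [← Units.val_pow_eq_pow_val]
      linear_combination Units.inv_mul (v ^ n)
    rw [e]
    exact (Units.isUnit _).neg.mul hr2

section Cell

variable [Module.Free ℤ M] [Module.Finite ℤ M] {idx : Type} [Fintype idx] {root : idx → M}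
  {u : idx → (Red.Ga S ⟶ G)}

/-- The cell as an open neighbourhood of the unit. -/
theorem Frame.exists_cell (F : Frame c root u) :
    ∃ (mu : M →+ ℤ) (n m : ℕ) (en : Fin n → idx) (ep : Fin m → idx),
      RedSub.Enumerates {a | 0 < (-mu) (root a)} en ∧ RedSub.Enumerates {a | 0 < mu (root a)} ep ∧
      (∀ a, mu (root a) ≠ 0) ∧
      IsOpenImmersion (cellC c (fun l => u (en l)) (fun l => u (ep l))).left := by
  classical
  obtain ⟨mu, hmu⟩ := DynPar.exists_hom_ne_zero (Finset.univ.image root)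
  have hne : ∀ a, mu (root a) ≠ 0 := fun a => hmu _ (Finset.mem_image_of_mem _ (Finset.mem_univ a)) (F.ne a)
  obtain ⟨n, en, -, hn⟩ := exists_extend {a | 0 < (-mu) (root a)} (Fin.elim0 : Fin 0 → idx) (fun x => x.elim0)
    fun k => k.elim0
  obtain ⟨m, ep, -, hm⟩ := exists_extend {a | 0 < mu (root a)} (Fin.elim0 : Fin 0 → idx) (fun x => x.elim0)
    fun k => k.elim0
  exact ⟨mu, _, _, _, _, hn, hm, hne, (F.cell mu hne _ _ _ _ hn hm hn hm).1⟩

/-- **Homomorphisms agreeing on the torus and all root groups are equal.** -/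
theorem Frame.hom_ext (F : Frame c root u) {H : Over S} [GrpObj H] (f g : G ⟶ H) [IsMonHom f] [IsMonHom g]
    (hT : c ≫ f = c ≫ g) (hU : ∀ a, u a ≫ f = u a ≫ g) : f = g := by
  obtain ⟨mu, n, m, en, ep, hn, hm, hne, ho⟩ := F.exists_cell
  haveI := F.hc.1
  obtain ⟨y0, hy0, -⟩ := exists_pow_prod (G := G) (fun l => u (en l)) (X := 𝟙_ (Over S)) fun _ => 1
  obtain ⟨y1, hy1, -⟩ := exists_pow_prod (G := G) (fun l => u (ep l)) (X := 𝟙_ (Over S)) fun _ => 1
  haveI := ho
  refine hom_ext_open F.hG (cellC c (fun l => u (en l)) (fun l => u (ep l))) (lift y0 (lift (1 : 𝟙_ (Over S) ⟶ Red.DS S M) y1)) ?_ f g ?_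
  · rw [comp_cellC, prodMap_one _ (fun k => (F.hu _).1) y0 hy0, prodMap_one _ (fun k => (F.hu _).1) y1 hy1,
      MonObj.one_comp (X := 𝟙_ (Over S)) c, _root_.one_mul, _root_.one_mul]
  · rw [cellC, ← Category.assoc (snd _ _) (snd _ _) (RedSub.prodMap _ _ _),
      MonObj.mul_comp, MonObj.mul_comp, MonObj.mul_comp, MonObj.mul_comp,
      prodMap_comp f g _ _ (fun k => Or.inl (hU _)) (fun k => (F.hu _).1),
      prodMap_comp f g _ _ (fun k => Or.inl (hU _)) (fun k => (F.hu _).1)]
    simp only [Category.assoc, hT]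

/-- A point of the cell commuting with the values of a cocharacter has trivial coordinates at the roots on
which the cocharacter is non-trivial. -/
theorem Frame.eq_one_of_commute (F : Frame c root u) {p q : ℕ} (en : Fin p → idx) (ep : Fin q → idx)
    (ho : IsOpenImmersion (cellC c (fun l => u (en l)) (fun l => u (ep l))).left) {X : Over S}
    (y : X ⟶ RedSub.pow (Red.Ga S) p) (t : X ⟶ Red.DS S M) (y' : X ⟶ RedSub.pow (Red.Ga S) q) (θ : M →+ ℤ)
    (hcomm : ∀ (X' : Over S) (ρ : X' ⟶ X) (r : X' ⟶ Red.Gm S),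
      Commute (ρ ≫ lift y (lift t y') ≫ cellC c (fun l => u (en l)) (fun l => u (ep l)))
        ((r ≫ Red.DSmap S θ) ≫ c)) :
    (∀ l, θ (root (en l)) ≠ 0 → y ≫ proj S p l = 1) ∧ (∀ l, θ (root (ep l)) ≠ 0 → y' ≫ proj S q l = 1) := by
  haveI := F.hc.1
  haveI : Mono (cellC c (fun l => u (en l)) (fun l => u (ep l))) := by haveI := ho; exact Over.mono_of_mono_left _
  have key : ∀ k : ℤ, k ≠ 0 → (∀ l, θ (root (en l)) = k → y ≫ proj S p l = 1) ∧
      (∀ l, θ (root (ep l)) = k → y' ≫ proj S q l = 1) := by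
    intro k hk
    obtain ⟨X', ρ, r, hρ, hr⟩ := exists_unit_cover X hk
    let sc : X' ⟶ Red.DS S M := r ≫ Red.DSmap S θ
    have hmove : ∀ {n : ℕ} (e : Fin n → idx) (w : X' ⟶ RedSub.pow (Red.Ga S) n),
        ∃ w' : X' ⟶ RedSub.pow (Red.Ga S) n,
          (sc ≫ c) * (w ≫ RedSub.prodMap (Red.Ga S) n fun l => u (e l)) * (sc ≫ c)⁻¹ =
            w' ≫ RedSub.prodMap (Red.Ga S) n (fun l => u (e l)) ∧
          ∀ l, Red.gaFn (w' ≫ proj S n l) =
            ch r (Multiplicative.ofAdd (θ (root (e l)))) * Red.gaFn (w ≫ proj S n l) := by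
      intro n e w
      choose z' hz1 hz2 using fun l => (F.hu (e l)).2.2 X' sc (w ≫ proj S n l)
      obtain ⟨w', hw', hw''⟩ := exists_pow_prod (fun l => u (e l)) z'
      refine ⟨w', ?_, fun l => ?_⟩
      · rw [hw'', comp_prodMap_eq, conj_ofFn_prod]
        congr 2
        funext l
        exact (hz1 l).symm
      · rw [hw' l, hz2 l, RootIntrinsic.gmFn_chi, ch_DSmap, toAdd_ofAdd]
    obtain ⟨v, hv, hv'⟩ := hmove en (ρ ≫ y)
    obtain ⟨v', hw, hw'⟩ := hmove ep (ρ ≫ y')
    have hm : sc * (ρ ≫ t) = (ρ ≫ t) * sc := ch_ext fun m => by rw [ch_mul, ch_mul, mul_comm]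
    have ht : (sc ≫ c) * ((ρ ≫ t) ≫ c) * (sc ≫ c)⁻¹ = (ρ ≫ t) ≫ c := by
      rw [← MonObj.mul_comp sc (ρ ≫ t) c, hm, MonObj.mul_comp (ρ ≫ t) sc c, mul_inv_cancel_right]
    have h0 : Commute _ (sc ≫ c) := hcomm X' ρ r
    have e3 : ρ ≫ lift y (lift t y') ≫ cellC c (fun l => u (en l)) (fun l => u (ep l)) =
        ((ρ ≫ y) ≫ RedSub.prodMap (Red.Ga S) p fun l => u (en l)) * (((ρ ≫ t) ≫ c) *
          ((ρ ≫ y') ≫ RedSub.prodMap (Red.Ga S) q fun l => u (ep l))) := by
      rw [← Category.assoc, comp_lift, comp_lift, comp_cellC]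
    have e2 : lift v (lift (ρ ≫ t) v') ≫ cellC c (fun l => u (en l)) (fun l => u (ep l)) =
        lift (ρ ≫ y) (lift (ρ ≫ t) (ρ ≫ y')) ≫ cellC c (fun l => u (en l)) (fun l => u (ep l)) := by
      rw [comp_cellC, comp_cellC, ← e3, ← hv, ← hw]
      conv_rhs => rw [← mul_inv_cancel_right (ρ ≫ lift y (lift t y') ≫ _) (sc ≫ c), h0.eq, e3]
      conv_lhs => rw [← ht]
      group
    have e4 := (cancel_mono (cellC c (fun l => u (en l)) (fun l => u (ep l)))).1 e2
    have ev : v = ρ ≫ y := by simpa using congrArg (fun w => w ≫ fst _ _) e4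
    have ev' : v' = ρ ≫ y' := by simpa using congrArg (fun w => w ≫ snd _ _ ≫ snd _ _) e4
    haveI := hρ
    refine ⟨fun l hl => ?_, fun l hl => ?_⟩
    · have h := hv' l
      rw [hl, ev, Category.assoc] at h
      rw [← cancel_epi ρ, MonObj.comp_one]
      refine BGaNotS.gaPt_ext ?_
      rw [BGaNotS.gaFn_one]
      exact hr.mul_right_eq_zero.1 (by linear_combination -h)
    · have h := hw' l
      rw [hl, ev', Category.assoc] at h
      rw [← cancel_epi ρ, MonObj.comp_one]
      refine BGaNotS.gaPt_ext ?_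
      rw [BGaNotS.gaFn_one]
      exact hr.mul_right_eq_zero.1 (by linear_combination -h)
  exact ⟨fun l hl => (key _ hl).1 l rfl, fun l hl => (key _ hl).2 l rfl⟩

/-- **An element inducing a reflection on the torus lies in the locus where two homomorphisms agree.** -/
theorem Frame.eq_at_refl [Nonempty S] (F : Frame c root u) (a : idx) {φ : M →+ ℤ} {N : 𝟙_ (Over S) ⟶ G}
    (hN : ∀ (X : Over S) (t : X ⟶ Red.DS S M), cj N (t ≫ c) = refl (root a) φ t ≫ c)
    {H : Over S} [GrpObj H] (f g : G ⟶ H) [IsMonHom f] [IsMonHom g] (hT : c ≫ f = c ≫ g)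
    (hU : ∀ b, (root b = root a ∨ root b = -root a) → u b ≫ f = u b ≫ g) : N ≫ f = N ≫ g := by
  classical
  haveI := F.hc.1
  haveI := F.hG.1
  haveI := F.hG.2.1
  haveI : Mono c := F.hc.2.1
  obtain ⟨M', _, _, _, π₀, m₁, hπs, hm₁, -, hπa, hker⟩ := DynPar.exists_line (root a) (F.ne a)
  let e := (Module.finBasis ℤ M').equivFun.toAddEquiv
  let π : M →+ (Fin (Module.finrank ℤ M') → ℤ) := e.toAddMonoidHom.comp π₀
  have hπsurj : Function.Surjective π := e.surjective.comp hπs
  have hπa' : π (root a) = 0 := by show e (π₀ (root a)) = 0; rw [hπa, map_zero]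
  have hπne : ∀ b, ¬(root b = root a ∨ root b = -root a) → π (root b) ≠ 0 := fun b hb h => hb (by
    obtain ⟨l, hl⟩ := hker (root b) (e.injective (h.trans e.map_zero.symm))
    obtain ⟨k, hk⟩ := hker (root a) hπa
    have hk0 : k ≠ 0 := fun h0 => F.ne a (by rw [hk, h0, zero_smul])
    exact F.dep l k hk0 (by rw [hl, hk, smul_smul, smul_smul, mul_comm]))
  haveI : IsMonHom (Red.DSmap S π) := MTQuot.isMonHom_DSmap π
  haveI : Mono (Red.DSmap S π) := LieWeight.mono_DSmap π hπsurj
  let iT : Red.DS S (Fin (Module.finrank ℤ M') → ℤ) ⟶ G := Red.DSmap S π ≫ c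
  haveI : IsMonHom iT := inferInstance
  haveI : Mono iT := mono_comp _ _
  obtain ⟨Z, _, z, hz, hzc, hZs⟩ := DynPar.exists_centralizer_DS (G := G) inferInstance inferInstance iT
  haveI := hz.1; haveI := hz.2.1; haveI := hzc; haveI := hZs
  have hZ : Red.IsReductive Z := by
    refine ⟨by rw [← Over.w z]; infer_instance, hZs, fun s => ?_⟩
    let τ := Red.geomPt s
    haveI : Limits.PreservesLimitsOfShape Limits.WalkingCospan (Over.pullback τ) :=
      (Adjunction.rightAdjoint_preservesLimits (Over.mapPullbackAdj τ)).preservesLimitsOfShape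
    obtain ⟨hGa, hGs, hGc, -⟩ := id (F.hG.2.2 s)
    haveI : IsAffine (Red.bc τ G).left := hGa
    haveI : Smooth (Red.geomFibre s G).hom := hGs
    haveI : ConnectedSpace (Red.bc τ G).left := hGc
    exact RedCent.isReductiveOver_centralizer (F.hG.2.2 s) ((Over.pullback τ).map iT)
      (Chev.Borel.isTorus_bc_scheme _ τ (MTCentre.isTorus_DS_scheme S _)) ((Over.pullback τ).map z)
      (Chev.CentBC.isCentralizerOf_bc τ iT z hz)
  -- the element centralises the kernel torus
  have hNz : ∃ n : 𝟙_ (Over S) ⟶ Z, n ≫ z = N := by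
    refine (hz.2.2 _ N).2 fun X x h => ?_
    have h1 := hN X (h ≫ Red.DSmap S π)
    rw [show refl (root a) φ (h ≫ Red.DSmap S π) = h ≫ Red.DSmap S π from ch_ext fun m => by
      obtain ⟨m, rfl⟩ : ∃ k : M, Multiplicative.ofAdd k = m := ⟨m.toAdd, rfl⟩
      rw [ch_refl, ch_DSmap, ch_DSmap, toAdd_ofAdd, toAdd_ofAdd, map_sub, map_zsmul, hπa', smul_zero, sub_zero]] at h1
    rw [show x = toUnit X from toUnit_unique _ _]
    simp only [cj, Category.assoc] at h1
    exact mul_inv_eq_iff_eq_mul.1 h1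
  obtain ⟨n, hn⟩ := hNz
  -- the cell meets the centraliser in the torus and the two root groups
  obtain ⟨mu, p, q, en, ep, -, -, -, ho⟩ := F.exists_cell
  haveI := ho
  let j := cellC c (fun l => u (en l)) (fun l => u (ep l))
  let U : Z.left.Opens := z.left ⁻¹ᵁ j.left.opensRange
  let Ω : Over S := Over.mk (U.ι ≫ Z.hom)
  let i : Ω ⟶ Z := Over.homMk U.ι
  haveI : IsOpenImmersion i.left := inferInstanceAs (IsOpenImmersion U.ι)
  have hrange : Set.range i.left = (z.left : Z.left → G.left) ⁻¹' Set.range j.left := Scheme.Opens.range_ι U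
  obtain ⟨e₀, he₀⟩ : ∃ e₀ : 𝟙_ (Over S) ⟶ Ω, e₀ ≫ i = 1 := by
    rw [exists_fac_iff_range, hrange]
    rintro _ ⟨s, rfl⟩
    obtain ⟨y0, hy0, -⟩ := exists_pow_prod (G := G) (fun l => u (en l)) (X := 𝟙_ (Over S)) fun _ => 1
    obtain ⟨y1, hy1, -⟩ := exists_pow_prod (G := G) (fun l => u (ep l)) (X := 𝟙_ (Over S)) fun _ => 1
    have h1 : lift y0 (lift 1 y1) ≫ j = (1 : 𝟙_ (Over S) ⟶ Z) ≫ z := by
      rw [comp_cellC, prodMap_one _ (fun k => (F.hu _).1) y0 hy0, prodMap_one _ (fun k => (F.hu _).1) y1 hy1,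
        MonObj.one_comp, MonObj.one_comp, _root_.one_mul, _root_.one_mul]
    have := congrArg (fun w => w.left s) h1
    exact ⟨(lift y0 (lift 1 y1)).left s, this⟩
  have key : i ≫ z ≫ f = i ≫ z ≫ g := by
    obtain ⟨x, hx⟩ : ∃ x, x ≫ j = i ≫ z := by
      rw [exists_fac_iff_range, Over.comp_left]
      rintro _ ⟨o, rfl⟩
      have : i.left o ∈ Set.range i.left := ⟨o, rfl⟩
      rw [hrange] at this
      exact this
    obtain ⟨θ, hθ⟩ := DynPar.exists_hom_ne_zero (Finset.univ.image fun b => π (root b))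
    let y := x ≫ fst _ _
    let t := x ≫ snd _ _ ≫ fst _ _
    let y' := x ≫ snd _ _ ≫ snd _ _
    have hx' : lift y (lift t y') = x := by
      refine CartesianMonoidalCategory.hom_ext _ _ (by simp [y]) ?_
      refine CartesianMonoidalCategory.hom_ext _ _ (by simp [t]) (by simp [y'])
    have hg : i ≫ z = (y ≫ RedSub.prodMap (Red.Ga S) p fun l => u (en l)) *
        ((t ≫ c) * (y' ≫ RedSub.prodMap (Red.Ga S) q fun l => u (ep l))) := by
      rw [← hx, ← hx', comp_cellC]
    -- components outside the plane vanish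
    obtain ⟨hz0, hz1⟩ := F.eq_one_of_commute en ep ho y t y' (θ.comp π) fun X' ρ r => by
      rw [hx']
      show Commute (ρ ≫ x ≫ j) _
      rw [hx]
      have h := (hz.2.2 Ω (i ≫ z)).1 ⟨i, rfl⟩ X' ρ (r ≫ Red.DSmap S θ)
      have e : (r ≫ Red.DSmap S (θ.comp π)) ≫ c = (r ≫ Red.DSmap S θ) ≫ iT := by
        rw [show r ≫ Red.DSmap S (θ.comp π) = (r ≫ Red.DSmap S θ) ≫ Red.DSmap S π from ch_ext fun m => by
          rw [ch_DSmap, ch_DSmap, ch_DSmap, toAdd_ofAdd]; rfl]
        simp only [iT, Category.assoc]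
      rw [e]
      exact h
    have hk : ∀ b, (root b = root a ∨ root b = -root a) ∨ θ (π (root b)) ≠ 0 := fun b =>
      (em _).imp id fun h => hθ _ (Finset.mem_image_of_mem _ (Finset.mem_univ b)) (hπne b h)
    rw [← Category.assoc, ← Category.assoc, hg, MonObj.mul_comp, MonObj.mul_comp, MonObj.mul_comp, MonObj.mul_comp,
      prodMap_comp f g _ y (fun l => (hk (en l)).elim (fun h => Or.inl (hU _ h)) fun h =>
        Or.inr (hz0 l h)) (fun l => (F.hu _).1),
      prodMap_comp f g _ y' (fun l => (hk (ep l)).elim (fun h => Or.inl (hU _ h)) fun h =>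
        Or.inr (hz1 l h)) (fun l => (F.hu _).1)]
    simp only [Category.assoc, hT]
  have hfg := hom_ext_open hZ i e₀ he₀ (z ≫ f) (z ≫ g) key
  rw [← hn, Category.assoc, Category.assoc, hfg]

end Cell

section Simple

variable [Module.Free ℤ M] [Module.Finite ℤ M] {idx : Type} [Fintype idx]
  {P : RootPairing idx ℤ M (Module.Dual ℤ M)} {u : idx → (Red.Ga S ⟶ G)}

/-- **Homomorphisms agreeing on the torus, the simple root groups and elements inducing the simple
reflections are equal.** -/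
theorem Frame.hom_ext_simple [P.IsReduced] (F : Frame c P.root u) (B : P.Base) (hP : P.toLinearMap = Module.Dual.eval ℤ M)
    (w : idx → (𝟙_ (Over S) ⟶ G))
    (hw : ∀ a ∈ B.support, ∀ (X : Over S) (t : X ⟶ Red.DS S M),
      cj (w a) (t ≫ c) = refl (P.root a) (P.coroot a).toAddMonoidHom t ≫ c)
    {H : Over S} [GrpObj H] (f g : G ⟶ H) [IsMonHom f] [IsMonHom g] (hT : c ≫ f = c ≫ g)
    (hU : ∀ a ∈ B.support, u a ≫ f = u a ≫ g) (hW : ∀ a ∈ B.support, w a ≫ f = w a ≫ g) : f = g := by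
  choose l a hl ha hr _hsimp using exists_word_conj B
  have hv : ∀ (L : List idx), (∀ x ∈ L, x ∈ B.support) → ∀ b,
      Red.IsRootHom c (Red.chi S (P.root ((L.map (RootPairing.Equiv.reflection P)).prod • b)))
        (cj (L.map w).prod (u b)) := by
    intro L
    induction L with
    | nil => intro _ b; simpa [one_cj] using F.hu b
    | cons x L ih =>
      intro hL b
      have h2 : (P.coroot x).toAddMonoidHom (P.root x) = 2 := by
        show P.coroot x (P.root x) = 2
        rw [coroot_apply_root hP, P.pairing_same]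
      have h := rootHom_of_refl h2 (hw x (hL x List.mem_cons_self))
        (ih (fun y hy => hL y (List.mem_cons_of_mem _ hy)) b)
      rw [List.map_cons, List.prod_cons, List.map_cons, List.prod_cons, ← cj_cj, mul_smul]
      show Red.IsRootHom c (Red.chi S (P.root (P.reflectionPerm x _))) _
      rw [root_refl, ← coroot_apply_root hP]
      exact h
  have F' : Frame c P.root fun r => cj ((l r).map w).prod (u (a r)) :=
    ⟨F.hG, F.hc, F.inj, F.ne, fun r => by
      have h := hv (l r) (hl r) (a r)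
      rw [hr r] at h
      exact h, F.hdim⟩
  exact F'.hom_ext f g hT fun r =>
    cj_comp f g (word_comp f g w (l r) fun x hx => hW x (hl r x hx)) (hU _ (ha r))

end Simple

end Groth.Agent.RootBase
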