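import Groth.Agent.RootBase.UPsi

/-!
# Facts over an empty base
-/

set_option autoImplicit false
set_option backward.isDefEq.respectTransparency false
set_option linter.style.haveILetI false

universe u

open CategoryTheory Limits MonoidalCategory CartesianMonoidalCategory MonObj GrpObj AlgebraicGeometry

noncomputable section

namespace Groth.Agent.RootBase

variable {S : Scheme.{u}} [IsEmpty S]

theorem isEmpty_left (X : Over S) : IsEmpty X.left := Function.isEmpty X.hom

theorem hom_eq_of_isEmpty {X Y : Over S} (f g : X ⟶ Y) : f = g := by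
  haveI := isEmpty_left X
  exact Over.OverMorphism.ext (isInitialOfIsEmpty.hom_ext _ _)

theorem exists_hom_of_isEmpty (X Y : Over S) : ∃ _ : X ⟶ Y, True := by
  haveI := isEmpty_left X
  exact ⟨Over.homMk (isInitialOfIsEmpty.to Y.left) (isInitialOfIsEmpty.hom_ext _ _), trivial⟩

theorem exists_iso_of_isEmpty (X Y : Over S) : ∃ _ : X ≅ Y, True := by
  obtain ⟨f, -⟩ := exists_hom_of_isEmpty X Y
  obtain ⟨g, -⟩ := exists_hom_of_isEmpty Y X
  exact ⟨⟨f, g, hom_eq_of_isEmpty _ _, hom_eq_of_isEmpty _ _⟩, trivial⟩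

theorem isClosedImmersion_of_isEmpty {X Y : Over S} (f : X ⟶ Y) : IsClosedImmersion f.left := by
  obtain ⟨e, -⟩ := exists_iso_of_isEmpty X Y
  rw [hom_eq_of_isEmpty f e.hom]
  haveI : IsIso e.hom.left := inferInstanceAs (IsIso ((Over.forget S).map e.hom))
  infer_instance

theorem mono_of_isEmpty {X Y : Over S} (f : X ⟶ Y) : Mono f := ⟨fun g h _ => hom_eq_of_isEmpty g h⟩

end Groth.Agent.RootBase
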