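import Groth.Agent.RootBase.Local
import Groth.Agent.RedCartan.EtaleTorus
import Groth.Agent.S8433
import Groth.Agent.RootIntrinsic.CentreRoots
import Groth.Agent.PerfRad.Radical

/-!
# Splittings near a point
-/

set_option autoImplicit false
set_option backward.isDefEq.respectTransparency false
set_option linter.style.haveILetI false
set_option maxHeartbeats 1000000
set_option synthInstance.maxHeartbeats 400000

universe u

open CategoryTheory Limits MonoidalCategory CartesianMonoidalCategory MonObj GrpObj AlgebraicGeometry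
open scoped CategoryTheory.Obj

noncomputable section

namespace Groth.Agent.RootBase

open Groth.Agent.HomDiag Groth.Agent.MTBridge
open Groth.Agent.DynPar (bcHom' ej ejPt ch_ejPt idCh isReductive_bc isMonHom_bcHom' isMonHom_ej comp_ej bcHom'_DSmap ch_map_ejPt)

section Split

variable {S S' : Scheme.{u}} {G : Over S} [GrpObj G] {M : Type} [AddCommGroup M] [Module.Free ℤ M]
  [Module.Finite ℤ M]

/-- The data of a splitting relative to `c`, over the points of `U`. -/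
def SplitOn (c : Red.DS S M ⟶ G) (U : Set S) : Prop :=
  ∃ (idx : Type) (_ : Fintype idx) (P : RootPairing idx ℤ M (Module.Dual ℤ M)) (u : idx → (Red.Ga S ⟶ G)),
    P.toLinearMap = Module.Dual.eval ℤ M ∧ (∀ a, Red.IsRootHom c (Red.chi S (P.root a)) (u a)) ∧
    (∀ a, ∃ n : 𝟙_ (Over S) ⟶ G, ∀ (X : Over S), Set.range X.hom ⊆ U → ∀ t : X ⟶ Red.DS S M,
      (toUnit X ≫ n) * (t ≫ c) * (toUnit X ≫ n)⁻¹ =
        t ≫ Red.DSmap S (P.reflection a).toLinearMap.toAddMonoidHom ≫ c) ∧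
    ∀ s ∈ U, topologicalKrullDim ↥(Red.geomFibre s G).left =
      ((Module.finrank ℤ M + Fintype.card idx : ℕ) : WithBot ℕ∞)

theorem range_map_hom (j : S' ⟶ S) (X : Over S') : Set.range ((Over.map j).obj X).hom ⊆ Set.range j := by
  rintro _ ⟨x, rfl⟩
  exact ⟨X.hom x, rfl⟩

omit [GrpObj G] in
theorem comp_toBC (j : S' ⟶ S) {X Y : Over S'} (x : X ⟶ Y) (a : (Over.map j).obj Y ⟶ G) :
    x ≫ toBC j a = toBC j ((Over.map j).map x ≫ a) :=
  ((Over.mapPullbackAdj j).homEquiv_naturality_left x a).symm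

/-- Splitting data restrict along morphisms into the open. -/
theorem SplitOn.bc {c : Red.DS S M ⟶ G} [LocallyOfFiniteType G.hom] {U : Set S} (h : SplitOn c U) (j : S' ⟶ S)
    (hj : Set.range j ⊆ U) : SplitOn (bcHom' j c) Set.univ := by
  obtain ⟨idx, hidx, P, u, hP, hu, hrefl, hdim⟩ := h
  refine ⟨idx, hidx, P, fun a => RootSys.bcGa j (u a), hP, fun a => RootSys.isRootHom_bc j (hu a), fun a => ?_,
    fun x _ => ?_⟩
  · obtain ⟨n, hn⟩ := hrefl a
    refine ⟨toBC j (toUnit _ ≫ n), fun X _ t => ?_⟩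
    have h1 : toUnit X ≫ toBC j (toUnit _ ≫ n) = toBC j (toUnit ((Over.map j).obj X) ≫ n) := by
      rw [comp_toBC, ← Category.assoc, comp_toUnit]
    have h2 : ∀ d : Red.DS S M ⟶ G, t ≫ bcHom' j d = toBC j (((Over.map j).map t ≫ ejPt j M) ≫ d) := fun d => by
      rw [bcHom', ← Category.assoc, comp_ej, ← toBC_comp]
    have hinv : ∀ z : (Over.map j).obj X ⟶ G, toBC j z⁻¹ = (toBC j z)⁻¹ := fun z =>
      map_inv (MonoidHom.mk' (fun z : (Over.map j).obj X ⟶ G => toBC j z) (toBC_mul j)) z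
    rw [h1, h2, ← bcHom'_DSmap, h2, ← toBC_mul, ← hinv, ← toBC_mul,
      hn _ ((range_map_hom j X).trans hj) _]
  · rw [← hdim (j x) (hj ⟨x, rfl⟩)]
    refine (IsHomeomorph.topologicalKrullDim_eq _ (Scheme.homeoOfIso
        ((Over.forget _).mapIso ((Over.pullbackComp (Red.geomPt x) j).app G).symm)).isHomeomorph).trans ?_
    show topologicalKrullDim ↥(Red.bc (Red.geomPt x ≫ j) G).left = _
    rw [MTImage.dim_bc_point, MTImage.dim_geomFibre, Scheme.Hom.comp_apply, MTImage.geomPt_closedPoint]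

/-- Splitting data along an isomorphism of groups. -/
theorem SplitOn.map {c : Red.DS S M ⟶ G} {U : Set S} (h : SplitOn c U) {H : Over S} [GrpObj H]
    (Φ : Grp.mk G ≅ Grp.mk H) : SplitOn (c ≫ Φ.hom.hom.hom) U := by
  obtain ⟨idx, hidx, P, u, hP, hu, hrefl, hdim⟩ := h
  let φ : G ≅ H := (Grp.forget _).mapIso Φ
  haveI : IsMonHom φ.hom := Φ.hom.hom.isMonHom_hom
  haveI : IsIso φ.hom.left := inferInstanceAs (IsIso ((Over.forget _).map φ.hom))
  refine ⟨idx, hidx, P, fun a => u a ≫ φ.hom, hP, fun a => ?_, fun a => ?_, fun s hs => ?_⟩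
  · haveI := (hu a).1; haveI := (hu a).2.1
    refine ⟨inferInstance, ?_, fun X t x => ?_⟩
    · rw [Over.comp_left]
      infer_instance
    · obtain ⟨y, hy, hy'⟩ := (hu a).2.2 X t x
      refine ⟨y, ?_, hy'⟩
      rw [← Category.assoc, hy]
      simp only [MonObj.mul_comp, GrpObj.inv_comp, Category.assoc]
      rfl
  · obtain ⟨n, hn⟩ := hrefl a
    refine ⟨n ≫ φ.hom, fun X hX t => ?_⟩
    have := congrArg (· ≫ φ.hom) (hn X hX t)
    simp only [MonObj.mul_comp, GrpObj.inv_comp, Category.assoc] at this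
    exact this
  · rw [← hdim s hs]
    exact (IsHomeomorph.topologicalKrullDim_eq _
      (Scheme.homeoOfIso ((Over.forget _).mapIso ((Over.pullback (Red.geomPt s)).mapIso φ))).isHomeomorph).symm

omit [GrpObj G] [Module.Free ℤ M] [Module.Finite ℤ M] in
theorem bcHom'_fst (j : S' ⟶ S) (c : Red.DS S M ⟶ G) :
    (bcHom' j c).left ≫ pullback.fst G.hom j = (ejPt j M).left ≫ c.left := by
  rw [bcHom', ej, ← toBC_comp, PerfRad.toBC_fst, Over.comp_left]

omit [Module.Free ℤ M] [Module.Finite ℤ M] in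
theorem ejPt_comp {S'' : Scheme.{u}} (f : S' ⟶ S) (g : S'' ⟶ S') :
    (ejPt g M).left ≫ (ejPt f M).left = (ejPt (g ≫ f) M).left := by
  let a : (Over.map (g ≫ f)).obj (Red.DS S'' M) ⟶ (Over.map f).obj (Red.DS S' M) :=
    Over.homMk (ejPt g M).left (by
      show (ejPt g M).left ≫ (Red.DS S' M).hom ≫ f = (Red.DS S'' M).hom ≫ g ≫ f
      rw [← Category.assoc, Over.w (ejPt g M)]
      exact Category.assoc _ _ _)
  have h : a ≫ ejPt f M = ejPt (g ≫ f) M := ch_ext fun m => by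
    rw [ch_comp, ch_ejPt, ch_ejPt]
    have := ch_comp (ejPt g M) (𝟙 (Red.DS S' M)) m
    rw [Category.comp_id, ch_ejPt] at this
    exact this.symm
  exact congrArg CommaMorphism.left h

omit [Module.Free ℤ M] [Module.Finite ℤ M] in
theorem bcHom'_comp {S'' : Scheme.{u}} (f : S' ⟶ S) (g : S'' ⟶ S') (c : Red.DS S M ⟶ G) :
    bcHom' g (bcHom' f c) ≫ (bcComp f g G).inv.hom.hom = bcHom' (g ≫ f) c := by
  have key : (bcComp f g G).hom.hom.hom.left ≫ pullback.fst _ g ≫ pullback.fst G.hom f =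
      pullback.fst G.hom (g ≫ f) := by
    simp [bcComp]
    exact LimGrp.pullbackComp_hom_fst g f G
  have hiso : (bcComp f g G).inv.hom.hom ≫ (bcComp f g G).hom.hom.hom = 𝟙 _ :=
    congrArg (fun a => a.hom.hom) (bcComp f g G).inv_hom_id
  refine Over.OverMorphism.ext (pullback.hom_ext ?_ ?_)
  · rw [bcHom'_fst, ← key, Over.comp_left, Category.assoc]
    rw [← Category.assoc (bcComp f g G).inv.hom.hom.left, ← Over.comp_left, hiso, Over.id_left, Category.id_comp,
      ← Category.assoc, bcHom'_fst, Category.assoc, bcHom'_fst, ← Category.assoc, ejPt_comp]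
  · exact (Over.w (_ : Red.DS S'' M ⟶ Red.bc (g ≫ f) G)).trans (Over.w (bcHom' (g ≫ f) c)).symm

/-- Iterated base change of splitting data. -/
theorem SplitOn.comp {S'' : Scheme.{u}} {f : S' ⟶ S} {g : S'' ⟶ S'} {h : S'' ⟶ S} (e : g ≫ f = h)
    {c : Red.DS S M ⟶ G} {U : Set S''} (hs : SplitOn (bcHom' g (bcHom' f c)) U) : SplitOn (bcHom' h c) U := by
  subst e
  have := hs.map (bcComp f g G).symm
  rwa [show (bcComp f g G).symm.hom.hom.hom = (bcComp f g G).inv.hom.hom from rfl, bcHom'_comp] at this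

omit [Module.Free ℤ M] [Module.Finite ℤ M] in
theorem bcHom'_id (c : Red.DS S M ⟶ G) : bcHom' (𝟙 S) c ≫ (Chev.bcIdIso G).hom.hom.hom = c := by
  have hfst : (Chev.bcIdIso G).hom.hom.hom.left = pullback.fst G.hom (𝟙 S) := by
    simp [Chev.bcIdIso, Over.pullbackId]
    exact Category.comp_id _
  let a : Red.DS S M ⟶ (Over.map (𝟙 S)).obj (Red.DS S M) := Over.homMk (𝟙 _) (by simp)
  have h : a ≫ ejPt (𝟙 S) M = 𝟙 _ := ch_ext fun m => by
    rw [ch_comp, ch_ejPt]
    show (Scheme.Hom.appTop (𝟙 (Red.DS S M).left)) _ = _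
    rw [Scheme.Hom.id_appTop]
    rfl
  refine Over.OverMorphism.ext ?_
  rw [Over.comp_left, hfst, bcHom'_fst]
  have h' := congrArg CommaMorphism.left h
  rw [show (ejPt (𝟙 S) M).left = 𝟙 _ from (Category.id_comp _).symm.trans h', Category.id_comp]

/-- Splitting data pulled back along the identity. -/
theorem SplitOn.of_id {c : Red.DS S M ⟶ G} {U : Set S} (h : SplitOn (bcHom' (𝟙 S) c) U) : SplitOn c U := by
  have := h.map (Chev.bcIdIso G)
  rwa [bcHom'_id] at this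

end Split

section Torus

variable {S : Scheme.{u}}

/-- The underlying isomorphism of a group isomorphism. -/
abbrev isoOf {A B : Over S} [GrpObj A] [GrpObj B] (E : Grp.mk A ≅ Grp.mk B) : A ≅ B where
  hom := E.hom.hom.hom
  inv := E.inv.hom.hom
  hom_inv_id := congrArg (fun a => a.hom.hom) E.hom_inv_id
  inv_hom_id := congrArg (fun a => a.hom.hom) E.inv_hom_id

/-- A group isomorphism from a bijective homomorphism. -/
def grpIso {A B : Over S} [GrpObj A] [GrpObj B] (f : A ⟶ B) [hf : IsMonHom f] [IsIso f] : Grp.mk A ≅ Grp.mk B :=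
  @Grp.mkIso' _ _ _ _ _ (asIso f) _ _ hf

/-- A group isomorphic to a torus is a torus. -/
theorem isTorus_of_grpIso {T T' : Over S} [GrpObj T] [GrpObj T'] (e : Grp.mk T ≅ Grp.mk T') (h : Red.IsTorus T) :
    Red.IsTorus T' := by
  obtain ⟨S', g, h1, h2, h3, h4⟩ := h
  refine ⟨S', g, h1, h2, h3, fun s => ?_⟩
  obtain ⟨U, hs, r, ⟨E⟩⟩ := h4 s
  exact ⟨U, hs, r, ⟨(bcMapIso _ e).symm ≪≫ E⟩⟩

variable {G : Over S} [GrpObj G] {M : Type} [AddCommGroup M]

/-- The split form of a split maximal torus. -/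
theorem isMaximalTorus_DS {T : Over S} [GrpObj T] {i : T ⟶ G} (hT : Red.IsMaximalTorus i)
    (E : Grp.mk T ≅ Grp.mk (Red.DS S M)) : Red.IsMaximalTorus (E.inv.hom.hom ≫ i) := by
  haveI : IsMonHom (isoOf E.symm).hom := E.inv.hom.isMonHom_hom
  exact S8433.isMaximalTorus_of_iso_left (isoOf E.symm) i (isTorus_of_grpIso E hT.2.2.1) hT

theorem isMaximalTorus_bcHom' {S' : Scheme.{u}} (j : S' ⟶ S) (hG : Red.IsReductive G)
    {c : Red.DS S M ⟶ G} (hc : Red.IsMaximalTorus c) : Red.IsMaximalTorus (bcHom' j c) := by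
  haveI := hG.1
  haveI := hG.2.1
  haveI := DynPar.isIso_ej j M
  haveI : IsMonHom (ej j M) := isMonHom_ej j
  haveI : IsMonHom (asIso (ej j M)).hom := isMonHom_ej j
  have hbc := Chev.MaxTorusBC.isMaximalTorus_bc c hc j
  exact S8433.isMaximalTorus_of_iso_left (asIso (ej j M)) ((Over.pullback j).map c)
    (isTorus_of_grpIso (grpIso (ej j M)).symm hbc.2.2.1) hbc

variable [Module.Free ℤ M] [Module.Finite ℤ M]

/-- **Splitting data near a point.** -/
theorem exists_split_nhd (hG : Red.IsReductive G) {c : Red.DS S M ⟶ G} (hc : Red.IsMaximalTorus c) (s : S) :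
    ∃ U : S.Opens, s ∈ U ∧ ∀ {S' : Scheme.{u}} (h : S' ⟶ S), Set.range h ⊆ U →
      SplitOn (bcHom' h c) Set.univ := by
  classical
  obtain ⟨_, ⟨V, hV, rfl⟩, hsV, -⟩ := S.isBasis_affineOpens.exists_subset_of_mem_open (Set.mem_univ s) isOpen_univ
  let j₀ := hV.fromSpec
  obtain ⟨p₀, hp₀⟩ : s ∈ Set.range j₀ := by rw [hV.range_fromSpec]; exact hsV
  let G₀ := Red.bc j₀ G
  let c₀ := bcHom' j₀ c
  haveI := hc.1
  haveI : IsMonHom c₀ := isMonHom_bcHom' j₀ c
  have hG₀ : Red.IsReductive G₀ := isReductive_bc j₀ hG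
  have hc₀ : Red.IsMaximalTorus c₀ := isMaximalTorus_bcHom' j₀ hG hc
  haveI := hG₀.1; haveI := hG₀.2.1
  haveI : IsAffine G₀.left := isAffine_of_isAffineHom G₀.hom
  obtain ⟨f, hf, hvec⟩ := exists_nhd_vectors hG₀ c₀ p₀
  let R₁ := Localization.Away f
  let j₁ : Spec (CommRingCat.of R₁) ⟶ Spec Γ(S, V) := Spec.map (CommRingCat.ofHom (algebraMap Γ(S, V) R₁))
  haveI : IsOpenImmersion j₁ := IsOpenImmersion.of_isLocalization f
  obtain ⟨p₁, hp₁⟩ : p₀ ∈ Set.range j₁ :=
    (PrimeSpectrum.localization_away_comap_range R₁ f).ge hf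
  haveI : Nontrivial R₁ := PrimeSpectrum.nonempty_iff_nontrivial.1 ⟨p₁⟩
  let G₁ := Red.bc j₁ G₀
  let c₁ := bcHom' j₁ c₀
  haveI : IsMonHom c₁ := isMonHom_bcHom' j₁ c₀
  have hG₁ : Red.IsReductive G₁ := isReductive_bc j₁ hG₀
  have hc₁ : Red.IsMaximalTorus c₁ := isMaximalTorus_bcHom' j₁ hG₀ hc₀
  haveI := hG₁.1; haveI := hG₁.2.1
  haveI : IsAffine G₁.left := isAffine_of_isAffineHom G₁.hom
  haveI : IsAffine (Red.bc (Red.geomPt p₁) G₁).left := (hG₁.2.2 p₁).1
  obtain ⟨U₁, idx, hidx, P, u, hpU, hP, hu, hrefl, hdim⟩ :=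
    exists_local hG₁ hc₁ p₁ fun d hd => hvec p₁ hp₁ d hd
  haveI : Smooth G₁.hom := hG₁.2.1
  obtain ⟨W, hW, hpW, hWd⟩ := (IsLocallyConstant.iff_exists_open _).1 (GrpDim.isLocallyConstant_dim (G := G₁)) p₁
  have hs₁ : SplitOn c₁ ((U₁ : Set _) ∩ W) :=
    ⟨idx, hidx, P, u, hP, hu, fun a => (hrefl a).imp fun n hn X hX => hn X (hX.trans Set.inter_subset_left),
      fun t ht => by rw [← hdim, MTImage.dim_geomFibre, MTImage.dim_geomFibre]; exact hWd t ht.2⟩
  refine ⟨⟨(j₁ ≫ j₀) '' ((U₁ : Set _) ∩ W), (j₁ ≫ j₀).isOpenEmbedding.isOpenMap _ (U₁.2.inter hW)⟩,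
    ⟨p₁, ⟨hpU, hpW⟩, by rw [Scheme.Hom.comp_apply, hp₁, hp₀]⟩, fun {S'} h hh => ?_⟩
  have hr : Set.range h ⊆ Set.range (j₁ ≫ j₀) := hh.trans (Set.image_subset_range _ _)
  let h' := IsOpenImmersion.lift (j₁ ≫ j₀) h hr
  have hfac : (h' ≫ j₁) ≫ j₀ = h := by rw [Category.assoc, IsOpenImmersion.lift_fac]
  refine SplitOn.comp hfac (SplitOn.comp (f := j₁) (g := h') rfl (hs₁.bc h' ?_))
  rintro _ ⟨x, rfl⟩
  obtain ⟨t, ht, he⟩ := hh ⟨x, rfl⟩
  rw [← IsOpenImmersion.lift_fac (j₁ ≫ j₀) h hr, Scheme.Hom.comp_apply h'] at he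
  rwa [← (j₁ ≫ j₀).isOpenEmbedding.injective he]

/-- A splitting from splitting data. -/
theorem exists_splitRed (hG : Red.IsReductive G) {T : Over S} [GrpObj T] {i : T ⟶ G} (hT : Red.IsMaximalTorus i)
    (E : Grp.mk T ≅ Grp.mk (Red.DS S M)) (h : SplitOn (E.inv.hom.hom ≫ i) Set.univ) :
    ∃ (D : Red.SplitRed G), D.T = T ∧ HEq D.i i := by
  obtain ⟨idx, hidx, P, u, hP, hu, hrefl, hdim⟩ := h
  have hEi : E.hom.hom.hom ≫ E.inv.hom.hom = 𝟙 T := congrArg (fun a => a.hom.hom) E.hom_inv_id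
  refine ⟨{ T := T, i := i, M := M, idx := idx, P := P, pairing_eq := hP, u := u, reductive := hG
            maximalTorus := hT, split := E
            rootHom := fun a => ⟨(hu a).1, (hu a).2.1, fun X t x => ?_⟩
            refl := fun a => ?_
            dim_fibre := fun s => hdim s trivial }, rfl, HEq.rfl⟩
  · obtain ⟨y, hy, hy'⟩ := (hu a).2.2 X (t ≫ E.hom.hom.hom) x
    rw [Category.assoc, ← Category.assoc E.hom.hom.hom, hEi, Category.id_comp] at hy
    rw [Category.assoc] at hy'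
    exact ⟨y, hy, hy'⟩
  · obtain ⟨n, hn⟩ := hrefl a
    refine ⟨n, fun X t => ?_⟩
    have := hn X (Set.subset_univ _) (t ≫ E.hom.hom.hom)
    rw [Category.assoc t, ← Category.assoc E.hom.hom.hom, hEi, Category.id_comp] at this
    simpa only [Category.assoc] using this

/-- A splitting over a new base. -/
theorem exists_splitRed_bc {S' : Scheme.{u}} (j : S' ⟶ S) (hG : Red.IsReductive G) {T : Over S} [GrpObj T]
    {i : T ⟶ G} (hT : Red.IsMaximalTorus i) (E : Grp.mk T ≅ Grp.mk (Red.DS S M))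
    (h : SplitOn (bcHom' j (E.inv.hom.hom ≫ i)) Set.univ) :
    ∃ (D : Red.SplitRed (Red.bc j G)), D.T = Red.bc j T ∧ HEq D.i ((Over.pullback j).map i) := by
  haveI := hG.1
  haveI := hG.2.1
  haveI := DynPar.isIso_ej j M
  haveI : IsMonHom (ej j M) := isMonHom_ej j
  refine exists_splitRed (isReductive_bc j hG) (Chev.MaxTorusBC.isMaximalTorus_bc i hT j)
    (bcMapIso j E ≪≫ (grpIso (ej j M)).symm) ?_
  have e : (bcMapIso j E ≪≫ (grpIso (ej j M)).symm).inv.hom.hom ≫ (Over.pullback j).map i =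
      bcHom' j (E.inv.hom.hom ≫ i) := by
    rw [bcHom', Functor.map_comp]
    exact Category.assoc _ _ _
  rw [e]
  exact h

end Torus

/-- A torus is split etale-locally. -/
theorem exists_etale_split {S : Scheme.{u}} {T : Over S} [GrpObj T] (hT : Red.IsTorus T) (s : S) :
    ∃ (S' : Scheme.{u}) (e : S' ⟶ S) (r : ℕ), Etale e ∧ s ∈ Set.range e.base ∧
      Red.IsSplitTorusWith (Fin r → ℤ) (Red.bc e T) := by
  haveI : Smooth T.hom := MTImage.smooth_torus hT
  haveI : IsAffineHom T.hom := MTBridge.isAffineHom T (MTBridge.isMultTypeFT_of_isTorus T hT)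
  have hid : ∀ {S' : Scheme.{u}} (T' : Over S') [GrpObj T'], Red.IsTorus T' → Red.IsMaximalTorus (𝟙 T') :=
    fun T' _ hT' => ⟨inferInstance, inferInstance, hT', fun t X _ j _ _ f _ hf => by
      rw [CategoryTheory.Functor.map_id] at hf
      haveI : IsSplitEpi j := IsSplitEpi.mk' ⟨f, hf⟩
      haveI : IsIso j := isIso_of_mono_of_isSplitEpi j
      haveI : IsIso (f ≫ j) := by rw [hf]; infer_instance
      exact IsIso.of_isIso_comp_right f j⟩
  obtain ⟨U, hsU, rk, hU⟩ := TorusLift.redRankLocallyConstant_of_etale (G := T)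
    ⟨S, 𝟙 S, inferInstance, inferInstance, _, inferInstance, 𝟙 _,
      hid _ (Chev.Borel.isTorus_bc_scheme T (𝟙 S) hT)⟩ s
  obtain ⟨S', e, r, j, he, hs, hj⟩ := TorusLift.exists_etale_maxTorus_at s U hsU rk hU
  refine ⟨S', e, r, he, hs, ?_⟩
  haveI := hj.1
  haveI := hj.2.1
  haveI := locallyOfFinitePresentation_of_isMultTypeFT _ (MTTorus.isMultTypeFT_DS S' (Fin r → ℤ))
  haveI := flat_of_isMultTypeFT _ (MTTorus.isMultTypeFT_DS S' (Fin r → ℤ))
  haveI : LocallyOfFinitePresentation (Red.bc e T).hom := inferInstanceAs (LocallyOfFinitePresentation (pullback.snd T.hom e))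
  haveI : IsIso j := RootIntrinsic.isIso_of_geomPts j fun t =>
    hj.2.2.2 t (Red.geomFibre t (Red.bc e T)) (𝟙 _) ((Over.pullback (Red.geomPt t)).map j)
      (Chev.Borel.isTorus_bc_scheme _ _ (Chev.Borel.isTorus_bc_scheme T e hT)) (Category.comp_id _)
  haveI : IsMonHom (asIso j).hom := hj.1
  exact ⟨(grpIso j).symm⟩

/-- A splitting along the composite of two changes of base. -/
theorem exists_splitRed_comp {S S₁ S₂ : Scheme.{u}} (e : S₁ ⟶ S) (j : S₂ ⟶ S₁) {G : Over S} [GrpObj G]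
    {M : Type} [AddCommGroup M] [Module.Free ℤ M] [Module.Finite ℤ M]
    (hG : Red.IsReductive G) {T : Over S} [GrpObj T] {i : T ⟶ G} (hT : Red.IsMaximalTorus i)
    (E : Grp.mk (Red.bc e T) ≅ Grp.mk (Red.DS S₁ M))
    (h : SplitOn (bcHom' j (E.inv.hom.hom ≫ (Over.pullback e).map i)) Set.univ) :
    ∃ (D : Red.SplitRed (Red.bc (j ≫ e) G)),
      D.T = Red.bc (j ≫ e) T ∧ HEq D.i ((Over.pullback (j ≫ e)).map i) := by
  haveI := hG.1
  haveI := hG.2.1
  haveI := DynPar.isIso_ej j M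
  haveI : IsMonHom (ej j M) := isMonHom_ej j
  refine exists_splitRed (isReductive_bc (j ≫ e) hG) (Chev.MaxTorusBC.isMaximalTorus_bc i hT (j ≫ e))
    (bcComp e j T ≪≫ bcMapIso j E ≪≫ (grpIso (ej j M)).symm) ?_
  have hnat : (bcComp e j T).inv.hom.hom ≫ (Over.pullback (j ≫ e)).map i =
      (Over.pullback j).map ((Over.pullback e).map i) ≫ (bcComp e j G).inv.hom.hom := by
    haveI := hT.1
    simpa [bcComp] using ((Over.pullbackComp j e).inv.naturality i).symm
  have eq : (bcComp e j T ≪≫ bcMapIso j E ≪≫ (grpIso (ej j M)).symm).inv.hom.hom ≫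
      (Over.pullback (j ≫ e)).map i =
      bcHom' j (E.inv.hom.hom ≫ (Over.pullback e).map i) ≫ (bcComp e j G).symm.hom.hom.hom := by
    show ((ej j M ≫ (Over.pullback j).map E.inv.hom.hom) ≫ (bcComp e j T).inv.hom.hom) ≫ _ = _
    rw [bcHom', Functor.map_comp]
    simp only [Category.assoc]
    rw [hnat]
    rfl
  rw [eq]
  exact h.map _

/-- A splitting of the composite base change from a torus over the intermediate base. -/
theorem nonempty_splitRed_comp {S S₁ S₂ : Scheme.{u}} (e : S₁ ⟶ S) (j : S₂ ⟶ S₁) {G : Over S} [GrpObj G]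
    {M : Type} [AddCommGroup M] [Module.Free ℤ M] [Module.Finite ℤ M]
    (hG : Red.IsReductive G) {T : Over S₁} [GrpObj T] {i : T ⟶ Red.bc e G} (hT : Red.IsMaximalTorus i)
    (E : Grp.mk T ≅ Grp.mk (Red.DS S₁ M))
    (h : SplitOn (bcHom' j (E.inv.hom.hom ≫ i)) Set.univ) :
    Nonempty (Red.SplitRed (Red.bc (j ≫ e) G)) := by
  have hG₁ := isReductive_bc e hG
  haveI := hG₁.1
  haveI := hG₁.2.1
  haveI := DynPar.isIso_ej j M
  haveI : IsMonHom (ej j M) := isMonHom_ej j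
  have hT₁ := Chev.MaxTorusBC.isMaximalTorus_bc i hT j
  haveI : IsMonHom (Iso.refl ((Over.pullback j).obj T)).hom := inferInstanceAs (IsMonHom (𝟙 (Red.bc j T)))
  haveI : IsMonHom (isoOf (bcComp e j G).symm).hom := (bcComp e j G).inv.hom.isMonHom_hom
  have hT₂ : Red.IsMaximalTorus ((Over.pullback j).map i ≫ (bcComp e j G).inv.hom.hom) :=
    MTImage.isMaximalTorus_iso (Iso.refl _) (isoOf (bcComp e j G).symm) ((Over.pullback j).map i) _
      (Category.id_comp _).symm hT₁.2.2.1 hT₁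
  obtain ⟨D, -, -⟩ := exists_splitRed (isReductive_bc (j ≫ e) hG) hT₂ (bcMapIso j E ≪≫ (grpIso (ej j M)).symm) (by
    have eq : (bcMapIso j E ≪≫ (grpIso (ej j M)).symm).inv.hom.hom ≫
        (Over.pullback j).map i ≫ (bcComp e j G).inv.hom.hom =
        bcHom' j (E.inv.hom.hom ≫ i) ≫ (bcComp e j G).symm.hom.hom.hom := by
      rw [bcHom', Functor.map_comp]
      simp only [← Category.assoc]
      rfl
    rw [eq]
    exact h.map _)
  exact ⟨D⟩

theorem eq_eqToHom_comp {C : Type*} [Category C] {A B G : C} (h : A = B) {f : A ⟶ G} {g : B ⟶ G} (hh : HEq f g) :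
    f = (eqToIso h).hom ≫ g := by
  subst h
  simpa using eq_of_heq hh

end Groth.Agent.RootBase
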