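import Groth.Agent.RootBase.SplitType
import Groth.Agent.RootBase.Gen
import Groth.Agent.RootBase.UPsiEmpty
import Groth.Agent.RedCartan.Global
import Groth.Agent.MTBridge.NilConj
import Groth.Agent.S5516
import Groth.Agent.S2958

/-!
# The centre of a group with a frame, and adjoint groups
-/

set_option autoImplicit false
set_option backward.isDefEq.respectTransparency false
set_option linter.style.haveILetI false
set_option maxHeartbeats 1000000
set_option synthInstance.maxHeartbeats 400000

universe u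

open CategoryTheory Limits MonoidalCategory CartesianMonoidalCategory MonObj GrpObj AlgebraicGeometry
open scoped CategoryTheory.Obj

noncomputable section

namespace Groth.Agent.RootBase

open Groth.Agent.HomDiag Groth.Agent.MTBridge
open Groth.Agent.DynPar (bcHom' ej ejPt isReductive_bc isMonHom_bcHom' comp_ej)
open Groth.Agent.RootSys (bcGa gaPush bcGa_eq)

variable {S S' : Scheme.{u}} {G : Over S} [GrpObj G]

/-- The unit as a point of a change of base. -/
theorem toBC_one' (j : S' ⟶ S) {X : Over S'} : toBC j (1 : (Over.map j).obj X ⟶ G) = 1 :=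
  map_one (MonoidHom.mk' (fun z : (Over.map j).obj X ⟶ G => toBC j z) (toBC_mul j))

/-- A central point stays central after a change of base. -/
theorem central_toBC (f : S' ⟶ S) {Y : Over S'} (g : (Over.map f).obj Y ⟶ G)
    (hg : ∀ (X' : Over S) (x : X' ⟶ (Over.map f).obj Y) (h : X' ⟶ G), (x ≫ g) * h = h * (x ≫ g))
    (X'' : Over S') (x : X'' ⟶ Y) (h : X'' ⟶ Red.bc f G) : (x ≫ toBC f g) * h = h * (x ≫ toBC f g) := by
  obtain ⟨a, rfl⟩ := exists_toBC' f h
  rw [← toBC_naturality, ← toBC_mul, ← toBC_mul, hg]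

section Centre

variable {M : Type} [AddCommGroup M] [Module.Free ℤ M] [Module.Finite ℤ M] {c : Red.DS S M ⟶ G} {idx : Type}
  [Fintype idx] {root : idx → M} {u : idx → (Red.Ga S ⟶ G)}

/-- A central point is a point of the torus at which all roots are trivial. -/
theorem Frame.exists_torus_of_central (F : Frame c root u) {X : Over S} (g : X ⟶ G)
    (hg : ∀ (X' : Over S) (x : X' ⟶ X) (h : X' ⟶ G), (x ≫ g) * h = h * (x ≫ g)) :
    ∃ t : X ⟶ Red.DS S M, t ≫ c = g ∧ ∀ a, ch t (Multiplicative.ofAdd (root a)) = 1 := by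
  haveI := F.hc.1
  obtain ⟨t, ht⟩ := ((RedCartan.centralizer_self_of_isReductive F.hG c F.hc).2.2 X g).2 fun X' x h => hg X' x (h ≫ c)
  refine ⟨t, ht, fun a => ?_⟩
  obtain ⟨hm, hcl, hrel⟩ := F.hu a
  obtain ⟨y, hy, hy'⟩ := hrel X t (eOne X)
  haveI := hcl
  haveI : Mono (u a) := Over.mono_of_mono_left _
  have h1 := hg X (𝟙 X) (eOne X ≫ u a)
  rw [Category.id_comp] at h1
  rw [ht, h1, mul_inv_cancel_right, cancel_mono] at hy
  rw [hy, RootIntrinsic.gmFn_chi, eOne, BGaNotS.gaFn_gaPt, _root_.mul_one] at hy'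
  exact hy'.symm

/-- A point of the torus at which all roots are trivial is central. -/
theorem Frame.central_of_roots (F : Frame c root u) {X : Over S} (t : X ⟶ Red.DS S M)
    (ht : ∀ a, ch t (Multiplicative.ofAdd (root a)) = 1) (X' : Over S) (x : X' ⟶ X) (h : X' ⟶ G) :
    (x ≫ t ≫ c) * h = h * (x ≫ t ≫ c) := by
  haveI := F.hc.1
  let j := X'.hom
  have FK := F.bc j
  let q : (Over.map j).obj (𝟙_ (Over X'.left)) ⟶ X' := Over.homMk (𝟙 X'.left)
  haveI : IsIso q.left := inferInstanceAs (IsIso (𝟙 X'.left))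
  haveI : Epi q := Over.epi_of_epi_left _
  let N : 𝟙_ (Over X'.left) ⟶ Red.bc j G := toBC j ((q ≫ x ≫ t) ≫ c)
  let f : Red.bc j G ⟶ Red.bc j G := (toUnit _ ≫ N) * 𝟙 _ * (toUnit _ ≫ N)⁻¹
  haveI : IsMonHom f := isMonHom_conj (𝟙 _) N
  have hN : ∀ (Y : Over X'.left), toUnit Y ≫ N = toBC j (((Over.map j).map (toUnit Y) ≫ q ≫ x ≫ t) ≫ c) := fun Y => by
    rw [← toBC_naturality]
    simp only [Category.assoc]
  have hinv : ∀ {Y : Over X'.left} (z : (Over.map j).obj Y ⟶ G), toBC j z⁻¹ = (toBC j z)⁻¹ := fun {Y} z =>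
    map_inv (MonoidHom.mk' (fun z : (Over.map j).obj Y ⟶ G => toBC j z) (toBC_mul j)) z
  have hf : ∀ {Y : Over X'.left} (b : (Over.map j).obj Y ⟶ G),
      toBC j b ≫ f = toBC j ((((Over.map j).map (toUnit Y) ≫ q ≫ x ≫ t) ≫ c) * b *
        (((Over.map j).map (toUnit Y) ≫ q ≫ x ≫ t) ≫ c)⁻¹) := fun {Y} b => by
    have e : toBC j b ≫ toUnit _ ≫ N = toBC j (((Over.map j).map (toUnit Y) ≫ q ≫ x ≫ t) ≫ c) := by
      rw [← Category.assoc, comp_toUnit, hN]
    simp only [f, MonObj.comp_mul, GrpObj.comp_inv, Category.comp_id, e, toBC_mul, hinv]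
  have hT : bcHom' j c ≫ f = bcHom' j c ≫ 𝟙 _ := by
    have e : bcHom' j c = toBC j (((Over.map j).map (𝟙 _) ≫ ejPt j M) ≫ c) := by
      rw [toBC_comp, ← comp_ej, Category.id_comp]
      rfl
    rw [e, hf, Category.comp_id]
    have hcomm : ∀ {Z : Over S} (a b : Z ⟶ Red.DS S M), (a ≫ c) * (b ≫ c) * (a ≫ c)⁻¹ = b ≫ c := fun a b => by
      rw [← MonObj.mul_comp a b c, show a * b = b * a from ch_ext fun m => by rw [ch_mul, ch_mul, mul_comm],
        MonObj.mul_comp, mul_inv_cancel_right]
    rw [hcomm]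
  have hU : ∀ a, bcGa j (u a) ≫ f = bcGa j (u a) ≫ 𝟙 _ := fun a => by
    have e : bcGa j (u a) = toBC j (((Over.map j).map (𝟙 _) ≫ gaPush j) ≫ u a) := by
      rw [← bcGa_eq, Category.id_comp]
    rw [e, hf, Category.comp_id]
    obtain ⟨hm, hcl, hrel⟩ := F.hu a
    obtain ⟨y, hy, hy'⟩ := hrel _ ((Over.map j).map (toUnit _) ≫ q ≫ x ≫ t) ((Over.map j).map (𝟙 _) ≫ gaPush j)
    rw [← hy]
    refine congrArg (fun z => toBC j (z ≫ u a)) (BGaNotS.gaPt_ext ?_)
    rw [hy', RootIntrinsic.gmFn_chi, ← Category.assoc q x t, ← Category.assoc ((Over.map j).map _) (q ≫ x) t, ch_comp, ht,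
      map_one, _root_.one_mul]
  have hfid : f = 𝟙 _ := FK.hom_ext f (𝟙 _) hT hU
  have h1 := congrArg (fun z => toBC j (q ≫ h) ≫ z) hfid
  simp only [hf, Category.comp_id] at h1
  have h2 := toBC_inj j h1
  rw [toUnit_unique (toUnit (𝟙_ (Over X'.left))) (𝟙 _), CategoryTheory.Functor.map_id, Category.id_comp,
    mul_inv_eq_iff_eq_mul] at h2
  rw [← cancel_epi q, MonObj.comp_mul, MonObj.comp_mul]
  simpa only [Category.assoc] using h2

/-- When the roots generate the characters only the unit is central. -/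
theorem Frame.eq_one_of_central (F : Frame c root u) (hspan : Submodule.span ℤ (Set.range root) = ⊤) {X : Over S}
    (g : X ⟶ G) (hg : ∀ (X' : Over S) (x : X' ⟶ X) (h : X' ⟶ G), (x ≫ g) * h = h * (x ≫ g)) : g = 1 := by
  haveI := F.hc.1
  obtain ⟨t, ht, hroot⟩ := F.exists_torus_of_central g hg
  have h1 : t = 1 := ch_ext fun m => by
    rw [ch_one]
    obtain ⟨m, rfl⟩ : ∃ n : M, Multiplicative.ofAdd n = m := ⟨m.toAdd, rfl⟩
    have hmem : m ∈ Submodule.span ℤ (Set.range root) := hspan ▸ Submodule.mem_top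
    induction hmem using Submodule.span_induction with
    | mem y hy => obtain ⟨a, rfl⟩ := hy; exact hroot a
    | zero => rw [ofAdd_zero, map_one]
    | add y z _ _ hy hz => rw [ofAdd_add, map_mul, hy, hz, _root_.mul_one]
    | smul n y _ hy =>
      induction n using Int.induction_on with
      | zero => rw [zero_smul, ofAdd_zero, map_one]
      | succ n ih => rw [add_smul, one_smul, ofAdd_add, map_mul, ih, hy, _root_.mul_one]
      | pred n ih =>
        have e : ch t (Multiplicative.ofAdd ((-(n : ℤ) - 1) • y)) * ch t (Multiplicative.ofAdd y) = 1 := by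
          rw [← map_mul, ← ofAdd_add, sub_smul, one_smul, sub_add_cancel]
          exact ih
        rwa [hy, _root_.mul_one] at e
  rw [← ht, h1, MonObj.one_comp]

/-- When only the unit is central the roots generate the characters. -/
theorem Frame.span_eq_top (F : Frame c root u) [Nonempty S]
    (h : ∀ (X : Over S) (g : X ⟶ G), (∀ (X' : Over S) (x : X' ⟶ X) (k : X' ⟶ G), (x ≫ g) * k = k * (x ≫ g)) → g = 1) :
    Submodule.span ℤ (Set.range root) = ⊤ := by
  haveI := F.hc.1
  haveI : Mono c := F.hc.2.1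
  let L := Submodule.span ℤ (Set.range root)
  let π : M →+ M ⧸ L := L.mkQ.toAddMonoidHom
  have hroot : ∀ a, ch (Red.DSmap S π) (Multiplicative.ofAdd (root a)) = 1 := fun a => by
    rw [← Category.id_comp (Red.DSmap S π), ch_DSmap, toAdd_ofAdd,
      show π (root a) = 0 from (Submodule.Quotient.mk_eq_zero L).2 (Submodule.subset_span ⟨a, rfl⟩), ofAdd_zero, map_one]
  have h1 := h _ (Red.DSmap S π ≫ c) fun X' x k => F.central_of_roots (Red.DSmap S π) hroot X' x k
  have h2 : Red.DSmap S π = 1 := by rwa [← MonObj.one_comp c, cancel_mono] at h1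
  have h0 : Red.DSmap S (0 : M →+ M ⧸ L) = 1 := ch_ext fun m => by
    rw [← Category.id_comp (Red.DSmap S (0 : M →+ M ⧸ L)), ch_DSmap, ch_one, AddMonoidHom.zero_apply, ofAdd_zero, map_one]
  haveI : Nonempty (𝟙_ (Over S)).left := ‹Nonempty S›
  have h3 : π = 0 := HomDiag.DSmap_inj (T := 𝟙_ (Over S)) (by rw [h2, h0])
  exact eq_top_iff.2 fun m _ => (Submodule.Quotient.mk_eq_zero L).1 (DFunLike.congr_fun h3 m)

end Centre

/-- A reductive group over an algebraically closed field is split. -/
theorem nonempty_splitRed_algClosed {k : Type u} [Field k] [IsAlgClosed k] {G : Over (Spec (CommRingCat.of k))}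
    [GrpObj G] (hG : Red.IsReductive G) : Nonempty (Red.SplitRed G) := by
  obtain ⟨K, _, _, _, _, ⟨D⟩⟩ := S5516.result k G hG
  let ψ : K →ₐ[k] k := IsAlgClosed.lift
  let σ := Spec.map (CommRingCat.ofHom ψ.toRingHom)
  have hσ : σ ≫ Spec.map (CommRingCat.ofHom (algebraMap k K)) = 𝟙 _ := by
    rw [← Spec.map_comp, ← Spec.map_id]
    congr 1
    ext x
    exact ψ.commutes x
  obtain ⟨D', -⟩ := exists_bc_comp σ hσ hG D
  obtain ⟨D'', -⟩ := exists_map D' (Chev.bcIdIso G) hG
  exact ⟨D''⟩

/-- Points of a group equal on an etale covering family are equal. -/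
theorem hom_ext_of_cover {X : Over S} {κ : Type u} (Y : κ → Over S) (q : ∀ i, Y i ⟶ X) [∀ i, Flat (q i).left]
    (hq : ∀ x : ↥X.left, ∃ (i : κ) (y : ↥(Y i).left), (q i).left y = x) {g g' : X ⟶ G}
    (h : ∀ i, q i ≫ g = q i ≫ g') : g = g' := by
  haveI : Flat (Sigma.desc fun i => (q i).left) := IsZariskiLocalAtSource.sigmaDesc fun i => inferInstance
  haveI : Surjective (Sigma.desc fun i => (q i).left) := ⟨fun x => by
    obtain ⟨i, y, hy⟩ := hq x
    exact ⟨Sigma.ι (fun i => (Y i).left) i y, by rw [← Scheme.Hom.comp_apply, Sigma.ι_desc, hy]⟩⟩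
  haveI := Flat.epi_of_flat_of_surjective (Sigma.desc fun i => (q i).left)
  refine Over.OverMorphism.ext ((cancel_epi (Sigma.desc fun i => (q i).left)).1 (Sigma.hom_ext _ _ fun i => ?_))
  rw [Sigma.ι_desc_assoc, Sigma.ι_desc_assoc, ← Over.comp_left, h i, Over.comp_left]

/-- **A reductive group is adjoint exactly when its centre is trivial.** -/
theorem adjoint_iff (hG : Red.IsReductive G) :
    (∀ (s : S) (D : Red.SplitRed (Red.geomFibre s G)), Submodule.span ℤ (Set.range D.P.root) = ⊤) ↔
      ∀ (X : Over S) (g : X ⟶ G), (∀ (X' : Over S) (x : X' ⟶ X) (h : X' ⟶ G), (x ≫ g) * h = h * (x ≫ g)) →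
        g = 1 := by
  constructor
  · intro hadj X g hg
    choose U f hf hs hD using fun s : S => S2958.result G hG s
    let Y : S → Over S := fun s => Over.mk (pullback.snd X.hom (f s) ≫ f s)
    let q : ∀ s, Y s ⟶ X := fun s => Over.homMk (pullback.fst X.hom (f s)) pullback.condition
    haveI : ∀ s, Flat (q s).left := fun s => by
      haveI := hf s
      exact inferInstanceAs (Flat (pullback.fst X.hom (f s)))
    refine hom_ext_of_cover Y q (fun x => ?_) fun s => ?_
    · obtain ⟨w, hw⟩ := hs (X.hom x)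
      obtain ⟨p, hp, -⟩ := Scheme.Pullback.exists_preimage_pullback x w hw.symm
      exact ⟨_, p, hp⟩
    · obtain ⟨D⟩ := hD s
      let Y' : Over (U s) := Over.mk (pullback.snd X.hom (f s))
      have key : toBC (f s) (q s ≫ g : (Over.map (f s)).obj Y' ⟶ G) = 1 := by
        have hc := central_toBC (f s) (Y := Y') (q s ≫ g) fun X' x h => by
          rw [← Category.assoc]; exact hg X' (x ≫ q s) h
        rcases isEmpty_or_nonempty (U s) with hU | ⟨⟨w⟩⟩
        · exact hom_eq_of_isEmpty _ _
        · refine (frame_of_splitRed D).eq_one_of_central ?_ _ hc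
          obtain ⟨E⟩ := nonempty_splitRed_algClosed (G := Red.geomFibre (f s w) G) (isReductive_bc _ hG)
          obtain ⟨e⟩ := nonempty_equiv_fibre (f s) w hG D E
          have h1 := congrArg (Submodule.map (RootPairing.Equiv.weightEquiv E.P D.P e).toLinearMap) (hadj _ E)
          rw [Submodule.map_span, Submodule.map_top, LinearEquiv.range] at h1
          rw [← h1, ← Set.range_comp]
          congr 1
          rw [← Function.Surjective.range_comp e.indexEquiv.surjective fun a => D.P.root a]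
          congr 1
          funext a
          simp only [Function.comp_apply]
          exact (congr_fun e.root_weightMap a).symm
      rw [← toBC_one' (f s)] at key
      rw [MonObj.comp_one]
      exact toBC_inj _ key
  · intro hc s D
    refine (frame_of_splitRed D).span_eq_top fun Y g hg => ?_
    obtain ⟨a, ha⟩ := exists_toBC' (Red.geomPt s) g
    suffices h : a = 1 by rw [← ha, h, toBC_one']
    refine hc _ a fun X' x h => ?_
    let Y'' : Over (Spec (CommRingCat.of (AlgebraicClosure (S.residueField s)))) := Over.mk (x.left ≫ Y.hom)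
    let x'' : Y'' ⟶ Y := Over.homMk x.left
    let p : (Over.map (Red.geomPt s)).obj Y'' ⟶ X' := Over.homMk (𝟙 X'.left) (by
      show 𝟙 _ ≫ X'.hom = (x.left ≫ Y.hom) ≫ Red.geomPt s
      rw [Category.id_comp, Category.assoc]
      exact (Over.w x).symm)
    haveI : IsIso p.left := inferInstanceAs (IsIso (𝟙 X'.left))
    haveI : Epi p := Over.epi_of_epi_left _
    have hp : (Over.map (Red.geomPt s)).map x'' = p ≫ x := Over.OverMorphism.ext (Category.id_comp _).symm
    have h1 := hg Y'' x'' (toBC _ (p ≫ h))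
    rw [← ha, ← toBC_naturality, ← toBC_mul, ← toBC_mul, hp] at h1
    have h2 := toBC_inj _ h1
    rw [← cancel_epi p, MonObj.comp_mul, MonObj.comp_mul]
    simpa only [Category.assoc] using h2

end Groth.Agent.RootBase
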