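import Groth.Agent.RootBase.Pinned

/-!
# The rank-two calculus of a pinning
-/

set_option autoImplicit false
set_option backward.isDefEq.respectTransparency false
set_option linter.style.haveILetI false
set_option maxHeartbeats 1000000
set_option synthInstance.maxHeartbeats 400000

universe u

open CategoryTheory Limits MonoidalCategory CartesianMonoidalCategory MonObj GrpObj AlgebraicGeometry LieS
open scoped CategoryTheory.Obj

noncomputable section

namespace Groth.Agent.RootBase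

open Groth.Agent.HomDiag Groth.Agent.DynPar Groth.Agent.RootSys Groth.Agent.MTBridge

variable {S : Scheme.{u}} {G : Over S} [GrpObj G]

theorem coroot_apply_root {idx M : Type} [AddCommGroup M] {P : RootPairing idx ℤ M (Module.Dual ℤ M)}
    (hP : P.toLinearMap = Module.Dual.eval ℤ M) (a b : idx) : P.coroot a (P.root b) = P.pairing b a := by
  rw [← P.root_coroot_eq_pairing, hP]; rfl

theorem coroot_refl_self {idx M : Type} [AddCommGroup M] (P : RootPairing idx ℤ M (Module.Dual ℤ M)) (a : idx) :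
    P.coroot (P.reflectionPerm a a) = -P.coroot a := by
  rw [P.coroot_reflectionPerm, P.coreflection_apply_self]

/-- The Weyl elements of a pinning. -/
theorem pinned_weyl (D : Red.Pinning G) (e₁ : 𝟙_ (Over S) ⟶ Red.Ga S) (he₁ : Red.gaFn e₁ = 1)
    (avc : D.idx → (Red.Gm S ⟶ D.T))
    (havc : ∀ a, avc a = Red.DSmap S (D.P.coroot a).toAddMonoidHom ≫ D.split.inv.hom.hom)
    (hpair : ∀ a ∈ D.base.support, ∀ (X : Over S) (x y : X ⟶ Red.Ga S), IsUnit (1 + Red.gaFn x * Red.gaFn y) →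
        ∃ (x' y' : X ⟶ Red.Ga S) (z : X ⟶ Red.Gm S), Red.gmFn z = 1 + Red.gaFn x * Red.gaFn y ∧
          Red.gaFn x' * Red.gmFn z = Red.gaFn x ∧ Red.gaFn y' * Red.gmFn z = Red.gaFn y ∧
          (x ≫ D.u a) * (y ≫ D.u (D.P.reflectionPerm a a)) =
            (y' ≫ D.u (D.P.reflectionPerm a a)) * (z ≫ avc a ≫ D.i) * (x' ≫ D.u a))
    (w : D.idx → (𝟙_ (Over S) ⟶ G))
    (hw : ∀ a, w a = (e₁ ≫ D.u a) * (e₁ ≫ D.u (D.P.reflectionPerm a a))⁻¹ * (e₁ ≫ D.u a)) :
    letI := D.grpT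
    letI := D.acgM
    letI := D.fintypeIdx
    letI := D.finiteM
    letI := D.freeM
    Frame (D.split.inv.hom.hom ≫ D.i) D.P.root D.u ∧ ∀ a ∈ D.base.support,
      IsWeyl (D.split.inv.hom.hom ≫ D.i) D.P D.u a (D.P.reflectionPerm a a) (w a) := by
  letI := D.grpT
  letI := D.acgM
  letI := D.fintypeIdx
  letI := D.finiteM
  letI := D.freeM
  have F : Frame (D.split.inv.hom.hom ≫ D.i) D.P.root D.u := frame_of_splitRed D.toSplitRed
  refine ⟨F, fun a ha => ?_⟩
  haveI := F.hc.1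
  let a' := D.P.reflectionPerm a a
  haveI := (F.hu a).1
  haveI := (F.hu a').1
  have hopp : D.P.root a' = -D.P.root a := root_opp D.P a
  have htwo : D.P.coroot a (D.P.root a) = 2 := by rw [coroot_apply_root D.pairing_eq, D.P.pairing_same]
  let c := D.split.inv.hom.hom ≫ D.i
  let av := Red.DSmap S (D.P.coroot a).toAddMonoidHom
  haveI : IsMonHom (Red.chi S (D.P.root a)) := MTQuot.isMonHom_DSmap _
  haveI : IsMonHom av := MTQuot.isMonHom_DSmap _
  have h2 : av ≫ Red.chi S (D.P.root a) = (𝟙 (Red.Gm S)) ^ 2 := gmFn_inj (by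
    rw [pow_two, gmFn_mul', RootIntrinsic.gmFn_chi, RootIntrinsic.gmFn_eq_ch, ← map_mul,
      show av = 𝟙 _ ≫ Red.DSmap S (D.P.coroot a).toAddMonoidHom from (Category.id_comp _).symm, ch_DSmap,
      toAdd_ofAdd, LinearMap.toAddMonoidHom_coe, htwo]
    rfl)
  have s : RedR1.Sys c (Red.chi S (D.P.root a)) (D.u a) (D.u a') av :=
    ⟨F.hc.1, inferInstance, (F.hu a).1, (F.hu a').1, inferInstance, h2, (F.hu a).2.2, fun X t y => by
      obtain ⟨y', hy, hy'⟩ := (F.hu a').2.2 X t y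
      refine ⟨y', hy, ?_⟩
      rw [hy', hopp, RootIntrinsic.gmFn_chi, RootIntrinsic.gmFn_chi, _root_.mul_right_comm, ← map_mul,
        ← ofAdd_add, neg_add_cancel]
      show (ch t) 1 * _ = _
      rw [map_one, _root_.one_mul], fun X x y hxy => by
      obtain ⟨x', y', z, h1, h2, h3, h4⟩ := hpair a ha X x y hxy
      exact ⟨x', y', z, h1, h2, h3, by rw [h4, havc]; simp only [c, av, Category.assoc]; rfl⟩⟩
  have he : e₁ = eOne (𝟙_ (Over S)) := BGaNotS.gaPt_ext (he₁.trans (BGaNotS.gaFn_gaPt _).symm)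
  have hwa : w a = (eOne _ ≫ D.u a) * (eC _ (-1) ≫ D.u a') * (eOne _ ≫ D.u a) := by
    rw [hw, he, ← @GrpObj.inv_comp _ _ _ _ _ _ _ _ (eOne (𝟙_ (Over S))) (D.u a') (F.hu a').1]
    congr 3
    refine BGaNotS.gaPt_ext ?_
    rw [gaFn_inv, eOne, eC, BGaNotS.gaFn_gaPt, BGaNotS.gaFn_gaPt, map_neg, map_one]
  have hwX : ∀ X : Over S, toUnit X ≫ w a = (s.calc' X).w 1 := fun X => by
    rw [hwa, MonObj.comp_mul, MonObj.comp_mul, ← Category.assoc, ← Category.assoc, eOne_comp, eC_comp]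
    refine s.calc'_w _ _ 1 ?_ ?_
    · rw [eOne, BGaNotS.gaFn_gaPt, Units.val_one]
    · rw [eC, BGaNotS.gaFn_gaPt, map_neg, map_one, inv_one, Units.val_one]
  refine ⟨F.hc.1, F.hu a, F.hu a', fun m => by rw [coroot_refl_self]; rfl, hopp, htwo, hwa,
    fun X x => ?_, fun X t => ?_, ?_⟩
  · rw [cj, hwX, s.calc'_P x rfl, s.w_conj_P, ← s.calc'_M x⁻¹]
    rw [gaFn_inv, inv_one, Units.val_one, _root_.mul_one, _root_.mul_one]
  · rw [cj, hwX, (s.calc' X).w_conj (a := RedR1.Sys.rt (Red.chi S (D.P.root a)) t) (fun b => s.conj_P t b)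
      (fun b => s.conj_M t b), refl, MonObj.mul_comp, GrpObj.inv_comp]
    congr 2
    simp only [Category.assoc]
    rw [← Category.assoc t (Red.chi S (D.P.root a))]
    exact (s.calc'_H (t ≫ Red.chi S (D.P.root a)) rfl).symm
  · have h := hwX (𝟙_ (Over S))
    rw [toUnit_unique (toUnit (𝟙_ (Over S))) (𝟙 _), Category.id_comp] at h
    rw [h, (s.calc' _).w_sq, cpt]
    exact (s.calc'_H gmNeg (v := -1) (by rw [gmNeg, GmPts.gmFn_ptOfUnit])).symm

variable {M : Type} [AddCommGroup M] [Module.Free ℤ M] [Module.Finite ℤ M] {c : Red.DS S M ⟶ G} {idx : Type}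
  [Fintype idx] {P : RootPairing idx ℤ M (Module.Dual ℤ M)} {u : idx → (Red.Ga S ⟶ G)}

/-- Replacing one root homomorphism. -/
theorem Frame.update (F : Frame c P.root u) [DecidableEq idx] (d : idx) {v : Red.Ga S ⟶ G}
    (hv : Red.IsRootHom c (Red.chi S (P.root d)) v) : Frame c P.root (Function.update u d v) :=
  ⟨F.hG, F.hc, F.inj, F.ne, fun a => by
    by_cases h : a = d
    · subst h; rwa [Function.update_self]
    · rw [Function.update_of_ne h]; exact F.hu a, F.hdim⟩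

/-- Replacing root homomorphisms at other roots. -/
theorem IsWeyl.congr {a a' : idx} {N : 𝟙_ (Over S) ⟶ G} (W : IsWeyl c P u a a' N) {u' : idx → (Red.Ga S ⟶ G)}
    (ha : u' a = u a) (ha' : u' a' = u a') : IsWeyl c P u' a a' N :=
  ⟨W.hc, ha ▸ W.hua, ha' ▸ W.hua', W.hcor, W.opp, W.two, by rw [ha, ha']; exact W.eq,
    fun X x => by rw [ha, ha']; exact W.pos X x, W.torus, W.sq⟩

/-- Roots whose sum is no root commute. -/
theorem Frame.commute [P.IsReduced] (F : Frame c P.root u) {a b : idx}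
    (hli : ∀ x y : ℤ, x • P.root a + y • P.root b = 0 → x = 0 ∧ y = 0)
    (hab : P.root a + P.root b ∉ Set.range P.root) {X : Over S} (x y : X ⟶ Red.Ga S) :
    (x ≫ u a) * (y ≫ u b) = (y ≫ u b) * (x ≫ u a) := by
  have h := F.word_eq_one hli hab x y
  rw [word] at h
  exact mul_inv_eq_iff_eq_mul.1 (inv_mul_eq_one.1 h).symm

/-- Exchanging two root elements. -/
theorem exchange {X : Over S} {va vb : Red.Ga S ⟶ G} [IsMonHom va] (x y : X ⟶ Red.Ga S) :
    (y ≫ vb) * (x ≫ va) = (x ≫ va) * (y ≫ vb) * word va vb x⁻¹ y := by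
  rw [word, GrpObj.inv_comp]; group

/-- **Conjugation of commutator formulas.** -/
theorem Formula.transport (F : Frame c P.root u) {a b fa fb : idx} {n : ℕ} {e fe : Fin n → idx} {i j : Fin n → ℕ}
    {C C' : Fin n → Γ(S, ⊤)} (hli : ∀ x y : ℤ, x • P.root fa + y • P.root fb = 0 → x = 0 ∧ y = 0)
    (hf : Formula P u a b e i j C) (hf' : Formula P u fa fb fe i j C') (N : 𝟙_ (Over S) ⟶ G)
    (sa sb : Γ(S, ⊤)) (se : Fin n → Γ(S, ⊤))
    (ha : ∀ (X : Over S) (x : X ⟶ Red.Ga S), cj N (x ≫ u a) = scl sa x ≫ u fa)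
    (hb : ∀ (X : Over S) (x : X ⟶ Red.Ga S), cj N (x ≫ u b) = scl sb x ≫ u fb)
    (he : ∀ k (X : Over S) (x : X ⟶ Red.Ga S), cj N (x ≫ u (e k)) = scl (se k) x ≫ u (fe k)) (k : Fin n) :
    C' k * sa ^ i k * sb ^ j k = C k * se k := by
  let U := 𝟙_ (Over S)
  let z : Fin n → (U ⟶ Red.Ga S) := fun k =>
    BGaNotS.gaPt (U.hom.appTop (C k) * Red.gaFn (eOne U) ^ i k * Red.gaFn (eOne U) ^ j k)
  let z' : Fin n → (U ⟶ Red.Ga S) := fun k =>
    BGaNotS.gaPt (U.hom.appTop (C' k) * Red.gaFn (scl sa (eOne U)) ^ i k * Red.gaFn (scl sb (eOne U)) ^ j k)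
  have h := congrArg (cj N) (hf.eq U (eOne U) (eOne U) z fun k => BGaNotS.gaFn_gaPt _)
  rw [cj_prod, word, cj_mul, cj_mul, cj_mul, cj_inv, cj_inv, ha, hb] at h
  rw [← word, hf'.eq U (scl sa (eOne U)) (scl sb (eOne U)) z' fun k => BGaNotS.gaFn_gaPt _] at h
  simp only [he] at h
  obtain ⟨mu, hma, hmb⟩ := exists_pos_indep P hli
  have h2 := F.prod_inj mu fe hf'.inj (fun l => by
    obtain ⟨hi, hj, hl⟩ := hf'.hij l
    rw [hl, map_add, map_zsmul, map_zsmul, smul_eq_mul, smul_eq_mul]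
    have h1 : (1 : ℤ) ≤ i l := by omega
    have h2 : (1 : ℤ) ≤ j l := by omega
    nlinarith) _ _ h
  have h3 := congrArg Red.gaFn (congrFun h2 k)
  simp only [z, z', U, eOne, gaFn_scl, BGaNotS.gaFn_gaPt, one_pow, _root_.mul_one, appTop_unit] at h3
  linear_combination h3

theorem pairing_root_combo {a b d : idx} {p q : ℤ} (h : P.root d = p • P.root a + q • P.root b) (e : idx) :
    P.pairing d e = p * P.pairing a e + q * P.pairing b e := by
  rw [← P.root_coroot_eq_pairing, h]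
  simp [RootPairing.root_coroot_eq_pairing]

/-- A simple difference is no root, and two simple roots are independent. -/
theorem simple_pair (B : P.Base) {a b : idx} (ha : a ∈ B.support) (hb : b ∈ B.support) (hne : a ≠ b) :
    (∀ x y : ℤ, x • P.root a + y • P.root b = 0 → x = 0 ∧ y = 0) ∧
      P.root b - P.root a ∉ Set.range P.root ∧ P.root a - P.root b ∉ Set.range P.root := by
  refine ⟨fun x y h => ?_, B.sub_notMem_range_root hb ha, B.sub_notMem_range_root ha hb⟩
  have hl := (B.linearIndepOn_root.mono (Set.pair_subset ha hb : ({a, b} : Set idx) ⊆ B.support))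
  exact LinearIndependent.pair_iff.1 ((LinearIndepOn.pair_iff _ hne).1 hl |> fun h' => LinearIndependent.pair_iff.2 h') x y h

/-- The positive roots in the plane of two simple roots. -/
theorem combos [P.IsReduced] {a b : idx} (hli : ∀ x y : ℤ, x • P.root a + y • P.root b = 0 → x = 0 ∧ y = 0)
    (hbot : P.root b - P.root a ∉ Set.range P.root) {k : ℤ} (hk : k = 0 ∨ k = -1 ∨ k = -2 ∨ k = -3)
    (hba : P.pairing b a = k) (hab : P.pairing a b = max k (-1)) {d : idx} {i j : ℕ} (hi : 1 ≤ i) (hj : 1 ≤ j)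
    (hd : P.root d = (i : ℤ) • P.root a + (j : ℤ) • P.root b) :
    ((j : ℤ) = 1 ∧ (i : ℤ) ≤ -k) ∨ ((i = 3 ∧ j = 2) ∧ k = -3) := by
  obtain ⟨h1, h2, h3, h4⟩ := plane_bound P hd
  rw [hba, hab] at h3 h4
  rw [hba] at h1
  rw [hab] at h2
  rw [abs_le] at h1 h2 h3 h4
  obtain ⟨p, q, hpq, -, htop, hbot'⟩ := exists_chain P hli
  have hp : p = 0 := by
    by_contra h
    obtain ⟨e, he⟩ := (hbot' 1).2 (by omega)
    exact hbot ⟨e, by rw [he]; module⟩
  have hup : ∀ m : ℕ, (m : ℤ) ≤ -k → ∃ e, P.root e = (m : ℤ) • P.root a + P.root b := fun m hm =>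
    (htop m).2 (by omega)
  have hmul : ∀ (m : ℕ) (q : ℤ), (m : ℤ) ≤ -k → 2 ≤ q → (i : ℤ) = q * m → (j : ℤ) = q → False := fun m q hm hq hi' hj' => by
    obtain ⟨e, he⟩ := hup m hm
    exact not_multiple P hq (show P.root d = q • P.root e by rw [hd, he, hi', hj']; module)
  obtain ⟨p', q', hpq', -, htop', hbot''⟩ := exists_chain P (li_symm P hli)
  have hp' : p' = 0 := by
    by_contra h
    obtain ⟨e, he⟩ := (hbot'' 1).2 (by omega)
    exact hbot (by
      rw [← neg_sub]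
      exact P.neg_mem_range_root_iff.2 ⟨e, by rw [he]; module⟩)
  have hone : i = 1 → (j : ℤ) ≤ -P.pairing a b := fun h => by
    have := (htop' j).1 ⟨d, by rw [hd, h, Nat.cast_one, one_smul, add_comm]⟩
    omega
  rcases hk with rfl | rfl | rfl | rfl <;> norm_num at h1 h2 h3 h4 hab <;> rw [hab] at hone
  all_goals
    by_cases hj1 : j = 1
    · subst hj1
      left
      have := (htop i).1 ⟨d, by rw [hd, Nat.cast_one, one_smul]⟩
      omega
    have hj2 : 2 ≤ j := by omega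
    by_cases hm1 : i = j
    · first
        | omega
        | exact (hmul 1 j (by norm_num) (by omega) (by omega) rfl).elim
    by_cases hm2 : i = 2 * j
    · rcases Classical.em ((2 : ℤ) ≤ -(P.pairing b a)) with h | h
      · rw [hba] at h; exact (hmul 2 j (by omega) (by omega) (by omega) rfl).elim
      · rw [hba] at h; omega
    omega

end Groth.Agent.RootBase
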