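import Groth.Agent.RootBase.Main
import Groth.Agent.RootIntrinsic.Transfer
import Groth.Agent.Chev.MaxTori
import Groth.Agent.Chev.NonAffTori

/-!
# Base change of a splitting; uniqueness of the root datum over an algebraically closed field
-/

set_option autoImplicit false
set_option backward.isDefEq.respectTransparency false
set_option linter.style.haveILetI false
set_option maxHeartbeats 1000000
set_option synthInstance.maxHeartbeats 400000

universe u

open CategoryTheory Limits MonoidalCategory CartesianMonoidalCategory MonObj GrpObj AlgebraicGeometry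
open scoped CategoryTheory.Obj

noncomputable section

namespace Groth.Agent.RootBase

open Groth.Agent.HomDiag Groth.Agent.MTBridge
open Groth.Agent.DynPar (bcHom' ej ejPt isReductive_bc isMonHom_bcHom' isMonHom_ej comp_ej bcHom'_DSmap)

variable {S S' : Scheme.{u}} {G : Over S} [GrpObj G]

/-- A splitting changes base, with the same root datum. -/
theorem exists_bc (D : Red.SplitRed G) (j : S' ⟶ S) :
    ∃ D' : Red.SplitRed (Red.bc j G), Nonempty (RootPairing.Equiv D'.P D.P) := by
  letI := D.grpT; letI := D.acgM; letI := D.fintypeIdx; letI := D.finiteM; letI := D.freeM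
  haveI := D.reductive.1
  haveI := D.reductive.2.1
  haveI := DynPar.isIso_ej j D.M
  haveI : IsMonHom (ej j D.M) := isMonHom_ej j
  let c := D.split.inv.hom.hom ≫ D.i
  have hinv : D.split.inv.hom.hom ≫ D.split.hom.hom.hom = 𝟙 _ := congrArg (fun z => z.hom.hom) D.split.inv_hom_id
  let E : Grp.mk (Red.bc j D.T) ≅ Grp.mk (Red.DS S' D.M) := bcMapIso j D.split ≪≫ (grpIso (ej j D.M)).symm
  have hE : E.inv.hom.hom ≫ (Over.pullback j).map D.i = bcHom' j c := by
    rw [bcHom', show c = D.split.inv.hom.hom ≫ D.i from rfl, Functor.map_comp]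
    exact Category.assoc _ _ _
  have hEi : E.hom.hom.hom ≫ E.inv.hom.hom = 𝟙 _ := congrArg (fun a => a.hom.hom) E.hom_inv_id
  have hu : ∀ a, Red.IsRootHom c (Red.chi S (D.P.root a)) (D.u a) := fun a => by
    obtain ⟨h1, h2, h3⟩ := D.rootHom a
    refine ⟨h1, h2, fun X t x => ?_⟩
    obtain ⟨y, hy, hy'⟩ := h3 X (t ≫ D.split.inv.hom.hom) x
    simp only [Category.assoc] at hy
    rw [Category.assoc, reassoc_of% hinv] at hy'
    exact ⟨y, hy, hy'⟩
  refine ⟨{ T := Red.bc j D.T, i := (Over.pullback j).map D.i, M := D.M, idx := D.idx, P := D.P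
            pairing_eq := D.pairing_eq, u := fun a => RootSys.bcGa j (D.u a)
            reductive := isReductive_bc j D.reductive
            maximalTorus := Chev.MaxTorusBC.isMaximalTorus_bc D.i D.maximalTorus j, split := E
            rootHom := fun a => ⟨(RootSys.isRootHom_bc j (hu a)).1, (RootSys.isRootHom_bc j (hu a)).2.1, fun X t x => ?_⟩
            refl := fun a => ?_
            dim_fibre := fun x => ?_ }, ⟨RootPairing.Equiv.id D.P⟩⟩
  · obtain ⟨y, hy, hy'⟩ := (RootSys.isRootHom_bc j (hu a)).2.2 X (t ≫ E.hom.hom.hom) x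
    rw [← hE, Category.assoc, ← Category.assoc E.hom.hom.hom, hEi, Category.id_comp] at hy
    rw [Category.assoc] at hy'
    exact ⟨y, hy, hy'⟩
  · obtain ⟨n, hn⟩ := D.refl a
    refine ⟨toBC j (toUnit _ ≫ n), fun X t => ?_⟩
    have h1 : toUnit X ≫ toBC j (toUnit _ ≫ n) = toBC j (toUnit ((Over.map j).obj X) ≫ n) := by
      rw [comp_toBC, ← Category.assoc, comp_toUnit]
    have h2 : ∀ d : Red.DS S D.M ⟶ G, (t ≫ E.hom.hom.hom) ≫ bcHom' j d =
        toBC j (((Over.map j).map (t ≫ E.hom.hom.hom) ≫ ejPt j D.M) ≫ d) := fun d => by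
      rw [bcHom', ← Category.assoc, comp_ej, ← toBC_comp]
    have hinv' : ∀ z : (Over.map j).obj X ⟶ G, toBC j z⁻¹ = (toBC j z)⁻¹ := fun z =>
      map_inv (MonoidHom.mk' (fun z : (Over.map j).obj X ⟶ G => toBC j z) (toBC_mul j)) z
    have ht : t ≫ (Over.pullback j).map D.i = (t ≫ E.hom.hom.hom) ≫ bcHom' j c := by
      rw [← hE, Category.assoc, ← Category.assoc E.hom.hom.hom, hEi, Category.id_comp]
    have hn' := hn _ (((Over.map j).map (t ≫ E.hom.hom.hom) ≫ ejPt j D.M) ≫ D.split.inv.hom.hom)
    simp only [Category.assoc, reassoc_of% hinv] at hn'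
    rw [h1, ht, hE, ← bcHom'_DSmap, ← Category.assoc t, h2, h2, ← toBC_mul, ← hinv', ← toBC_mul]
    simp only [c, Category.assoc]
    exact congrArg _ hn'
  · rw [← D.dim_fibre (j x)]
    refine (IsHomeomorph.topologicalKrullDim_eq _ (Scheme.homeoOfIso
        ((Over.forget _).mapIso ((Over.pullbackComp (Red.geomPt x) j).app G).symm)).isHomeomorph).trans ?_
    show topologicalKrullDim ↥(Red.bc (Red.geomPt x ≫ j) G).left = _
    rw [MTImage.dim_bc_point, MTImage.dim_geomFibre, Scheme.Hom.comp_apply, MTImage.geomPt_closedPoint]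

/-- Over an algebraically closed field the root datum of a splitting is unique. -/
theorem nonempty_equiv_of_algClosed {k : Type u} [Field k] [IsAlgClosed k] {G : Over (Spec (CommRingCat.of k))}
    [GrpObj G] (D D' : Red.SplitRed G) : Nonempty (RootPairing.Equiv D.P D'.P) := by
  letI := D.grpT; letI := D'.grpT
  have hG := D.reductive
  haveI : IsAffineHom G.hom := hG.1
  haveI : IsAffine G.left := isAffine_of_isAffineHom G.hom
  haveI : Smooth G.hom := hG.2.1
  haveI : ConnectedSpace G.left := by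
    haveI := Rigid.geometricallyConnected_of_geomFibre G fun s => (hG.2.2 s).2.2.1
    exact GeometricallyConnected.geometrically_connectedSpace (f := G.hom) (𝟙 (Spec (CommRingCat.of k))) (𝟙 G.left)
      G.hom (IsPullback.id_horiz G.hom)
  have key : ∀ (A B : Red.SplitRed G), ∃ g : 𝟙_ (Over (Spec (CommRingCat.of k))) ⟶ G,
      ∀ (X : Over (Spec (CommRingCat.of k))) (t : X ⟶ A.T), ∃ t' : X ⟶ B.T,
        (toUnit X ≫ g) * (t ≫ A.i) * (toUnit X ≫ g)⁻¹ = t' ≫ B.i := fun A B => by
    letI := A.grpT; letI := B.grpT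
    obtain ⟨g, f, -, hf⟩ := Chev.Borel.maxTorus_conj (G := G) A.i B.i
      (Chev.Borel.isMaxTorus_of_isMaximalTorus _ A.maximalTorus) (Chev.Borel.isMaxTorus_of_isMaximalTorus _ B.maximalTorus)
    refine ⟨g, fun X t => ⟨t ≫ f.hom, ?_⟩⟩
    rw [Category.assoc, hf, AGF.conjBy, MonObj.comp_mul, MonObj.comp_mul, GrpObj.comp_inv, ← Category.assoc,
      comp_toUnit]
  obtain ⟨g, hg⟩ := key D D'
  obtain ⟨g', hg'⟩ := key D' D
  exact RootIntrinsic.nonempty_equiv D D' g g' hg hg'

end Groth.Agent.RootBase
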