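import Groth.Agent.RedR1.Gen

/-!
# An open neighbourhood of the unit generates a reductive group
-/

set_option autoImplicit false
set_option linter.style.haveILetI false

universe u

open CategoryTheory MonoidalCategory CartesianMonoidalCategory MonObj GrpObj AlgebraicGeometry

noncomputable section

namespace Groth.Agent.RootBase

variable {S : Scheme.{u}} {G Ω : Over S} [GrpObj G]

omit [GrpObj G] in
theorem exists_fac_iff_range (j : Ω ⟶ G) [IsOpenImmersion j.left] {X : Over S} (g : X ⟶ G) :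
    (∃ a : X ⟶ Ω, a ≫ j = g) ↔ Set.range g.left ⊆ Set.range j.left := by
  constructor
  · rintro ⟨a, rfl⟩
    rw [Over.comp_left]
    rintro _ ⟨p, rfl⟩
    exact ⟨a.left p, rfl⟩
  · intro h
    refine ⟨Over.homMk (IsOpenImmersion.lift j.left g.left h) ?_, ?_⟩
    · rw [← Over.w j, ← Category.assoc, IsOpenImmersion.lift_fac]; exact Over.w g
    · exact Over.OverMorphism.ext (IsOpenImmersion.lift_fac _ _ _)

set_option backward.isDefEq.respectTransparency false in
/-- Finitely many points of a reductive group are translated into an open neighbourhood of the unit,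
after a flat surjective cover. -/
theorem exists_translate_open (hG : Red.IsReductive G) (j : Ω ⟶ G) [IsOpenImmersion j.left]
    (e : 𝟙_ (Over S) ⟶ Ω) (he : e ≫ j = 1) {X : Over S} {n : ℕ} (g : Fin n → (X ⟶ G)) :
    ∃ (X' : Over S) (f : X' ⟶ X) (c : X' ⟶ Ω), Flat f.left ∧ Surjective f.left ∧
      LocallyOfFinitePresentation f.left ∧ ∀ k, ∃ d : X' ⟶ Ω, d ≫ j = (c ≫ j) * (f ≫ g k) := by
  haveI := hG.2.1
  haveI := RedR1.geometricallyIrreducible_of_isReductive hG
  haveI : Smooth (fst X G).left := inferInstanceAs (Smooth (Limits.pullback.fst X.hom G.hom))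
  haveI : GeometricallyIrreducible (fst X G).left :=
    inferInstanceAs (GeometricallyIrreducible (Limits.pullback.fst X.hom G.hom))
  let V : (X ⊗ G).left.Opens := (snd X G).left ⁻¹ᵁ j.left.opensRange
  let h : Option (Fin n) → (X ⟶ G) := fun o => o.elim 1 g
  let W : (X ⊗ G).left.Opens := ⨅ o, (RedR1.transl (h o)).left ⁻¹ᵁ V
  let X' : Over S := Over.mk (W.ι ≫ (X ⊗ G).hom)
  let w : X' ⟶ X ⊗ G := Over.homMk W.ι
  have hmem : ∀ p, p ∈ W ↔ ∀ o, (RedR1.transl (h o)).left p ∈ V := fun p => by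
    rw [← SetLike.mem_coe, TopologicalSpace.Opens.coe_iInf, Set.mem_iInter]; rfl
  have hin : ∀ o, ∃ d : X' ⟶ Ω, d ≫ j = w ≫ RedR1.transl (h o) ≫ snd X G := fun o => by
    rw [exists_fac_iff_range]
    rintro _ ⟨p, rfl⟩
    exact (hmem _).1 p.2 o
  obtain ⟨c, hc⟩ := hin none
  simp only [h, Option.elim, RedR1.transl_one, Category.id_comp] at hc
  refine ⟨X', w ≫ fst X G, c, ?_, ?_, ?_, fun k => ?_⟩
  · exact inferInstanceAs (Flat (W.ι ≫ (fst X G).left))
  · refine ⟨fun p => ?_⟩
    have key : ∃ q : (X ⊗ G).left, (fst X G).left q = p ∧ q ∈ W := by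
      let F : Set (X ⊗ G).left := (fst X G).left ⁻¹' {p}
      have hF : IsPreirreducible F := by
        have e := Scheme.Hom.range_fiberι (fst X G).left p
        rw [show F = Set.range ((fst X G).left.fiberι p) from e.symm]
        exact (IrreducibleSpace.isIrreducible_univ _).2.image _ (Scheme.Hom.continuous _).continuousOn |> fun h => by
          rwa [Set.image_univ] at h
      have hne : ∀ o, (F ∩ ((RedR1.transl (h o)).left ⁻¹' (V : Set (X ⊗ G).left))).Nonempty := fun o => by
        let q0 := (lift (𝟙 X) (1 : X ⟶ G) ≫ RedR1.transl (h o)⁻¹).left p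
        have e1 : (lift (𝟙 X) (1 : X ⟶ G) ≫ RedR1.transl (h o)⁻¹) ≫ fst X G = 𝟙 X := by simp [RedR1.transl]
        have e2 : (lift (𝟙 X) (1 : X ⟶ G) ≫ RedR1.transl (h o)⁻¹) ≫ RedR1.transl (h o) ≫ snd X G = 1 := by
          rw [Category.assoc, ← Category.assoc (RedR1.transl (h o)⁻¹), RedR1.transl_transl, inv_mul_cancel,
            RedR1.transl_one]
          simp
        refine ⟨q0, congrArg (fun f : X ⟶ X => f.left p) e1, ?_⟩
        have h1 : ∃ a : X ⟶ Ω, a ≫ j = 1 := ⟨toUnit X ≫ e, by rw [Category.assoc, he, MonObj.comp_one]⟩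
        rw [exists_fac_iff_range, ← e2] at h1
        exact h1 ⟨p, rfl⟩
      classical
      have : ∀ s : Finset (Option (Fin n)),
          (F ∩ ⋂ o ∈ s, (RedR1.transl (h o)).left ⁻¹' (V : Set (X ⊗ G).left)).Nonempty := by
        intro s
        induction s using Finset.induction with
        | empty => obtain ⟨q, hq, -⟩ := hne none; exact ⟨q, hq, by simp⟩
        | insert o s _ ih =>
          rw [Finset.set_biInter_insert]
          exact hF _ _ (((V.isOpen).preimage (Scheme.Hom.continuous _)))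
            (isOpen_biInter_finset fun o _ => (V.isOpen).preimage (Scheme.Hom.continuous _)) (hne o) ih
      obtain ⟨q, hq, hq'⟩ := this Finset.univ
      exact ⟨q, hq, (hmem q).2 fun o => Set.mem_iInter₂.1 hq' o (Finset.mem_univ o)⟩
    obtain ⟨q, hq, hqW⟩ := key
    exact ⟨⟨q, hqW⟩, hq⟩
  · exact inferInstanceAs (LocallyOfFinitePresentation (W.ι ≫ (fst X G).left))
  · obtain ⟨d, hd⟩ := hin (some k)
    exact ⟨d, by simpa [h, RedR1.transl, MonObj.comp_mul, hc] using hd⟩

/-- **Homomorphisms which agree on an open neighbourhood of the unit are equal.** -/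
theorem hom_ext_open (hG : Red.IsReductive G) (j : Ω ⟶ G) [IsOpenImmersion j.left]
    (e : 𝟙_ (Over S) ⟶ Ω) (he : e ≫ j = 1) {H : Over S} [GrpObj H] (f g : G ⟶ H) [IsMonHom f] [IsMonHom g]
    (h : j ≫ f = j ≫ g) : f = g := by
  obtain ⟨X', a, c, hf, hs, -, hd⟩ := exists_translate_open hG j e he ![𝟙 G]
  haveI := RedR1.epi_of_flat_surjective a
  obtain ⟨d, hd⟩ := hd 0
  change d ≫ j = (c ≫ j) * (a ≫ 𝟙 G) at hd
  rw [Category.comp_id] at hd
  have ha : a = (c ≫ j)⁻¹ * (d ≫ j) := by rw [hd, inv_mul_cancel_left]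
  rw [← cancel_epi a, ha, MonObj.mul_comp, MonObj.mul_comp, GrpObj.inv_comp, GrpObj.inv_comp]
  simp only [Category.assoc, h]

end Groth.Agent.RootBase
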