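import Groth.Agent.RootBase.Closed
import Groth.Agent.RedR1.GaSpace
import Groth.Agent.MTImage.RootScheme
import Groth.Agent.DynPar.Geom

/-!
# The subgroup scheme of a closed set of positive roots
-/

set_option autoImplicit false
set_option backward.isDefEq.respectTransparency false
set_option linter.style.haveILetI false
set_option maxHeartbeats 1000000
set_option synthInstance.maxHeartbeats 400000

universe u

open CategoryTheory Limits MonoidalCategory CartesianMonoidalCategory MonObj GrpObj AlgebraicGeometry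
open scoped CategoryTheory.Obj

noncomputable section

namespace Groth.Agent.RootBase

open Groth.Agent.HomDiag Groth.Agent.DynPar

theorem smooth_affineLine (S : Scheme.{u}) : Smooth (𝔸(PUnit.{u + 1}; S) ↘ S) := by
  refine MorphismProperty.pullback_fst (P := @Smooth) _ _ ?_
  let σ := PUnit.{u + 1}
  have hs : Smooth (Spec.map (CommRingCat.ofHom (MvPolynomial.C (σ := σ) (R := ULift.{u} ℤ)))) := by
    rw [HasRingHomProperty.Spec_iff (P := @Smooth)]
    exact RingHom.smooth_algebraMap.2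
      (show Algebra.Smooth (ULift.{u} ℤ) (MvPolynomial σ (ULift.{u} ℤ)) from ⟨inferInstance, inferInstance⟩)
  rw [Limits.IsTerminal.hom_ext Limits.terminalIsTerminal (Limits.terminal.from _)
    (Spec.map (CommRingCat.ofHom (MvPolynomial.C (σ := σ) (R := ULift.{u} ℤ))) ≫
      (specULiftZIsTerminal.uniqueUpToIso Limits.terminalIsTerminal).hom)]
  infer_instance

theorem smooth_Ga (S : Scheme.{u}) : Smooth (Red.Ga S).hom := by
  haveI := smooth_affineLine S
  rw [← Over.w (RedR1.gaIso S).inv]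
  haveI : IsIso (RedR1.gaIso S).inv.left := inferInstanceAs (IsIso ((Over.forget _).map (RedR1.gaIso S).inv))
  show Smooth (_ ≫ (𝔸(PUnit.{u + 1}; S) ↘ S))
  infer_instance

theorem smooth_powGa (S : Scheme.{u}) : ∀ n : ℕ, Smooth (RedSub.pow (Red.Ga S) n).hom
  | 0 => inferInstanceAs (Smooth (𝟙 S))
  | n + 1 => by
    haveI := smooth_Ga S
    haveI := smooth_powGa S n
    exact MTImage.smooth_tensor (Red.Ga S) (RedSub.pow (Red.Ga S) n)

theorem isAffineHom_Ga (S : Scheme.{u}) : IsAffineHom (Red.Ga S).hom := by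
  haveI : IsAffineHom Red.GaZ.{u}.hom := by
    show IsAffineHom (Spec.map _)
    infer_instance
  show IsAffineHom (pullback.snd _ _)
  exact MorphismProperty.pullback_snd _ _ inferInstance

theorem isSeparated_powGa (S : Scheme.{u}) : ∀ n : ℕ, IsAffineHom (RedSub.pow (Red.Ga S) n).hom
  | 0 => inferInstanceAs (IsAffineHom (𝟙 S))
  | n + 1 => by
    haveI := isAffineHom_Ga S
    haveI := isSeparated_powGa S n
    haveI : IsAffineHom (pullback.fst (Red.Ga S).hom (RedSub.pow (Red.Ga S) n).hom) :=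
      MorphismProperty.pullback_fst (P := @IsAffineHom) _ _ inferInstance
    show IsAffineHom (pullback.fst (Red.Ga S).hom (RedSub.pow (Red.Ga S) n).hom ≫ (Red.Ga S).hom)
    infer_instance

variable {S : Scheme.{u}} [Nonempty S] {G : Over S} [GrpObj G] {M : Type} [AddCommGroup M] [Module.Free ℤ M]
  [Module.Finite ℤ M] {c : Red.DS S M ⟶ G} {idx : Type} [Fintype idx]
  {P : RootPairing idx ℤ M (Module.Dual ℤ M)} {u : idx → (Red.Ga S ⟶ G)}

/-- **The subgroup scheme of a closed set of positive roots.** -/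
theorem Frame.exists_UPsi (F : Frame c P.root u) {Ψ : Set idx} (hcl : RootD.IsClosedSub P Ψ) (mu : M →+ ℤ)
    (hmu : ∀ a ∈ Ψ, 0 < mu (P.root a)) :
    ∃ (U : Over S) (_ : GrpObj U) (v : U ⟶ G), IsMonHom v ∧ IsClosedImmersion v.left ∧ Smooth U.hom ∧
      (∀ s : S, ConnectedSpace (Red.geomFibre s U).left ∧
        Red.HasNoSubtorus (AlgebraicClosure (S.residueField s)) (Red.geomFibre s U)) ∧
      (∀ (X : Over S) (t : X ⟶ Red.DS S M) (x : X ⟶ U), ∃ x' : X ⟶ U, (t ≫ c) * (x ≫ v) * (t ≫ c)⁻¹ = x' ≫ v) ∧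
      (∀ (X : Over S) (g : X ⟶ G), (∃ x : X ⟶ U, x ≫ v = g) ↔ g ∈ Gam u Ψ X) ∧
      ∀ {m : ℕ} (e : Fin m → idx), RedSub.Enumerates Ψ e →
        ∃ ψ : RedSub.pow (Red.Ga S) m ≅ U, ψ.hom ≫ v = RedSub.prodMap (Red.Ga S) m (fun k => u (e k)) := by
  classical
  haveI := F.hG.1
  haveI := F.hG.2.1
  haveI := F.hc.1
  obtain ⟨n, r₀, -, he⟩ := exists_extend Ψ (Fin.elim0 : Fin 0 → idx) (fun x => x.elim0) fun k => k.elim0
  obtain ⟨l, r, -, hr⟩ := exists_extend {a | 0 < mu (P.root a)} (Fin.append Fin.elim0 r₀) he.1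
    fun k => hmu _ (he.2.subset ⟨k, rfl⟩)
  generalize Fin.append (Fin.elim0 : Fin 0 → idx) r₀ = e at he hr
  generalize 0 + n = p at e he hr
  obtain ⟨U₀, _, uU, hU⟩ := exists_isU (G := G) (Red.DSmap S mu ≫ c)
  obtain ⟨φ, hφ⟩ := F.exists_iso_isU mu _ hr hU
  haveI := hU.1
  haveI := hU.2.1
  -- the inclusion
  obtain ⟨ι₁, hι, hι'⟩ := exists_pow_prod (G := G) (fun k => u (Fin.append e r k))
    (X := RedSub.pow (Red.Ga S) p) (Fin.append (fun k => proj S p k) fun _ => 1)
  obtain ⟨ret, hret⟩ := exists_pow (X := RedSub.pow (Red.Ga S) (p + l)) fun k : Fin p =>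
    proj S (p + l) (Fin.castAdd l k)
  have hir : ι₁ ≫ ret = 𝟙 _ := pow_ext fun k => by
    rw [Category.assoc, hret, hι, Fin.append_left, Category.id_comp]
  let v : RedSub.pow (Red.Ga S) p ⟶ G := ι₁ ≫ φ.hom ≫ uU
  have hv : v = RedSub.prodMap (Red.Ga S) p fun k => u (e k) := by
    show ι₁ ≫ φ.hom ≫ uU = _
    rw [hφ, hι', prod_append_one u (fun a => (F.hu a).1)]
    conv_rhs => rw [← Category.id_comp (RedSub.prodMap _ _ _), comp_prodMap_eq]
    simp only [Category.id_comp]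
  haveI : IsClosedImmersion ι₁.left := by
    haveI : IsClosedImmersion (ι₁.left ≫ ret.left) := by
      rw [← Over.comp_left, hir]
      infer_instance
    haveI := isSeparated_powGa S (p + l)
    haveI : IsSeparated (ret.left ≫ (RedSub.pow (Red.Ga S) p).hom) := by rw [Over.w ret]; infer_instance
    haveI : IsSeparated ret.left := IsSeparated.of_comp ret.left (RedSub.pow (Red.Ga S) p).hom
    exact IsClosedImmersion.of_comp ι₁.left ret.left
  haveI : IsIso φ.hom.left := inferInstanceAs (IsIso ((Over.forget _).map φ.hom))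
  have hvc : IsClosedImmersion v.left := by
    show IsClosedImmersion (ι₁ ≫ φ.hom ≫ uU).left
    rw [Over.comp_left, Over.comp_left]
    infer_instance
  haveI := hvc
  haveI : Mono uU := Over.mono_of_mono_left _
  haveI : Mono v := Over.mono_of_mono_left _
  have hpt : ∀ (X : Over S) (g : X ⟶ G), (∃ x : X ⟶ RedSub.pow (Red.Ga S) p, x ≫ v = g) ↔ g ∈ Gam u Ψ X := by
    intro X g
    rw [hv]
    constructor
    · rintro ⟨x, rfl⟩
      rw [comp_prodMap_eq]
      exact prod_mem_Gam (fun k => he.2.subset ⟨k, rfl⟩) _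
    · intro hg
      obtain ⟨z, hz⟩ := F.exists_coord hcl mu hmu e he hg
      obtain ⟨x, -, hx⟩ := exists_pow_prod (fun k => u (e k)) z
      exact ⟨x, hx.trans hz⟩
  obtain ⟨e0, he0⟩ := (hpt (𝟙_ (Over S)) 1).2 (one_mem _)
  obtain ⟨hgrp, hvm⟩ := MTBridge.exists_grpObj_of_div v ⟨e0, he0.trans (by
      rw [Hom.one_def, show toUnit (𝟙_ (Over S)) = 𝟙 _ from toUnit_unique _ _, Category.id_comp])⟩
    fun T k₁ k₂ => (hpt T _).2 (mul_mem (inv_mem ((hpt T _).1 ⟨k₁, rfl⟩)) ((hpt T _).1 ⟨k₂, rfl⟩))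
  letI := hgrp
  refine ⟨RedSub.pow (Red.Ga S) p, hgrp, v, hvm, hvc, smooth_powGa S p, fun s => ?_, fun X t x => ?_, hpt,
    fun {m} e' he' => ?_⟩
  · -- the fibres
    obtain ⟨P', _, q, hP⟩ := exists_isP (G := G) (Red.DSmap S mu ≫ c)
    obtain ⟨Z, _, z, hz, -, -⟩ := exists_centralizer_DS (G := G) inferInstance inferInstance (Red.DSmap S mu ≫ c)
    haveI := hP.1
    obtain ⟨-, hUc, -, hUn⟩ := DynPar.geom_fibre (G := G) inferInstance (fun t => (F.hG.2.2 t).2.2.1) hP hU hz s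
    let τ := Red.geomPt s
    let j : RedSub.pow (Red.Ga S) p ⟶ U₀ := ι₁ ≫ φ.hom
    haveI : IsMonHom j := MTSplit.isMonHom_of_comp_mono j uU v (Category.assoc _ _ _)
    refine ⟨?_, fun T _ g _ _ hT => ?_⟩
    · haveI : ConnectedSpace (Red.geomFibre s U₀).left := hUc
      refine DynPar.connectedSpace_of_retract ((Over.pullback τ).map j) ((Over.pullback τ).map (φ.inv ≫ ret)) ?_
      rw [← Functor.map_comp, show j ≫ φ.inv ≫ ret = 𝟙 _ by
        simp only [j, Category.assoc, Iso.hom_inv_id_assoc, hir], CategoryTheory.Functor.map_id]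
    · haveI : Limits.PreservesLimitsOfShape Limits.WalkingCospan (Over.pullback τ) :=
        (Adjunction.rightAdjoint_preservesLimits (Over.mapPullbackAdj τ)).preservesLimitsOfShape
      haveI : Mono j := by
        haveI : Mono (j ≫ uU) := by rw [Category.assoc]; exact ‹Mono v›
        exact mono_of_mono j uU
      exact hUn T (g ≫ (Over.pullback τ).map j) hT
  · obtain ⟨z, hz⟩ : ∃ z : Fin p → (X ⟶ Red.Ga S),
        (List.ofFn fun k => z k ≫ u (e k)).prod = x ≫ v :=
      ⟨fun k => x ≫ proj S p k, by rw [hv, comp_prodMap_eq]⟩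
    obtain ⟨x', hx'⟩ := (hpt X ((t ≫ c) * (x ≫ v) * (t ≫ c)⁻¹)).2 (by
      rw [← hz, conj_ofFn_prod]
      choose z' hz1 _hz2 using fun k => (F.hu (e k)).2.2 X t (z k)
      rw [show (List.ofFn fun k => (t ≫ c) * (z k ≫ u (e k)) * (t ≫ c)⁻¹) = List.ofFn fun k => z' k ≫ u (e k) from
        congrArg List.ofFn (funext fun k => (hz1 k).symm)]
      exact prod_mem_Gam (fun k => he.2.subset ⟨k, rfl⟩) _)
    exact ⟨x', hx'.symm⟩
  · -- another enumeration
    have heΨ : ∀ k, e' k ∈ Ψ := fun k => he'.2.subset ⟨k, rfl⟩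
    let w := RedSub.prodMap (Red.Ga S) m fun k => u (e' k)
    obtain ⟨f, hf⟩ := (hpt _ w).2 (by
      rw [show w = 𝟙 _ ≫ RedSub.prodMap (Red.Ga S) m (fun k => u (e' k)) from (Category.id_comp _).symm,
        comp_prodMap_eq]
      exact prod_mem_Gam heΨ _)
    obtain ⟨z, hz⟩ := F.exists_coord hcl mu hmu e' he' ((hpt _ v).1 ⟨𝟙 _, Category.id_comp v⟩)
    obtain ⟨f', -, hf'⟩ := exists_pow_prod (fun k => u (e' k)) z
    have hf'' : f' ≫ w = v := hf'.trans hz
    refine ⟨⟨f, f', ?_, ?_⟩, hf⟩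
    · refine pow_ext fun k => ?_
      have h1 : (f ≫ f') ≫ w = 𝟙 _ ≫ w := by rw [Category.assoc, hf'', hf, Category.id_comp]
      rw [comp_prodMap_eq, comp_prodMap_eq] at h1
      exact congrFun (F.prod_inj mu e' he'.1 (fun k => hmu _ (heΨ k)) _ _ h1) k
    · rw [← cancel_mono v, Category.assoc, hf, hf'', Category.id_comp]

end Groth.Agent.RootBase
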