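import Groth.Agent.RootBase.BigCell

/-!
# The Borel subgroup of a system of positive roots
-/

set_option autoImplicit false
set_option backward.isDefEq.respectTransparency false
set_option linter.style.haveILetI false
set_option maxHeartbeats 1000000
set_option synthInstance.maxHeartbeats 400000

universe u

open CategoryTheory Limits MonoidalCategory CartesianMonoidalCategory MonObj GrpObj AlgebraicGeometry LieS
open scoped CategoryTheory.Obj

noncomputable section

namespace Groth.Agent.RootBase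

open Groth.Agent.HomDiag Groth.Agent.DynPar Groth.Agent.RootSys Groth.Agent.MTBridge
open Groth.Agent.DynPar.Der (dv uB pl sG)

section Points

variable {S : Scheme.{u}} {G : Over S} [GrpObj G] [IsAffineHom G.hom] {M : Type} [AddCommGroup M]
  {c : Red.DS S M ⟶ G} [IsMonHom c]

/-- Root subgroups of positive weight are contracted, over any base. -/
theorem rootHom_mem_USub_global {a : M} {u : Red.Ga S ⟶ G} (hu : Red.IsRootHom c (Red.chi S a) u) (mu : M →+ ℤ)
    (ha : 0 < mu a) {B : Type u} [CommRing B] (f : Spec (CommRingCat.of B) ⟶ S) (x : pt B f ⟶ Red.Ga S) :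
    x ≫ u ∈ USub f (Red.DSmap S mu ≫ c) := by
  rw [mem_USub_down f (Category.id_comp f), bcHom'_DSmap]
  let y : (Over.map f).obj (pt B (𝟙 (Spec (CommRingCat.of B)))) ⟶ Red.Ga S := upId' f (Category.id_comp f) ≫ x
  let x' : pt B (𝟙 (Spec (CommRingCat.of B))) ⟶ Red.Ga (Spec (CommRingCat.of B)) :=
    BGaNotS.gaPt (W := pt B (𝟙 (Spec (CommRingCat.of B)))) (Red.gaFn y :)
  have hx : (Over.map f).map x' ≫ gaPush f = y := BGaNotS.gaPt_ext (by
    rw [gaFn_gaPush]
    exact BGaNotS.gaFn_gaPt _)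
  have e : down f (Category.id_comp f) (x ≫ u) = x' ≫ bcGa f u := by
    rw [bcGa_eq, hx, down]
    simp only [y, Category.assoc]
  rw [e]
  exact rootHom_mem_USub' (isRootHom_bc f hu) mu ha x'

/-- Products of positive root subgroups are contracted, over any base. -/
theorem prodMap_mem_USub_global (mu : M →+ ℤ) {B : Type u} [CommRing B] (f : Spec (CommRingCat.of B) ⟶ S) :
    ∀ {m : ℕ} {r : Fin m → M} {w : Fin m → (Red.Ga S ⟶ G)}, (∀ l, Red.IsRootHom c (Red.chi _ (r l)) (w l)) →
      (∀ l, 0 < mu (r l)) → ∀ y : pt B f ⟶ RedSub.pow (Red.Ga S) m,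
        y ≫ RedSub.prodMap (Red.Ga S) m w ∈ USub f (Red.DSmap S mu ≫ c)
  | 0, _, w, _, _, y => by
    rw [show RedSub.prodMap (Red.Ga S) 0 w = 1 from rfl, MonObj.comp_one]
    exact one_mem _
  | m + 1, r, w, hw, hr, y => by
    rw [prodMap_succ]
    exact mul_mem (rootHom_mem_USub_global (hw 0) mu (hr 0) f _)
      (prodMap_mem_USub_global mu f (fun l => hw l.succ) (fun l => hr l.succ) _)

/-- The points of the torus centralise every functional. -/
theorem mem_PSub_torus [Smooth G.hom] (mu : M →+ ℤ) {B : Type u} [CommRing B] (f : Spec (CommRingCat.of B) ⟶ S)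
    (t : pt B f ⟶ Red.DS S M) : t ≫ c ∈ PSub f (Red.DSmap S mu ≫ c) := by
  obtain ⟨Z, _, z, hz, -, -⟩ := exists_centralizer_DS (G := G) inferInstance inferInstance (Red.DSmap S mu ≫ c)
  obtain ⟨tC, htC⟩ := (hz.2.2 _ c).2 fun X' x h => by
    show (x ≫ c) * (h ≫ Red.DSmap _ mu ≫ c) = (h ≫ Red.DSmap _ mu ≫ c) * (x ≫ c)
    rw [← Category.assoc, ← MonObj.mul_comp, ← MonObj.mul_comp,
      show x * (h ≫ Red.DSmap S mu) = (h ≫ Red.DSmap S mu) * x from ch_ext fun m => by rw [ch_mul, ch_mul, mul_comm]]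
  have e : (t ≫ tC) ≫ z = t ≫ c := by rw [Category.assoc, htC]
  have h := ZSub_le_PSub f (Red.DSmap S mu ≫ c) (mem_ZSub_of_centralizer hz (t ≫ tC))
  rwa [e] at h

end Points

section BorelC

variable {S : Scheme.{u}} {G : Over S} [GrpObj G] {M : Type} [AddCommGroup M]

/-- The map of the torus and a list of root homomorphisms. -/
def borelC (c : Red.DS S M ⟶ G) {m : ℕ} (w : Fin m → (Red.Ga S ⟶ G)) :
    Red.DS S M ⊗ RedSub.pow (Red.Ga S) m ⟶ G :=
  (fst _ _ ≫ c) * (snd _ _ ≫ RedSub.prodMap (Red.Ga S) m w)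

theorem exists_borelC_bc {S' : Scheme.{u}} (τ : S' ⟶ S) (c : Red.DS S M ⟶ G) {m : ℕ}
    (w : Fin m → (Red.Ga S ⟶ G)) :
    ∃ ζ : Red.bc τ (Red.DS S M ⊗ RedSub.pow (Red.Ga S) m) ⟶ Red.DS S' M ⊗ RedSub.pow (Red.Ga S') m,
      IsIso ζ ∧ ζ ≫ borelC (bcHom' τ c) (fun l => bcGa τ (w l)) = (Over.pullback τ).map (borelC c w) := by
  obtain ⟨κ, hκ, hκw⟩ := exists_powBC τ (G := G) m
  haveI := hκ
  haveI := isIso_ej τ M
  let F := Over.pullback τ
  refine ⟨lift (F.map (fst _ _) ≫ inv (ej τ M)) (F.map (snd _ _) ≫ inv κ), ?_, ?_⟩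
  · have e : lift (F.map (fst (Red.DS S M) (RedSub.pow (Red.Ga S) m)) ≫ inv (ej τ M)) (F.map (snd _ _) ≫ inv κ) =
        CartesianMonoidalCategory.prodComparison F _ _ ≫ (inv (ej τ M) ⊗ₘ inv κ) := by
      refine CartesianMonoidalCategory.hom_ext _ _ ?_ ?_ <;> simp
    rw [e]
    infer_instance
  · rw [borelC, borelC, Functor.map_mul, MonObj.comp_mul, ← hκw w, bcHom']
    simp only [lift_fst_assoc, lift_snd_assoc, Category.assoc, IsIso.inv_hom_id_assoc, Functor.map_comp]
    rfl

end BorelC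

section Global

variable {S : Scheme.{u}} {G : Over S} [GrpObj G] {M : Type} [AddCommGroup M] [Module.Free ℤ M] [Module.Finite ℤ M]
  {c : Red.DS S M ⟶ G} {idx : Type} [Fintype idx] {root : idx → M} {u : idx → (Red.Ga S ⟶ G)}

/-- **The group of limits is the product of the torus and the positive root subgroups.** -/
theorem Frame.exists_iso_isP (F : Frame c root u) (mu : M →+ ℤ) (hmu : ∀ a, mu (root a) ≠ 0) {m : ℕ} (e : Fin m → idx)
    (he : RedSub.Enumerates {a | 0 < mu (root a)} e) {P : Over S} [GrpObj P] {p : P ⟶ G}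
    (hP : IsP (Red.DSmap S mu ≫ c) p) :
    ∃ φ : Red.DS S M ⊗ RedSub.pow (Red.Ga S) m ≅ P, φ.hom ≫ p = borelC c (fun l => u (e l)) := by
  haveI := F.hG.1
  haveI := F.hG.2.1
  haveI := F.hc.1
  haveI := hP.2.1
  have hpos : ∀ l, 0 < mu (root (e l)) := fun l => he.2.subset ⟨l, rfl⟩
  obtain ⟨φ, hφ⟩ := hP.exists_le (borelC c fun l => u (e l)) fun B _ f y => by
    rw [borelC, MonObj.comp_mul, ← Category.assoc, ← Category.assoc]
    exact mul_mem (mem_PSub_torus mu f _)
      (USub_le_PSub _ _ (prodMap_mem_USub_global mu f (fun l => F.hu (e l)) hpos _))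
  let 𝒱 := S.affineOpenCover.openCover
  have key : ∀ i, IsIso ((Over.pullback (𝒱.f i)).map φ) := by
    intro i
    let A : CommRingCat.{u} := S.affineOpenCover.X i
    let j : Spec (CommRingCat.of A) ⟶ S := 𝒱.f i
    have F' := F.bc j
    haveI : IsMonHom (bcHom' j c) := isMonHom_bcHom' j c
    haveI := F'.hG.1
    haveI := F'.hG.2.1
    haveI : IsAffine (Red.bc j G).left := isAffine_of_isAffineHom (Red.bc j G).hom
    have hP' : IsP (Red.DSmap _ mu ≫ bcHom' j c) ((Over.pullback j).map p) := by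
      rw [← bcHom'_DSmap]; exact hP.bc j
    haveI := hP'.2.1
    haveI : Mono ((Over.pullback j).map p) := Over.mono_of_mono_left _
    obtain ⟨U, _, uU, hU⟩ := exists_isU (G := Red.bc j G) (Red.DSmap _ mu ≫ bcHom' j c)
    obtain ⟨L⟩ := exists_leviData hP' hU (F'.centralizer mu hmu)
    haveI := L.iso
    obtain ⟨zm, hzm⟩ := F'.isIso_prod mu e he hU
    let ψ := (𝟙 (Red.DS (Spec (CommRingCat.of A)) M) ⊗ₘ zm.hom) ≫ (L.l ⊗ₘ L.iu) ≫ μ
    haveI : IsIso ψ := inferInstance
    obtain ⟨ζ, hζ, hζe⟩ := exists_borelC_bc j c (fun l => u (e l))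
    haveI := hζ
    have hlu : (L.l ⊗ₘ L.iu) ≫ μ ≫ (Over.pullback j).map p = (fst _ _ ≫ bcHom' j c) * (snd _ _ ≫ uU) := by
      haveI := hP'.1
      rw [← Category.assoc, show (L.l ⊗ₘ L.iu) ≫ μ = (fst _ _ ≫ L.l) * (snd _ _ ≫ L.iu) by rw [Hom.mul_def]; congr 1,
        MonObj.mul_comp, Category.assoc, Category.assoc, L.l_p, L.iu_p]
    have h : ζ ≫ ψ = (Over.pullback j).map φ := by
      rw [← cancel_mono ((Over.pullback j).map p), ← Functor.map_comp, hφ, ← hζe, borelC]
      simp only [ψ, Category.assoc, hlu, MonObj.comp_mul, tensorHom_fst_assoc, tensorHom_snd_assoc,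
        Category.id_comp, hzm]
    show IsIso ((Over.pullback j).map φ)
    rw [← h]
    infer_instance
  haveI : IsIso φ.left := IsZariskiLocalAtTarget.of_openCover (P := MorphismProperty.isomorphisms Scheme)
    (𝒱.pullback₁ P.hom) fun i => by
      have sq := MTImage.isPullback_map φ (𝒱.f i)
      haveI : IsIso ((Over.forget _).map ((Over.pullback (𝒱.f i)).map φ)) := by
        haveI := key i; infer_instance
      haveI : IsIso ((Over.pullback (𝒱.f i)).map φ).left :=
        ‹IsIso ((Over.forget _).map ((Over.pullback (𝒱.f i)).map φ))›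
      show IsIso (pullback.snd φ.left (pullback.fst P.hom (𝒱.f i)))
      rw [← sq.isoPullback_inv_snd]
      infer_instance
  haveI : IsIso ((Over.forget _).map φ) := ‹IsIso φ.left›
  haveI : IsIso φ := isIso_of_reflects_iso φ (Over.forget _)
  exact ⟨asIso φ, hφ⟩

/-- **The group of limits of a functional without zeros on the roots is a Borel subgroup.** -/
theorem Frame.isBorel (F : Frame c root u) (mu : M →+ ℤ) (hmu : ∀ a, mu (root a) ≠ 0)
    {P : Over S} [GrpObj P] {p : P ⟶ G} (hP : IsP (Red.DSmap S mu ≫ c) p) : Red.IsBorel p := by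
  haveI := F.hG.1
  haveI := F.hG.2.1
  haveI := F.hc.1
  refine ⟨hP.1, hP.2.1, smooth_isP inferInstance _ hP, fun s => ?_⟩
  let τ := Red.geomPt s
  let K := AlgebraicClosure (S.residueField s)
  have FK := F.bc τ
  haveI : IsMonHom (bcHom' τ c) := isMonHom_bcHom' τ c
  haveI := FK.hc.2.1
  have hred : Red.IsReductiveOver K (Red.bc τ G) := F.hG.2.2 s
  haveI : IsAffine (Red.bc τ G).left := hred.1
  haveI : Smooth (Red.bc τ G).hom := MorphismProperty.pullback_snd (P := @Smooth) G.hom τ inferInstance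
  have hi : AGF.IsMaxTorus (bcHom' τ c) := by
    refine ⟨inferInstance, inferInstance, FK.hc.2.2.1, fun T' _ j _ _ f hT' hf => ?_⟩
    haveI := isIso_ej τ M
    haveI := F.hc.2.2.2 s T' j (inv (ej τ M) ≫ f) hT' (by
      rw [Category.assoc, hf, bcHom', IsIso.inv_hom_id_assoc])
    exact IsIso.of_isIso_comp_left (inv (ej τ M)) f
  refine isBorelOver_of_regular hred (bcHom' τ c) hi (exists_isCentralizerOf_self hred _ hi) mu
    (fun B _ f g hg => ?_) _ (bcHom'_DSmap τ mu c ▸ hP.bc τ)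
  obtain ⟨y, rfl⟩ := exists_centralizer_lift (FK.centralizer mu hmu) hg
  exact mem_ZSub_of_centralizer (exists_isCentralizerOf_self hred _ hi) y

end Global

end Groth.Agent.RootBase
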