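import Groth.Agent.RootBase.Chev
import Groth.Agent.RedR1.Pts
import Groth.Prelude.Def_GmPts

/-!
# Weyl elements of a pinning acting on root homomorphisms
-/

set_option autoImplicit false
set_option backward.isDefEq.respectTransparency false
set_option linter.style.haveILetI false
set_option maxHeartbeats 1000000
set_option synthInstance.maxHeartbeats 400000

universe u

open CategoryTheory Limits MonoidalCategory CartesianMonoidalCategory MonObj GrpObj AlgebraicGeometry LieS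
open scoped CategoryTheory.Obj

noncomputable section

namespace Groth.Agent.RootBase

open Groth.Agent.HomDiag Groth.Agent.DynPar Groth.Agent.RootSys Groth.Agent.MTBridge

variable {S : Scheme.{u}} {G : Over S} [GrpObj G]

section Conj

/-- Conjugation by a section. -/
def cj {X : Over S} (g : 𝟙_ (Over S) ⟶ G) (h : X ⟶ G) : X ⟶ G := (toUnit X ≫ g) * h * (toUnit X ≫ g)⁻¹

theorem cj_mul {X : Over S} (g : 𝟙_ (Over S) ⟶ G) (h k : X ⟶ G) : cj g (h * k) = cj g h * cj g k := by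
  simp only [cj]; group

theorem cj_inv {X : Over S} (g : 𝟙_ (Over S) ⟶ G) (h : X ⟶ G) : cj g h⁻¹ = (cj g h)⁻¹ := by
  simp only [cj]; group

theorem cj_one {X : Over S} (g : 𝟙_ (Over S) ⟶ G) : cj g (1 : X ⟶ G) = 1 := by
  simp only [cj]; group

theorem cj_cj {X : Over S} (g g' : 𝟙_ (Over S) ⟶ G) (h : X ⟶ G) : cj g (cj g' h) = cj (g * g') h := by
  simp only [cj, MonObj.comp_mul]; group

theorem one_cj {X : Over S} (h : X ⟶ G) : cj (1 : 𝟙_ (Over S) ⟶ G) h = h := by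
  simp only [cj, MonObj.comp_one]; group

theorem cj_inv_cj {X : Over S} (g : 𝟙_ (Over S) ⟶ G) (h : X ⟶ G) : cj g⁻¹ (cj g h) = h := by
  rw [cj_cj, inv_mul_cancel, one_cj]

theorem comp_cj {X Y : Over S} (q : Y ⟶ X) (g : 𝟙_ (Over S) ⟶ G) (h : X ⟶ G) :
    q ≫ cj g h = cj g (q ≫ h) := by
  simp only [cj, MonObj.comp_mul, GrpObj.comp_inv, ← Category.assoc]
  rw [toUnit_unique (q ≫ toUnit X) (toUnit Y)]

theorem cj_unit (g h : 𝟙_ (Over S) ⟶ G) : cj g h = g * h * g⁻¹ := by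
  simp only [cj]
  rw [toUnit_unique (toUnit (𝟙_ (Over S))) (𝟙 _), Category.id_comp]

theorem cj_prod {X : Over S} (g : 𝟙_ (Over S) ⟶ G) {n : ℕ} (f : Fin n → (X ⟶ G)) :
    cj g (List.ofFn f).prod = (List.ofFn fun k => cj g (f k)).prod :=
  conj_ofFn_prod (toUnit X ≫ g) f

/-- Conjugation by a section is an automorphism. -/
def cjIso (g : 𝟙_ (Over S) ⟶ G) : G ≅ G where
  hom := cj g (𝟙 G)
  inv := cj g⁻¹ (𝟙 G)
  hom_inv_id := by rw [comp_cj, Category.comp_id, cj_inv_cj]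
  inv_hom_id := by rw [comp_cj, Category.comp_id, cj_cj, mul_inv_cancel, one_cj]

end Conj

section Scale

/-- Scaling by a constant. -/
def scl {X : Over S} (r : Γ(S, ⊤)) (x : X ⟶ Red.Ga S) : X ⟶ Red.Ga S :=
  BGaNotS.gaPt (X.hom.appTop r * Red.gaFn x)

theorem gaFn_scl {X : Over S} (r : Γ(S, ⊤)) (x : X ⟶ Red.Ga S) :
    Red.gaFn (scl r x) = X.hom.appTop r * Red.gaFn x := BGaNotS.gaFn_gaPt _

theorem scl_one {X : Over S} (x : X ⟶ Red.Ga S) : scl 1 x = x :=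
  BGaNotS.gaPt_ext (by rw [gaFn_scl, map_one, _root_.one_mul])

theorem scl_neg_one {X : Over S} (x : X ⟶ Red.Ga S) : scl (-1) x = x⁻¹ :=
  BGaNotS.gaPt_ext (by rw [gaFn_scl, map_neg, map_one, neg_one_mul, gaFn_inv])

theorem scl_scl {X : Over S} (r r' : Γ(S, ⊤)) (x : X ⟶ Red.Ga S) : scl r (scl r' x) = scl (r * r') x :=
  BGaNotS.gaPt_ext (by simp only [gaFn_scl, map_mul, _root_.mul_assoc])

theorem ga_inv_inv {X : Over S} (x : X ⟶ Red.Ga S) : x⁻¹⁻¹ = x :=
  BGaNotS.gaPt_ext (by rw [gaFn_inv, gaFn_inv, neg_neg])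

/-- The sign of the parity of an integer. -/
def par (k : ℤ) : Γ(S, ⊤) := if Even k then 1 else -1

theorem par_mul_self (k : ℤ) : (par k : Γ(S, ⊤)) * par k = 1 := by
  rw [par]; split <;> ring

theorem par_even {k : ℤ} (h : Even k) : (par k : Γ(S, ⊤)) = 1 := if_pos h

theorem par_odd {k : ℤ} (h : ¬ Even k) : (par k : Γ(S, ⊤)) = -1 := if_neg h

end Scale

variable {M : Type} [AddCommGroup M] {c : Red.DS S M ⟶ G} {idx : Type}
  {P : RootPairing idx ℤ M (Module.Dual ℤ M)} {u : idx → (Red.Ga S ⟶ G)}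

/-- The point `-1` of the multiplicative group. -/
def gmNeg : 𝟙_ (Over S) ⟶ Red.Gm S := GmPts.ptOfUnit (-1)

theorem ch_gmNeg {X : Over S} (k : ℤ) :
    ch (toUnit X ≫ (gmNeg : 𝟙_ (Over S) ⟶ Red.Gm S)) (Multiplicative.ofAdd k) =
      X.hom.appTop (par k) := by
  let z := toUnit X ≫ (gmNeg : 𝟙_ (Over S) ⟶ Red.Gm S)
  have h1 : ch z (Multiplicative.ofAdd 1) = -1 := by
    rw [← RootIntrinsic.gmFn_eq_ch]
    simp only [z, gmNeg]
    rw [show toUnit X ≫ (GmPts.ptOfUnit (-1) : 𝟙_ (Over S) ⟶ Red.Gm S) =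
      GmPts.ptOfUnit (Units.map (toUnit X).left.appTop.hom.toMonoidHom (-1)) from
        GmPts.gmFn_injective (by simp [GmPts.gmFn_comp, GmPts.gmFn_ptOfUnit])]
    simp [GmPts.gmFn_ptOfUnit]
  have h2 : (ch z).toHomUnits (Multiplicative.ofAdd k) = (-1 : (Γ(X.left, ⊤))ˣ) ^ k := by
    have h3 : (ch z).toHomUnits (Multiplicative.ofAdd 1) = -1 := Units.ext (by simpa using h1)
    rw [← h3, ← map_zpow]
    congr 1
    exact Multiplicative.toAdd.injective (by simp)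
  have h4 := congrArg Units.val h2
  simp only [MonoidHom.coe_toHomUnits] at h4
  rw [h4]
  by_cases hk : Even k
  · rw [hk.neg_one_zpow, par_even hk, Units.val_one, map_one]
  · rw [(Int.not_even_iff_odd.1 hk).neg_one_zpow, par_odd hk, Units.val_neg, Units.val_one, map_neg, map_one]

/-- The value of a coroot at `-1`. -/
def cpt (c : Red.DS S M ⟶ G) (f : M →+ ℤ) : 𝟙_ (Over S) ⟶ G := gmNeg ≫ Red.DSmap S f ≫ c

/-- The value at `-1` acts on a root group by a parity. -/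
theorem cj_cpt {v : Red.Ga S ⟶ G} {m : M} (hv : Red.IsRootHom c (Red.chi S m) v) (f : M →+ ℤ)
    {X : Over S} (x : X ⟶ Red.Ga S) : cj (cpt c f) (x ≫ v) = scl (par (f m)) x ≫ v := by
  obtain ⟨y, hy, hy'⟩ := hv.2.2 X ((toUnit X ≫ gmNeg) ≫ Red.DSmap S f) x
  simp only [cj, cpt, Category.assoc] at hy ⊢
  rw [← hy]
  congr 1
  refine BGaNotS.gaPt_ext ?_
  rw [hy', gaFn_scl, RootIntrinsic.gmFn_chi, ch_DSmap, toAdd_ofAdd, ch_gmNeg]

/-- The reflection in a root, on the torus. -/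
def refl {X : Over S} (a : M) (f : M →+ ℤ) (t : X ⟶ Red.DS S M) : X ⟶ Red.DS S M :=
  (t ≫ Red.chi S a ≫ Red.DSmap S f)⁻¹ * t

theorem ch_inv_mul {X : Over S} (t : X ⟶ Red.DS S M) (m : Multiplicative M) : ch t⁻¹ m * ch t m = 1 := by
  rw [← ch_mul, inv_mul_cancel t, ch_one]

theorem ch_refl {X : Over S} (a : M) (f : M →+ ℤ) (t : X ⟶ Red.DS S M) (m : M) :
    ch (refl a f t) (Multiplicative.ofAdd m) = ch t (Multiplicative.ofAdd (m - f m • a)) := by
  have h : ch (t ≫ Red.chi S a ≫ Red.DSmap S f) (Multiplicative.ofAdd m) = ch t (Multiplicative.ofAdd (f m • a)) := by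
    rw [← Category.assoc, ch_DSmap, toAdd_ofAdd, Red.chi, ch_DSmap, toAdd_ofAdd, zmultiplesHom_apply]
  have h' := ch_inv_mul (t ≫ Red.chi S a ≫ Red.DSmap S f) (Multiplicative.ofAdd m)
  rw [h] at h'
  rw [refl, ch_mul]
  calc ch (t ≫ Red.chi S a ≫ Red.DSmap S f)⁻¹ (Multiplicative.ofAdd m) * ch t (Multiplicative.ofAdd m)
      = ch (t ≫ Red.chi S a ≫ Red.DSmap S f)⁻¹ (Multiplicative.ofAdd m) *
          (ch t (Multiplicative.ofAdd (f m • a)) * ch t (Multiplicative.ofAdd (m - f m • a))) := by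
        rw [← map_mul, ← ofAdd_add, add_sub_cancel]
    _ = _ := by rw [← _root_.mul_assoc, h', _root_.one_mul]

theorem refl_refl {X : Over S} {a : M} {f : M →+ ℤ} (h : f a = 2) (t : X ⟶ Red.DS S M) :
    refl a f (refl a f t) = t := ch_ext fun m => by
  obtain ⟨m, rfl⟩ : ∃ n : M, Multiplicative.ofAdd n = m := ⟨m.toAdd, rfl⟩
  rw [ch_refl, ch_refl]
  congr 2
  rw [map_sub, map_zsmul, h, smul_eq_mul]
  module

theorem refl_neg {X : Over S} (a : M) (f : M →+ ℤ) (t : X ⟶ Red.DS S M) : refl (-a) (-f) t = refl a f t :=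
  ch_ext fun m => by
    obtain ⟨m, rfl⟩ : ∃ n : M, Multiplicative.ofAdd n = m := ⟨m.toAdd, rfl⟩
    rw [ch_refl, ch_refl, AddMonoidHom.neg_apply, neg_smul, smul_neg, neg_neg]

theorem ch_gmNeg_DSmap (g : M →+ ℤ) (m : M) :
    ch ((gmNeg : 𝟙_ (Over S) ⟶ Red.Gm S) ≫ Red.DSmap S g) (Multiplicative.ofAdd m) = (par (g m) : Γ(S, ⊤)) := by
  have h2 := ch_gmNeg (X := 𝟙_ (Over S)) (g m)
  rw [toUnit_unique (toUnit (𝟙_ (Over S))) (𝟙 _), Category.id_comp, appTop_unit] at h2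
  rw [ch_DSmap, toAdd_ofAdd]
  exact h2

theorem cpt_inv [IsMonHom c] (f : M →+ ℤ) : (cpt c f)⁻¹ = cpt c (-f) := by
  refine inv_eq_of_mul_eq_one_right ?_
  have h : ((gmNeg : 𝟙_ (Over S) ⟶ Red.Gm S) ≫ Red.DSmap S f) * (gmNeg ≫ Red.DSmap S (-f)) = 1 :=
    ch_ext fun m => by
      obtain ⟨m, rfl⟩ : ∃ n : M, Multiplicative.ofAdd n = m := ⟨m.toAdd, rfl⟩
      rw [ch_mul, ch_one, ch_gmNeg_DSmap, ch_gmNeg_DSmap]
      simp only [par, AddMonoidHom.neg_apply, even_neg]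
      exact par_mul_self (f m)
  simp only [cpt]
  rw [← Category.assoc, ← Category.assoc, ← MonObj.mul_comp, h, MonObj.one_comp]

/-- A root with its opposite and its Weyl element. -/
structure IsWeyl (c : Red.DS S M ⟶ G) (P : RootPairing idx ℤ M (Module.Dual ℤ M)) (u : idx → (Red.Ga S ⟶ G))
    (a a' : idx) (N : 𝟙_ (Over S) ⟶ G) : Prop where
  hc : IsMonHom c
  hua : Red.IsRootHom c (Red.chi S (P.root a)) (u a)
  hua' : Red.IsRootHom c (Red.chi S (P.root a')) (u a')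
  hcor : ∀ m, P.coroot a' m = -P.coroot a m
  opp : P.root a' = -P.root a
  two : P.coroot a (P.root a) = 2
  eq : N = (eOne _ ≫ u a) * (eC _ (-1) ≫ u a') * (eOne _ ≫ u a)
  pos : ∀ (X : Over S) (x : X ⟶ Red.Ga S), cj N (x ≫ u a) = x⁻¹ ≫ u a'
  torus : ∀ (X : Over S) (t : X ⟶ Red.DS S M),
    cj N (t ≫ c) = refl (P.root a) (P.coroot a).toAddMonoidHom t ≫ c
  sq : N * N = cpt c (P.coroot a).toAddMonoidHom

namespace IsWeyl

variable {a a' : idx} {N : 𝟙_ (Over S) ⟶ G}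

/-- The square of a Weyl element acts by parities. -/
theorem cj_sq (W : IsWeyl c P u a a' N) {v : Red.Ga S ⟶ G} {m : M} (hv : Red.IsRootHom c (Red.chi S m) v)
    {X : Over S} (x : X ⟶ Red.Ga S) :
    cj N (cj N (x ≫ v)) = scl (par (P.coroot a m)) x ≫ v := by
  rw [cj_cj, W.sq, cj_cpt hv]; rfl

theorem neg (W : IsWeyl c P u a a' N) {X : Over S} (x : X ⟶ Red.Ga S) : cj N (x ≫ u a') = x⁻¹ ≫ u a := by
  have h := W.cj_sq W.hua x⁻¹
  rw [W.pos X x⁻¹, ga_inv_inv, W.two, par_even (show Even (2 : ℤ) by decide), scl_one] at h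
  exact h

/-- The opposite root with the inverse element. -/
theorem symm (W : IsWeyl c P u a a' N) : IsWeyl c P u a' a N⁻¹ := by
  haveI := W.hc
  haveI := W.hua.1
  haveI := W.hua'.1
  have hp : (P.coroot a').toAddMonoidHom = -(P.coroot a).toAddMonoidHom := AddMonoidHom.ext fun m => W.hcor m
  have hC : ∀ r : Γ(S, ⊤), eC (𝟙_ (Over S)) (-r) = (eC (𝟙_ (Over S)) r)⁻¹ := fun r => by
    refine BGaNotS.gaPt_ext ?_
    rw [gaFn_inv, eC, eC, BGaNotS.gaFn_gaPt, BGaNotS.gaFn_gaPt, map_neg]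
  have he : eOne (𝟙_ (Over S)) = eC (𝟙_ (Over S)) 1 := by rw [eOne, eC, map_one]
  refine ⟨W.hc, W.hua', W.hua, fun m => by rw [W.hcor, neg_neg], by rw [W.opp, neg_neg], ?_, ?_,
    fun X x => ?_, fun X t => ?_, ?_⟩
  · rw [W.hcor, W.opp, _root_.map_neg, neg_neg, W.two]
  · have h : N = (eC _ (-1) ≫ u a') * (eOne _ ≫ u a) * (eC _ (-1) ≫ u a') := by
      conv_lhs => rw [show N = cj N N by rw [cj_unit]; group]
      nth_rewrite 2 [W.eq]
      rw [cj_mul, cj_mul, W.pos, W.neg, he, ← hC, ← hC, neg_neg]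
    rw [h, _root_.mul_inv_rev, _root_.mul_inv_rev, ← @GrpObj.inv_comp _ _ _ _ _ _ _ _ (eC _ (-1)) (u a') W.hua'.1,
      ← @GrpObj.inv_comp _ _ _ _ _ _ _ _ (eOne _) (u a) W.hua.1, ← hC, neg_neg, he,
      ← hC, _root_.mul_assoc]
  · have h := cj_inv_cj N (x⁻¹ ≫ u a)
    rwa [W.pos, ga_inv_inv] at h
  · have h := W.torus X (refl (P.root a) (P.coroot a).toAddMonoidHom t)
    rw [refl_refl (f := (P.coroot a).toAddMonoidHom) W.two] at h
    rw [← h, cj_inv_cj, W.opp, hp, refl_neg]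
  · rw [← _root_.mul_inv_rev, W.sq, hp, cpt_inv]

/-- Conjugates of root homomorphisms are root homomorphisms. -/
theorem rootHom (W : IsWeyl c P u a a' N) {v : Red.Ga S ⟶ G} {m : M} (hv : Red.IsRootHom c (Red.chi S m) v) :
    Red.IsRootHom c (Red.chi S (m - P.coroot a m • P.root a)) (cj N v) := by
  haveI := hv.1
  refine ⟨HomDiag.isMonHom_of_mul _ fun X x y => by simp only [comp_cj, MonObj.mul_comp, cj_mul], ?_,
    fun X t x => ?_⟩
  · have h : cj N v = v ≫ (cjIso N).hom := by rw [cjIso, comp_cj, Category.comp_id]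
    rw [h, Over.comp_left]
    haveI := hv.2.1
    haveI : IsIso (cjIso N).hom.left := ((Over.forget _).mapIso (cjIso N)).isIso_hom
    infer_instance
  · let t' := refl (P.root a) (P.coroot a).toAddMonoidHom t
    obtain ⟨y, hy, hy'⟩ := hv.2.2 X t' x
    refine ⟨y, ?_, ?_⟩
    · have h := W.torus X t'
      rw [show refl (P.root a) (P.coroot a).toAddMonoidHom t' = t from
        refl_refl (f := (P.coroot a).toAddMonoidHom) W.two t] at h
      rw [comp_cj, comp_cj, hy, cj_mul, cj_mul, cj_inv, h]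
    · rw [hy', RootIntrinsic.gmFn_chi, RootIntrinsic.gmFn_chi, ch_refl]
      rfl

theorem rootHom' (W : IsWeyl c P u a a' N) {v : Red.Ga S ⟶ G} {l l' : idx}
    (hv : Red.IsRootHom c (Red.chi S (P.root l)) v)
    (hl : P.root l' = P.root l - P.coroot a (P.root l) • P.root a) :
    Red.IsRootHom c (Red.chi S (P.root l')) (cj N v) := hl ▸ W.rootHom hv

end IsWeyl

end Groth.Agent.RootBase
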