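import Groth.Agent.RootBase.BigCell
import Mathlib.LinearAlgebra.RootSystem.Finite.Lemmas

/-!
# Root combinatorics for the commutator formulas
-/

set_option autoImplicit false
set_option backward.isDefEq.respectTransparency false
set_option linter.style.haveILetI false
set_option maxHeartbeats 1000000
set_option synthInstance.maxHeartbeats 400000

universe u

open CategoryTheory Limits MonoidalCategory CartesianMonoidalCategory MonObj GrpObj AlgebraicGeometry LieS
open scoped CategoryTheory.Obj

noncomputable section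

namespace Groth.Agent.RootBase

open Groth.Agent.HomDiag Groth.Agent.DynPar Groth.Agent.RootSys Groth.Agent.MTBridge

section Pairing

variable {idx M N : Type*} [AddCommGroup M] [AddCommGroup N] (P : RootPairing idx ℤ M N)

theorem pairingIn_int (a b : idx) : P.pairingIn ℤ a b = P.pairing a b := by
  have h := P.algebraMap_pairingIn ℤ a b
  simpa using h

variable [Finite idx]

/-- If a sum of two roots is no root, no positive combination of them is a root. -/
theorem not_root_of_add_notMem [P.IsReduced] {a b : idx}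
    (hli : ∀ x y : ℤ, x • P.root a + y • P.root b = 0 → x = 0 ∧ y = 0)
    (hab : P.root a + P.root b ∉ Set.range P.root) :
    ∀ (i j : ℕ) (c : idx), 1 ≤ i → 1 ≤ j → P.root c ≠ (i : ℤ) • P.root a + (j : ℤ) • P.root b := by
  suffices h : ∀ n, ∀ (i j : ℕ) (c : idx), i + j = n → 1 ≤ i → 1 ≤ j →
      P.root c ≠ (i : ℤ) • P.root a + (j : ℤ) • P.root b from
    fun i j c => h (i + j) i j c rfl
  intro n
  induction n using Nat.strong_induction_on with
  | _ n ih =>
    intro i j c hn hi hj hc
    have hmul : ∀ (q : ℕ) (d : idx), 1 ≤ q → ∀ e : idx, P.root e = (q : ℤ) • P.root d → q = 1 := by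
      intro q d hq e he
      by_contra hne
      have hq2 : (2 : ℤ) ≤ q := by omega
      rcases RootPairing.IsReduced.eq_or_eq_neg (P := P) d e (fun h => by
          obtain ⟨-, h1⟩ := LinearIndependent.pair_iff.1 h (q : ℤ) (-1) (by rw [he]; module)
          omega) with h | h
      · have h1 := congrArg (fun m => P.toLinearMap m (P.coroot d)) (show (((q : ℤ) - 1)) • P.root d = 0 by
          rw [sub_smul, ← he, one_smul, h, sub_self])
        simp only [_root_.map_smul, LinearMap.smul_apply, P.root_coroot_two, map_zero, LinearMap.zero_apply,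
          smul_eq_mul] at h1
        omega
      · have h1 := congrArg (fun m => P.toLinearMap m (P.coroot d)) (show (((q : ℤ) + 1)) • P.root d = 0 by
          rw [add_smul, ← he, one_smul, h, add_neg_cancel])
        simp only [_root_.map_smul, LinearMap.smul_apply, P.root_coroot_two, map_zero, LinearMap.zero_apply,
          smul_eq_mul] at h1
        omega
    have h2 := P.root_coroot_two c
    have hsum : (i : ℤ) * P.pairing a c + (j : ℤ) * P.pairing b c = 2 := by
      rw [hc] at h2
      simpa [map_add, RootPairing.root_coroot_eq_pairing, smul_eq_mul] using h2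
    have step : ∀ (d : idx) (k : ℕ), 0 < P.pairing d c → P.root c ≠ P.root d →
        ∃ e, P.root e = P.root c - P.root d := by
      intro d _ hd hne
      obtain ⟨e, he⟩ := P.root_sub_root_mem_of_pairingIn_pos (i := d) (j := c) (by rw [pairingIn_int]; exact hd)
        (fun h => hne (by rw [h]))
      obtain ⟨e', he'⟩ := P.neg_mem_range_root_iff.2 ⟨e, he⟩
      exact ⟨e', by rw [he', neg_sub]⟩
    by_cases hA : 0 < P.pairing a c
    · obtain ⟨e, he⟩ := step a i hA fun h => by
        obtain ⟨-, h1⟩ := hli ((i : ℤ) - 1) j (by linear_combination (norm := module) h - hc)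
        omega
      have he2 : P.root e = ((i - 1 : ℕ) : ℤ) • P.root a + (j : ℤ) • P.root b := by
        rw [he, hc, Nat.cast_sub hi]; module
      by_cases hi1 : i = 1
      · subst hi1
        have hj1 := hmul j b hj e (by simpa using he2)
        subst hj1
        exact hab ⟨c, by simpa using hc⟩
      · exact ih (i - 1 + j) (by omega) (i - 1) j e rfl (by omega) hj he2
    · have hB : 0 < P.pairing b c := by
        by_contra hB
        nlinarith
      obtain ⟨e, he⟩ := step b j hB fun h => by
        obtain ⟨h1, -⟩ := hli i ((j : ℤ) - 1) (by linear_combination (norm := module) h - hc)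
        omega
      have he2 : P.root e = (i : ℤ) • P.root a + ((j - 1 : ℕ) : ℤ) • P.root b := by
        rw [he, hc, Nat.cast_sub hj]; module
      by_cases hj1 : j = 1
      · subst hj1
        have hi1 := hmul i a hi e (by simpa using he2)
        subst hi1
        exact hab ⟨c, by simpa using hc⟩
      · exact ih (i + (j - 1)) (by omega) i (j - 1) e rfl hi (by omega) he2

end Pairing

section Functional

variable {M : Type} [AddCommGroup M] [Module.Free ℤ M] [Module.Finite ℤ M]

/-- An integer functional avoiding finitely many non-zero vectors. -/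
theorem exists_hom_ne {idx : Type} [Finite idx] (r : idx → M) (hr : ∀ a, r a ≠ 0) :
    ∃ ψ : M →+ ℤ, ∀ a, ψ (r a) ≠ 0 := by
  classical
  let B := Module.finBasis ℤ M
  let p : idx → Polynomial ℤ := fun a => ∑ l, Polynomial.C (B.repr (r a) l) * Polynomial.X ^ (l : ℕ)
  have hp : ∀ a, p a ≠ 0 := fun a h => hr a (B.repr.injective (Finsupp.ext fun l => by
    have h1 := congrArg (fun q => Polynomial.coeff q (l : ℕ)) h
    simpa [p, Polynomial.coeff_C_mul, Polynomial.coeff_X_pow, Fin.val_inj] using h1))
  letI := Fintype.ofFinite idx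
  obtain ⟨t, ht⟩ := Infinite.exists_notMem_finset (Finset.univ.biUnion fun a => (p a).roots.toFinset)
  refine ⟨(B.constr ℤ fun l => t ^ (l : ℕ)).toAddMonoidHom, fun a h => ht ?_⟩
  refine Finset.mem_biUnion.2 ⟨a, Finset.mem_univ a, Multiset.mem_toFinset.2 ((Polynomial.mem_roots (hp a)).2 ?_)⟩
  rw [LinearMap.toAddMonoidHom_coe, B.constr_apply_fintype ℤ] at h
  show (p a).eval t = 0
  rw [← h]
  simp [p, Polynomial.eval_finsetSum, Module.Basis.equivFun_apply]

/-- A small perturbation of a functional has no zeros on given non-zero vectors. -/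
theorem exists_hom_perturb {idx : Type} [Finite idx] (r : idx → M) (hr : ∀ a, r a ≠ 0) (φ : M →+ ℤ) :
    ∃ mu : M →+ ℤ, (∀ a, mu (r a) ≠ 0) ∧ ∀ a, 0 < φ (r a) → 0 < mu (r a) := by
  classical
  letI := Fintype.ofFinite idx
  obtain ⟨ψ, hψ⟩ := exists_hom_ne r hr
  let N : ℤ := 1 + ∑ a, |ψ (r a)|
  have hN : ∀ a, |ψ (r a)| < N := fun a => by
    have := Finset.single_le_sum (fun b _ => abs_nonneg (ψ (r b))) (Finset.mem_univ a)
    omega
  refine ⟨N • φ + ψ, fun a h => ?_, fun a ha => ?_⟩
  · by_cases h0 : φ (r a) = 0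
    · simp [h0] at h; exact hψ a h
    · have h1 := hN a
      have h2 : N * φ (r a) + ψ (r a) = 0 := by simpa using h
      have h3 : N * |φ (r a)| = |ψ (r a)| := by
        rw [show ψ (r a) = -(N * φ (r a)) by omega, abs_neg, abs_mul,
          abs_of_nonneg (show 0 ≤ N by linarith [abs_nonneg (ψ (r a))])]
      nlinarith [abs_pos.2 h0, abs_nonneg (ψ (r a))]
  · have h1 := hN a
    have h2 := neg_abs_le (ψ (r a))
    show 0 < N • φ (r a) + ψ (r a)
    rw [smul_eq_mul]
    nlinarith [abs_nonneg (ψ (r a))]

/-- A functional positive on two roots whose sum is no root. -/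
theorem exists_pos_pair {idx : Type} [Finite idx] (P : RootPairing idx ℤ M (Module.Dual ℤ M)) {a b : idx}
    (hne : P.root a + P.root b ≠ 0) (hab : P.root a + P.root b ∉ Set.range P.root) :
    ∃ mu : M →+ ℤ, (∀ c, mu (P.root c) ≠ 0) ∧ 0 < mu (P.root a) ∧ 0 < mu (P.root b) := by
  have hn : ∀ {x y : idx}, P.root x + P.root y ≠ 0 → P.root x + P.root y ∉ Set.range P.root →
      0 ≤ P.pairing x y := fun {x y} h1 h2 => by
    by_contra h
    exact h2 (P.root_add_root_mem_of_pairingIn_neg (by rw [pairingIn_int]; omega)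
      fun e => h1 (by rw [e, neg_add_cancel]))
  have h1 := hn hne hab
  have h2 := hn (x := b) (y := a) (by rwa [add_comm]) (by rwa [add_comm])
  let φ : M →+ ℤ := (P.toLinearMap.flip (P.coroot a) + P.toLinearMap.flip (P.coroot b)).toAddMonoidHom
  have hφ : ∀ c, φ (P.root c) = P.pairing c a + P.pairing c b := fun c => rfl
  obtain ⟨mu, hmu, hpos⟩ := exists_hom_perturb (fun c => P.root c) (fun c => P.ne_zero c) φ
  exact ⟨mu, hmu, hpos a (by rw [hφ, P.pairing_same]; omega), hpos b (by rw [hφ, P.pairing_same]; omega)⟩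

end Functional

section Dep

/-- Over an algebraically closed field dependent roots of a frame agree up to sign. -/
theorem Frame.dep_field {k : Type u} [Field k] [IsAlgClosed k] {G : Over (Spec (CommRingCat.of k))} [GrpObj G]
    {M : Type} [AddCommGroup M] [Module.Free ℤ M] [Module.Finite ℤ M]
    {c : Red.DS (Spec (CommRingCat.of k)) M ⟶ G} {idx : Type} [Fintype idx] {root : idx → M}
    {u : idx → (Red.Ga (Spec (CommRingCat.of k)) ⟶ G)} (F : Frame c root u) {a b : idx} (x y : ℤ) (hy : y ≠ 0)
    (h : y • root b = x • root a) : root b = root a ∨ root b = -root a := by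
  obtain ⟨i1, i2, i3⟩ := red_inst F.hG
  haveI := F.hc.1
  let E : Grp.mk (Red.DS (Spec (CommRingCat.of k)) M) ≅ Grp.mk (Red.DS (Spec (CommRingCat.of k)) M) := Iso.refl _
  have hE : E.inv.hom.hom ≫ c = c := Category.id_comp c
  haveI : IsMonHom (E.inv.hom.hom ≫ c) := by rw [hE]; infer_instance
  have hw : ∀ d, ∃ v, RootSys.IsWt (E.inv.hom.hom ≫ c) v (root d) ∧ v ≠ 1 := fun d => by
    haveI := (F.hu d).1
    haveI := (F.hu d).2.1
    haveI : Mono (u d) := Over.mono_of_mono_left _
    refine ⟨_, RootSys.isWt_vU E ?_, RootIntrinsic.vU_ne_one (u d)⟩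
    rw [show E.hom.hom.hom ≫ Red.chi _ (root d) = Red.chi _ (root d) from Category.id_comp _]
    exact F.hu d
  obtain ⟨v, hv, hv1⟩ := hw a
  obtain ⟨w, hw', hw1⟩ := hw b
  rcases (RootSys.field_rank_one F.hG c F.hc E hv (F.ne a) hv1).2 (root b) w hw' hw1 (F.ne b)
    ⟨x, y, hy, h⟩ with ⟨e, -⟩ | e
  · exact Or.inl e
  · exact Or.inr e

/-- Dependent roots of a frame agree up to sign. -/
theorem Frame.dep {S : Scheme.{u}} [Nonempty S] {G : Over S} [GrpObj G] {M : Type} [AddCommGroup M]
    [Module.Free ℤ M] [Module.Finite ℤ M] {c : Red.DS S M ⟶ G} {idx : Type} [Fintype idx] {root : idx → M}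
    {u : idx → (Red.Ga S ⟶ G)} (F : Frame c root u) {a b : idx} (x y : ℤ) (hy : y ≠ 0)
    (h : y • root b = x • root a) : root b = root a ∨ root b = -root a :=
  (F.bc (Red.geomPt (Classical.arbitrary S))).dep_field x y hy h

/-- The root datum of a splitting over a non-empty base is reduced. -/
theorem isReduced_of_splitRed {S : Scheme.{u}} [Nonempty S] {G : Over S} [GrpObj G] (D : Red.SplitRed G) :
    D.P.IsReduced := by
  letI := D.fintypeIdx
  refine ⟨fun a b hab => ?_⟩
  rw [LinearIndependent.pair_iff] at hab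
  push Not at hab
  obtain ⟨x, y, hxy, hne⟩ := hab
  have hy : y ≠ 0 := fun h => by
    rw [h, zero_smul, add_zero] at hxy
    exact hne ((smul_eq_zero.1 hxy).resolve_right (D.P.ne_zero a)) h
  rcases (frame_of_splitRed D).dep (-x) y hy (a := a) (b := b)
    (show y • D.P.root b = (-x) • D.P.root a by rw [neg_smul]; exact eq_neg_of_add_eq_zero_right hxy) with h | h
  · exact Or.inl h.symm
  · exact Or.inr (by rw [h, neg_neg])

end Dep

end Groth.Agent.RootBase
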