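import Groth.Agent.RootBase.TypeRLocal

/-!
# Equality of subgroups of type (R) with a common maximal torus
-/

set_option autoImplicit false
set_option backward.isDefEq.respectTransparency false
set_option linter.style.haveILetI false
set_option maxHeartbeats 1000000
set_option synthInstance.maxHeartbeats 400000

universe u

open CategoryTheory Limits MonoidalCategory CartesianMonoidalCategory MonObj GrpObj AlgebraicGeometry
open scoped CategoryTheory.Obj

noncomputable section

namespace Groth.Agent.RootBase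

open Groth.Agent.HomDiag Groth.Agent.DynPar Groth.Agent.RootSys Groth.Agent.MTBridge

variable {S : Scheme.{u}} {G T H H' : Over S} [GrpObj G] [GrpObj T] [GrpObj H] [GrpObj H']

/-- The hypotheses after a change of base. -/
theorem typeR_bc_data (hG : Red.IsReductive G) {i : T ⟶ G} (hT : Red.IsMaximalTorus i) {h : H ⟶ G}
    (hH : RedSub.IsTypeR h) {t : T ⟶ H} (ht : t ≫ h = i) {U : Scheme.{u}} (j : U ⟶ S) :
    Red.IsReductive (Red.bc j G) ∧ Red.IsMaximalTorus ((Over.pullback j).map i) ∧
      RedSub.IsTypeR ((Over.pullback j).map h) ∧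
      (Over.pullback j).map t ≫ (Over.pullback j).map h = (Over.pullback j).map i := by
  haveI := hG.1
  haveI := hG.2.1
  exact ⟨DynPar.isReductive_bc j hG, Chev.MaxTorusBC.isMaximalTorus_bc i hT j, BorelConj.isTypeR_bc h hH j,
    by rw [← Functor.map_comp, ht]⟩

/-- Inclusion of fibres gives inclusion after a change of base. -/
theorem exists_le_bc (hG : Red.IsReductive G) (i : T ⟶ G) (hT : Red.IsMaximalTorus i) (h : H ⟶ G) (h' : H' ⟶ G)
    (hH : RedSub.IsTypeR h) (hH' : RedSub.IsTypeR h') (t : T ⟶ H) (t' : T ⟶ H') (ht : t ≫ h = i)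
    (ht' : t' ≫ h' = i) {U : Scheme.{u}} (j : U ⟶ S) (hle : ∀ x, FibreLe h h' (j x)) :
    ∃ f : Red.bc j H ⟶ Red.bc j H', f ≫ (Over.pullback j).map h' = (Over.pullback j).map h := by
  obtain ⟨a1, a2, a3, a4⟩ := typeR_bc_data hG hT hH ht j
  obtain ⟨-, -, b3, b4⟩ := typeR_bc_data hG hT hH' ht' j
  exact exists_le_of_fibreLe a1 _ a2 _ _ a3 b3 _ _ a4 b4 fun x => (fibreLe_bc_iff j x).2 (hle x)

omit [GrpObj T] in
/-- Mutual inclusions give an isomorphism over the group. -/
theorem exists_iso_of_le {U : Scheme.{u}} {A A' B : Over U} (a : A ⟶ B) (a' : A' ⟶ B) [Mono a] [Mono a']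
    (h1 : ∃ f, f ≫ a' = a) (h2 : ∃ f, f ≫ a = a') : ∃ e : A ≅ A', e.hom ≫ a' = a := by
  obtain ⟨f, hf⟩ := h1
  obtain ⟨g, hg⟩ := h2
  exact ⟨⟨f, g, by rw [← cancel_mono a, Category.assoc, hg, hf, Category.id_comp],
    by rw [← cancel_mono a', Category.assoc, hf, hg, Category.id_comp]⟩, hf⟩

/-- **Equal fibres give equal subgroups after a change of base.** -/
theorem exists_iso_bc (hG : Red.IsReductive G) (i : T ⟶ G) (hT : Red.IsMaximalTorus i) (h : H ⟶ G) (h' : H' ⟶ G)
    (hH : RedSub.IsTypeR h) (hH' : RedSub.IsTypeR h') (t : T ⟶ H) (t' : T ⟶ H') (ht : t ≫ h = i)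
    (ht' : t' ≫ h' = i) {U : Scheme.{u}} (j : U ⟶ S) (h1 : ∀ x, FibreLe h h' (j x))
    (h2 : ∀ x, FibreLe h' h (j x)) :
    ∃ e : Red.bc j H ≅ Red.bc j H', e.hom ≫ (Over.pullback j).map h' = (Over.pullback j).map h := by
  haveI : IsImmersion h.left := hH.1.2
  haveI : IsImmersion h'.left := hH'.1.2
  haveI : Mono ((Over.pullback j).map h) := by
    haveI : IsImmersion ((Over.pullback j).map h).left :=
      MorphismProperty.overPullbackMap (P := @IsImmersion) j h inferInstance
    exact Over.mono_of_mono_left _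
  haveI : Mono ((Over.pullback j).map h') := by
    haveI : IsImmersion ((Over.pullback j).map h').left :=
      MorphismProperty.overPullbackMap (P := @IsImmersion) j h' inferInstance
    exact Over.mono_of_mono_left _
  exact exists_iso_of_le _ _ (exists_le_bc hG i hT h h' hH hH' t t' ht ht' j h1)
    (exists_le_bc hG i hT h' h hH' hH t' t ht' ht j h2)

/-- Equality of geometric fibres is mutual inclusion of fibres. -/
theorem geomFibre_iso_iff (hG : Red.IsReductive G) (i : T ⟶ G) (hT : Red.IsMaximalTorus i) (h : H ⟶ G)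
    (h' : H' ⟶ G) (hH : RedSub.IsTypeR h) (hH' : RedSub.IsTypeR h') (t : T ⟶ H) (t' : T ⟶ H') (ht : t ≫ h = i)
    (ht' : t' ≫ h' = i) (s : S) :
    (∃ e : Red.geomFibre s H ≅ Red.geomFibre s H',
      e.hom ≫ (Over.pullback (Red.geomPt s)).map h' = (Over.pullback (Red.geomPt s)).map h) ↔
      FibreLe h h' s ∧ FibreLe h' h s := by
  constructor
  · rintro ⟨e, he⟩
    exact ⟨fibreLe_of_geomFibre he, fibreLe_of_geomFibre (f := e.inv) (by rw [Iso.inv_comp_eq, he])⟩
  · rintro ⟨h1, h2⟩
    have hs : ∀ x, Red.geomPt s x = s := fun x => by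
      rw [Subsingleton.elim (α := ↥(Spec (CommRingCat.of (AlgebraicClosure (S.residueField s))))) x
        (IsLocalRing.closedPoint _), MTImage.geomPt_closedPoint]
    exact exists_iso_bc hG i hT h h' hH hH' t t' ht ht' (Red.geomPt s) (fun x => by rw [hs]; exact h1)
      fun x => by rw [hs]; exact h2

end Groth.Agent.RootBase
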