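import Groth.Agent.RootBase.SplitBC

/-!
# Moving a splitting along an isomorphism of groups and along composites of changes of base
-/

set_option autoImplicit false
set_option backward.isDefEq.respectTransparency false
set_option linter.style.haveILetI false
set_option maxHeartbeats 1000000
set_option synthInstance.maxHeartbeats 400000

universe u

open CategoryTheory Limits MonoidalCategory CartesianMonoidalCategory MonObj GrpObj AlgebraicGeometry
open scoped CategoryTheory.Obj

noncomputable section

namespace Groth.Agent.RootBase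

open Groth.Agent.HomDiag Groth.Agent.MTBridge

variable {S : Scheme.{u}} {G H : Over S} [GrpObj G] [GrpObj H]

/-- A splitting moves along an isomorphism, with the same root datum. -/
theorem exists_map (D : Red.SplitRed G) (Φ : Grp.mk G ≅ Grp.mk H) (hH : Red.IsReductive H) :
    ∃ D' : Red.SplitRed H, Nonempty (RootPairing.Equiv D'.P D.P) := by
  letI := D.grpT; letI := D.acgM; letI := D.fintypeIdx; letI := D.finiteM; letI := D.freeM
  let φ : G ≅ H := (Grp.forget _).mapIso Φ
  haveI : IsMonHom φ.hom := Φ.hom.hom.isMonHom_hom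
  haveI : IsIso φ.hom.left := inferInstanceAs (IsIso ((Over.forget _).map φ.hom))
  haveI : IsMonHom (Iso.refl D.T).hom := inferInstanceAs (IsMonHom (𝟙 _))
  refine ⟨{ T := D.T, i := D.i ≫ φ.hom, M := D.M, idx := D.idx, P := D.P, pairing_eq := D.pairing_eq
            u := fun a => D.u a ≫ φ.hom, reductive := hH
            maximalTorus := MTImage.isMaximalTorus_iso (Iso.refl D.T) φ D.i (D.i ≫ φ.hom) (Category.id_comp _).symm
              D.maximalTorus.2.2.1 D.maximalTorus
            split := D.split, rootHom := fun a => ?_, refl := fun a => ?_, dim_fibre := fun s => ?_ },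
    ⟨RootPairing.Equiv.id D.P⟩⟩
  · obtain ⟨h1, h2, h3⟩ := D.rootHom a
    haveI := h1; haveI := h2
    refine ⟨inferInstance, ?_, fun X t x => ?_⟩
    · rw [Over.comp_left]
      infer_instance
    · obtain ⟨y, hy, hy'⟩ := h3 X t x
      refine ⟨y, ?_, hy'⟩
      rw [← Category.assoc, hy]
      simp only [MonObj.mul_comp, GrpObj.inv_comp, Category.assoc]
  · obtain ⟨n, hn⟩ := D.refl a
    refine ⟨n ≫ φ.hom, fun X t => ?_⟩
    have := congrArg (· ≫ φ.hom) (hn X t)
    simp only [MonObj.mul_comp, GrpObj.inv_comp, Category.assoc] at this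
    exact this
  · rw [← D.dim_fibre s]
    exact (IsHomeomorph.topologicalKrullDim_eq _
      (Scheme.homeoOfIso ((Over.forget _).mapIso ((Over.pullback (Red.geomPt s)).mapIso φ))).isHomeomorph).symm

/-- A splitting after one change of base gives one after a further one. -/
theorem exists_bc_comp {S S₁ S₂ : Scheme.{u}} {e : S₁ ⟶ S} (j : S₂ ⟶ S₁) {f : S₂ ⟶ S} (hf : j ≫ e = f) {G : Over S}
    [GrpObj G] (hG : Red.IsReductive G) (D : Red.SplitRed (Red.bc e G)) :
    ∃ D' : Red.SplitRed (Red.bc f G), Nonempty (RootPairing.Equiv D'.P D.P) := by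
  subst hf
  obtain ⟨D₁, ⟨q₁⟩⟩ := exists_bc D j
  obtain ⟨D₂, ⟨q₂⟩⟩ := exists_map D₁ (bcComp e j G).symm (DynPar.isReductive_bc _ hG)
  exact ⟨D₂, ⟨RootPairing.Equiv.comp q₁ q₂⟩⟩

end Groth.Agent.RootBase
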