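import Groth.Agent.RootBase.Iso
import Groth.Agent.RootSys.BaseExists

/-!
# The isomorphism theorem for two splittings
-/

set_option autoImplicit false
set_option backward.isDefEq.respectTransparency false
set_option linter.style.haveILetI false
set_option maxHeartbeats 1000000
set_option synthInstance.maxHeartbeats 400000

universe u

open CategoryTheory Limits MonoidalCategory CartesianMonoidalCategory MonObj GrpObj AlgebraicGeometry LieS
open scoped CategoryTheory.Obj

noncomputable section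

namespace Groth.Agent.RootBase

open Groth.Agent.HomDiag Groth.Agent.DynPar Groth.Agent.RootSys Groth.Agent.MTBridge

variable {S : Scheme.{u}} {G G' : Over S} [GrpObj G] [GrpObj G']

/-- An isomorphism of character groups gives an isomorphism of diagonalisable groups. -/
def DSIso {M M' : Type} [AddCommGroup M] [AddCommGroup M'] (e : M' ≃+ M) : Red.DS S M ≅ Red.DS S M' where
  hom := Red.DSmap S e.toAddMonoidHom
  inv := Red.DSmap S e.symm.toAddMonoidHom
  hom_inv_id := ch_ext fun m => by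
    obtain ⟨m, rfl⟩ : ∃ k : M, Multiplicative.ofAdd k = m := ⟨m.toAdd, rfl⟩
    rw [ch_DSmap, toAdd_ofAdd, show Red.DSmap S e.toAddMonoidHom = 𝟙 _ ≫ Red.DSmap S e.toAddMonoidHom from
      (Category.id_comp _).symm, ch_DSmap, toAdd_ofAdd]
    simp
  inv_hom_id := ch_ext fun m => by
    obtain ⟨m, rfl⟩ : ∃ k : M', Multiplicative.ofAdd k = m := ⟨m.toAdd, rfl⟩
    rw [ch_DSmap, toAdd_ofAdd, show Red.DSmap S e.symm.toAddMonoidHom = 𝟙 _ ≫ Red.DSmap S e.symm.toAddMonoidHom from
      (Category.id_comp _).symm, ch_DSmap, toAdd_ofAdd]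
    simp

section Transport

variable {M M' : Type} [AddCommGroup M] [Module.Free ℤ M] [Module.Finite ℤ M] [AddCommGroup M'] [Module.Free ℤ M']
  [Module.Finite ℤ M'] {idx idx' : Type} [Fintype idx] [Fintype idx']
  {P : RootPairing idx ℤ M (Module.Dual ℤ M)} {P' : RootPairing idx' ℤ M' (Module.Dual ℤ M')}
  {c' : Red.DS S M' ⟶ G'} {u' : idx' → (Red.Ga S ⟶ G')}

/-- A frame read through an equivalence of root data. -/
theorem frame_transport (hP : P.toLinearMap = Module.Dual.eval ℤ M) (hP' : P'.toLinearMap = Module.Dual.eval ℤ M')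
    (h : RootPairing.Equiv P' P) (F' : Frame c' P'.root u') (hR : HasRefl c' P') :
    Frame (Red.DSmap S h.weightMap.toAddMonoidHom ≫ c') P.root (fun a => u' (h.indexEquiv.symm a)) ∧
      HasRefl (Red.DSmap S h.weightMap.toAddMonoidHom ≫ c') P := by
  let e : M' ≃+ M := (RootPairing.Equiv.weightEquiv P' P h).toAddEquiv
  have he : ∀ m, h.weightMap m = e m := fun m => rfl
  haveI : IsMonHom (Red.DSmap S h.weightMap.toAddMonoidHom) := MTQuot.isMonHom_DSmap _
  have hroot : ∀ a, h.weightMap (P'.root (h.indexEquiv.symm a)) = P.root a := fun a => by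
    rw [RootPairing.Hom.root_weightMap_apply P' P _ h.toHom]
    exact congrArg P.root (h.indexEquiv.apply_symm_apply a)
  have hcc : ∀ a m, P.coroot a (h.weightMap m) = P'.coroot (h.indexEquiv.symm a) m := fun a m => by
    have h1 := LinearMap.congr_fun (RootPairing.Hom.weight_coweight_transpose_apply P' P (P.coroot a) h.toHom) m
    rw [RootPairing.Hom.coroot_coweightMap_apply P' P] at h1
    rw [LinearMap.dualMap_apply] at h1
    change P.toLinearMap (h.weightMap m) (P.coroot a) = P'.toLinearMap m (P'.coroot (h.indexEquiv.symm a)) at h1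
    rw [hP, hP'] at h1
    exact h1
  refine ⟨⟨F'.hG, ?_, P.root.injective, fun a => P.ne_zero a, fun a => ?_, fun s => ?_⟩, fun a => ?_⟩
  · haveI : IsMonHom (DSIso (S := S) e).hom := MTQuot.isMonHom_DSmap _
    haveI : IsMonHom (DSIso (S := S) e).inv := MTQuot.isMonHom_DSmap _
    exact S8433.isMaximalTorus_of_iso_left (DSIso (S := S) e) c'
      (isTorus_of_grpIso (grpIso (DSIso (S := S) e).inv) F'.hc.2.2.1) F'.hc
  · obtain ⟨h1, h2, h3⟩ := F'.hu (h.indexEquiv.symm a)
    refine ⟨h1, h2, fun X t x => ?_⟩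
    obtain ⟨y, hy, hy'⟩ := h3 X (t ≫ Red.DSmap S h.weightMap.toAddMonoidHom) x
    refine ⟨y, by rw [hy, Category.assoc], ?_⟩
    rw [hy', RootIntrinsic.gmFn_chi, RootIntrinsic.gmFn_chi, ch_DSmap, toAdd_ofAdd]
    rw [show h.weightMap.toAddMonoidHom (P'.root (h.indexEquiv.symm a)) = P.root a from hroot a]
  · rw [F'.hdim s, (RootPairing.Equiv.weightEquiv P' P h).finrank_eq, Fintype.card_congr h.indexEquiv]
  · obtain ⟨N, hN⟩ := hR (h.indexEquiv.symm a)
    refine ⟨N, fun X t => ?_⟩
    have h1 := hN X (t ≫ Red.DSmap S h.weightMap.toAddMonoidHom)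
    rw [← Category.assoc t, h1, ← Category.assoc]
    congr 1
    refine ch_ext fun m => ?_
    obtain ⟨m, rfl⟩ : ∃ k : M', Multiplicative.ofAdd k = m := ⟨m.toAdd, rfl⟩
    rw [ch_refl, ch_DSmap, ch_DSmap, toAdd_ofAdd, toAdd_ofAdd, ch_refl]
    congr 2
    show h.weightMap (m - P'.coroot _ m • P'.root _) = h.weightMap m - P.coroot a (h.weightMap m) • P.root a
    rw [map_sub, _root_.map_smul, hroot, hcc]

end Transport

/-- **The isomorphism theorem for two splittings.** -/
theorem existsUnique_iso_split [Nonempty S] (D : Red.SplitRed G) (D' : Red.SplitRed G')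
    (h : RootPairing.Equiv D'.P D.P) (B : D.P.Base) :
    ∃! f : G ≅ G', IsMonHom f.hom ∧
      D.i ≫ f.hom = D.split.hom.hom.hom ≫ Red.DSmap S h.weightMap.toAddMonoidHom ≫ D'.split.inv.hom.hom ≫ D'.i ∧
      ∀ a' : D'.idx, h.indexEquiv a' ∈ B.support → D.u (h.indexEquiv a') ≫ f.hom = D'.u a' := by
  letI := D.grpT; letI := D.acgM; letI := D.fintypeIdx; letI := D.finiteM; letI := D.freeM
  letI := D'.grpT; letI := D'.acgM; letI := D'.fintypeIdx; letI := D'.finiteM; letI := D'.freeM
  haveI := isReduced_of_splitRed D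
  have F : Frame (D.split.inv.hom.hom ≫ D.i) D.P.root D.u := frame_of_splitRed D
  have F' : Frame (D'.split.inv.hom.hom ≫ D'.i) D'.P.root D'.u := frame_of_splitRed D'
  obtain ⟨F'', hR''⟩ := frame_transport D.pairing_eq D'.pairing_eq h F' (hasRefl_of_splitRed D')
  have hiff : ∀ k : G ⟶ G',
      D.i ≫ k = D.split.hom.hom.hom ≫ Red.DSmap S h.weightMap.toAddMonoidHom ≫ D'.split.inv.hom.hom ≫ D'.i ↔
      (D.split.inv.hom.hom ≫ D.i) ≫ k =
        Red.DSmap S h.weightMap.toAddMonoidHom ≫ D'.split.inv.hom.hom ≫ D'.i := fun k => by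
    have h1 : D.split.inv.hom.hom ≫ D.split.hom.hom.hom = 𝟙 _ := congrArg (fun z => z.hom.hom) D.split.inv_hom_id
    have h2 : D.split.hom.hom.hom ≫ D.split.inv.hom.hom = 𝟙 _ := congrArg (fun z => z.hom.hom) D.split.hom_inv_id
    constructor
    · intro hk; rw [Category.assoc, hk, reassoc_of% h1]
    · intro hk
      rw [← hk]
      simp only [Category.assoc, reassoc_of% h2]
  obtain ⟨f, ⟨hf, hfc, hfu⟩, huniq⟩ := existsUnique_iso D.pairing_eq F F'' (hasRefl_of_splitRed D) hR'' B
  refine ⟨f, ⟨hf, (hiff _).2 hfc, fun a' ha' => ?_⟩, fun k ⟨hk, hkc, hku⟩ => huniq k ⟨hk, (hiff _).1 hkc, fun a ha => ?_⟩⟩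
  · have h1 := hfu _ ha'
    beta_reduce at h1
    rwa [Equiv.symm_apply_apply] at h1
  · have h1 := hku (h.indexEquiv.symm a) (by rwa [Equiv.apply_symm_apply])
    rwa [Equiv.apply_symm_apply] at h1

/-- A split reductive group has a base. -/
theorem nonempty_base_split [Nonempty S] (D : Red.SplitRed G) :
    letI := D.acgM
    Nonempty D.P.Base := by
  classical
  letI := D.acgM; letI := D.fintypeIdx; letI := D.finiteM; letI := D.freeM
  haveI := isReduced_of_splitRed D
  haveI : Module.IsReflexive ℤ D.M := .of_isPerfPair D.P.toLinearMap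
  haveI : D.P.flip.IsReduced := RootPairing.instFlipIsReduced D.P
  obtain ⟨θ, hθ⟩ := DynPar.exists_hom_ne_zero (Finset.univ.image fun a => D.P.coroot a)
  obtain ⟨ξ, hξ⟩ : ∃ ξ : D.M, ∀ x, D.P.toLinearMap ξ x = θ x := by
    obtain ⟨ξ, hξ⟩ := (Module.bijective_dual_eval ℤ D.M).2 θ.toIntLinearMap
    exact ⟨ξ, fun x => by rw [D.pairing_eq]; exact LinearMap.congr_fun hξ x⟩
  refine RootSys.nonempty_base ξ fun i h => hθ _ (Finset.mem_image_of_mem _ (Finset.mem_univ i)) ?_ ?_
  · intro h0
    exact D.P.flip.ne_zero i h0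
  · rw [← hξ]; exact h

/-- **Split groups with isomorphic root data are isomorphic.** -/
theorem nonempty_iso_of_equiv (D : Red.SplitRed G) (D' : Red.SplitRed G') (h : RootPairing.Equiv D'.P D.P) :
    Nonempty (Grp.mk G ≅ Grp.mk G') := by
  rcases isEmpty_or_nonempty S with hS | hS
  · haveI : IsEmpty G.left := Function.isEmpty G.hom
    haveI : IsEmpty G'.left := Function.isEmpty G'.hom
    let f : G ≅ G' := Over.isoMk ((isInitialOfIsEmpty : IsInitial G.left).uniqueUpToIso isInitialOfIsEmpty)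
      (IsInitial.hom_ext isInitialOfIsEmpty _ _)
    haveI : IsMonHom f.hom := HomDiag.isMonHom_of_mul _ fun X x y => by
      haveI : IsEmpty X.left := Function.isEmpty X.hom
      exact Over.OverMorphism.ext (IsInitial.hom_ext isInitialOfIsEmpty _ _)
    exact ⟨grpIso f.hom⟩
  obtain ⟨B⟩ := nonempty_base_split D
  obtain ⟨f, ⟨hf, -, -⟩, -⟩ := existsUnique_iso_split D D' h B
  haveI := hf
  exact ⟨grpIso f.hom⟩

end Groth.Agent.RootBase
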