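import Groth.Agent.RootBase.UnipStabS

/-!
# Complements on contracted points
-/

set_option autoImplicit false
set_option backward.isDefEq.respectTransparency false
set_option linter.style.haveILetI false
set_option maxHeartbeats 1000000
set_option synthInstance.maxHeartbeats 400000

universe u

open CategoryTheory Limits MonoidalCategory CartesianMonoidalCategory MonObj GrpObj AlgebraicGeometry LieS
open scoped CategoryTheory.Obj

noncomputable section

namespace Groth.Agent.RootBase

open Groth.Agent.HomDiag Groth.Agent.DynPar Groth.Agent.RootSys Groth.Agent.MTBridge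

variable {S : Scheme.{u}} {G : Over S} [GrpObj G] {M : Type} [AddCommGroup M] [Module.Free ℤ M] [Module.Finite ℤ M]
  {c : Red.DS S M ⟶ G} {idx : Type} [Fintype idx] {root : idx → M} {u : idx → (Red.Ga S ⟶ G)}

set_option maxHeartbeats 4000000 in
/-- Points contracted by a functional and by its opposite are trivial. -/
theorem Frame.eq_one_of_mem_USub_neg (F : Frame c root u) (mu : M →+ ℤ) (hmu : ∀ a, mu (root a) ≠ 0) {B : Type u}
    [CommRing B] {f : Spec (CommRingCat.of B) ⟶ S} {g : pt B f ⟶ G} (hp : g ∈ USub f (Red.DSmap S mu ≫ c))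
    (hn : g ∈ USub f (Red.DSmap S (-mu) ≫ c)) : g = 1 := by
  classical
  haveI := F.hG.1; haveI := F.hG.2.1; haveI := F.hc.1
  haveI : ∀ a, IsMonHom (u a) := fun a => (F.hu a).1
  have hmu' : ∀ a, (-mu) (root a) ≠ 0 := fun a => by rw [AddMonoidHom.neg_apply]; exact neg_ne_zero.2 (hmu a)
  obtain ⟨N', e', -, hP⟩ := exists_extend {b | 0 < mu (root b)} (Fin.elim0 : Fin 0 → idx) (fun x => x.elim0)
    fun x => x.elim0
  obtain ⟨N, en', -, hN⟩ := exists_extend {b | 0 < (-mu) (root b)} (Fin.elim0 : Fin 0 → idx) (fun x => x.elim0)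
    fun x => x.elim0
  let eP := Fin.append (Fin.elim0 : Fin 0 → idx) e'
  let eN := Fin.append (Fin.elim0 : Fin 0 → idx) en'
  obtain ⟨Yp, hYp⟩ := exists_pow_of_mem_USub F mu hmu eP hP hp
  obtain ⟨Yn, hYn⟩ := exists_pow_of_mem_USub F (-mu) hmu' eN hN hn
  haveI := (F.cell mu hmu eN eN eP eP hN hP hN hP).1
  haveI : Mono (cellC c (fun l => u (eN l)) (fun l => u (eP l))) := Over.mono_of_mono_left _
  obtain ⟨oN, hoN, hoN'⟩ := exists_pow_prod (fun l => u (eN l)) fun _ => (1 : pt B f ⟶ Red.Ga S)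
  obtain ⟨oP, hoP, hoP'⟩ := exists_pow_prod (fun l => u (eP l)) fun _ => (1 : pt B f ⟶ Red.Ga S)
  have h1 : ∀ {k : ℕ} (e : Fin k → idx), (List.ofFn fun l => (1 : pt B f ⟶ Red.Ga S) ≫ u (e l)).prod = 1 :=
    fun e => by simp [MonObj.one_comp]
  rw [h1] at hoN' hoP'
  have heq : lift oN (lift (1 : pt B f ⟶ Red.DS S M) Yp) = lift Yn (lift 1 oP) := by
    rw [← cancel_mono (cellC c (fun l => u (eN l)) (fun l => u (eP l))), comp_cellC, comp_cellC, hoN', hoP', hYp,
      hYn]
    simp [MonObj.one_comp]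
  have h2 := congrArg (fun z => z ≫ snd _ _ ≫ snd _ _) heq
  simp only [lift_snd_assoc, lift_snd] at h2
  rw [← hYp, h2, hoP']

end Groth.Agent.RootBase
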