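import Groth.Agent.RootBase.UnipStabS
import Groth.Agent.RootBase.Unip2
import Groth.Agent.RootSys.BorelSplit
import Groth.Agent.DynPar.Main

/-!
# Unipotent radicals of the Borel subgroups containing a split maximal torus, and their intersections
-/

set_option autoImplicit false
set_option backward.isDefEq.respectTransparency false
set_option linter.style.haveILetI false
set_option maxHeartbeats 4000000
set_option synthInstance.maxHeartbeats 400000

universe u

open CategoryTheory Limits MonoidalCategory CartesianMonoidalCategory MonObj GrpObj AlgebraicGeometry LieS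
open scoped CategoryTheory.Obj

noncomputable section

namespace Groth.Agent.RootBase

open Groth.Agent.HomDiag Groth.Agent.DynPar Groth.Agent.RootSys Groth.Agent.MTBridge

variable {k : Type u} [Field k] {G : Over (Spec (CommRingCat.of k))} [GrpObj G]

set_option maxHeartbeats 8000000 in
/-- **The unipotent radical of a Borel subgroup containing the torus** is the product of the positive root groups. -/
theorem exists_borel_radical (D : Red.SplitRed G)
    {B : Over (Spec (CommRingCat.of k))} [GrpObj B] (iB : B ⟶ G) (hB : Red.IsBorel iB)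
    (tB : D.T ⟶ B) (htB : tB ≫ iB = D.i)
    {U : Over (Spec (CommRingCat.of k))} [GrpObj U] (uB : U ⟶ B) (hU : Par.IsUnipotentRadical uB) :
    ∃ mu : D.M →+ ℤ, (∀ a, mu (D.P.root a) ≠ 0) ∧
      IsP (Red.DSmap (Spec (CommRingCat.of k)) mu ≫ D.split.inv.hom.hom ≫ D.i) iB ∧
      (∀ a, (∃ v, v ≫ uB ≫ iB = D.u a) ↔ 0 < mu (D.P.root a)) ∧
      ∀ {m : ℕ} (e : Fin m → D.idx), RedSub.Enumerates {a | 0 < mu (D.P.root a)} e →
        ∃ ψ : RedSub.pow (Red.Ga (Spec (CommRingCat.of k))) m ≅ U,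
          ψ.hom ≫ uB ≫ iB = RedSub.prodMap (Red.Ga (Spec (CommRingCat.of k))) m (fun l => D.u (e l)) := by
  classical
  letI := D.grpT
  letI := D.acgM
  letI := D.fintypeIdx
  letI := D.finiteM
  letI := D.freeM
  haveI : ConnectedSpace ↥(Spec (CommRingCat.of k)) := inferInstanceAs (ConnectedSpace (PrimeSpectrum k))
  let S := Spec (CommRingCat.of k)
  obtain ⟨c, hc, F⟩ : ∃ c : Red.DS _ D.M ⟶ G, D.split.inv.hom.hom ≫ D.i = c ∧ Frame c D.P.root D.u :=
    ⟨_, rfl, frame_of_splitRed D⟩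
  obtain ⟨i1, i2, i3⟩ := red_inst F.hG
  haveI := i1; haveI := i2; haveI := i3
  haveI := F.hG.1
  haveI := F.hc.1
  obtain ⟨hUm, hUc, hUn, hUs, -, hUfib, hUmax⟩ := id hU
  haveI := hB.1; haveI := hB.2.1; haveI := hUm; haveI := hUc; haveI := hUs
  haveI : IsMonHom (uB ≫ iB) := inferInstance
  haveI : IsClosedImmersion (uB ≫ iB).left := inferInstanceAs (IsClosedImmersion (uB.left ≫ iB.left))
  haveI : IsMonHom (D.split.inv.hom.hom ≫ D.i) := by rw [hc]; exact F.hc.1
  have hstU : IsStabUnip c (uB ≫ iB) := ⟨hUfib, fun X x y => by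
    obtain ⟨y', hy'⟩ := hUn X (x ≫ D.split.inv.hom.hom ≫ tB) y
    refine ⟨y', ?_⟩
    have h2 := congrArg (fun z => z ≫ iB) hy'
    simp only [MonObj.mul_comp, GrpObj.inv_comp, Category.assoc, htB, hc] at h2
    exact h2⟩
  obtain ⟨-, -, mu₀, -, hpos, hprod⟩ := F.exists_unip_global hstU
  obtain ⟨mu, hP, hreg⟩ := exists_borel_eq F.hG D.i D.maximalTorus D.split iB hB tB htB
  have hmu : ∀ a, mu (D.P.root a) ≠ 0 := fun a => by
    haveI := (D.rootHom a).1
    haveI := (D.rootHom a).2.1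
    haveI : Mono (D.u a) := Over.mono_of_mono_left _
    exact hreg _ _ (isWt_vU D.split (D.rootHom a)) (RootIntrinsic.vU_ne_one _) (F.ne a)
  have hle : ∀ a, 0 < mu (D.P.root a) → ∃ v, v ≫ uB ≫ iB = D.u a := by
    intro a ha
    have hP' : IsP (Red.DSmap S mu ≫ c) iB := hc ▸ hP
    obtain ⟨U₀, _, u₀, hU₀⟩ := exists_isU (G := G) (Red.DSmap S mu ≫ c)
    obtain ⟨Z, _, z, hz, -, -⟩ := exists_centralizer_DS (G := G) inferInstance inferInstance (Red.DSmap S mu ≫ c)
    haveI := hU₀.1; haveI := hU₀.2.1; haveI := hz.1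
    obtain ⟨d⟩ := exists_leviData hP' hU₀ hz
    haveI := d.l_hom; haveI := d.iu_hom; haveI := d.r_hom
    haveI : IsClosedImmersion d.iu.left := by
      haveI : IsClosedImmersion (d.iu.left ≫ iB.left) := by rw [← Over.comp_left, d.iu_p]; infer_instance
      exact IsClosedImmersion.of_comp d.iu.left iB.left
    haveI : IsAffineHom U₀.hom := by rw [← Over.w u₀]; infer_instance
    have hn : AlgGrp.IsNormalHom d.iu := by
      intro T g n
      refine ⟨(g * (n ≫ d.iu) * g⁻¹) ≫ d.s, ?_⟩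
      have hr : (g * (n ≫ d.iu) * g⁻¹) ≫ d.r = 1 := by
        rw [MonObj.mul_comp, MonObj.mul_comp, GrpObj.inv_comp, Category.assoc, d.iu_r, MonObj.comp_one,
          _root_.mul_one, mul_inv_cancel]
      have h := congrArg ((g * (n ≫ d.iu) * g⁻¹) ≫ ·) d.rs
      rw [MonObj.comp_mul, Category.comp_id, ← Category.assoc _ d.r d.l, hr,
        show (1 : T ⟶ Z) ≫ d.l = 1 from (IsMonHom.monoidHom d.l T).map_one, _root_.one_mul] at h
      rw [Category.assoc]
      exact h.symm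
    obtain ⟨f, hf⟩ := hUmax U₀ d.iu inferInstance hn (smooth_isU inferInstance hP' hU₀ hz).1 inferInstance fun s => by
      obtain ⟨-, hUc', -, hUn'⟩ := geom_fibre (G := G) inferInstance (fun t => (F.hG.2.2 t).2.2.1) hP' hU₀ hz s
      exact ⟨hUc', hUn'⟩
    obtain ⟨w, hw⟩ := hU₀.exists_le (D.u a) fun B' _ g x => rootHom_mem_USub_global (F.hu a) mu ha g x
    refine ⟨w ≫ f, ?_⟩
    rw [Category.assoc, reassoc_of% hf, d.iu_p, hw]
  have hiff : ∀ a, (∃ v, v ≫ uB ≫ iB = D.u a) ↔ 0 < mu (D.P.root a) := by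
    refine fun a => ⟨fun ha => ?_, hle a⟩
    by_contra hcon
    have hneg : D.P.root (D.P.reflectionPerm a a) = -D.P.root a := by
      rw [RootPairing.root_reflectionPerm]; exact RootPairing.reflection_apply_self D.P a
    have h1 : 0 < mu (D.P.root (D.P.reflectionPerm a a)) := by
      rw [hneg, map_neg]; have := hmu a; omega
    have h2 := hpos _ (hle _ h1)
    have h3 := hpos a ha
    rw [hneg, map_neg] at h2
    omega
  refine ⟨mu, hmu, hP, hiff, fun e he => hprod e ?_⟩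
  rwa [show {a | ∃ v, v ≫ uB ≫ iB = D.u a} = {a | 0 < mu (D.P.root a)} from Set.ext hiff]

/-- A point of the radical of one sign that is a product of root groups of the other sign is trivial. -/
theorem eq_one_of_pos_neg (D : Red.SplitRed G) (mu : D.M →+ ℤ) (hmu : ∀ a, mu (D.P.root a) ≠ 0) {m n : ℕ}
    (e : Fin m → D.idx) (r : Fin n → D.idx) (he : ∀ l, 0 < mu (D.P.root (e l))) (hr : ∀ l, mu (D.P.root (r l)) < 0)
    {X : Over (Spec (CommRingCat.of k))} (y : X ⟶ RedSub.pow (Red.Ga (Spec (CommRingCat.of k))) m)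
    (z : X ⟶ RedSub.pow (Red.Ga (Spec (CommRingCat.of k))) n)
    (h : y ≫ RedSub.prodMap _ m (fun l => D.u (e l)) = z ≫ RedSub.prodMap _ n (fun l => D.u (r l))) :
    z ≫ RedSub.prodMap _ n (fun l => D.u (r l)) = 1 := by
  letI := D.grpT
  letI := D.acgM
  letI := D.fintypeIdx
  letI := D.finiteM
  letI := D.freeM
  obtain ⟨c, hc, F⟩ : ∃ c : Red.DS _ D.M ⟶ G, D.split.inv.hom.hom ≫ D.i = c ∧ Frame c D.P.root D.u :=
    ⟨_, rfl, frame_of_splitRed D⟩
  haveI := F.hG.1; haveI := F.hG.2.1; haveI := F.hc.1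
  refine DynPar.hom_ext_pts _ _ fun B _ f x => ?_
  rw [MonObj.comp_one]
  refine F.eq_one_of_mem_USub_neg mu hmu ?_ ?_
  · rw [← h, ← Category.assoc]
    exact prodMap_mem_USub_global mu f (fun l => F.hu (e l)) he _
  · rw [← Category.assoc]
    exact prodMap_mem_USub_global (-mu) f (fun l => F.hu (r l))
      (fun l => by rw [AddMonoidHom.neg_apply]; exact neg_pos.2 (hr l)) _

set_option maxHeartbeats 8000000 in
/-- **Coordinates on one radical adapted to another one.** -/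
theorem exists_inter (D : Red.SplitRed G) {U U' : Over (Spec (CommRingCat.of k))} [GrpObj U] [GrpObj U']
    (j : U ⟶ G) [IsMonHom j] [Mono j] (j' : U' ⟶ G) [IsMonHom j'] [Mono j'] (mu mu' : D.M →+ ℤ) (hmu' : ∀ a, mu' (D.P.root a) ≠ 0)
    (hj : ∀ {m : ℕ} (e : Fin m → D.idx), RedSub.Enumerates {a | 0 < mu (D.P.root a)} e →
      ∃ ψ : RedSub.pow (Red.Ga (Spec (CommRingCat.of k))) m ≅ U,
        ψ.hom ≫ j = RedSub.prodMap (Red.Ga (Spec (CommRingCat.of k))) m (fun l => D.u (e l)))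
    (hj' : ∀ {m : ℕ} (e : Fin m → D.idx), RedSub.Enumerates {a | 0 < mu' (D.P.root a)} e →
      ∃ ψ : RedSub.pow (Red.Ga (Spec (CommRingCat.of k))) m ≅ U',
        ψ.hom ≫ j' = RedSub.prodMap (Red.Ga (Spec (CommRingCat.of k))) m (fun l => D.u (e l)))
    {V : Over (Spec (CommRingCat.of k))} (p : V ⟶ U) (p' : V ⟶ U') (hV : IsPullback p p' j j')
    {m : ℕ} (e : Fin m → D.idx) (he : RedSub.Enumerates {a | 0 < mu (D.P.root a) ∧ 0 < mu' (D.P.root a)} e) :
    ∃ ψ : RedSub.pow (Red.Ga (Spec (CommRingCat.of k))) m ≅ V,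
      ψ.hom ≫ p ≫ j = RedSub.prodMap (Red.Ga (Spec (CommRingCat.of k))) m (fun l => D.u (e l)) := by
  classical
  letI := D.grpT
  letI := D.acgM
  letI := D.fintypeIdx
  letI := D.finiteM
  letI := D.freeM
  obtain ⟨c, hc, F⟩ : ∃ c : Red.DS _ D.M ⟶ G, D.split.inv.hom.hom ≫ D.i = c ∧ Frame c D.P.root D.u :=
    ⟨_, rfl, frame_of_splitRed D⟩
  haveI : ∀ a, IsMonHom (D.u a) := fun a => (F.hu a).1
  let S := Spec (CommRingCat.of k)
  have hepos : ∀ l, 0 < mu (D.P.root (e l)) := fun l => (he.2.subset ⟨l, rfl⟩).1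
  have hepos' : ∀ l, 0 < mu' (D.P.root (e l)) := fun l => (he.2.subset ⟨l, rfl⟩).2
  obtain ⟨n, r, hr0, hr⟩ := exists_extend {a | 0 < mu (D.P.root a)} e he.1 hepos
  obtain ⟨n', r', -, hr'⟩ := exists_extend {a | 0 < mu' (D.P.root a)} e he.1 hepos'
  obtain ⟨ψ, hψ⟩ := hj _ hr
  obtain ⟨ψ', hψ'⟩ := hj' _ hr'
  have hrneg : ∀ l, mu' (D.P.root (r l)) < 0 := fun l => by
    refine lt_of_le_of_ne (not_lt.1 fun hl => hr0 l ?_) (hmu' _)
    rw [he.2]
    exact ⟨hr.2.subset ⟨Fin.natAdd m l, Fin.append_right _ _ _⟩, hl⟩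
  have hu1 : ∀ a, (1 : RedSub.pow (Red.Ga S) m ⟶ Red.Ga S) ≫ D.u a = 1 := fun a => MonObj.one_comp _
  obtain ⟨x, -, hx⟩ := exists_pow_prod (G := G) (fun l => D.u (Fin.append e r l)) (X := RedSub.pow (Red.Ga S) m)
    (Fin.append (fun l => proj S m l) fun _ => 1)
  obtain ⟨x', -, hx'⟩ := exists_pow_prod (G := G) (fun l => D.u (Fin.append e r' l)) (X := RedSub.pow (Red.Ga S) m)
    (Fin.append (fun l => proj S m l) fun _ => 1)
  have hprod : ∀ w : RedSub.pow (Red.Ga S) m ⟶ G,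
      w = (List.ofFn fun l => proj S m l ≫ D.u (e l)).prod → w = RedSub.prodMap (Red.Ga S) m (fun l => D.u (e l)) := by
    intro w hw
    conv_rhs => rw [← Category.id_comp (RedSub.prodMap _ _ _), comp_prodMap_eq]
    simpa only [Category.id_comp] using hw
  have h1 : (x ≫ ψ.hom) ≫ j = RedSub.prodMap (Red.Ga S) m (fun l => D.u (e l)) := by
    refine hprod _ ?_
    rw [Category.assoc, hψ, hx, prod_append_one D.u (fun a => (F.hu a).1)]
  have h1' : (x' ≫ ψ'.hom) ≫ j' = RedSub.prodMap (Red.Ga S) m (fun l => D.u (e l)) := by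
    refine hprod _ ?_
    rw [Category.assoc, hψ', hx', prod_append_one D.u (fun a => (F.hu a).1)]
  let φ := hV.lift (x ≫ ψ.hom) (x' ≫ ψ'.hom) (h1.trans h1'.symm)
  have hφ : φ ≫ p ≫ j = RedSub.prodMap (Red.Ga S) m (fun l => D.u (e l)) := by
    rw [← Category.assoc, hV.lift_fst, h1]
  -- coordinates of the universal point of the intersection
  obtain ⟨y, hy⟩ := exists_pow (S := S) fun l : Fin m => (p ≫ ψ.inv) ≫ proj S (m + n) (Fin.castAdd n l)
  obtain ⟨z, hz⟩ := exists_pow (S := S) fun l : Fin n => (p ≫ ψ.inv) ≫ proj S (m + n) (Fin.natAdd m l)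
  have hsplit : p ≫ j = (y ≫ RedSub.prodMap (Red.Ga S) m fun l => D.u (e l)) *
      (z ≫ RedSub.prodMap (Red.Ga S) n fun l => D.u (r l)) := by
    have : p ≫ j = (p ≫ ψ.inv) ≫ RedSub.prodMap (Red.Ga S) (m + n) (fun l => D.u (Fin.append e r l)) := by
      rw [← hψ, Category.assoc, Iso.inv_hom_id_assoc]
    rw [this, comp_prodMap_eq, comp_prodMap_eq, comp_prodMap_eq, ofFn_split, List.prod_append]
    simp only [Fin.append_left, Fin.append_right]
    exact congrArg₂ (· * ·)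
      (congrArg List.prod (congrArg List.ofFn (funext fun l => congrArg (· ≫ D.u (e l)) (hy l).symm)))
      (congrArg List.prod (congrArg List.ofFn (funext fun l => congrArg (· ≫ D.u (r l)) (hz l).symm)))
  have hz1 : z ≫ RedSub.prodMap (Red.Ga S) n (fun l => D.u (r l)) = 1 := by
    let g : V ⟶ U' := (y ≫ x' ≫ ψ'.hom)⁻¹ * p'
    refine eq_one_of_pos_neg D mu' hmu' (Fin.append e r') r (fun l => hr'.2.subset ⟨l, rfl⟩) hrneg (g ≫ ψ'.inv) z ?_
    rw [← hψ', Category.assoc, Iso.inv_hom_id_assoc]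
    show ((y ≫ x' ≫ ψ'.hom)⁻¹ * p') ≫ j' = _
    rw [MonObj.mul_comp, GrpObj.inv_comp, ← hV.w, hsplit, Category.assoc, h1', inv_mul_cancel_left]
  have hy1 : y ≫ RedSub.prodMap (Red.Ga S) m (fun l => D.u (e l)) = p ≫ j := by rw [hsplit, hz1, _root_.mul_one]
  refine ⟨⟨φ, y, ?_, ?_⟩, hφ⟩
  · refine pow_ext fun l => ?_
    have h2 : (φ ≫ y) ≫ RedSub.prodMap (Red.Ga S) m (fun l => D.u (e l)) =
        𝟙 _ ≫ RedSub.prodMap (Red.Ga S) m (fun l => D.u (e l)) := by
      rw [Category.id_comp, Category.assoc, hy1, hφ]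
    rw [comp_prodMap_eq, comp_prodMap_eq] at h2
    exact congrFun (F.prod_inj mu e he.1 hepos _ _ h2) l
  · apply hV.hom_ext
    · rw [← cancel_mono j, Category.id_comp, Category.assoc, Category.assoc, hφ, hy1]
    · rw [← cancel_mono j', Category.id_comp, Category.assoc, Category.assoc, ← hV.w, hφ, hy1]

end Groth.Agent.RootBase
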