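import Groth.Agent.RootBase.TypeRSplit
import Groth.Agent.S5550

/-!
# Reflections inside subgroups of type (R)
-/

set_option autoImplicit false
set_option backward.isDefEq.respectTransparency false
set_option linter.style.haveILetI false
set_option maxHeartbeats 1000000
set_option synthInstance.maxHeartbeats 400000

universe u

open CategoryTheory Limits MonoidalCategory CartesianMonoidalCategory MonObj GrpObj AlgebraicGeometry
open scoped CategoryTheory.Obj

noncomputable section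

namespace Groth.Agent.RootBase

open Groth.Agent.HomDiag Groth.Agent.DynPar Groth.Agent.RootSys Groth.Agent.MTBridge

variable {S : Scheme.{u}}

/-- A non-zero character is non-trivial on a geometric point. -/
theorem exists_ch_ne {M : Type} [AddCommGroup M] [Module.Free ℤ M] [Module.Finite ℤ M] (s : S) {m : M}
    (hm : m ≠ 0) : ∃ h : GP s ⟶ Red.DS S M, ch h (Multiplicative.ofAdd m) ≠ 1 := by
  classical
  let L := AlgebraicClosure (S.residueField s)
  let B := Module.Free.chooseBasis ℤ M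
  obtain ⟨i, hi⟩ : ∃ i, B.repr m i ≠ 0 := by
    by_contra h0
    push Not at h0
    exact hm (B.repr.map_eq_zero_iff.1 (Finsupp.ext h0))
  obtain ⟨l, hl⟩ := Infinite.exists_notMem_finset
    (insert (0 : L) (Polynomial.nthRoots (B.repr m i).natAbs (1 : L)).toFinset)
  rw [Finset.mem_insert, not_or] at hl
  have hlk : l ^ (B.repr m i).natAbs ≠ 1 := fun h1 => hl.2
    (Multiset.mem_toFinset.2 ((Polynomial.mem_nthRoots (Int.natAbs_pos.2 hi)).2 h1))
  let e : Γ((GP s).left, ⊤) ≅ CommRingCat.of L := Scheme.ΓSpecIso (CommRingCat.of L)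
  let χ : Multiplicative M →* L := (Units.coeHom L).comp ((zpowersHom Lˣ (Units.mk0 l hl.1)).comp
    (AddMonoidHom.toMultiplicative (B.coord i).toAddMonoidHom))
  obtain ⟨h, hh⟩ := exists_ch (S := S) (X := GP s) (e.inv.hom.toMonoidHom.comp χ)
  refine ⟨h, fun h1 => hlk ?_⟩
  rw [hh] at h1
  have h2 : χ (Multiplicative.ofAdd m) = 1 :=
    (ConcreteCategory.bijective_of_isIso e.inv).1 (h1.trans (map_one e.inv.hom).symm)
  have h3 : (l : L) ^ (B.repr m i : ℤ) = 1 := by
    rw [← h2]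
    simp [χ]
  rcases Int.natAbs_eq (B.repr m i) with e' | e' <;> rw [e'] at h3
  · exact_mod_cast h3
  · rw [zpow_neg, inv_eq_one] at h3
    exact_mod_cast h3

variable {G H : Over S} [GrpObj G] [GrpObj H]

/-- A root group meeting the centraliser of a torus in a non-trivial point has trivial weight on it. -/
theorem weight_eq_zero_of_comm {M N : Type} [AddCommGroup M] [AddCommGroup N] [Module.Free ℤ N] [Module.Finite ℤ N]
    {c : Red.DS S M ⟶ G} {m : M} {u : Red.Ga S ⟶ G} (hu : Red.IsRootHom c (Red.chi _ m) u) (π : M →+ N) {s : S}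
    (x : GP s ⟶ Red.Ga S) (hx : x ≠ 1)
    (hfix : ∀ h : GP s ⟶ Red.DS S N, (x ≫ u) * (h ≫ Red.DSmap S π ≫ c) = (h ≫ Red.DSmap S π ≫ c) * (x ≫ u)) :
    π m = 0 := by
  classical
  by_contra hm
  obtain ⟨h, hh⟩ := exists_ch_ne s hm
  obtain ⟨y, hy, hy'⟩ := hu.2.2 _ (h ≫ Red.DSmap S π) x
  haveI := hu.2.1
  haveI : Mono u := Over.mono_of_mono_left u
  have e : y = x := by
    rw [← cancel_mono u, hy, Category.assoc, ← hfix h, mul_inv_cancel_right]
  rw [e, RootIntrinsic.gmFn_chi, ch_DSmap, toAdd_ofAdd] at hy'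
  let L := AlgebraicClosure (S.residueField s)
  let e' : Γ((GP s).left, ⊤) ≅ CommRingCat.of L := Scheme.ΓSpecIso (CommRingCat.of L)
  have hbij := ConcreteCategory.bijective_of_isIso e'.hom
  have h1 : e'.hom (Red.gaFn x) = e'.hom (ch h (Multiplicative.ofAdd (π m))) * e'.hom (Red.gaFn x) := by
    rw [← map_mul]
    exact congrArg e'.hom hy'
  have hx0 : e'.hom (Red.gaFn x) ≠ 0 := fun h0 => hx (BGaNotS.gaPt_ext (by
    rw [BGaNotS.gaFn_one]
    exact hbij.1 (h0.trans (map_zero e'.hom.hom).symm)))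
  exact hh (hbij.1 ((mul_right_cancel₀ hx0 (h1.symm.trans (_root_.one_mul _).symm)).trans (map_one e'.hom.hom).symm))

set_option maxHeartbeats 4000000 in
/-- **A subgroup of type (R) with two opposite root groups contains their reflection.** -/
theorem exists_refl_mem [ConnectedSpace S] (D : Red.SplitRed G) (h : H ⟶ G) (hH : RedSub.IsTypeR h) (t : D.T ⟶ H)
    (ht : t ≫ h = D.i) (R' : Set D.idx)
    (hR' : ∀ a : D.idx, (∃ v : Red.Ga S ⟶ H, v ≫ h = D.u a) ↔ a ∈ R') (a : D.idx) (ha : a ∈ R')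
    (ha' : D.P.reflectionPerm a a ∈ R') :
    letI := D.grpT
    letI := D.acgM
    ∃ n : 𝟙_ (Over S) ⟶ H, ∀ (X : Over S) (s : X ⟶ D.T),
      (toUnit X ≫ n ≫ h) * (s ≫ D.i) * (toUnit X ≫ n ≫ h)⁻¹ =
        s ≫ D.split.hom.hom.hom ≫ Red.DSmap S (D.P.reflection a).toLinearMap.toAddMonoidHom ≫
          D.split.inv.hom.hom ≫ D.i := by
  letI := D.grpT
  letI := D.acgM
  letI := D.fintypeIdx
  letI := D.finiteM
  letI := D.freeM
  obtain ⟨c, hc, F⟩ : ∃ c : Red.DS S D.M ⟶ G, D.split.inv.hom.hom ≫ D.i = c ∧ Frame c D.P.root D.u :=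
    ⟨_, rfl, frame_of_splitRed D⟩
  haveI := F.hc.1; haveI := F.hc.2.1
  obtain ⟨r, π, hπs, hπa, hker⟩ := F.exists_kernel a
  haveI : IsMonHom (Red.DSmap S π) := MTQuot.isMonHom_DSmap π
  haveI : Mono (Red.DSmap S π) := LieWeight.mono_DSmap π hπs
  haveI : Mono (Red.DSmap S π ≫ c) := mono_comp _ _
  obtain ⟨Z, _, z, hz, hzR, -⟩ := S5550.result D.reductive (Red.DSmap S π ≫ c) (MTCentre.isTorus_DS_scheme S _)
  obtain ⟨tZ, htZ⟩ := (hz.2.2 _ D.i).2 fun X' x g => by
    have e : D.split.hom.hom.hom ≫ c = D.i := by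
      rw [← hc, ← Category.assoc, show D.split.hom.hom.hom ≫ D.split.inv.hom.hom = 𝟙 _ from
        congrArg (fun f => f.hom.hom) D.split.hom_inv_id, Category.id_comp]
    rw [← e, ← Category.assoc x, ← Category.assoc g, ← MonObj.mul_comp, ← MonObj.mul_comp,
      show (x ≫ D.split.hom.hom.hom) * (g ≫ Red.DSmap S π) = (g ≫ Red.DSmap S π) * (x ≫ D.split.hom.hom.hom) from
        ch_ext fun m => by rw [ch_mul, ch_mul, mul_comm]]
  haveI := hz.1; haveI := hz.2.1
  obtain ⟨f, hf⟩ := exists_le_split D z hzR tZ htZ h hH t ht fun d s hd => by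
    obtain ⟨x, w, hxw, hx⟩ := hd
    have h0 : π (D.P.root d) = 0 := weight_eq_zero_of_comm (F.hu d) π x hx fun g => by
      have := (hz.2.2 _ (x ≫ D.u d)).1 ⟨w, hxw.symm⟩ _ (𝟙 _) g
      rwa [Category.id_comp] at this
    refine inFib_of_fac_split D h ((hR' d).2 ?_) s
    rcases hker d h0 with e | e
    · rwa [F.inj e]
    · rwa [show d = D.P.reflectionPerm a a from F.inj (by
        rw [e, D.P.root_reflectionPerm, D.P.reflection_apply_self])]
  obtain ⟨n0, hn0⟩ := D.refl a
  obtain ⟨nZ, hnZ⟩ := (hz.2.2 _ n0).2 fun X' x g => by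
    have h1 := hn0 X' (g ≫ Red.DSmap S π ≫ D.split.inv.hom.hom)
    have e0 : D.split.inv.hom.hom ≫ D.split.hom.hom.hom = 𝟙 _ :=
      congrArg (fun f => f.hom.hom) D.split.inv_hom_id
    have e1 : Red.DSmap S π ≫ Red.DSmap S (D.P.reflection a).toLinearMap.toAddMonoidHom = Red.DSmap S π := by
      refine ch_ext fun m => ?_
      rw [ch_DSmap, ← Category.id_comp (Red.DSmap S π), ch_DSmap, ch_DSmap]
      congr 2
      show π (D.P.reflection a m.toAdd) = π m.toAdd
      rw [D.P.reflection_apply, map_sub, map_zsmul, hπa, smul_zero, sub_zero]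
    simp only [Category.assoc, reassoc_of% e0, reassoc_of% e1, hc] at h1
    rw [toUnit_unique x (toUnit X')]
    exact mul_inv_eq_iff_eq_mul.1 h1
  refine ⟨nZ ≫ f, fun X s => ?_⟩
  rw [Category.assoc, hf, hnZ]
  exact hn0 X s

end Groth.Agent.RootBase
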