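import Groth.Agent.RootBase.SymClosed
import Groth.Agent.RootBase.TypeRRefl
import Groth.Agent.RootBase.IsoSplit

/-!
# Subgroups of type (R) with symmetric root sets
-/

set_option autoImplicit false
set_option backward.isDefEq.respectTransparency false
set_option linter.style.haveILetI false
set_option maxHeartbeats 2000000
set_option synthInstance.maxHeartbeats 400000

universe u

open CategoryTheory Limits MonoidalCategory CartesianMonoidalCategory MonObj GrpObj AlgebraicGeometry
open scoped CategoryTheory.Obj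

noncomputable section

namespace Groth.Agent.RootBase

open Groth.Agent.HomDiag Groth.Agent.DynPar Groth.Agent.RootSys Groth.Agent.MTBridge

section OverField

variable {k : Type u} [Field k] [IsAlgClosed k] {G H : Over (Spec (CommRingCat.of k))} [GrpObj G] [GrpObj H]

/-- A reductive group over an algebraically closed field is a reductive group scheme. -/
theorem isReductive_of_over (h : Red.IsReductiveOver k H) : Red.IsReductive H := by
  obtain ⟨ha, hs, hc, hU⟩ := h
  haveI := ha; haveI := hs; haveI := hc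
  refine ⟨isAffineHom_of_isAffine H.hom, hs, fun s => ?_⟩
  haveI := Chev.Borel.isIso_geomPt k s
  let τ := Red.geomPt s
  let w := inv τ
  have hwτ : w ≫ τ = 𝟙 _ := IsIso.inv_hom_id τ
  have hτw : τ ≫ w = 𝟙 _ := IsIso.hom_inv_id τ
  haveI : PreservesLimitsOfShape WalkingCospan (Over.pullback w) :=
    (Adjunction.rightAdjoint_preservesLimits (Over.mapPullbackAdj w)).preservesLimitsOfShape
  haveI : PreservesLimitsOfShape WalkingCospan (Over.pullback τ) :=
    (Adjunction.rightAdjoint_preservesLimits (Over.mapPullbackAdj τ)).preservesLimitsOfShape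
  let e := Scheme.homeoOfIso (asIso (pullback.fst H.hom τ))
  refine ⟨IsAffine.of_isIso (pullback.fst H.hom τ), MorphismProperty.pullback_snd (P := @Smooth) H.hom τ hs,
    e.symm.surjective.connectedSpace e.symm.continuous, fun U _ i _ hi hUs hUc hn hno => ?_⟩
  haveI := hi; haveI := hUs; haveI := hUc
  haveI := Chev.Borel.isMonHom_backHom τ w hwτ H
  haveI := Chev.Borel.isIso_backHom τ w hwτ H
  let eH := (asIso (Chev.Borel.backHom τ w hwτ H)).symm
  haveI : IsMonHom (asIso (Chev.Borel.backHom τ w hwτ H)).hom := Chev.Borel.isMonHom_backHom τ w hwτ H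
  haveI : IsMonHom eH.hom := inferInstanceAs (IsMonHom (asIso (Chev.Borel.backHom τ w hwτ H)).inv)
  haveI := isMonHom_map' w i
  haveI : IsIso eH.hom.left := inferInstanceAs (IsIso ((Over.forget _).map eH.hom))
  haveI : IsClosedImmersion ((Over.pullback w).map i).left :=
    MorphismProperty.overPullbackMap (P := @IsClosedImmersion) w i inferInstance
  let eU := Scheme.homeoOfIso (asIso (pullback.fst U.hom w))
  refine UniRad.isTrivial_of_pullback w U (hU _ ((Over.pullback w).map i ≫ eH.hom)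
    (inferInstanceAs (IsClosedImmersion (((Over.pullback w).map i).left ≫ eH.hom.left)))
    (MorphismProperty.pullback_snd (P := @Smooth) U.hom w hUs)
    (eU.symm.surjective.connectedSpace eU.symm.continuous)
    (Chev.isNormalHom_comp_iso _ eH (SubGen.isNormalHom_pullback w _ i hn)) ?_)
  intro T _ j _ _ hT
  haveI := Chev.Borel.isMonHom_backHom w τ hτw U
  haveI := Chev.Borel.isIso_backHom w τ hτw U
  haveI : IsMonHom (asIso (Chev.Borel.backHom w τ hτw U)).hom := Chev.Borel.isMonHom_backHom w τ hτw U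
  haveI : IsMonHom (inv (Chev.Borel.backHom w τ hτw U)) :=
    inferInstanceAs (IsMonHom (asIso (Chev.Borel.backHom w τ hτw U)).inv)
  exact UniRad.isTrivial_of_pullback τ T (hno _ ((Over.pullback τ).map j ≫ inv (Chev.Borel.backHom w τ hτw U))
    (Chev.isTorus_bc hT τ))

variable {M : Type} [AddCommGroup M] [Module.Free ℤ M] [Module.Finite ℤ M] {idx : Type} [Fintype idx]
  {c : Red.DS (Spec (CommRingCat.of k)) M ⟶ G} {P : RootPairing idx ℤ M (Module.Dual ℤ M)}
  {u : idx → (Red.Ga (Spec (CommRingCat.of k)) ⟶ G)}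
  {h : H ⟶ G} [IsMonHom h] [IsClosedImmersion h.left]
  {cH : Red.DS (Spec (CommRingCat.of k)) M ⟶ H} [IsMonHom cH]

/-- The root set of a reductive subgroup containing the torus is symmetric. -/
theorem opp_fac_of_reductive (F : Frame c P.root u) (hcH : cH ≫ h = c) (hH : Red.IsReductive H) {a : idx}
    (ha : ∃ v, v ≫ h = u a) : ∃ v, v ≫ h = u (P.reflectionPerm a a) := by
  classical
  haveI : Nonempty ↥(Spec (CommRingCat.of k)) := inferInstanceAs (Nonempty (PrimeSpectrum k))
  obtain ⟨i1, i2, i3⟩ := red_inst hH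
  haveI := i1; haveI := i2; haveI := i3
  obtain ⟨g1, g2, g3⟩ := red_inst F.hG
  haveI := g1
  haveI : Mono h := Over.mono_of_mono_left h
  haveI := F.hc.1
  haveI : Mono c := F.hc.2.1
  haveI : Mono cH := by
    haveI : Mono (cH ≫ h) := by rw [hcH]; infer_instance
    exact mono_of_mono cH h
  have hc : Red.IsMaximalTorus cH := by
    refine ⟨inferInstance, inferInstance, F.hc.2.2.1, fun s T' _ j _ _ f hT' hf => ?_⟩
    haveI := isMonHom_map' (Red.geomPt s) h
    haveI : IsClosedImmersion ((Over.pullback (Red.geomPt s)).map h).left :=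
      MorphismProperty.overPullbackMap (P := @IsClosedImmersion) (Red.geomPt s) h inferInstance
    haveI : Mono ((Over.pullback (Red.geomPt s)).map h) := Over.mono_of_mono_left _
    haveI : Mono (j ≫ (Over.pullback (Red.geomPt s)).map h) := mono_comp _ _
    exact F.hc.2.2.2 s T' (j ≫ (Over.pullback (Red.geomPt s)).map h) f hT' (by
      rw [reassoc_of% hf, ← Functor.map_comp, hcH])
  let E : Grp.mk (Red.DS (Spec (CommRingCat.of k)) M) ≅ Grp.mk (Red.DS (Spec (CommRingCat.of k)) M) := Iso.refl _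
  have hE : E.inv.hom.hom ≫ cH = cH := Category.id_comp cH
  haveI : IsMonHom (E.inv.hom.hom ≫ cH) := by rw [hE]; infer_instance
  obtain ⟨va, hva⟩ := ha
  have hua : Red.IsRootHom cH (Red.chi _ (P.root a)) va := by
    have hG := F.hu a
    haveI := hG.1
    haveI : IsMonHom va := MTSplit.isMonHom_of_comp_mono va h (u a) hva
    refine ⟨inferInstance, ?_, fun X t x => ?_⟩
    · haveI : IsClosedImmersion (va.left ≫ h.left) := by rw [← Over.comp_left, hva]; exact hG.2.1
      exact IsClosedImmersion.of_comp _ h.left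
    · obtain ⟨y, hy, hy'⟩ := hG.2.2 X t x
      refine ⟨y, ?_, hy'⟩
      rw [← cancel_mono h]
      simp only [MonObj.mul_comp, GrpObj.inv_comp, Category.assoc, hva, hcH]
      exact hy
  obtain ⟨_, P', -, -, -, hneg, -⟩ := exists_datum hH cH hc
  have hspl : IsSplitRoot cH (P.root a) := by
    obtain ⟨h0, v, hv, hv1⟩ := isSplitRoot_of_rootHom (i := cH) (E := E) (F.ne a) (u := va) (by rw [hE]; exact hua)
    exact ⟨h0, v, hv.congr_hom hE, hv1⟩
  have hspl' := hneg _ hspl
  rw [← root_opp] at hspl'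
  obtain ⟨v, hv⟩ := exists_rootHom (E := E) (i := cH) hH hc (a := P.root (P.reflectionPerm a a)) (by
    obtain ⟨h0, w, hw, hw1⟩ := hspl'
    exact ⟨h0, w, hw.congr_hom hE.symm, hw1⟩)
  rw [hE] at hv
  haveI := hv.1; haveI := hv.2.1
  have hvG : Red.IsRootHom c (Red.chi _ (P.root (P.reflectionPerm a a))) (v ≫ h) := by
    refine ⟨inferInstance, by rw [Over.comp_left]; infer_instance, fun X t x => ?_⟩
    obtain ⟨y, hy, hy'⟩ := hv.2.2 X t x
    refine ⟨y, ?_, hy'⟩
    rw [← Category.assoc, hy, MonObj.mul_comp, MonObj.mul_comp, GrpObj.inv_comp]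
    simp only [Category.assoc, hcH]
  obtain ⟨x', hx'⟩ := F.rootHom_range hvG (BGaNotS.gaPt (W := 𝟙_ _) 1)
  have hne : x' ≠ 1 := fun h0 => by
    haveI := (F.hu (P.reflectionPerm a a)).1
    rw [h0, MonObj.one_comp] at hx'
    haveI : Mono v := Over.mono_of_mono_left v
    have h1 : BGaNotS.gaPt (W := 𝟙_ (Over (Spec (CommRingCat.of k)))) 1 = 1 := by
      rw [← cancel_mono (v ≫ h), ← hx', MonObj.one_comp]
    have h2 := congrArg Red.gaFn h1
    rw [BGaNotS.gaFn_gaPt, BGaNotS.gaFn_one] at h2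
    haveI : Nontrivial Γ((𝟙_ (Over (Spec (CommRingCat.of k)))).left, ⊤) := by
      obtain ⟨z⟩ : Nonempty (𝟙_ (Over (Spec (CommRingCat.of k)))).left := inferInstanceAs (Nonempty (PrimeSpectrum k))
      exact ((𝟙_ (Over (Spec (CommRingCat.of k)))).left.presheaf.germ ⊤ z trivial).hom.domain_nontrivial
    exact one_ne_zero h2
  haveI := smooth_Ga (Spec (CommRingCat.of k))
  haveI : IsReduced (Red.Ga (Spec (CommRingCat.of k))).left :=
    SmoothRed.isReduced_of_smooth_scheme (Red.Ga (Spec (CommRingCat.of k))).hom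
  exact fac_of_point h (cH := cH) hcH (F.ne _) (F.hu _) (x := x')
    (w := BGaNotS.gaPt (W := 𝟙_ _) 1 ≫ v) (by rw [hx', Category.assoc]) hne

end OverField

variable {S : Scheme.{u}} {G H : Over S} [GrpObj G] [GrpObj H]

/-- A reflection of a splitting in the form used by frames. -/
theorem refl_frame (D : Red.SplitRed G) (a : D.idx) {N : 𝟙_ (Over S) ⟶ G}
    (hN : letI := D.grpT; letI := D.acgM; ∀ (X : Over S) (t : X ⟶ D.T),
      (toUnit X ≫ N) * (t ≫ D.i) * (toUnit X ≫ N)⁻¹ =
        t ≫ D.split.hom.hom.hom ≫ Red.DSmap S (D.P.reflection a).toLinearMap.toAddMonoidHom ≫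
          D.split.inv.hom.hom ≫ D.i) :
    letI := D.grpT; letI := D.acgM
    ∀ (X : Over S) (t : X ⟶ Red.DS S D.M), cj N (t ≫ D.split.inv.hom.hom ≫ D.i) =
      RootBase.refl (D.P.root a) (D.P.coroot a).toAddMonoidHom t ≫ D.split.inv.hom.hom ≫ D.i := by
  letI := D.grpT
  letI := D.acgM
  letI := D.fintypeIdx
  letI := D.finiteM
  letI := D.freeM
  intro X t
  have e := hN X (t ≫ D.split.inv.hom.hom)
  have hinv : D.split.inv.hom.hom ≫ D.split.hom.hom.hom = 𝟙 _ := congrArg (fun f => f.hom.hom) D.split.inv_hom_id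
  simp only [Category.assoc, reassoc_of% hinv] at e
  rw [cj, e, ← Category.assoc t]
  congr 1
  refine ch_ext fun m => ?_
  obtain ⟨m, rfl⟩ : ∃ x : D.M, Multiplicative.ofAdd x = m := ⟨m.toAdd, rfl⟩
  rw [ch_refl, ch_DSmap, toAdd_ofAdd]
  congr 2
  show D.P.reflection a m = _
  rw [D.P.reflection_apply]
  simp only [RootPairing.coroot', RootPairing.root', D.pairing_eq, LinearMap.flip_apply, Module.Dual.eval_apply]
  rfl

/-- **The data of a subgroup of type (R) with symmetric roots.** -/
theorem exists_symSub [ConnectedSpace S] (D : Red.SplitRed G) (h : H ⟶ G) (hH : RedSub.IsTypeR h) (t : D.T ⟶ H)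
    (ht : t ≫ h = D.i) (R' : Set D.idx)
    (hR' : ∀ a : D.idx, (∃ v : Red.Ga S ⟶ H, v ≫ h = D.u a) ↔ a ∈ R')
    (hsymm : ∀ a ∈ R', D.P.reflectionPerm a a ∈ R') :
    letI := D.grpT; letI := D.acgM; letI := D.fintypeIdx; letI := D.finiteM; letI := D.freeM
    SymSub (D.split.inv.hom.hom ≫ D.i) D.P D.u h (D.split.inv.hom.hom ≫ t) R' := by
  letI := D.grpT
  letI := D.acgM
  letI := D.fintypeIdx
  letI := D.finiteM
  letI := D.freeM
  obtain ⟨⟨i1, i2⟩, i3, -, hconn, -⟩ := id hH
  haveI := i1; haveI := i2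
  refine ⟨frame_of_splitRed D, D.pairing_eq, hconn, (cH_hcH D h t ht).2, fun a s => rootSet_iff D h hH t ht hR' a s,
    fun a ha => (hR' a).2 ha, fun a ha => ?_⟩
  obtain ⟨n, hn⟩ := exists_refl_mem D h hH t ht R' hR' a ha (hsymm a ha)
  exact ⟨n, refl_frame D a hn⟩

/-- **Such subgroups are closed reductive subgroups.** -/
theorem isReductive_of_symm [ConnectedSpace S] (D : Red.SplitRed G) (h : H ⟶ G) (hH : RedSub.IsTypeR h) (t : D.T ⟶ H)
    (ht : t ≫ h = D.i) (R' : Set D.idx)
    (hR' : ∀ a : D.idx, (∃ v : Red.Ga S ⟶ H, v ≫ h = D.u a) ↔ a ∈ R')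
    (hsymm : ∀ a ∈ R', D.P.reflectionPerm a a ∈ R') :
    IsClosedImmersion h.left ∧ Red.IsReductive H := by
  classical
  have Y := exists_symSub D h hH t ht R' hR' hsymm
  letI := D.grpT
  letI := D.acgM
  letI := D.fintypeIdx
  letI := D.finiteM
  letI := D.freeM
  obtain ⟨⟨i1, i2⟩, i3, -, -, -⟩ := id hH
  haveI := i1; haveI := i2; haveI := i3
  haveI := (cH_hcH D h t ht).1
  haveI := isReduced_of_splitRed D
  obtain ⟨B⟩ := nonempty_base_split D
  choose nD hnD using fun a => D.refl a
  choose nR hnR using Y.refl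
  have hclosed := Y.isClosedImmersion B (n := fun a => if ha : a ∈ R' then nR a ha ≫ h else nD a) (fun a X s => by
    by_cases ha : a ∈ R'
    · simp only [dif_pos ha]; exact hnR a ha X s
    · simp only [dif_neg ha]; exact refl_frame D a (hnD a) X s) (fun a ha => ⟨nR a ha, by simp only [dif_pos ha]⟩)
  haveI := D.reductive.1
  refine ⟨hclosed, ?_, i3, Y.isReductiveOver_fibre⟩
  haveI := hclosed
  rw [← Over.w h]
  infer_instance

/-- **Reductive fibres force symmetry.** -/
theorem symm_of_reductive [ConnectedSpace S] (D : Red.SplitRed G) (h : H ⟶ G) (hH : RedSub.IsTypeR h) (t : D.T ⟶ H)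
    (ht : t ≫ h = D.i) (R' : Set D.idx)
    (hR' : ∀ a : D.idx, (∃ v : Red.Ga S ⟶ H, v ≫ h = D.u a) ↔ a ∈ R')
    (hred : ∀ s : S, Red.IsReductiveOver (AlgebraicClosure (S.residueField s)) (Red.geomFibre s H)) :
    ∀ a ∈ R', D.P.reflectionPerm a a ∈ R' := by
  intro a ha
  letI := D.grpT
  letI := D.acgM
  letI := D.fintypeIdx
  letI := D.finiteM
  letI := D.freeM
  obtain ⟨⟨i1, i2⟩, i3, -, hconn, -⟩ := id hH
  haveI := i1; haveI := i2; haveI := i3
  obtain ⟨s⟩ : Nonempty S := inferInstance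
  obtain ⟨i4, hcH⟩ := cH_hcH D h t ht
  haveI := i4
  have F := frame_of_splitRed D
  haveI := F.hc.1
  obtain ⟨j1, j2, j3, j4, j5, j6⟩ := sub_fibre F.hG h hconn s
  haveI := j2; haveI := j3
  haveI : IsMonHom (bcHom' (Red.geomPt s) (D.split.inv.hom.hom ≫ t)) := isMonHom_bcHom' _ _
  have hK : bcHom' (Red.geomPt s) (D.split.inv.hom.hom ≫ t) ≫ (Over.pullback (Red.geomPt s)).map h =
      bcHom' (Red.geomPt s) (D.split.inv.hom.hom ≫ D.i) := by
    rw [bcHom', Category.assoc, ← Functor.map_comp, hcH]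
    rfl
  refine (rootSet_iff D h hH t ht hR' _ s).1 ((F.inFib_iff hconn hcH _ s).2 ?_)
  exact opp_fac_of_reductive (P := D.P) (F.bc (Red.geomPt s)) hK (isReductive_of_over (hred s))
    ((F.inFib_iff hconn hcH a s).1 ((rootSet_iff D h hH t ht hR' a s).2 ha))

/-- **The frame of a subgroup with a stable root set.** -/
theorem SymSub.frameS {M : Type} [AddCommGroup M] [Module.Free ℤ M] [Module.Finite ℤ M] {idx : Type} [Fintype idx]
    {c : Red.DS S M ⟶ G} {P : RootPairing idx ℤ M (Module.Dual ℤ M)} {u : idx → (Red.Ga S ⟶ G)} {h : H ⟶ G}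
    [IsMonHom h] [IsImmersion h.left] [Smooth H.hom] {cH : Red.DS S M ⟶ H} [IsMonHom cH] {R : Set idx} [Fintype ↥R]
    (Y : SymSub c P u h cH R) (hH : Red.IsReductive H) [IsClosedImmersion h.left]
    (hst : ∀ a ∈ R, ∀ b ∈ R, P.reflectionPerm a b ∈ R) (u' : ↥R → (Red.Ga S ⟶ H)) (hu' : ∀ a, u' a ≫ h = u a.1) :
    Frame cH (subPairing P R hst).root u' := by
  haveI : Mono h := Over.mono_of_mono_left h
  have hcF := Y.frame.hc
  haveI := hcF.1
  haveI : Mono c := hcF.2.1
  haveI : Mono cH := by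
    haveI : Mono (cH ≫ h) := by rw [Y.comp]; infer_instance
    exact mono_of_mono cH h
  refine ⟨hH, ⟨inferInstance, inferInstance, hcF.2.2.1, fun s T' _ j _ _ f hT' hf => ?_⟩,
    fun a b e => Subtype.ext (P.root.injective e), fun a => Y.frame.ne a.1, fun a => ?_, fun s => ?_⟩
  · haveI := isMonHom_map' (Red.geomPt s) h
    haveI : IsClosedImmersion ((Over.pullback (Red.geomPt s)).map h).left :=
      MorphismProperty.overPullbackMap (P := @IsClosedImmersion) (Red.geomPt s) h inferInstance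
    haveI : Mono ((Over.pullback (Red.geomPt s)).map h) := Over.mono_of_mono_left _
    haveI : Mono (j ≫ (Over.pullback (Red.geomPt s)).map h) := mono_comp _ _
    exact hcF.2.2.2 s T' (j ≫ (Over.pullback (Red.geomPt s)).map h) f hT' (by
      rw [reassoc_of% hf, ← Functor.map_comp, Y.comp])
  · have hG := Y.frame.hu a.1
    haveI := hG.1
    haveI : IsMonHom (u' a) := MTSplit.isMonHom_of_comp_mono (u' a) h (u a.1) (hu' a)
    refine ⟨inferInstance, ?_, fun X t x => ?_⟩
    · haveI : IsClosedImmersion ((u' a).left ≫ h.left) := by rw [← Over.comp_left, hu']; exact hG.2.1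
      exact IsClosedImmersion.of_comp _ h.left
    · obtain ⟨y, hy, hy'⟩ := hG.2.2 X t x
      refine ⟨y, ?_, hy'⟩
      rw [← cancel_mono h]
      simp only [MonObj.mul_comp, GrpObj.inv_comp, Category.assoc, hu', Y.comp]
      exact hy
  · haveI := isMonHom_map' (Red.geomPt s) h
    haveI : IsImmersion ((Over.pullback (Red.geomPt s)).map h).left :=
      MorphismProperty.overPullbackMap (P := @IsImmersion) (Red.geomPt s) h inferInstance
    haveI : Smooth (Red.bc (Red.geomPt s) H).hom :=
      MorphismProperty.pullback_snd (P := @Smooth) H.hom (Red.geomPt s) inferInstance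
    haveI : IsMonHom (bcHom' (Red.geomPt s) cH) := isMonHom_bcHom' _ _
    have F := (Y.bc (Red.geomPt s)).frameH (fun a => bcGa (Red.geomPt s) (u' a)) fun a => by
      rw [bcGa, bcGa, Category.assoc, ← Functor.map_comp, hu']
    haveI := Chev.Borel.isIso_geomPt (AlgebraicClosure (S.residueField s))
      (IsLocalRing.closedPoint (AlgebraicClosure (S.residueField s)))
    exact RootIntrinsic.dim_bc_iso _ _ _ (F.hdim (IsLocalRing.closedPoint (AlgebraicClosure (S.residueField s))))

omit [GrpObj G] in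
theorem isTypeR_iso_source {G' L Z : Over S} [GrpObj G'] [GrpObj L] [GrpObj Z] (e : L ≅ Z) (l : L ⟶ G') (z : Z ⟶ G')
    [IsMonHom l] (he : e.hom ≫ z = l) (hz : RedSub.IsTypeR z) : RedSub.IsTypeR l := by
  obtain ⟨⟨hzm, hzi⟩, hs, hq, hconn, hT⟩ := hz
  haveI := hzm; haveI := hzi; haveI := hs; haveI := hq
  haveI : IsIso e.hom.left := inferInstanceAs (IsIso ((Over.forget S).map e.hom))
  haveI : Mono z := Over.mono_of_mono_left z
  haveI : IsMonHom e.hom := MTSplit.isMonHom_of_comp_mono e.hom z l he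
  haveI : IsMonHom e.inv := inferInstance
  have hh : e.hom.left ≫ Z.hom = L.hom := Over.w e.hom
  refine ⟨⟨inferInstance, by rw [← he, Over.comp_left]; infer_instance⟩, by rw [← hh]; infer_instance,
    by rw [← hh]; infer_instance, fun s => ?_, fun s => ?_⟩
  · have e1 : L.hom.base ⁻¹' {s} = e.inv.left.base '' (Z.hom.base ⁻¹' {s}) := by
      have hbij : ∀ x, e.inv.left.base (e.hom.left.base x) = x := fun x => by
        rw [← Scheme.Hom.comp_apply, ← Over.comp_left, e.hom_inv_id]; rfl
      ext x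
      refine ⟨fun hx => ⟨e.hom.left.base x, ?_, hbij x⟩, ?_⟩
      · show Z.hom.base (e.hom.left.base x) ∈ ({s} : Set S)
        rw [← Scheme.Hom.comp_apply, hh]; exact hx
      · rintro ⟨y, hy, rfl⟩
        show L.hom.base (e.inv.left.base y) ∈ ({s} : Set S)
        rw [← Scheme.Hom.comp_apply, Over.w e.inv]; exact hy
    rw [e1]
    exact (hconn s).image _ e.inv.left.continuous.continuousOn
  · obtain ⟨T, _, t, ht, hm⟩ := hT s
    haveI := ht
    haveI := isMonHom_map' (Red.geomPt s) e.inv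
    refine ⟨T, inferInstance, t ≫ (Over.pullback (Red.geomPt s)).map e.inv, inferInstance, ?_⟩
    rw [Category.assoc, ← Functor.map_comp, ← he, Iso.inv_hom_id_assoc]
    exact hm

end Groth.Agent.RootBase
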