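import Groth.Agent.RootBase.SolvChart
import Groth.Agent.MTImage.SubTorus
import Groth.Agent.ParNorm.Global
import Groth.Agent.S16642

/-!
# The locus where a parabolic subgroup is a Borel subgroup
-/

set_option autoImplicit false
set_option backward.isDefEq.respectTransparency false
set_option linter.style.haveILetI false
set_option maxHeartbeats 2000000
set_option synthInstance.maxHeartbeats 400000

universe u

open CategoryTheory Limits MonoidalCategory CartesianMonoidalCategory MonObj GrpObj AlgebraicGeometry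
open scoped CategoryTheory.Obj

noncomputable section

namespace Groth.Agent.RootBase

open Groth.Agent.HomDiag Groth.Agent.DynPar Groth.Agent.MTBridge Groth.Agent.RootSys

/-- Solvability descends along an isomorphism of the base. -/
theorem isSolvableGrp_of_bc_iso {S S' : Scheme.{u}} (w : S' ⟶ S) [IsIso w] {A : Over S} [GrpObj A]
    (h : Red.IsSolvableGrp (Red.bc w A)) : Red.IsSolvableGrp A := by
  obtain ⟨n, hn⟩ := h
  refine ⟨n, fun X => ?_⟩
  let f : (X ⟶ A) →* ((Over.pullback w).obj X ⟶ Red.bc w A) :=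
    MonoidHom.mk' (fun a => (Over.pullback w).map a) fun a b => Functor.map_mul _ a b
  haveI : IsIso (pullback.fst X.hom w) := inferInstance
  have hf : Function.Injective f := fun a b hab => by
    have h1 := congrArg (fun q => Over.Hom.left q ≫ pullback.fst A.hom w) hab
    simp [f, Over.pullback] at h1
    exact Over.OverMorphism.ext ((cancel_epi _).1 h1)
  apply Subgroup.map_injective hf
  rw [Subgroup.map_bot, eq_bot_iff]
  exact (map_derivedSeries_le_derivedSeries f n).trans (hn _).le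

variable {S : Scheme.{u}} {G H : Over S} [GrpObj G] [GrpObj H]

/-- Solvability of a geometric fibre after a quasi-finite base change. -/
theorem isSolvableGrp_bc_fibre_iff {W : Scheme.{u}} (f : W ⟶ S) [LocallyQuasiFinite f] (w : W) :
    Red.IsSolvableGrp (Red.geomFibre w (Red.bc f H)) ↔ Red.IsSolvableGrp (Red.geomFibre (f w) H) := by
  refine ⟨fun hsol => ?_, isSolvableGrp_bc_fibre f w⟩
  obtain ⟨t, ht, htw⟩ := exists_geomPt_iso f w
  haveI := ht
  obtain ⟨e₁, -, he₁⟩ := Chev.MaxTorusBC.exists_trIso (show Red.geomPt w ≫ f = Red.geomPt w ≫ f from rfl) H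
  obtain ⟨e₂, -, he₂⟩ := Chev.MaxTorusBC.exists_trIso htw H
  haveI : IsMonHom e₁.hom := he₁
  haveI : IsMonHom e₂.hom := he₂
  haveI : IsMonHom e₂.inv := inferInstance
  let e : Red.bc t (Red.geomFibre (f w) H) ≅ Red.geomFibre w (Red.bc f H) := e₂.symm ≪≫ e₁
  haveI : IsMonHom e.hom := inferInstanceAs (IsMonHom (e₂.inv ≫ e₁.hom))
  haveI : IsMonHom e.inv := inferInstance
  exact isSolvableGrp_of_bc_iso t (isSolvableGrp_of_isIso e.inv hsol)

/-- With constant roots, solvability of the fibres is constant. -/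
theorem isSolvableGrp_fibre_iff (D : Red.SplitRed G) (h : H ⟶ G) [IsMonHom h] [IsImmersion h.left] [Smooth H.hom]
    (hconn : RedSub.HasConnectedFibres H) (t : D.T ⟶ H) (ht : t ≫ h = D.i) (R' : Set D.idx)
    (hrs : ∀ a (s : S), InFib h (D.u a) s ↔ a ∈ R') (s : S) :
    Red.IsSolvableGrp (Red.geomFibre s H) ↔ ∀ a ∈ R', D.P.reflectionPerm a a ∉ R' := by
  letI := D.grpT
  letI := D.acgM
  letI := D.fintypeIdx
  letI := D.finiteM
  letI := D.freeM
  obtain ⟨c, hc, F⟩ : ∃ c : Red.DS S D.M ⟶ G, D.split.inv.hom.hom ≫ D.i = c ∧ Frame c D.P.root D.u :=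
    ⟨_, rfl, frame_of_splitRed D⟩
  haveI := F.hc.1
  obtain ⟨cH, i4, hcH⟩ : ∃ cH : Red.DS S D.M ⟶ H, IsMonHom cH ∧ cH ≫ h = c :=
    ⟨_, (cH_hcH D h t ht).1, (cH_hcH D h t ht).2.trans hc⟩
  haveI := i4
  let τ := Red.geomPt s
  obtain ⟨j1, j2, j3, j4, j5, j6⟩ := sub_fibre F.hG h hconn s
  haveI := j1; haveI := j2; haveI := j3; haveI := j4; haveI := j5; haveI := j6
  haveI : IsMonHom (bcHom' τ c) := isMonHom_bcHom' τ c
  haveI : IsMonHom (bcHom' τ cH) := isMonHom_bcHom' τ cH
  have FK := F.bc τ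
  have hcK : bcHom' τ cH ≫ (Over.pullback τ).map h = bcHom' τ c := by
    rw [bcHom', Category.assoc, ← Functor.map_comp, hcH]
    rfl
  have hfac : ∀ a, (∃ w, w ≫ (Over.pullback τ).map h = bcGa τ (D.u a)) ↔ a ∈ R' := fun a =>
    (F.inFib_iff hconn hcH a s).symm.trans (hrs a s)
  refine ⟨fun hsol => ?_, fun has => ?_⟩
  · haveI : Smooth (Red.bc τ G).hom := MorphismProperty.pullback_snd (P := @Smooth) G.hom τ F.hG.2.1
    haveI : ConnectedSpace (Red.bc τ G).left := (F.hG.2.2 s).2.2.1
    haveI : Nonempty S := ⟨s⟩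
    obtain ⟨mu, -, hpos⟩ := FK.exists_regular_of_solvable hcK hsol
    exact asymm_of_pos D mu fun a ha => hpos a ((hfac a).2 ha)
  · haveI : Nonempty S := ⟨s⟩
    refine FK.isSolvableGrp_of_asymm hcK fun a a' haa' h1 h2 => ?_
    have e : a' = D.P.reflectionPerm a a := F.inj (by
      rw [haa', D.P.root_reflectionPerm, D.P.reflection_apply_self])
    exact has a ((hfac a).1 h1) (e ▸ (hfac a').1 h2)

/-- A parabolic subgroup over an algebraically closed field is Borel when it is solvable. -/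
theorem isBorelOver_iff_solvable {k : Type u} [Field k] [IsAlgClosed k] {C P : Over (Spec (CommRingCat.of k))}
    [GrpObj C] [GrpObj P] [ConnectedSpace P.left] (p : P ⟶ C) (hP : Red.IsParabolicOver k p) :
    Red.IsBorelOver k p ↔ Red.IsSolvableGrp P := by
  refine ⟨fun h => h.2.2.2.2.1, fun hsol => ?_⟩
  obtain ⟨hpm, hpc, hps, B, _, b, hB⟩ := hP
  haveI := hpm; haveI := hpc; haveI := hps
  haveI : IsIso b := hB.2.2.2.2.2 P p b hpc hps inferInstance hsol rfl
  refine ⟨hpm, hpc, hps, inferInstance, hsol, fun B' _ i' _ f h1 h2 h3 h4 hf => ?_⟩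
  haveI : IsIso (b ≫ f) := hB.2.2.2.2.2 B' i' (b ≫ f) h1 h2 h3 h4 (by rw [Category.assoc, hf])
  exact IsIso.of_isIso_comp_left b f

set_option maxHeartbeats 8000000 in
/-- **The Borel locus of a parabolic subgroup is open and closed.** -/
theorem isClopen_borelLocus {P : Over S} [GrpObj P] (hG : Red.IsReductive G) (p : P ⟶ G) (hP : Red.IsParabolic p) :
    IsClopen {s : S | Red.IsBorelOver (AlgebraicClosure (S.residueField s)) ((Over.pullback (Red.geomPt s)).map p)} := by
  haveI := hG.1; haveI := hG.2.1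
  haveI := hP.1; haveI := hP.2.1; haveI := hP.2.2.1
  have hconn := ParNorm.connectedSpace_geomFibre_parabolic (fun s => (hG.2.2 s).2.2.1) p hP
  have key : ∀ s, Red.IsBorelOver (AlgebraicClosure (S.residueField s)) ((Over.pullback (Red.geomPt s)).map p) ↔
      Red.IsSolvableGrp (Red.geomFibre s P) := fun s =>
    haveI := hconn s
    isBorelOver_iff_solvable _ (hP.2.2.2 s)
  simp only [key]
  suffices h : IsLocallyConstant (fun s : S => Red.IsSolvableGrp (Red.geomFibre s P)) by
    convert h.isClopen_fiber True using 1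
    ext s
    simp
  refine (IsLocallyConstant.iff_exists_open _).2 fun s => ?_
  obtain ⟨S', f, hf, ⟨y, hy⟩, T, _, t, htm, hT⟩ := S16642.result hG p hP s
  haveI := hf; haveI := htm
  haveI : IsMonHom ((Over.pullback f).map p) := isMonHom_map' f p
  obtain ⟨U, g, hg, ⟨x₀, hx₀⟩, D, e, hD⟩ := S5543.result (isReductive_bc f hG) _ hT y
  haveI := hg
  let h := (Over.pullback g).map ((Over.pullback f).map p)
  haveI : IsMonHom h := isMonHom_map' g _
  haveI : IsImmersion ((Over.pullback f).map p).left :=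
    MorphismProperty.overPullbackMap (P := @IsImmersion) f p inferInstance
  haveI : IsImmersion h.left := MorphismProperty.overPullbackMap (P := @IsImmersion) g _ inferInstance
  haveI : Smooth (Red.bc f P).hom := inferInstanceAs (Smooth (pullback.snd P.hom f))
  haveI : Smooth (Red.bc g (Red.bc f P)).hom := inferInstanceAs (Smooth (pullback.snd (Red.bc f P).hom g))
  have hc : RedSub.HasConnectedFibres (Red.bc g (Red.bc f P)) := MTImage.isConnected_fibre_bc _
    (MTImage.isConnected_fibre_bc _ (MTImage.isConnected_fibre_of_geom hconn) f) g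
  have htU : (e.hom ≫ (Over.pullback g).map t) ≫ h = D.i := by
    rw [Category.assoc, ← Functor.map_comp, hD]
  obtain ⟨V, hV, hVc⟩ : ∃ V : U.Opens, x₀ ∈ V ∧ ∀ x ∈ V, ∀ a, InFib h (D.u a) x ↔ InFib h (D.u a) x₀ := by
    letI := D.grpT
    letI := D.acgM
    letI := D.fintypeIdx
    letI := D.finiteM
    letI := D.freeM
    obtain ⟨i4, hcH⟩ := cH_hcH D h _ htU
    haveI := i4
    exact (frame_of_splitRed D).exists_nhd_const (exists_opp D) hc hcH x₀
  haveI : LocallyQuasiFinite f := Weighting.locallyQuasiFinite_of_etale f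
  haveI : LocallyQuasiFinite g := Weighting.locallyQuasiFinite_of_etale g
  -- on the neighbourhood the fibres are all solvable or all not
  obtain ⟨D₁, e₁, eidx, hD₁, hu₁⟩ := exists_bc_data D V.ι
  let h₁ := (Over.pullback V.ι).map h
  haveI : IsMonHom h₁ := isMonHom_map' V.ι h
  haveI : IsImmersion h₁.left := MorphismProperty.overPullbackMap (P := @IsImmersion) V.ι h inferInstance
  haveI : Smooth (Red.bc V.ι (Red.bc g (Red.bc f P))).hom :=
    inferInstanceAs (Smooth (pullback.snd (Red.bc g (Red.bc f P)).hom V.ι))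
  have ht₁ : (e₁.hom ≫ (Over.pullback V.ι).map (e.hom ≫ (Over.pullback g).map t)) ≫ h₁ = D₁.i := by
    rw [Category.assoc, ← Functor.map_comp, htU, hD₁]
  let R' : Set D₁.idx := {a | InFib h (D.u (eidx.symm a)) x₀}
  have hrs : ∀ a (v : (V : Scheme.{u})), InFib h₁ (D₁.u a) v ↔ a ∈ R' := fun a v => by
    obtain ⟨a, rfl⟩ := eidx.surjective a
    rw [hu₁, inFib_bc_iff]
    show _ ↔ InFib h (D.u (eidx.symm (eidx a))) x₀
    rw [Equiv.symm_apply_apply]
    exact hVc _ v.2 a
  haveI : LocallyQuasiFinite V.ι := Weighting.locallyQuasiFinite_of_etale V.ι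
  have hpat : ∀ v : (V : Scheme.{u}), Red.IsSolvableGrp (Red.geomFibre (f (g (V.ι v))) P) ↔
      ∀ a ∈ R', D₁.P.reflectionPerm a a ∉ R' := fun v =>
    (isSolvableGrp_bc_fibre_iff f _).symm.trans ((isSolvableGrp_bc_fibre_iff g _).symm.trans
      ((isSolvableGrp_bc_fibre_iff V.ι v).symm.trans (isSolvableGrp_fibre_iff D₁ h₁ (MTImage.isConnected_fibre_bc _ hc V.ι) _ ht₁ R' hrs v)))
  have hopen : IsOpen (⇑(V.ι ≫ g ≫ f) '' Set.univ) := (V.ι ≫ g ≫ f).isOpenMap _ isOpen_univ
  refine ⟨_, hopen, ⟨⟨x₀, hV⟩, trivial, ?_⟩, ?_⟩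
  · show f (g x₀) = s
    rw [hx₀, hy]
  · rintro _ ⟨v, -, rfl⟩
    have h2 := hpat ⟨x₀, hV⟩
    rw [show V.ι ⟨x₀, hV⟩ = x₀ from rfl, hx₀, hy] at h2
    exact propext ((hpat v).trans h2.symm)

end Groth.Agent.RootBase
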