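import Groth.Agent.RootSys.Datum

/-!
# The root datum of a diagonalisable maximal torus over a field
-/

set_option autoImplicit false
set_option backward.isDefEq.respectTransparency false
set_option linter.style.haveILetI false
set_option maxHeartbeats 1000000
set_option synthInstance.maxHeartbeats 400000

universe u

open CategoryTheory Limits MonoidalCategory CartesianMonoidalCategory MonObj AlgebraicGeometry LieS
open scoped CategoryTheory.Obj

noncomputable section

namespace Groth.Agent.RootBase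

open Groth.Agent.HomDiag Groth.Agent.DynPar Groth.Agent.RootSys
open Groth.Agent.DynPar.Der (dv uB pl sG)

variable {k : Type u} [Field k] {G : Over (Spec (CommRingCat.of k))} [GrpObj G] [IsAffine G.left]
  {M : Type} [AddCommGroup M] [Module.Free ℤ M] [Module.Finite ℤ M]

/-- The roots. -/
abbrev Roots (j : Red.DS (Spec (CommRingCat.of k)) M ⟶ G) [IsMonHom j] : Type := {a : M // IsSplitRoot j a}

theorem isCorootOf_unique' (hG : Red.IsReductive G) {j : Red.DS (Spec (CommRingCat.of k)) M ⟶ G} [IsMonHom j]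
    (hT : Red.IsMaximalTorus j) {a : M} {e e' : M →+ ℤ} (h : IsCorootOf j a e) (h' : IsCorootOf j a e') : e = e' := by
  obtain ⟨i1, i2, i3⟩ := red_inst hG
  haveI := i2; haveI := i3
  let E : Grp.mk (Red.DS (Spec (CommRingCat.of k)) M) ≅ Grp.mk (Red.DS (Spec (CommRingCat.of k)) M) := Iso.refl _
  have hE : E.inv.hom.hom ≫ j = j := Category.id_comp j
  haveI : IsMonHom (E.inv.hom.hom ≫ j) := by rw [hE]; infer_instance
  exact isCorootOf_unique (i := j) (E := E) hG hT (by rwa [hE]) (by rwa [hE])

/-- **The root datum.** -/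
theorem exists_datum (hG : Red.IsReductive G) (j : Red.DS (Spec (CommRingCat.of k)) M ⟶ G) [IsMonHom j]
    (hT : Red.IsMaximalTorus j) :
    ∃ (_ : Fintype (Roots j)) (P : RootPairing (Roots j) ℤ M (Module.Dual ℤ M)),
      P.toLinearMap = Module.Dual.eval ℤ M ∧ (∀ a, P.root a = a.1) ∧
      (∀ a, IsCorootOf j a.1 (P.coroot a : M →ₗ[ℤ] ℤ).toAddMonoidHom) ∧
      (∀ a, IsSplitRoot j a → IsSplitRoot j (-a)) ∧
      topologicalKrullDim ↥G.left =
        ((Module.finrank ℤ M + Fintype.card (Roots j) : ℕ) : WithBot ℕ∞) := by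
  classical
  obtain ⟨i1, i2, i3⟩ := red_inst hG
  haveI := i2; haveI := i3; haveI := hT.2.1
  let E : Grp.mk (Red.DS (Spec (CommRingCat.of k)) M) ≅ Grp.mk (Red.DS (Spec (CommRingCat.of k)) M) := Iso.refl _
  have hE : E.inv.hom.hom ≫ j = j := Category.id_comp j
  haveI : IsMonHom (E.inv.hom.hom ≫ j) := by rw [hE]; infer_instance
  let Φ := {a : M // IsSplitRoot j a}
  haveI : Fintype Φ := (finite_isSplitRoot j).fintype
  have hroot : ∀ {a : M}, IsSplitRoot j a → IsSplitRoot (E.inv.hom.hom ≫ j) a := fun {a} ⟨h0, v, hv, hv1⟩ =>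
    ⟨h0, v, hv.congr_hom hE.symm, hv1⟩
  have hroot' : ∀ {a : M}, IsSplitRoot (E.inv.hom.hom ≫ j) a → IsSplitRoot j a := fun {a} ⟨h0, v, hv, hv1⟩ =>
    ⟨h0, v, hv.congr_hom hE, hv1⟩
  choose e he using fun a : Φ => exists_isCorootOf hG hT (E := E) (hroot a.2)
  choose u hu using fun a : Φ => exists_rootHom hG hT (E := E) (hroot a.2)
  have he2 : ∀ a : Φ, e a a.1 = 2 := fun a => by
    obtain ⟨_, _, _, _, _, _, h, _⟩ := he a
    exact h
  have huniq : ∀ (a : Φ) (f : M →+ ℤ), IsCorootOf (E.inv.hom.hom ≫ j) a.1 f → e a = f := fun a f h =>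
    isCorootOf_unique hG hT (he a) h
  have hstab : ∀ (a : Φ) (m : M), IsSplitRoot (E.inv.hom.hom ≫ j) m →
      IsSplitRoot (E.inv.hom.hom ≫ j) (refl' a.1 (e a) m) := fun a m hm => by
    obtain ⟨f, hf⟩ := exists_isCorootOf hG hT hm
    obtain ⟨u', _, _, hu', _, _, h2, _⟩ := (he a).transport hf
    exact isSplitRoot_of_rootHom (fun h => by rw [h, map_zero] at h2; omega) hu'
  let perm : Φ → (Φ ≃ Φ) := fun a =>
    { toFun := fun b => ⟨refl' a.1 (e a) b.1, hroot' (hstab a b.1 (hroot b.2))⟩
      invFun := fun b => ⟨refl' a.1 (e a) b.1, hroot' (hstab a b.1 (hroot b.2))⟩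
      left_inv := fun b => Subtype.ext congr($(refl'_invol (he2 a)) b.1)
      right_inv := fun b => Subtype.ext congr($(refl'_invol (he2 a)) b.1) }
  have hperm : ∀ a b : Φ, e (perm a b) = (e b).comp (refl' a.1 (e a)) := fun a b =>
    huniq (perm a b) _ ((he a).transport (he b))
  have einj : Function.Injective fun a : Φ => (e a).toIntLinearMap := fun a b h =>
    Subtype.ext (corootFn_injective (E.inv.hom.hom ≫ j) (hstab a) (hstab b) (hroot a.2) (he2 a) (he2 b)
      (AddMonoidHom.ext fun m => congr($h m)))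
  let P : RootPairing Φ ℤ M (Module.Dual ℤ M) :=
    { toLinearMap := Module.Dual.eval ℤ M
      root := ⟨fun a => a.1, fun a b h => Subtype.ext h⟩
      coroot := ⟨fun a => (e a).toIntLinearMap, einj⟩
      root_coroot_two := fun a => he2 a
      reflectionPerm := perm
      reflectionPerm_root := fun a b => rfl
      reflectionPerm_coroot := fun a b => LinearMap.ext fun m => by
        show e b m - e b a.1 * e a m = e (perm a b) m
        rw [hperm, AddMonoidHom.comp_apply, refl'_apply, map_sub, map_zsmul, smul_eq_mul, mul_comm (e a m)] }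
  refine ⟨inferInstance, P, rfl, fun a => rfl, fun a => ?_, fun a ha => hroot' (isSplitRoot_neg hG hT (hroot ha)), ?_⟩
  · have h := he a
    simp only [hE] at h
    exact h
  · have hle := dim_le_rank_add_roots hG hT (fun a : Φ => a.1) u hu (fun a => a.2.1)
      fun a ha => ⟨⟨a, hroot' ha⟩, rfl⟩
    have hge : (0 : WithBot ℕ∞) ≤ topologicalKrullDim ↥G.left :=
      Order.krullDim_nonneg_iff.2 ⟨⟨closure {Classical.arbitrary G.left}, isIrreducible_singleton.closure,
        isClosed_closure⟩⟩
    obtain ⟨n, hn⟩ : ∃ n : ℕ, topologicalKrullDim ↥G.left = (n : WithBot ℕ∞) := by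
      cases h : topologicalKrullDim ↥G.left using WithBot.recBotCoe with
      | bot => rw [h] at hge; exact absurd hge (by simp)
      | coe x =>
        cases x using ENat.recTopCoe with
        | top => rw [h] at hle; exact absurd (WithBot.coe_le_coe.1 hle) (by simp)
        | coe n => exact ⟨n, rfl⟩
    rw [hn]
    refine congrArg (fun n : ℕ => (n : WithBot ℕ∞)) (le_antisymm ?_ ?_)
    · rw [hn] at hle; rw [add_comm (Module.finrank ℤ M)] at hle ⊢; exact_mod_cast hle
    · have := RootIntrinsic.card_add_rank_le E j (fun a : Φ => a.1) (fun a => a.2.1) Subtype.val_injective u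
        (fun a => (rootHom_split_iff j E _ _).1 (hu a)) n hn
      have hcard : Fintype.card (Roots j) = Fintype.card Φ := Fintype.card_congr (Equiv.refl _)
      omega

end Groth.Agent.RootBase
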