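import Mathlib.RingTheory.Polynomial.Resultant.Basic
import Mathlib.FieldTheory.IsAlgClosed.Basic

/-!
# The projection from the projective line of a closed set of rational points is closed

Sets of rational points are cut out by functions: a point outside has a function vanishing on the set and not
at the point. The second chart is only needed along infinity.
-/

set_option autoImplicit false

universe u v

open Polynomial

noncomputable section

namespace Groth.Agent.RootBase

variable {A : Type u} [CommRing A] {K : Type u} [Field K] [IsAlgClosed K] {pts : Type v}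
  (ev : pts → (A →+* K)) (e : K →+* A)

/-- **Projections from the projective line are closed.** -/
theorem exists_sep_proj (he : ∀ g x, ev g (e x) = x) (E : K → pts → Prop) (c : K)
    (h1 : ∀ x g, ¬E x g → ∃ F : A[X], (∀ x' g', E x' g' → F.eval₂ (ev g') x' = 0) ∧ F.eval₂ (ev g) x ≠ 0)
    (p : pts) (hp : ∀ x, ¬E x p) (F₂ : A[X]) (h2 : ∀ x g, x ≠ 0 → E x g → F₂.eval₂ (ev g) (c / x) = 0)
    (h20 : F₂.eval₂ (ev p) 0 ≠ 0) : ∃ H : A, (∀ x g, E x g → ev g H = 0) ∧ ev p H ≠ 0 := by
  let n := F₂.natDegree
  let f : A[X] := ∑ i ∈ Finset.range (n + 1), C (F₂.coeff i * e c ^ i) * X ^ (n + 1 - i)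
  have hf : f.natDegree ≤ n + 1 := natDegree_sum_le_of_forall_le _ _ fun i _ =>
    (natDegree_C_mul_X_pow_le _ _).trans (Nat.sub_le _ _)
  have hlead : f.coeff (n + 1) = F₂.coeff 0 := by
    rw [finsetSum_coeff, Finset.sum_eq_single 0]
    · simp
    · intro i hi hi0
      rw [coeff_C_mul, coeff_X_pow, if_neg (by omega), mul_zero]
    · intro h; exact absurd (Finset.mem_range.2 (Nat.succ_pos n)) h
  have hfE : ∀ x g, E x g → f.eval₂ (ev g) x = 0 := by
    intro x g hE
    simp only [f, eval₂_finsetSum, eval₂_mul, eval₂_pow, eval₂_C, eval₂_X, map_mul, map_pow, he]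
    by_cases hx : x = 0
    · refine Finset.sum_eq_zero fun i hi => ?_
      rw [hx, zero_pow (by have := Finset.mem_range.1 hi; omega), mul_zero]
    · have h := h2 x g hx hE
      rw [eval₂_eq_sum_range] at h
      rw [← mul_zero (x ^ (n + 1)), ← h, Finset.mul_sum]
      refine Finset.sum_congr rfl fun i hi => ?_
      rw [pow_sub₀ x hx (by have := Finset.mem_range.1 hi; omega), div_pow]
      ring
  -- the equations at the point have no common root
  let I : Ideal A[X] :=
    { carrier := {F | ∀ x' g', E x' g' → F.eval₂ (ev g') x' = 0}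
      add_mem' := fun {a b} ha hb x' g' h => by rw [eval₂_add, ha x' g' h, hb x' g' h, add_zero]
      zero_mem' := fun x' g' _ => eval₂_zero _ _
      smul_mem' := fun a {b} hb x' g' h => by rw [smul_eq_mul, eval₂_mul, hb x' g' h, mul_zero] }
  have hsurj : Function.Surjective (Polynomial.mapRingHom (ev p)) :=
    Polynomial.map_surjective _ fun x => ⟨e x, he p x⟩
  have htop : I.map (Polynomial.mapRingHom (ev p)) = ⊤ := by
    by_contra hne
    obtain ⟨q, hq⟩ := (IsPrincipalIdealRing.principal (I.map (Polynomial.mapRingHom (ev p)))).principal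
    have hqu : ¬IsUnit q := fun hu => hne (by rw [hq]; exact Ideal.span_singleton_eq_top.2 hu)
    obtain ⟨a, ha⟩ : ∃ a, q.IsRoot a := by
      by_cases hq0 : q = 0
      · exact ⟨0, by simp [hq0, IsRoot]⟩
      · exact IsAlgClosed.exists_root q fun hd => hqu (isUnit_iff_degree_eq_zero.2 hd)
    obtain ⟨F, hF, hFa⟩ := h1 a p (hp a)
    refine hFa ?_
    have hmem : F.map (ev p) ∈ I.map (Polynomial.mapRingHom (ev p)) := Ideal.mem_map_of_mem _ hF
    rw [hq] at hmem
    obtain ⟨r, hr⟩ := Ideal.mem_span_singleton'.1 hmem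
    rw [eval₂_eq_eval_map, ← hr, eval_mul, ha, mul_zero]
  obtain ⟨F₁, hF₁, hF₁p⟩ := (Ideal.mem_map_iff_of_surjective _ hsurj).1 ((Ideal.eq_top_iff_one _).1 htop)
  refine ⟨resultant f F₁ (n + 1) F₁.natDegree, fun x g hE => ?_, ?_⟩
  · obtain ⟨a, b, -, -, hab⟩ := exists_mul_add_mul_eq_C_resultant f F₁ hf le_rfl (Or.inl (Nat.succ_ne_zero n))
    have := congrArg (Polynomial.eval₂ (ev g) x) hab
    rw [eval₂_add, eval₂_mul, eval₂_mul, eval₂_C, hfE x g hE, hF₁ x g hE, zero_mul, zero_mul, add_zero] at this
    exact this.symm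
  · rw [← resultant_map_map]
    rw [show F₁.map (ev p) = 1 from hF₁p, resultant_one_right, coeff_map, hlead]
    refine pow_ne_zero _ ?_
    rwa [eval₂_at_zero] at h20

end Groth.Agent.RootBase
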