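import Groth.Agent.RootBase.Rank2

/-!
# The relations of type B₂ of a pinning
-/

set_option autoImplicit false
set_option backward.isDefEq.respectTransparency false
set_option linter.style.haveILetI false
set_option maxHeartbeats 1000000
set_option synthInstance.maxHeartbeats 400000

universe u

open CategoryTheory Limits MonoidalCategory CartesianMonoidalCategory MonObj GrpObj AlgebraicGeometry LieS
open scoped CategoryTheory.Obj

noncomputable section

namespace Groth.Agent.RootBase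

open Groth.Agent.HomDiag Groth.Agent.DynPar Groth.Agent.RootSys Groth.Agent.MTBridge

variable {S : Scheme.{u}} {G : Over S} [GrpObj G] {M : Type} [AddCommGroup M] [Module.Free ℤ M] [Module.Finite ℤ M]
  {c : Red.DS S M ⟶ G} {idx : Type} [Fintype idx] {P : RootPairing idx ℤ M (Module.Dual ℤ M)} [P.IsReduced]
  {u : idx → (Red.Ga S ⟶ G)}

/-- The relations of two simple roots of type B₂. -/
theorem b2_core (F : Frame c P.root u) {a a' b b' : idx} {Na Nb : 𝟙_ (Over S) ⟶ G}
    (hcor : ∀ x y, P.coroot x (P.root y) = P.pairing y x)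
    (Wa : IsWeyl c P u a a' Na) (Wb : IsWeyl c P u b b' Nb)
    (hli : ∀ x y : ℤ, x • P.root a + y • P.root b = 0 → x = 0 ∧ y = 0)
    (hbot : P.root b - P.root a ∉ Set.range P.root) (hba : P.pairing b a = -2) (hab : P.pairing a b = -1) :
    (∀ (X : Over S) (x y xy xxy : X ⟶ Red.Ga S), Red.gaFn xy = Red.gaFn x * Red.gaFn y →
      Red.gaFn xxy = Red.gaFn x ^ 2 * Red.gaFn y →
        (y ≫ u b) * (x ≫ u a) = (x ≫ u a) * (y ≫ u b) * cj Nb (xy ≫ u a) * cj Na (xxy ≫ u b)) ∧
    (∀ (X : Over S) (x y txy : X ⟶ Red.Ga S), Red.gaFn txy = 2 * Red.gaFn x * Red.gaFn y →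
        cj Nb (y ≫ u a) * (x ≫ u a) = (x ≫ u a) * cj Nb (y ≫ u a) * cj Na (txy ≫ u b)) ∧
    (∀ (X : Over S) (x : X ⟶ Red.Ga S), cj Na (cj Nb (x ≫ u a)) = cj Nb (x⁻¹ ≫ u a)) ∧
    (∀ (X : Over S) (x : X ⟶ Red.Ga S), cj Nb (cj Na (x ≫ u b)) = cj Na (x ≫ u b)) := by
  classical
  let c₁ := P.reflectionPerm b a
  let c₂ := P.reflectionPerm a b
  have h₁ : P.root c₁ = P.root a + P.root b := by
    rw [show c₁ = P.reflectionPerm b a from rfl, root_refl, hab]; module
  have h₂ : P.root c₂ = (2 : ℤ) • P.root a + P.root b := by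
    rw [show c₂ = P.reflectionPerm a b from rfl, root_refl, hba]; module
  have hne : ∀ (l r : idx) (p q p' q' : ℤ), p • P.root a + q • P.root b = P.root l →
      p' • P.root a + q' • P.root b = P.root r → (p ≠ p' ∨ q ≠ q') → l ≠ r := by
    rintro l r p q p' q' h h' hpq rfl
    obtain ⟨e1, e2⟩ := hli (p - p') (q - q') (by linear_combination (norm := module) h - h')
    omega
  have e₁ : (1 : ℤ) • P.root a + (1 : ℤ) • P.root b = P.root c₁ := by rw [h₁]; module
  have e₂ : (2 : ℤ) • P.root a + (1 : ℤ) • P.root b = P.root c₂ := by rw [h₂]; module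
  have ea : (1 : ℤ) • P.root a + (0 : ℤ) • P.root b = P.root a := by module
  have eb : (0 : ℤ) • P.root a + (1 : ℤ) • P.root b = P.root b := by module
  have ea' : (-1 : ℤ) • P.root a + (0 : ℤ) • P.root b = P.root a' := by rw [Wa.opp]; module
  have eb' : (0 : ℤ) • P.root a + (-1 : ℤ) • P.root b = P.root b' := by rw [Wb.opp]; module
  have h21 : c₂ ≠ c₁ := hne _ _ _ _ _ _ e₂ e₁ (by omega)
  have hb2 : b ≠ c₂ := hne _ _ _ _ _ _ eb e₂ (by omega)
  have hb1 : b ≠ c₁ := hne _ _ _ _ _ _ eb e₁ (by omega)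
  let v := Function.update (Function.update u c₁ (cj Nb (u a))) c₂ (cj Na (u b))
  have F' : Frame c P.root v := (F.update c₁ (Wb.rootHom_refl hcor Wa.hua)).update c₂ (Wa.rootHom_refl hcor Wb.hua)
  have vo : ∀ l, l ≠ c₁ → l ≠ c₂ → v l = u l := fun l h h' => by
    simp only [v, Function.update_of_ne h', Function.update_of_ne h]
  have va : v a = u a := vo a (hne _ _ _ _ _ _ ea e₁ (by omega)) (hne _ _ _ _ _ _ ea e₂ (by omega))
  have va' : v a' = u a' := vo a' (hne _ _ _ _ _ _ ea' e₁ (by omega)) (hne _ _ _ _ _ _ ea' e₂ (by omega))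
  have vb : v b = u b := vo b hb1 hb2
  have vb' : v b' = u b' := vo b' (hne _ _ _ _ _ _ eb' e₁ (by omega)) (hne _ _ _ _ _ _ eb' e₂ (by omega))
  have v1 : v c₁ = cj Nb (u a) := by simp only [v, Function.update_of_ne h21.symm, Function.update_self]
  have v2 : v c₂ = cj Na (u b) := by simp only [v, Function.update_self]
  have Va := Wa.congr va va'
  have Vb := Wb.congr vb vb'
  have hnot : ∀ (p q : ℕ), 1 ≤ p → 1 ≤ q → ∀ d, P.root d = (p : ℤ) • P.root a + (q : ℤ) • P.root b →
      q = 1 ∧ p ≤ 2 := fun p q hp hq d hd => by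
    rcases combos hli hbot (k := -2) (Or.inr (Or.inr (Or.inl rfl))) hba (by rw [hab]; rfl) hp hq hd with h | ⟨-, h⟩
    all_goals omega
  have hli' : ∀ x y : ℤ, x • P.root a' + y • P.root c₂ = 0 → x = 0 ∧ y = 0 :=
    li_neg (li_add (i := 2) hli one_ne_zero e₂.symm) Wa.opp
  have hli1 : ∀ x y : ℤ, x • P.root a + y • P.root c₁ = 0 → x = 0 ∧ y = 0 := li_add (i := 1) hli one_ne_zero e₁.symm
  obtain ⟨C, hf⟩ := F'.exists_formula' hli ![c₁, c₂] ![1, 2] ![1, 1]
    (fun p q h => by
      fin_cases p <;> fin_cases q <;> first | rfl | (simp at h; first | exact absurd h h21 | exact absurd h.symm h21))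
    (fun k => ⟨by fin_cases k <;> simp, by fin_cases k <;> simp, by fin_cases k <;> simp [h₁, h₂]⟩)
    (fun d p q hp hq hd => by
      obtain ⟨rfl, hp2⟩ := hnot p q hp hq d hd
      obtain rfl | rfl : p = 1 ∨ p = 2 := by omega
      · exact ⟨0, P.root.injective (by simp [hd, h₁])⟩
      · exact ⟨1, P.root.injective (by simp [hd, h₂])⟩)
  obtain ⟨C', hf'⟩ := F'.exists_formula' hli' ![c₁, b] ![1, 2] ![1, 1]
    (fun p q h => by
      fin_cases p <;> fin_cases q <;> first | rfl | (simp at h; first | exact absurd h hb1 | exact absurd h.symm hb1))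
    (fun k => ⟨by fin_cases k <;> simp, by fin_cases k <;> simp, by
      fin_cases k <;> simp [h₁, h₂, Wa.opp] <;> module⟩)
    (fun d p q hp hq hd => by
      obtain ⟨h3, h4, h5, h6⟩ := plane_bound P hd
      have k1 : P.pairing c₂ a' = -2 := by
        rw [← hcor, Wa.hcor, hcor, pairing_root_combo e₂.symm, P.pairing_same, hba]; norm_num
      have k2 : P.pairing a' c₂ = -1 := by
        have h7 := P.pairingIn_pairingIn_mem_set_of_isCrystal_of_isRed' (i := a') (j := c₂)
          (fun h => by obtain ⟨h8, -⟩ := hli' 1 (-1) (by rw [h]; module); omega)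
          (fun h => by obtain ⟨h8, -⟩ := hli' 1 1 (by rw [h]; module); omega)
        simp only [pairingIn_int, Set.mem_insert_iff, Set.mem_singleton_iff, Prod.mk.injEq, k1] at h7
        omega
      rcases combos hli' (fun ⟨e, he⟩ => by
          have := hnot 3 1 (by omega) le_rfl e (by rw [he, h₂, Wa.opp]; push_cast; module)
          omega) (k := -2) (Or.inr (Or.inr (Or.inl rfl))) k1 (by rw [k2]; rfl) hp hq hd with ⟨h7, h8⟩ | ⟨-, h7⟩
      · obtain rfl : q = 1 := by omega
        obtain rfl | rfl : p = 1 ∨ p = 2 := by omega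
        · exact ⟨0, P.root.injective (by simp [hd, h₁, h₂, Wa.opp]; module)⟩
        · exact ⟨1, P.root.injective (by simp [hd, h₂, Wa.opp])⟩
      · omega)
  -- the coefficients
  have htop₁ : P.root b + P.root c₁ ∉ Set.range P.root := fun ⟨e, he⟩ => by
    have := hnot 1 2 le_rfl one_le_two e (by rw [he, h₁]; push_cast; module); omega
  have htop₂ : P.root a + P.root c₂ ∉ Set.range P.root := fun ⟨e, he⟩ => by
    have := hnot 3 1 (by omega) le_rfl e (by rw [he, h₂]; push_cast; module); omega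
  have hc₁ : IsCoef P v a b c₁ 1 (-1) := F'.coef_symm hli h₁
    (Vb.coef_top F' le_rfl (li_symm P hli) (show P.root c₁ = ((1 : ℕ) : ℤ) • P.root b + P.root a by
      rw [h₁]; push_cast; module) htop₁ 1 (by rw [va, v1, comp_cj, scl_one])).1
  obtain ⟨hc₂, hmid, hend⟩ := Va.coef_top F' one_le_two hli
    (show P.root c₂ = ((2 : ℕ) : ℤ) • P.root a + P.root b by rw [h₂]; rfl) htop₂ 1 (by rw [vb, v2, comp_cj, scl_one])
  have hd₁ : P.root c₁ = ((1 : ℕ) : ℤ) • P.root a + P.root b := by rw [h₁]; push_cast; module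
  have hd₂ : P.root c₂ = ((2 : ℕ) : ℤ) • P.root a + P.root b := by rw [h₂]; rfl
  have C0 : C 0 = -1 := F'.coef_eq hli hd₁ (hf.isCoef 0 rfl) hc₁
  have C1 : C 1 = 1 := F'.coef_eq hli hd₂ (hf.isCoef 1 rfl) hc₂
  have C'0 : C' 0 = -1 := by
    have h := hmid c₁ 1 _ (C' 0) le_rfl one_lt_two hd₁ hc₁ (hf'.isCoef 0 rfl)
    rw [_root_.mul_one] at h
    exact h.symm
  have C'1 : C' 1 = 1 := by
    have h := hend (C' 1) (hf'.isCoef 1 rfl)
    rwa [_root_.mul_one] at h
  obtain ⟨K, hK⟩ := F'.exists_coef hli1 le_rfl (d := c₂) (by rw [h₁, h₂]; push_cast; module)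
  have K0 : K = -2 := by
    have h := congrArg (fun p => Polynomial.coeff p 1) (F'.coef_comp hli (I := 2) one_le_two hd₂ hc₂ (fun _ => c₁)
      (fun q => by rw [show q.val = 0 by omega]; exact hd₁) (fun _ => -1) (fun _ => K)
      (fun q => by rw [show q.val = 0 by omega]; exact hc₁) (fun q => by rw [show q.val = 0 by omega]; exact hK))
    rw [show (Polynomial.X + 1 : Polynomial Γ(S, ⊤)) ^ 2 = Polynomial.X ^ 2 + Polynomial.C 2 * Polynomial.X + 1 by
      rw [map_ofNat]; ring] at h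
    simp [Polynomial.coeff_X_pow, Polynomial.coeff_C, Polynomial.coeff_one] at h
    linear_combination h
  obtain ⟨C'', hf''⟩ := F'.exists_formula' hli1 ![c₂] ![1] ![1] (Function.injective_of_subsingleton _)
    (fun k => ⟨by fin_cases k; simp, by fin_cases k; simp, by fin_cases k; simp [h₁, h₂]; module⟩)
    (fun d p q hp hq hd => by
      obtain ⟨rfl, hp2⟩ := hnot (p + q) q (by omega) hq d (by rw [hd, h₁]; push_cast; module)
      obtain rfl : p = 1 := by omega
      exact ⟨0, P.root.injective (by simp [hd, h₁, h₂]; module)⟩)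
  have C''0 : C'' 0 = -2 := (F'.coef_eq hli1 (by simp [h₁, h₂]; module) (hf''.isCoef 0 rfl) hK).trans K0
  have hsq : ∀ (X : Over S) (x : X ⟶ Red.Ga S), cj Na (cj Na (x ≫ u b)) = x ≫ u b := fun X x => by
    rw [Wa.cj_sq Wb.hua, hcor, hba, par_even (by decide), scl_one]
  refine ⟨fun X x y xy xxy hxy hxxy => ?_, fun X x y txy htxy => ?_, fun X x => ?_, fun X x => ?_⟩
  · haveI := (F.hu a).1
    have h := hf.eq X x⁻¹ y ![xy, xxy] fun k => by
      fin_cases k
      · simp [C0, hxy, gaFn_inv]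
      · simp [C1, hxxy, gaFn_inv]
    simp [va, vb, v1, v2, comp_cj] at h
    rw [exchange, h]
    simp only [_root_.mul_assoc]
  · haveI := (F.hu a).1
    have h := hf''.eq X x⁻¹ y ![txy] fun k => by fin_cases k; simp [C''0, htxy, gaFn_inv, map_ofNat]
    simp [va, v1, v2, comp_cj] at h
    rw [show cj Nb (y ≫ u a) = y ≫ cj Nb (u a) from (comp_cj _ _ _).symm, exchange, h]
  · haveI := (F.hu a).1
    haveI := (F.hu b).1
    have e1 := congrArg (cj Na) (hf.eq X (eOne X) x⁻¹ ![x, x⁻¹] fun k => by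
      fin_cases k <;> simp [C0, C1, gaFn_inv, eOne, BGaNotS.gaFn_gaPt])
    simp [va, vb, v1, v2, comp_cj, word, cj_mul, cj_inv] at e1
    rw [Wa.pos, hsq] at e1
    have e2 := hf'.eq X (eOne X)⁻¹ x⁻¹ ![x⁻¹, x⁻¹] fun k => by
      fin_cases k <;> simp [C'0, C'1, gaFn_inv, eOne, BGaNotS.gaFn_gaPt]
    simp [va', vb, v1, v2, comp_cj, word] at e2
    rw [e2] at e1
    exact (mul_right_cancel e1).symm
  · have hd : Red.IsRootHom c (Red.chi S (P.root c₂)) (cj Na (u b)) := Wa.rootHom_refl hcor Wb.hua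
    rw [cj]
    refine mul_inv_eq_iff_eq_mul.2 ?_
    have hplus : P.root b + P.root c₂ ∉ Set.range P.root := by
      rw [show P.root b + P.root c₂ = (2 : ℤ) • P.root c₁ by rw [h₁, h₂]; module]
      exact (not_two c₁).1
    have hminus : P.root b' + P.root c₂ ∉ Set.range P.root := by
      rw [show P.root b' + P.root c₂ = (2 : ℤ) • P.root a by rw [Wb.opp, h₂]; module]
      exact (not_two a).1
    have hl : ∀ x y : ℤ, x • P.root b + y • P.root c₂ = 0 → x = 0 ∧ y = 0 := fun p q h => by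
      obtain ⟨e1, e2⟩ := hli (2 * q) (p + q) (by rw [← h, h₂]; module); omega
    have hN : toUnit X ≫ Nb = (eOne X ≫ u b) * (eC X (-1) ≫ u b') * (eOne X ≫ u b) := by
      rw [Wb.eq, MonObj.comp_mul, MonObj.comp_mul, ← Category.assoc, ← Category.assoc, eOne_comp, eC_comp]
    rw [hN, ← comp_cj]
    exact (((show Commute (eOne X ≫ u b) (x ≫ cj Na (u b)) from F.commute_hom hd hl hplus _ _).mul_left
      (F.commute_hom hd (li_neg hl Wb.opp) hminus _ _)).mul_left (F.commute_hom hd hl hplus _ _)).eq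

end Groth.Agent.RootBase
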