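import Groth.Agent.RootBase.SolvChart
import Mathlib.AlgebraicGeometry.Sites.Fpqc

/-!
# The projection of a subgroup of type (R) with solvable fibres onto a maximal torus
-/

set_option autoImplicit false
set_option backward.isDefEq.respectTransparency false
set_option linter.style.haveILetI false
set_option maxHeartbeats 2000000
set_option synthInstance.maxHeartbeats 400000

universe u

open CategoryTheory Limits MonoidalCategory CartesianMonoidalCategory MonObj GrpObj AlgebraicGeometry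
open scoped CategoryTheory.Obj

noncomputable section

namespace Groth.Agent.RootBase

open Groth.Agent.HomDiag Groth.Agent.MTBridge

variable {S : Scheme.{u}} {X Y : Scheme.{u}}

/-- The image in `X` of an etale cover of the base. -/
def imgOpen (x : X ⟶ S) {W : Scheme.{u}} (p : W ⟶ S) [Etale p] : X.Opens :=
  ⟨Set.range (pullback.fst x p), (pullback.fst x p).isOpenMap.isOpen_range⟩

theorem iSup_imgOpen (x : X ⟶ S) (W : S → Scheme.{u}) (p : ∀ s, W s ⟶ S) [∀ s, Etale (p s)]
    (hs : ∀ s, s ∈ Set.range (p s).base) : TopologicalSpace.IsOpenCover fun q => imgOpen x (p (x q)) := by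
  refine TopologicalSpace.IsOpenCover.mk ?_
  rw [eq_top_iff]
  intro q _
  obtain ⟨w, hw⟩ := hs (x q)
  obtain ⟨z, hz, -⟩ := Scheme.Pullback.exists_preimage_pullback (f := x) (g := p (x q)) q w hw.symm
  exact TopologicalSpace.Opens.mem_iSup.2 ⟨q, ⟨z, hz⟩⟩

theorem exists_img_lift (x : X ⟶ S) {W : Scheme.{u}} (p : W ⟶ S) [Etale p] :
    ∃ a : pullback x p ⟶ (imgOpen x p).toScheme,
      a ≫ (imgOpen x p).ι = pullback.fst x p ∧ Etale a ∧ Surjective a := by
  have hr : Set.range (pullback.fst x p) ⊆ Set.range (imgOpen x p).ι := by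
    rw [Scheme.Opens.range_ι]
    exact le_refl _
  refine ⟨IsOpenImmersion.lift (imgOpen x p).ι (pullback.fst x p) hr, IsOpenImmersion.lift_fac _ _ _, ?_, ?_⟩
  · haveI : Etale (IsOpenImmersion.lift (imgOpen x p).ι (pullback.fst x p) hr ≫ (imgOpen x p).ι) := by
      rw [IsOpenImmersion.lift_fac]; infer_instance
    exact Etale.of_comp _ (imgOpen x p).ι
  · refine ⟨fun o => ?_⟩
    obtain ⟨q, hq⟩ := o.2
    refine ⟨q, (imgOpen x p).ι.isOpenEmbedding.injective ?_⟩
    rw [← Scheme.Hom.comp_apply, IsOpenImmersion.lift_fac, hq]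
    rfl

/-- Maps agreeing on an etale cover of the base agree. -/
theorem hom_ext_etale (x : X ⟶ S) (W : S → Scheme.{u}) (p : ∀ s, W s ⟶ S) [∀ s, Etale (p s)]
    (hs : ∀ s, s ∈ Set.range (p s).base) (a b : X ⟶ Y)
    (h : ∀ s, pullback.fst x (p s) ≫ a = pullback.fst x (p s) ≫ b) : a = b := by
  refine Scheme.Cover.hom_ext (X.openCoverOfIsOpenCover _ (iSup_imgOpen x W p hs)) _ _ fun q => ?_
  obtain ⟨α, hα, hαe, hαs⟩ := exists_img_lift x (p (x q))
  haveI := hαe; haveI := hαs
  show (imgOpen x (p (x q))).ι ≫ a = (imgOpen x (p (x q))).ι ≫ b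
  rw [← cancel_epi α, reassoc_of% hα, reassoc_of% hα]
  exact h _

/-- Compatible maps on an etale cover of the base glue. -/
theorem exists_glue_charts (x : X ⟶ S) (W : S → Scheme.{u}) (p : ∀ s, W s ⟶ S) [∀ s, Etale (p s)]
    (hs : ∀ s, s ∈ Set.range (p s).base) (g : ∀ s, pullback x (p s) ⟶ Y)
    (hg : ∀ (s s' : S) {Z : Scheme.{u}} (z : Z ⟶ pullback x (p s)) (z' : Z ⟶ pullback x (p s')),
      z ≫ pullback.fst x (p s) = z' ≫ pullback.fst x (p s') → z ≫ g s = z' ≫ g s') :
    ∃ F : X ⟶ Y, ∀ s, pullback.fst x (p s) ≫ F = g s := by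
  have key : ∀ s, ∃ F : (imgOpen x (p s)).toScheme ⟶ Y, ∀ {Z : Scheme.{u}} (z : Z ⟶ pullback x (p s))
      (o : Z ⟶ (imgOpen x (p s)).toScheme), o ≫ (imgOpen x (p s)).ι = z ≫ pullback.fst x (p s) → o ≫ F = z ≫ g s := by
    intro s
    obtain ⟨α, hα, hαe, hαs⟩ := exists_img_lift x (p s)
    haveI := hαe; haveI := hαs
    refine ⟨EffectiveEpi.desc α (g s) fun {Z} g₁ g₂ e => hg s s g₁ g₂ (by rw [← hα, reassoc_of% e]), ?_⟩
    intro Z z o ho
    have e : o = z ≫ α := (cancel_mono (imgOpen x (p s)).ι).1 (by rw [ho, Category.assoc, hα])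
    rw [e, Category.assoc, EffectiveEpi.fac]
  choose F hF using key
  obtain ⟨Φ, hΦ⟩ : ∃ Φ : X ⟶ Y, ∀ q, (imgOpen x (p (x q))).ι ≫ Φ = F (x q) := by
    refine ⟨Scheme.Cover.glueMorphisms (X.openCoverOfIsOpenCover _ (iSup_imgOpen x W p hs)) (fun q => F (x q))
      fun q q' => ?_, fun q => Scheme.Cover.ι_glueMorphisms _ _ _ _⟩
    show pullback.fst (imgOpen x (p (x q))).ι (imgOpen x (p (x q'))).ι ≫ F (x q) =
      pullback.snd (imgOpen x (p (x q))).ι (imgOpen x (p (x q'))).ι ≫ F (x q')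
    obtain ⟨α, hα, hαe, hαs⟩ := exists_img_lift x (p (x q))
    obtain ⟨α', hα', hαe', hαs'⟩ := exists_img_lift x (p (x q'))
    haveI := hαe; haveI := hαs; haveI := hαe'; haveI := hαs'
    let π := pullback.fst (imgOpen x (p (x q))).ι (imgOpen x (p (x q'))).ι
    let π' := pullback.snd (imgOpen x (p (x q))).ι (imgOpen x (p (x q'))).ι
    let c := pullback.fst π α
    let c' := pullback.fst (c ≫ π') α'
    haveI : Epi c := Flat.epi_of_flat_of_surjective c
    haveI : Epi c' := Flat.epi_of_flat_of_surjective c'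
    have hπ : π ≫ (imgOpen x (p (x q))).ι = π' ≫ (imgOpen x (p (x q'))).ι := pullback.condition
    have h1 : (c' ≫ c ≫ π) ≫ (imgOpen x (p (x q))).ι = (c' ≫ pullback.snd π α) ≫ pullback.fst x (p (x q)) := by
      simp only [Category.assoc]
      rw [show c ≫ π ≫ _ = (pullback.snd π α ≫ α) ≫ (imgOpen x (p (x q))).ι by
        rw [← pullback.condition, Category.assoc], Category.assoc, hα]
    have h2 : (c' ≫ c ≫ π') ≫ (imgOpen x (p (x q'))).ι =
        pullback.snd (c ≫ π') α' ≫ pullback.fst x (p (x q')) := by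
      rw [show c' ≫ c ≫ π' = pullback.snd (c ≫ π') α' ≫ α' from pullback.condition, Category.assoc, hα']
    rw [← cancel_epi c, ← cancel_epi c']
    have H1 := hF (x q) _ _ h1
    have H2 := hF (x q') _ _ h2
    simp only [Category.assoc] at H1 H2 ⊢
    rw [H1, H2, ← Category.assoc]
    refine hg _ _ _ _ ?_
    rw [← h1, ← h2]
    simp only [Category.assoc, hπ]
  refine ⟨Φ, fun s => ?_⟩
  -- compare with the charts around the points of the image
  apply Scheme.Cover.hom_ext ((X.openCoverOfIsOpenCover _ (iSup_imgOpen x W p hs)).pullback₁ (pullback.fst x (p s)))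
  intro q
  show pullback.fst (pullback.fst x (p s)) (imgOpen x (p (x q))).ι ≫ pullback.fst x (p s) ≫ Φ =
    pullback.fst (pullback.fst x (p s)) (imgOpen x (p (x q))).ι ≫ g s
  obtain ⟨α, hα, hαe, hαs⟩ := exists_img_lift x (p (x q))
  haveI := hαe; haveI := hαs
  let d := pullback.snd (pullback.fst x (p s)) (imgOpen x (p (x q))).ι
  let e := pullback.fst d α
  haveI : Epi e := Flat.epi_of_flat_of_surjective e
  rw [← cancel_epi e]
  have h1 : (e ≫ d) ≫ (imgOpen x (p (x q))).ι = pullback.snd d α ≫ pullback.fst x (p (x q)) := by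
    rw [show e ≫ d = pullback.snd d α ≫ α from pullback.condition, Category.assoc, hα]
  have h3 : pullback.fst (pullback.fst x (p s)) (imgOpen x (p (x q))).ι ≫ pullback.fst x (p s) =
      d ≫ (imgOpen x (p (x q))).ι := pullback.condition
  rw [reassoc_of% h3, hΦ, ← Category.assoc, hF (x q) _ _ h1, ← Category.assoc]
  refine hg (x q) s _ _ ?_
  rw [← h1, Category.assoc, ← h3, Category.assoc]

variable {G H T : Over S} [GrpObj G] [GrpObj H] [GrpObj T]

/-- A point of a base change as a point over the base. -/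
def low {W : Scheme.{u}} (p : W ⟶ S) {A : Over S} {Z : Over W} (z : Z ⟶ Red.bc p A) : (Over.map p).obj Z ⟶ A :=
  ((Over.mapPullbackAdj p).homEquiv Z A).symm z

theorem low_left {W : Scheme.{u}} (p : W ⟶ S) {A : Over S} {Z : Over W} (z : Z ⟶ Red.bc p A) :
    (low p z).left = z.left ≫ pullback.fst A.hom p := by
  simp [low, Over.mapPullbackAdj]

theorem toBC_low {W : Scheme.{u}} (p : W ⟶ S) {A : Over S} {Z : Over W} (z : Z ⟶ Red.bc p A) :
    toBC p (low p z) = z := Equiv.apply_symm_apply _ z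

theorem low_mul {W : Scheme.{u}} (p : W ⟶ S) {A : Over S} [GrpObj A] {Z : Over W} (z z' : Z ⟶ Red.bc p A) :
    low p (z * z') = low p z * low p z' :=
  toBC_inj p (by rw [toBC_mul, toBC_low, toBC_low, toBC_low])

theorem low_comp {W : Scheme.{u}} (p : W ⟶ S) {A : Over S} {Z Z' : Over W} (b : Z' ⟶ Z) (z : Z ⟶ Red.bc p A) :
    low p (b ≫ z) = (Over.map p).map b ≫ low p z :=
  (Over.mapPullbackAdj p).homEquiv_naturality_left_symm b z

theorem low_map {W : Scheme.{u}} (p : W ⟶ S) {A B : Over S} (g : A ⟶ B) {Z : Over W} (z : Z ⟶ Red.bc p A) :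
    low p (z ≫ (Over.pullback p).map g) = low p z ≫ g :=
  toBC_inj p (by rw [toBC_low, toBC_comp, toBC_low])

/-- The homomorphisms on points of a homomorphism. -/
def postHom {W : Scheme.{u}} (p : W ⟶ S) {A : Over S} [GrpObj A] (φ : H ⟶ A) [IsMonHom φ] (Z : Over W) :
    (Z ⟶ Red.bc p H) →* ((Over.map p).obj Z ⟶ A) :=
  MonoidHom.mk' (fun z => low p z ≫ φ) fun z z' => by rw [low_mul, MonObj.mul_comp]

/-- The value of a chart at a point. -/
def val {W : Scheme.{u}} (p : W ⟶ S) (r : Red.bc p H ⟶ Red.bc p T) (Y : Over S) (l : Y.left ⟶ W)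
    (hl : l ≫ p = Y.hom) (a : Y ⟶ H) : Y ⟶ T :=
  let ε : (Over.map p).obj (Over.mk l) ≅ Y := Over.isoMk (Iso.refl _) (by simp [hl])
  ε.inv ≫ low p (toBC p (ε.hom ≫ a) ≫ r)

theorem val_mul {W : Scheme.{u}} (p : W ⟶ S) (r : Red.bc p H ⟶ Red.bc p T) [IsMonHom r] (Y : Over S) (l : Y.left ⟶ W)
    (hl : l ≫ p = Y.hom) (a a' : Y ⟶ H) : val p r Y l hl (a * a') = val p r Y l hl a * val p r Y l hl a' := by
  simp only [val, MonObj.comp_mul, toBC_mul, MonObj.mul_comp, low_mul]

theorem val_left {W : Scheme.{u}} (p : W ⟶ S) (r : Red.bc p H ⟶ Red.bc p T) (Y : Over S) (l : Y.left ⟶ W)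
    (hl : l ≫ p = Y.hom) (a : Y ⟶ H) :
    (val p r Y l hl a).left = pullback.lift a.left l (by rw [Over.w a, hl]) ≫ r.left ≫ pullback.fst T.hom p := by
  simp only [val, Over.comp_left, low_left, Over.isoMk_inv_left, Iso.refl_inv, Category.id_comp, Category.assoc]
  refine congrArg (fun q => q ≫ r.left ≫ pullback.fst T.hom p) ?_
  apply pullback.hom_ext <;> simp [toBC, Over.mapPullbackAdj]

theorem val_torus {W : Scheme.{u}} (p : W ⟶ S) (r : Red.bc p H ⟶ Red.bc p T) (t : T ⟶ H)
    (hr : (Over.pullback p).map t ≫ r = 𝟙 _) (Y : Over S) (l : Y.left ⟶ W) (hl : l ≫ p = Y.hom) (b : Y ⟶ T) :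
    val p r Y l hl (b ≫ t) = b := by
  simp only [val]
  rw [← Category.assoc _ b, toBC_comp, Category.assoc, hr, Category.comp_id, low]
  rw [show ((Over.mapPullbackAdj p).homEquiv _ T).symm (toBC p _) = _ from Equiv.symm_apply_apply _ _,
    Iso.inv_hom_id_assoc]

set_option maxHeartbeats 8000000 in
/-- **The projection onto the maximal torus.** -/
theorem exists_solvTorusProj (hG : Red.IsReductive G) (i : T ⟶ G) (hT : Red.IsMaximalTorus i) (h : H ⟶ G)
    (hH : RedSub.IsTypeR h) (t : T ⟶ H) (ht : t ≫ h = i) (hsolv : ∀ s : S, Red.IsSolvableGrp (Red.geomFibre s H)) :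
    (∃ r : H ⟶ T, IsMonHom r ∧ t ≫ r = 𝟙 T ∧
      ∀ s : S, ∃ (W : Scheme.{u}) (p : W ⟶ S) (_ : Etale p), s ∈ Set.range p.base ∧
        ∃ (U : Over W) (_ : GrpObj U) (j : U ⟶ Red.bc p H), Par.IsUnipotentRadical j ∧
          ∀ (Z : Over W) (z : Z ⟶ Red.bc p H), (∃ y, y ≫ j = z) ↔ z ≫ (Over.pullback p).map r = 1) ∧
      ∀ {A : Over S} [GrpObj A], (∀ (Z : Over S) (x y : Z ⟶ A), x * y = y * x) → ∀ (φ φ' : H ⟶ A) [IsMonHom φ]
        [IsMonHom φ'], t ≫ φ = t ≫ φ' → φ = φ' := by
  choose W p hp hs D e R' b he htD hpR hrs hfac hb using exists_solv_chart hG i hT h hH t ht hsolv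
  haveI := hp
  have hpart := fun s => split_torus_part (D s) _ (hpR s) _ (htD s) (R' s) (hrs s) (hfac s) (b s) (hb s)
  have huniq : ∀ (s : S) {A : Over S} [GrpObj A], (∀ (Z : Over S) (x y : Z ⟶ A), x * y = y * x) →
      ∀ (X : Over (W s)) (χ χ' : ∀ X' : Over (W s), (X' ⟶ X) →
        ((X' ⟶ Red.bc (p s) H) →* ((Over.map (p s)).obj X' ⟶ A))),
      (∀ (X'' X' : Over (W s)) (q' : X'' ⟶ X') (q : X' ⟶ X) (y : X' ⟶ Red.bc (p s) H),
        χ X'' (q' ≫ q) (q' ≫ y) = (Over.map (p s)).map q' ≫ χ X' q y) →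
      (∀ (X'' X' : Over (W s)) (q' : X'' ⟶ X') (q : X' ⟶ X) (y : X' ⟶ Red.bc (p s) H),
        χ' X'' (q' ≫ q) (q' ≫ y) = (Over.map (p s)).map q' ≫ χ' X' q y) →
      (∀ a : X ⟶ Red.bc (p s) T, χ X (𝟙 X) (a ≫ (Over.pullback (p s)).map t) =
        χ' X (𝟙 X) (a ≫ (Over.pullback (p s)).map t)) →
      ∀ y : X ⟶ Red.bc (p s) H, χ X (𝟙 X) y = χ' X (𝟙 X) y :=
    fun s A _ hA X χ χ' h1 h2 h3 => (hpart s).2 (p s) hA X χ χ' h1 h2 fun a => by
      have := h3 (a ≫ (e s).hom)
      rwa [Category.assoc] at this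
  have hcomm : ∀ (Z : Over S) (x y : Z ⟶ T), x * y = y * x := fun Z x y => RedR1.mul_comm_torus hT.2.2.1 x y
  have hr : ∀ s, ∃ (r : Red.bc (p s) H ⟶ Red.bc (p s) T) (U : Over (W s)) (_ : GrpObj U) (j : U ⟶ Red.bc (p s) H),
      IsMonHom r ∧ (Over.pullback (p s)).map t ≫ r = 𝟙 _ ∧ Par.IsUnipotentRadical j ∧
      ∀ (Z : Over (W s)) (z : Z ⟶ Red.bc (p s) H), (∃ y, y ≫ j = z) ↔ z ≫ r = 1 := by
    intro s
    obtain ⟨U, _, j, r, hrad, -, hrm, hr, hker⟩ := (hpart s).1
    letI := (D s).grpT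
    haveI := hrm
    haveI := he s
    refine ⟨r ≫ (e s).hom, U, inferInstance, j, inferInstance, ?_, hrad, fun Z z => ?_⟩
    · have h1 : (Over.pullback (p s)).map t ≫ r = (e s).inv := by
        rw [← cancel_epi (e s).hom, Iso.hom_inv_id, ← Category.assoc]
        exact hr
      rw [← Category.assoc, h1, Iso.inv_hom_id]
    · haveI : IsMonHom (e s).inv := inferInstance
      rw [hker, ← Category.assoc]
      refine ⟨fun h => by rw [h, MonObj.one_comp], fun h => ?_⟩
      have := congrArg (· ≫ (e s).inv) h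
      simpa using this
  choose r UU gU j hrm hrt hrad hker using hr
  haveI := hrm
  -- two charts give the same values
  have hcompat : ∀ (s s' : S) (Y : Over S) (l : Y.left ⟶ W s) (l' : Y.left ⟶ W s') (hl : l ≫ p s = Y.hom)
      (hl' : l' ≫ p s' = Y.hom) (y : Y ⟶ H), val (p s) (r s) Y l hl y = val (p s') (r s') Y l' hl' y := by
    intro s s' Y l l' hl hl' y
    let ε : (Over.map (p s)).obj (Over.mk l) ≅ Y := Over.isoMk (Iso.refl _) (by simp [hl])
    have hw : ∀ (X' : Over (W s)) (q : X' ⟶ Over.mk l), (q.left ≫ l') ≫ p s' = ((Over.map (p s)).obj X').hom :=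
      fun X' q => by
        have e1 : q.left ≫ l = X'.hom := Over.w q
        show (q.left ≫ l') ≫ p s' = X'.hom ≫ p s
        rw [Category.assoc, hl', ← hl, ← e1, Category.assoc]
    let χ : ∀ X' : Over (W s), (X' ⟶ Over.mk l) → ((X' ⟶ Red.bc (p s) H) →* ((Over.map (p s)).obj X' ⟶ T)) :=
      fun X' _ => MonoidHom.mk' (fun z => low (p s) (z ≫ r s)) fun z z' => by rw [MonObj.mul_comp, low_mul]
    let χ' : ∀ X' : Over (W s), (X' ⟶ Over.mk l) → ((X' ⟶ Red.bc (p s) H) →* ((Over.map (p s)).obj X' ⟶ T)) :=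
      fun X' q => MonoidHom.mk' (fun z => val (p s') (r s') _ (q.left ≫ l') (hw X' q) (low (p s) z))
        fun z z' => by rw [low_mul, val_mul]
    have key := huniq s hcomm (Over.mk l) χ χ'
      (fun X'' X' q' q z => by
        show low (p s) ((q' ≫ z) ≫ r s) = _
        rw [Category.assoc, low_comp]; rfl)
      (fun X'' X' q' q z => by
        apply Over.OverMorphism.ext
        show (val (p s') (r s') _ ((q' ≫ q).left ≫ l') (hw X'' _) (low (p s) (q' ≫ z))).left =
          q'.left ≫ (val (p s') (r s') _ (q.left ≫ l') (hw X' q) (low (p s) z)).left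
        rw [val_left, val_left, ← Category.assoc q'.left]
        congr 1
        apply pullback.hom_ext <;> simp [low_comp])
      (fun a => by
        show low (p s) ((a ≫ (Over.pullback (p s)).map t) ≫ r s) =
          val (p s') (r s') _ _ (hw _ _) (low (p s) (a ≫ (Over.pullback (p s)).map t))
        rw [Category.assoc, hrt, Category.comp_id, low_map, val_torus _ _ t (hrt s')])
      (toBC (p s) (ε.hom ≫ y))
    apply Over.OverMorphism.ext
    have k1 := congrArg Over.Hom.left key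
    simp only [χ, χ', MonoidHom.mk'_apply, low_left, Over.comp_left, val_left] at k1
    rw [val_left, val_left]
    simp only [Category.assoc] at k1
    refine (congrArg (fun q => q ≫ (r s).left ≫ pullback.fst T.hom (p s)) ?_).trans
      (k1.trans (congrArg (fun q => q ≫ (r s').left ≫ pullback.fst T.hom (p s')) ?_))
    · apply pullback.hom_ext <;> simp [toBC, Over.mapPullbackAdj, ε]
    · apply pullback.hom_ext <;> simp [toBC, Over.mapPullbackAdj, ε]
  -- glue
  obtain ⟨F, hF⟩ := exists_glue_charts H.hom W p hs (fun s => (r s).left ≫ pullback.fst T.hom (p s))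
    fun s s' Z z z' hz => by
      have h1 := congrArg Over.Hom.left (hcompat s s' (Over.mk (z ≫ pullback.fst H.hom (p s) ≫ H.hom))
        (z ≫ pullback.snd H.hom (p s)) (z' ≫ pullback.snd H.hom (p s'))
        (by rw [Category.assoc, ← pullback.condition]; rfl)
        (by rw [Category.assoc, ← pullback.condition]; exact ((Category.assoc _ _ _).symm.trans (congrArg (· ≫ H.hom) hz.symm)).trans (Category.assoc _ _ _))
        (Over.homMk (z ≫ pullback.fst H.hom (p s))))
      rw [val_left, val_left] at h1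
      refine (congrArg (fun q => q ≫ (r s).left ≫ pullback.fst T.hom (p s)) ?_).trans
        (h1.trans (congrArg (fun q => q ≫ (r s').left ≫ pullback.fst T.hom (p s')) ?_))
      · refine pullback.hom_ext ?_ ?_ <;> simp
      · refine pullback.hom_ext ?_ ?_ <;> simp [hz]
  have hFw : F ≫ T.hom = H.hom := by
    refine hom_ext_etale H.hom W p hs _ _ fun s => ?_
    rw [← Category.assoc, hF, Category.assoc, pullback.condition, ← Category.assoc]
    rw [show (r s).left ≫ pullback.snd T.hom (p s) = pullback.snd H.hom (p s) from Over.w (r s), pullback.condition]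
  let R : H ⟶ T := Over.homMk F hFw
  have hR : ∀ (s : S) (Y : Over S) (l : Y.left ⟶ W s) (hl : l ≫ p s = Y.hom) (y : Y ⟶ H),
      y ≫ R = val (p s) (r s) Y l hl y := fun s Y l hl y => by
    apply Over.OverMorphism.ext
    rw [val_left, Over.comp_left, ← hF s, pullback.lift_fst_assoc]
    rfl
  -- an equality of points can be checked on the charts
  have hext : ∀ {Y A : Over S} (a a' : Y ⟶ A), (∀ (s : S) (Z : Over S) (g : Z ⟶ Y) (l : Z.left ⟶ W s),
      l ≫ p s = Z.hom → g ≫ a = g ≫ a') → a = a' := fun {Y A} a a' hh => by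
    apply Over.OverMorphism.ext
    refine hom_ext_etale Y.hom W p hs _ _ fun s => ?_
    exact congrArg Over.Hom.left (hh s (Over.mk (pullback.fst Y.hom (p s) ≫ Y.hom)) (Over.homMk (pullback.fst Y.hom (p s)))
      (pullback.snd Y.hom (p s)) pullback.condition.symm)
  have hval : ∀ (s : S) (Z : Over (W s)) (z : Z ⟶ Red.bc (p s) H), z ≫ (Over.pullback (p s)).map R = z ≫ r s := by
    intro s Z z
    rw [← toBC_low (p s) (z ≫ (Over.pullback (p s)).map R), ← toBC_low (p s) (z ≫ r s), low_map,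
      hR s _ Z.hom rfl (low (p s) z)]
    congr 1
    apply Over.OverMorphism.ext
    rw [val_left, low_left (p s) (z ≫ r s), Over.comp_left, Category.assoc]
    refine congrArg (fun q => q ≫ (r s).left ≫ pullback.fst T.hom (p s)) ?_
    refine pullback.hom_ext ?_ ?_
    · simp [low_left]
    · rw [pullback.lift_snd]
      exact (Over.w z).symm
  refine ⟨⟨R, MTBridge.isMonHom_of_points _ fun Y a a' => hext _ _ fun s Z g l hl => ?_, hext _ _ fun s Z g l hl => ?_,
    fun s => ⟨W s, p s, hp s, hs s, UU s, gU s, j s, hrad s, fun Z z => by rw [hval]; exact hker s Z z⟩⟩, ?_⟩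
  · rw [← Category.assoc, MonObj.comp_mul, MonObj.comp_mul, hR s Z l hl, ← Category.assoc g a, ← Category.assoc g a',
      hR s Z l hl, hR s Z l hl, val_mul]
  · rw [← Category.assoc, hR s Z l hl, val_torus _ _ t (hrt s), Category.comp_id]
  · intro A _ hA φ φ' _ _ hφ
    refine hext _ _ fun s Z g l hl => ?_
    have key := huniq s hA (Over.mk l) (fun X' _ => postHom (p s) φ X') (fun X' _ => postHom (p s) φ' X')
      (fun X'' X' q' q z => by show low (p s) (q' ≫ z) ≫ φ = _; rw [low_comp, Category.assoc]; rfl)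
      (fun X'' X' q' q z => by show low (p s) (q' ≫ z) ≫ φ' = _; rw [low_comp, Category.assoc]; rfl)
      (fun a => by
        show low (p s) (a ≫ (Over.pullback (p s)).map t) ≫ φ = low (p s) (a ≫ (Over.pullback (p s)).map t) ≫ φ'
        rw [low_map, Category.assoc, hφ, Category.assoc])
    let ε : (Over.map (p s)).obj (Over.mk l) ≅ Z := Over.isoMk (Iso.refl _) (by simp [hl])
    have k1 := key (toBC (p s) (ε.hom ≫ g))
    change low (p s) (toBC (p s) (ε.hom ≫ g)) ≫ φ = low (p s) (toBC (p s) (ε.hom ≫ g)) ≫ φ' at k1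
    rw [show low (p s) (toBC (p s) (ε.hom ≫ g)) = ε.hom ≫ g from Equiv.symm_apply_apply _ _, Category.assoc,
      Category.assoc, cancel_epi] at k1
    exact k1

end Groth.Agent.RootBase
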