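import Groth.Agent.S5572
import Groth.Agent.S3951

/-!
# The homomorphism to the torus modulo the coroots and the cell `U⁻ T' U`
-/

set_option autoImplicit false
set_option backward.isDefEq.respectTransparency false
set_option linter.style.haveILetI false
set_option maxHeartbeats 1000000
set_option synthInstance.maxHeartbeats 400000

universe u

open CategoryTheory Limits MonoidalCategory CartesianMonoidalCategory MonObj GrpObj AlgebraicGeometry
open scoped CategoryTheory.Obj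

noncomputable section

namespace Groth.Agent.RootBase

open Groth.Agent.HomDiag

theorem ch_DSmap_kernel {S : Scheme.{u}} {M : Type} [AddCommGroup M] (N : AddSubgroup M) {X : Over S}
    (t : X ⟶ Red.DS S M) (h : t ≫ Red.DSmap S N.subtype = 1) :
    ∃ t' : X ⟶ Red.DS S (M ⧸ N), t' ≫ Red.DSmap S (QuotientAddGroup.mk' N) = t := by
  obtain ⟨χ, hχ⟩ : ∃ χ : Multiplicative (M ⧸ N) →* Γ(X.left, ⊤),
      ∀ m : M, χ (Multiplicative.ofAdd (QuotientAddGroup.mk' N m)) = ch t (Multiplicative.ofAdd m) := by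
    let φ : M →+ Additive Γ(X.left, ⊤) :=
      { toFun := fun m => Additive.ofMul (ch t (Multiplicative.ofAdd m))
        map_zero' := by simp
        map_add' := fun a b => by simp [ofAdd_add, map_mul] }
    have hN : ∀ m ∈ N, φ m = 0 := fun m hm => by
      have h' := congrArg (fun z => ch z (Multiplicative.ofAdd (⟨m, hm⟩ : N))) h
      rw [ch_DSmap, ch_one] at h'
      show Additive.ofMul _ = 0
      rw [show ch t (Multiplicative.ofAdd m) = 1 from h']
      rfl
    refine ⟨AddMonoidHom.toMultiplicativeLeft.symm.symm (QuotientAddGroup.lift N φ fun m hm => hN m hm), fun m => rfl⟩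
  obtain ⟨t', ht'⟩ := exists_ch χ
  refine ⟨t', ch_ext fun m => ?_⟩
  obtain ⟨m, rfl⟩ : ∃ k : M, Multiplicative.ofAdd k = m := ⟨m.toAdd, rfl⟩
  rw [ch_DSmap, ht', toAdd_ofAdd, hχ]

variable {S : Scheme.{u}} {G : Over S} [GrpObj G]

/-- The map of the cell `U⁻ T' U`. -/
abbrev cell' (D : Red.SplitRed G) {n m : ℕ} (en : Fin n → D.idx) (ep : Fin m → D.idx)
    (N : letI := D.acgM; AddSubgroup D.M) :
    letI := D.grpT
    letI := D.acgM
    RedSub.pow (Red.Ga S) n ⊗ (Red.DS S (D.M ⧸ N) ⊗ RedSub.pow (Red.Ga S) m) ⟶ G :=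
  letI := D.grpT
  letI := D.acgM
  (fst _ _ ≫ RedSub.prodMap (Red.Ga S) n (fun k => D.u (en k))) *
    ((snd _ _ ≫ fst _ _ ≫ Red.DSmap S (QuotientAddGroup.mk' N) ≫ D.split.inv.hom.hom ≫ D.i) *
      (snd _ _ ≫ snd _ _ ≫ RedSub.prodMap (Red.Ga S) m (fun k => D.u (ep k))))

/-- What is needed of the homomorphism to the torus modulo the coroots. -/
structure IsTorusProj (D : Red.SplitRed G) {n m : ℕ} (en : Fin n → D.idx) (ep : Fin m → D.idx)
    (N : letI := D.acgM; AddSubgroup D.M) (f : letI := D.acgM; G ⟶ Red.DS S ↥N) : Prop where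
  hom : letI := D.acgM; IsMonHom f
  cell : letI := D.grpT; letI := D.acgM
    ∀ (X : Over S) (y : X ⟶ RedSub.pow (Red.Ga S) n ⊗ (D.T ⊗ RedSub.pow (Red.Ga S) m)),
      (y ≫ RedSub.cellMap D en ep) ≫ f = y ≫ snd _ _ ≫ fst _ _ ≫ D.split.hom.hom.hom ≫ Red.DSmap S N.subtype
  posU : letI := D.acgM; ∀ (X : Over S) (y : X ⟶ RedSub.pow (Red.Ga S) m),
    (y ≫ RedSub.prodMap (Red.Ga S) m (fun k => D.u (ep k))) ≫ f = 1
  negU : letI := D.acgM; ∀ (X : Over S) (y : X ⟶ RedSub.pow (Red.Ga S) n),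
    (y ≫ RedSub.prodMap (Red.Ga S) n (fun k => D.u (en k))) ≫ f = 1
  comm : letI := D.acgM; ∀ (X : Over S) (w g : X ⟶ G), (w * g * w⁻¹) ≫ f = g ≫ f
  cellKills : letI := D.grpT; letI := D.acgM
    ∀ (X : Over S) (g : X ⟶ RedSub.pow (Red.Ga S) n ⊗ (Red.DS S (D.M ⧸ N) ⊗ RedSub.pow (Red.Ga S) m)),
      (g ≫ cell' D en ep N) ≫ f = 1

theorem prodMap_killed {A : Over S} [GrpObj A] (f : G ⟶ A) [IsMonHom f] {k : ℕ} (w : Fin k → (Red.Ga S ⟶ G))
    (hw : ∀ l, w l ≫ f = 1) {X : Over S} (y : X ⟶ RedSub.pow (Red.Ga S) k) :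
    (y ≫ RedSub.prodMap (Red.Ga S) k w) ≫ f = 1 := by
  rw [comp_prodMap_eq, prod_comp, List.map_ofFn]
  refine List.prod_eq_one fun x hx => ?_
  obtain ⟨l, rfl⟩ := List.mem_ofFn.1 hx
  show ((y ≫ proj S k l) ≫ w l) ≫ f = 1
  rw [Category.assoc, hw, MonObj.comp_one]

theorem mul3_killed {A : Over S} [GrpObj A] (f : G ⟶ A) [IsMonHom f] {X : Over S} (a b c : X ⟶ G) (h1 : a ≫ f = 1)
    (h2 : c ≫ f = 1) : (a * (b * c)) ≫ f = b ≫ f := by
  rw [MonObj.mul_comp, MonObj.mul_comp, h1, h2, _root_.one_mul, _root_.mul_one]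

theorem conj_killed {A : Over S} [GrpObj A] (f : G ⟶ A) [IsMonHom f] {X : Over S}
    (hcomm : ∀ a b : X ⟶ A, a * b = b * a) (w g : X ⟶ G) : (w * g * w⁻¹) ≫ f = g ≫ f := by
  rw [MonObj.mul_comp, MonObj.mul_comp, GrpObj.inv_comp, hcomm, inv_mul_cancel_left]

theorem rootHom_killed_DS {M : Type} [AddCommGroup M] [Module.Free ℤ M] [Module.Finite ℤ M] {idx : Type} [Fintype idx]
    {root : idx → M} {u : idx → (Red.Ga S ⟶ G)} {c : Red.DS S M ⟶ G} (F : Frame c root u) {L : Type} [AddCommGroup L]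
    (f : G ⟶ Red.DS S L) [IsMonHom f] (a : idx) : u a ≫ f = 1 := by
  refine Corad.rootHom_comp_eq_one F f ?_ a
  intro X x y
  exact ch_ext fun k => by rw [ch_mul, ch_mul, mul_comm]

theorem prodMap_killed_DS {L : Type} [AddCommGroup L] (f : G ⟶ Red.DS S L) [IsMonHom f] {k : ℕ}
    (w : Fin k → (Red.Ga S ⟶ G)) (hw : ∀ l, w l ≫ f = 1) {X : Over S} (y : X ⟶ RedSub.pow (Red.Ga S) k) :
    (y ≫ RedSub.prodMap (Red.Ga S) k w) ≫ f = 1 := prodMap_killed f w hw y

theorem conj_killed_DS {L : Type} [AddCommGroup L] (f : G ⟶ Red.DS S L) [IsMonHom f] {X : Over S} (w g : X ⟶ G) :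
    (w * g * w⁻¹) ≫ f = g ≫ f := by
  refine conj_killed f ?_ w g
  intro a b
  exact ch_ext fun k => by rw [ch_mul, ch_mul, mul_comm]

theorem exists_torusProj (D : Red.SplitRed G) {n m : ℕ} (en : Fin n → D.idx) (ep : Fin m → D.idx)
    (N : letI := D.acgM; AddSubgroup D.M)
    (hN : letI := D.acgM; ∀ x : D.M, x ∈ N ↔ ∀ c : D.idx, D.P.coroot c x = 0) :
    letI := D.acgM
    ∃ f : G ⟶ Red.DS S ↥N, IsTorusProj D en ep N f := by
  letI := D.grpT
  letI := D.acgM
  letI := D.fintypeIdx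
  letI := D.finiteM
  letI := D.freeM
  obtain ⟨f, hfm, hfi, -⟩ := S5572.result D N hN
  haveI := hfm
  have F : Frame (D.split.inv.hom.hom ≫ D.i) (fun a => D.P.root a) D.u := frame_of_splitRed D
  have hu : ∀ a, D.u a ≫ f = 1 := fun a => rootHom_killed_DS F f a
  have hprod : ∀ {k : ℕ} (e : Fin k → D.idx) (X : Over S) (y : X ⟶ RedSub.pow (Red.Ga S) k),
      (y ≫ RedSub.prodMap (Red.Ga S) k (fun l => D.u (e l))) ≫ f = 1 :=
    fun e X y => prodMap_killed_DS f _ (fun l => hu (e l)) y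
  have hinv : D.split.inv.hom.hom ≫ D.split.hom.hom.hom = 𝟙 _ := congrArg (fun z => z.hom.hom) D.split.inv_hom_id
  refine ⟨f, hfm, fun X y => ?_, hprod ep, hprod en, fun X w g => conj_killed_DS f w g, fun X g => ?_⟩
  · simp only [RedSub.cellMap, MonObj.comp_mul]
    refine (mul3_killed f _ _ _ ?_ ?_).trans ?_
    · rw [← Category.assoc]; exact hprod en X _
    · rw [← Category.assoc, ← Category.assoc, Category.assoc y]; exact hprod ep X _
    · simp only [Category.assoc, hfi]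
  · simp only [cell', MonObj.comp_mul]
    refine (mul3_killed f _ _ _ ?_ ?_).trans ?_
    · rw [← Category.assoc]; exact hprod en X _
    · rw [← Category.assoc, ← Category.assoc, Category.assoc g]; exact hprod ep X _
    · simp only [Category.assoc, hfi, reassoc_of% hinv]
      rw [← Category.assoc g, ← Category.assoc (g ≫ _) (fst _ _)]
      generalize (g ≫ snd _ _) ≫ fst _ _ = t
      refine ch_ext fun k => ?_
      rw [← Category.assoc, ch_DSmap, ch_DSmap, ch_one]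
      rw [show (QuotientAddGroup.mk' N) ((Multiplicative.ofAdd (N.subtype k.toAdd)).toAdd) = 0 from
        (QuotientAddGroup.eq_zero_iff _).2 (Subtype.prop _)]
      exact map_one _

/-- A point of the cell killed by the projection lies in the smaller cell. -/
theorem IsTorusProj.factor {D : Red.SplitRed G} {n m : ℕ} {en : Fin n → D.idx} {ep : Fin m → D.idx}
    {N : letI := D.acgM; AddSubgroup D.M} {f : letI := D.acgM; G ⟶ Red.DS S ↥N} (hf : IsTorusProj D en ep N f)
    {X : Over S} (y : letI := D.grpT; X ⟶ RedSub.pow (Red.Ga S) n ⊗ (D.T ⊗ RedSub.pow (Red.Ga S) m))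
    (h : letI := D.acgM; (y ≫ RedSub.cellMap D en ep) ≫ f = 1) :
    letI := D.grpT
    letI := D.acgM
    ∃ y' : X ⟶ RedSub.pow (Red.Ga S) n ⊗ (Red.DS S (D.M ⧸ N) ⊗ RedSub.pow (Red.Ga S) m),
      y' ≫ cell' D en ep N = y ≫ RedSub.cellMap D en ep := by
  letI := D.grpT
  letI := D.acgM
  rw [hf.cell] at h
  obtain ⟨t', ht'⟩ := ch_DSmap_kernel N ((y ≫ snd _ _ ≫ fst _ _) ≫ D.split.hom.hom.hom) (by simpa using h)
  have hinv : D.split.hom.hom.hom ≫ D.split.inv.hom.hom = 𝟙 _ := congrArg (fun z => z.hom.hom) D.split.hom_inv_id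
  refine ⟨lift (y ≫ fst _ _) (lift t' (y ≫ snd _ _ ≫ snd _ _)), ?_⟩
  simp only [cell', RedSub.cellMap, MonObj.comp_mul, lift_fst_assoc, lift_snd_assoc, Category.assoc]
  rw [reassoc_of% ht']
  simp only [Category.assoc, reassoc_of% hinv]

/-- The unit lies in the big cell. -/
theorem unit_subset_cell (D : Red.SplitRed G) {n m : ℕ} (en : Fin n → D.idx) (ep : Fin m → D.idx) :
    Set.range η[G].left.base ⊆ Set.range (RedSub.cellMap D en ep).left.base := by
  letI := D.grpT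
  letI := D.acgM
  letI := D.fintypeIdx
  letI := D.finiteM
  letI := D.freeM
  haveI := D.maximalTorus.1
  haveI : ∀ a, IsMonHom (D.u a) := fun a => (D.rootHom a).1
  obtain ⟨y0, hy0, -⟩ := exists_pow_prod (G := G) (fun l => D.u (en l)) (X := 𝟙_ (Over S)) fun _ => 1
  obtain ⟨y1, hy1, -⟩ := exists_pow_prod (G := G) (fun l => D.u (ep l)) (X := 𝟙_ (Over S)) fun _ => 1
  have e : lift y0 (lift (1 : 𝟙_ (Over S) ⟶ D.T) y1) ≫ RedSub.cellMap D en ep = η[G] := by
    simp only [RedSub.cellMap, MonObj.comp_mul, lift_fst_assoc, lift_snd_assoc]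
    rw [prodMap_one _ (fun k => ((D.rootHom _).1)) y0 hy0, prodMap_one _ (fun k => ((D.rootHom _).1)) y1 hy1,
      MonObj.one_comp, _root_.one_mul, _root_.one_mul, MonObj.one_eq_one]
  rintro _ ⟨s, rfl⟩
  exact ⟨_, (congrArg (fun z => z.left.base s) e)⟩

theorem exists_cell_fac (D : Red.SplitRed G) {n m : ℕ} {en : Fin n → D.idx} {ep : Fin m → D.idx}
    [IsOpenImmersion (RedSub.cellMap D en ep).left] {X : Over S} (g : X ⟶ G)
    (h : Set.range g.left.base ⊆ Set.range (RedSub.cellMap D en ep).left.base) :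
    ∃ y, y ≫ RedSub.cellMap D en ep = g :=
  (exists_fac_iff_range _ g).2 h

end Groth.Agent.RootBase
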