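import Groth.Agent.RootBase.Bruhat

/-!
# Translates of the big cell by Weyl elements cover a group with a frame
-/

set_option autoImplicit false
set_option backward.isDefEq.respectTransparency false
set_option linter.style.haveILetI false
set_option maxHeartbeats 1000000
set_option synthInstance.maxHeartbeats 400000

universe u

open CategoryTheory Limits MonoidalCategory CartesianMonoidalCategory MonObj GrpObj AlgebraicGeometry
open scoped CategoryTheory.Obj

noncomputable section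

namespace Groth.Agent.RootBase

open Groth.Agent.HomDiag Groth.Agent.DynPar

variable {S : Scheme.{u}} {G : Over S} [GrpObj G] {M : Type} [AddCommGroup M] [Module.Free ℤ M] [Module.Finite ℤ M]
  {c : Red.DS S M ⟶ G} {idx : Type} [Fintype idx] {P : RootPairing idx ℤ M (Module.Dual ℤ M)}
  {u : idx → (Red.Ga S ⟶ G)}

/-- The group of positive root groups consists of the values of the product map in any order. -/
theorem Frame.exists_pow_of_mem_Gam (F : Frame c P.root u) (mu : M →+ ℤ) {m : ℕ} (e : Fin m → idx)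
    (he : RedSub.Enumerates {b | 0 < mu (P.root b)} e) {X : Over S} {v : X ⟶ G}
    (hv : v ∈ Gam u {b | 0 < mu (P.root b)} X) :
    ∃ y : X ⟶ RedSub.pow (Red.Ga S) m, v = y ≫ RedSub.prodMap (Red.Ga S) m (fun l => u (e l)) := by
  classical
  haveI := F.hG.1
  haveI := F.hG.2.1
  haveI := F.hc.1
  obtain ⟨U, _, uU, hU⟩ := exists_isU (G := G) (Red.DSmap S mu ≫ c)
  obtain ⟨φ, hφ⟩ := F.exists_iso_isU mu e he hU
  haveI := hU.1
  suffices h : ∃ z : X ⟶ U, v = z ≫ uU by
    obtain ⟨z, rfl⟩ := h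
    exact ⟨z ≫ φ.inv, by rw [Category.assoc, ← hφ, Iso.inv_hom_id_assoc]⟩
  induction hv using Subgroup.closure_induction with
  | mem v hv =>
    obtain ⟨b, hb, x, rfl⟩ := hv
    obtain ⟨l₀, hl₀⟩ := he.2.ge hb
    obtain ⟨y, hy, hy'⟩ := exists_pow_prod (fun l => u (e l))
      (fun l => if l = l₀ then x else (1 : X ⟶ Red.Ga S))
    refine ⟨y ≫ φ.hom, ?_⟩
    rw [Category.assoc, hφ, hy', prod_ofFn_single _ l₀, if_pos rfl, hl₀]
    intro j hj
    haveI := (F.hu (e j)).1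
    rw [if_neg hj, MonObj.one_comp]
  | one => exact ⟨1, (MonObj.one_comp _).symm⟩
  | mul g g' _ _ hg hg' =>
    obtain ⟨z, rfl⟩ := hg
    obtain ⟨z', rfl⟩ := hg'
    exact ⟨z * z', (MonObj.mul_comp _ _ _).symm⟩
  | inv g _ hg =>
    obtain ⟨z, rfl⟩ := hg
    exact ⟨z⁻¹, (GrpObj.inv_comp _ _).symm⟩

variable [Nonempty S] [P.IsReduced] {B : P.Base} {w : idx → (𝟙_ (Over S) ⟶ G)}

/-- **A point generated by torus and root groups lies in a translate of the big cell.** -/
theorem Frame.exists_mem_translate (F : Frame c P.root u) (hP : P.toLinearMap = Module.Dual.eval ℤ M)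
    (hw : Realises c B w) {n m : ℕ} (en : Fin n → idx) (ep : Fin m → idx)
    (hn : RedSub.Enumerates (RedSub.negRoots P B) en) (hp : RedSub.Enumerates (RedSub.posRoots P B) ep)
    {X : Over S} (hX : ∀ r : Γ(X.left, ⊤), r = 0 ∨ IsUnit r) {g : X ⟶ G} (hg : g ∈ AllPts c u X) :
    ∃ l : List idx, (∀ a ∈ l, a ∈ B.support) ∧ ∃ y, g = wpt X w l * (y ≫ cellC c (fun k => u (en k)) (fun k => u (ep k))) := by
  classical
  haveI := F.hc.1
  obtain ⟨l, hl, b₁, hb₁, b₂, hb₂, rfl⟩ := F.allPts_subset_cells hP hw hX hg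
  obtain ⟨t, v, hv, rfl⟩ := F.exists_torus_unip hb₁
  obtain ⟨t₂, v₂, hv₂, rfl⟩ := F.exists_torus_unip hb₂
  obtain ⟨mu, hmp, hmn, hmu⟩ := exists_pos_hom P B
  have hpos : {b | B.IsPos b} = {b | 0 < mu (P.root b)} := by
    ext b; exact ((hmp b).trans (RootSys.mem_posRoots_iff B b)).symm
  have hneg : RedSub.negRoots P B = {b | 0 < (-mu) (P.root b)} := by
    ext b; exact (hmn b).symm
  have hp' : RedSub.Enumerates {b | 0 < mu (P.root b)} ep := by
    rwa [← hpos, show {b | B.IsPos b} = RedSub.posRoots P B from Set.ext fun b => (RootSys.mem_posRoots_iff B b).symm]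
  have hn' : RedSub.Enumerates {b | 0 < (-mu) (P.root b)} en := by rwa [← hneg]
  have hm := F.wmoves_word hP hw X l hl
  set σ := wperm P l
  -- an ordering adapted to the word
  obtain ⟨p₀, e₀, -, he₀⟩ := exists_extend {b | B.IsPos b ∧ ¬ B.IsPos (σ.symm b)} (Fin.elim0 : Fin 0 → idx)
    (fun x => x.elim0) fun k => k.elim0
  generalize Fin.append (Fin.elim0 : Fin 0 → idx) e₀ = e₁ at he₀
  generalize 0 + p₀ = p at e₁ he₀
  obtain ⟨q, r, hr₁, hr⟩ := exists_extend {b | B.IsPos b} e₁ he₀.1 fun k => (he₀.2.subset ⟨k, rfl⟩).1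
  rw [hpos] at hv
  obtain ⟨y, hy⟩ := F.exists_pow_of_mem_Gam mu (Fin.append e₁ r) (by rwa [← hpos]) hv
  rw [comp_prodMap_eq, ofFn_split, List.prod_append] at hy
  set P₁ : X ⟶ G := (List.ofFn fun k => (y ≫ proj S (p + q) (Fin.castAdd q k)) ≫ u (Fin.append e₁ r (Fin.castAdd q k))).prod
  set P₂ : X ⟶ G := (List.ofFn fun k => (y ≫ proj S (p + q) (Fin.natAdd p k)) ≫ u (Fin.append e₁ r (Fin.natAdd p k))).prod
  set N := wpt X w l
  have conj_prod : ∀ {Ψ : Set idx} {k : ℕ} (f : Fin k → (X ⟶ G)), (∀ i, N⁻¹ * f i * N ∈ Gam u Ψ X) →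
      N⁻¹ * (List.ofFn f).prod * N ∈ Gam u Ψ X := by
    intro Ψ k
    induction k with
    | zero => intro f _; simp
    | succ k ih =>
      intro f hf
      rw [List.ofFn_succ, List.prod_cons,
        show N⁻¹ * (f 0 * (List.ofFn fun i : Fin k => f i.succ).prod) * N =
          (N⁻¹ * f 0 * N) * (N⁻¹ * (List.ofFn fun i : Fin k => f i.succ).prod * N) by group]
      exact mul_mem (hf 0) (ih _ fun i => hf i.succ)
  have h1 : N⁻¹ * P₁ * N ∈ Gam u {b | 0 < (-mu) (P.root b)} X := by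
    refine conj_prod _ fun i => ?_
    obtain ⟨x', hx'⟩ := hm.root' (Fin.append e₁ r (Fin.castAdd q i)) (y ≫ proj S (p + q) (Fin.castAdd q i))
    rw [hx']
    refine mem_Gam ?_ x'
    rw [Fin.append_left]
    show σ.symm (e₁ i) ∈ {b | 0 < (-mu) (P.root b)}
    rw [← hneg, RootSys.mem_negRoots_iff]
    exact (he₀.2.subset ⟨i, rfl⟩).2
  have h2 : N⁻¹ * P₂ * N ∈ Gam u {b | 0 < mu (P.root b)} X := by
    refine conj_prod _ fun i => ?_
    obtain ⟨x', hx'⟩ := hm.root' (Fin.append e₁ r (Fin.natAdd p i)) (y ≫ proj S (p + q) (Fin.natAdd p i))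
    rw [hx']
    refine mem_Gam ?_ x'
    rw [Fin.append_right]
    show σ.symm (r i) ∈ {b | 0 < mu (P.root b)}
    rw [← hpos]
    by_contra hc
    have hri : r i ∈ {b | B.IsPos b ∧ ¬ B.IsPos (σ.symm b)} :=
      ⟨by have := hr.2.subset ⟨Fin.natAdd p i, rfl⟩; rwa [Fin.append_right] at this, hc⟩
    obtain ⟨k, hk⟩ := he₀.2.ge hri
    have h := hr.1 (a₁ := Fin.castAdd q k) (a₂ := Fin.natAdd p i) (by rw [Fin.append_left, Fin.append_right, hk])
    have h' := congrArg Fin.val h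
    simp only [Fin.val_castAdd, Fin.val_natAdd] at h'
    omega
  obtain ⟨t', ht'⟩ := hm.torus' t
  rw [hpos] at hv₂
  obtain ⟨yn, hyn⟩ := F.exists_pow_of_mem_Gam (-mu) en hn' (F.torus_conj_Gam t' h1)
  obtain ⟨yp, hyp⟩ := F.exists_pow_of_mem_Gam mu ep hp' (mul_mem (F.torus_conj_Gam t₂⁻¹ h2) hv₂)
  refine ⟨l, hl, lift yn (lift (t' * t₂) yp), ?_⟩
  rw [comp_cellC, ← hyn, ← hyp, hy, MonObj.mul_comp, GrpObj.inv_comp, ← ht']
  show _ = N * _
  group

end Groth.Agent.RootBase
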