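import Groth.Prelude.Def_RedSub
import Groth.Agent.RootBase.BruhatCell

/-!
# Translates of the big cell of a splitting
-/

set_option autoImplicit false
set_option backward.isDefEq.respectTransparency false
set_option linter.style.haveILetI false
set_option maxHeartbeats 1000000
set_option synthInstance.maxHeartbeats 400000

universe u

open CategoryTheory Limits MonoidalCategory CartesianMonoidalCategory MonObj GrpObj AlgebraicGeometry
open scoped CategoryTheory.Obj

noncomputable section

namespace Groth.Agent.RootBase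

open Groth.Agent.HomDiag Groth.Agent.DynPar

variable {S : Scheme.{u}} {G : Over S} [GrpObj G]

/-- Elements realising the reflections of a splitting realise them for its frame. -/
theorem realises_of_reflections (D : Red.SplitRed G) (b : D.P.Base) {n : D.idx → (𝟙_ (Over S) ⟶ G)}
    (hn : ∀ a ∈ b.support, ∀ (X : Over S) (t : X ⟶ D.T),
      (toUnit X ≫ n a) * (t ≫ D.i) * (toUnit X ≫ n a)⁻¹ =
        t ≫ D.split.hom.hom.hom ≫ Red.DSmap S (D.P.reflection a).toLinearMap.toAddMonoidHom ≫
          D.split.inv.hom.hom ≫ D.i) :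
    letI := D.grpT
    letI := D.acgM
    letI := D.fintypeIdx
    letI := D.finiteM
    letI := D.freeM
    Realises (D.split.inv.hom.hom ≫ D.i) b n := by
  letI := D.grpT
  letI := D.acgM
  letI := D.fintypeIdx
  letI := D.finiteM
  letI := D.freeM
  have hinv : D.split.inv.hom.hom ≫ D.split.hom.hom.hom = 𝟙 _ := congrArg (fun z => z.hom.hom) D.split.inv_hom_id
  intro a ha X t
  have h := hn a ha X (t ≫ D.split.inv.hom.hom)
  simp only [Category.assoc, reassoc_of% hinv] at h
  rw [cj, h, ← Category.assoc]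
  congr 1
  refine HomDiag.ch_ext fun m => ?_
  obtain ⟨m, rfl⟩ : ∃ k : D.M, Multiplicative.ofAdd k = m := ⟨m.toAdd, rfl⟩
  rw [HomDiag.ch_DSmap, toAdd_ofAdd, ch_refl]
  congr 2
  show D.P.reflection a m = m - D.P.coroot a m • D.P.root a
  rw [D.P.reflection_apply]
  show m - D.P.toLinearMap m (D.P.coroot a) • D.P.root a = _
  rw [D.pairing_eq]
  rfl

/-- The big cell of a splitting and of its frame. -/
theorem cellC_fac (D : Red.SplitRed G) {n m : ℕ} (en : Fin n → D.idx) (ep : Fin m → D.idx) {X : Over S}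
    (y : letI := D.grpT; letI := D.acgM
      X ⟶ RedSub.pow (Red.Ga S) n ⊗ (Red.DS S D.M ⊗ RedSub.pow (Red.Ga S) m)) :
    letI := D.grpT
    letI := D.acgM
    ∃ y' : X ⟶ RedSub.pow (Red.Ga S) n ⊗ (D.T ⊗ RedSub.pow (Red.Ga S) m),
      y' ≫ RedSub.cellMap D en ep =
        y ≫ cellC (D.split.inv.hom.hom ≫ D.i) (fun k => D.u (en k)) (fun k => D.u (ep k)) := by
  letI := D.grpT
  letI := D.acgM
  refine ⟨lift (y ≫ fst _ _) (lift ((y ≫ snd _ _ ≫ fst _ _) ≫ D.split.inv.hom.hom) (y ≫ snd _ _ ≫ snd _ _)), ?_⟩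
  simp only [RedSub.cellMap, cellC, MonObj.comp_mul, lift_fst_assoc, lift_snd_assoc, Category.assoc]

set_option maxHeartbeats 4000000 in
/-- **Every point lies in a translate of the big cell by a product of simple Weyl elements.** -/
theorem exists_simple_translate (D : Red.SplitRed G) (b : D.P.Base) {n m : ℕ} (en : Fin n → D.idx)
    (ep : Fin m → D.idx) (hneg : RedSub.Enumerates (RedSub.negRoots D.P b) en)
    (hpos : RedSub.Enumerates (RedSub.posRoots D.P b) ep) {nr : D.idx → (𝟙_ (Over S) ⟶ G)}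
    (hn : ∀ a ∈ b.support, ∀ (X : Over S) (t : X ⟶ D.T),
      (toUnit X ≫ nr a) * (t ≫ D.i) * (toUnit X ≫ nr a)⁻¹ =
        t ≫ D.split.hom.hom.hom ≫ Red.DSmap S (D.P.reflection a).toLinearMap.toAddMonoidHom ≫
          D.split.inv.hom.hom ≫ D.i) (x : ↥G.left) :
    ∃ l : List D.idx, (∀ a ∈ l, a ∈ b.support) ∧
      x ∈ Set.range ((toUnit _ ≫ (l.map nr).prod) * RedSub.cellMap D en ep).left.base := by
  letI := D.grpT
  letI := D.acgM
  letI := D.fintypeIdx
  letI := D.finiteM
  letI := D.freeM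
  haveI : Nonempty S := ⟨G.hom x⟩
  haveI := isReduced_of_splitRed D
  have F : Frame (D.split.inv.hom.hom ≫ D.i) D.P.root D.u := frame_of_splitRed D
  obtain ⟨X', f, hf, ⟨z⟩, hX', hg⟩ := F.exists_allPts (𝟙 G) x
  rw [Category.comp_id] at hg
  obtain ⟨l, hl, y, hy⟩ := F.exists_mem_translate D.pairing_eq (realises_of_reflections D b hn) en ep hneg hpos hX' hg
  obtain ⟨y', hy'⟩ := cellC_fac D en ep y
  refine ⟨l, hl, y'.left z, ?_⟩
  have e : y' ≫ ((toUnit _ ≫ (l.map nr).prod) * RedSub.cellMap D en ep) = f := by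
    rw [MonObj.comp_mul, hy', ← Category.assoc, toUnit_unique (y' ≫ toUnit _) (toUnit X'), ← wpt_eq, hy]
  rw [← hf z, ← e, Over.comp_left]
  rfl

end Groth.Agent.RootBase
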