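import Groth.Agent.RootBase.BruhatCover
import Groth.Agent.RootBase.TorusQuot
import Groth.Agent.RootBase.SolvGlobal
import Groth.Agent.RootBase.SymMain
import Groth.Agent.BorelConj.Standard
import Groth.Agent.BorelConj.BSub
import Groth.Agent.S3954
import Groth.Agent.S3962
import Groth.Agent.S3963
import Groth.Agent.S5522

/-!
# Borel subgroups of a split group and translates of the big cell
-/

set_option autoImplicit false
set_option backward.isDefEq.respectTransparency false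
set_option linter.style.haveILetI false
set_option maxHeartbeats 2000000
set_option synthInstance.maxHeartbeats 400000

universe u

open CategoryTheory Limits MonoidalCategory CartesianMonoidalCategory MonObj GrpObj AlgebraicGeometry
open scoped CategoryTheory.Obj

noncomputable section

namespace Groth.Agent.RootBase

open Groth.Agent.HomDiag Groth.Agent.DynPar Groth.Agent.MTBridge
open Groth.Agent.BorelConj (mem_bc_iff mem_iso_iff exists_cochar_regular mu_ne_zero_of_regular iff_of_iso exists_nhd_mem_iff conjEq_bc)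

/-- A factorisation through a monomorphism descends along an etale cover. -/
theorem fac_of_etale_cover {S : Scheme.{u}} {G B X X' : Over S} (b : B ⟶ G) [Mono b.left] (a : X ⟶ G) (q : X' ⟶ X)
    [Etale q.left] [Surjective q.left] (h : ∃ z, z ≫ b = q ≫ a) : ∃ z, z ≫ b = a := by
  obtain ⟨z, hz⟩ := h
  have hz' : z.left ≫ b.left = q.left ≫ a.left := congrArg Over.Hom.left hz
  have hd : ∀ {Z : Scheme.{u}} (g₁ g₂ : Z ⟶ X'.left), g₁ ≫ q.left = g₂ ≫ q.left → g₁ ≫ z.left = g₂ ≫ z.left :=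
    fun g₁ g₂ e => by
      rw [← cancel_mono b.left, Category.assoc, Category.assoc, hz', reassoc_of% e]
  let z₀ := EffectiveEpi.desc q.left z.left hd
  have hz₀ : q.left ≫ z₀ = z.left := EffectiveEpi.fac q.left z.left hd
  haveI : Epi q.left := Flat.epi_of_flat_of_surjective q.left
  refine ⟨Over.homMk z₀ ?_, Over.OverMorphism.ext ?_⟩
  · rw [← cancel_epi q.left, reassoc_of% hz₀, Over.w, Over.w]
  · show z₀ ≫ b.left = a.left
    rw [← cancel_epi q.left, reassoc_of% hz₀, hz']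

section Pts

variable {S : Scheme.{u}} [Nonempty S] {G : Over S} [GrpObj G] {M : Type} [AddCommGroup M] [Module.Free ℤ M]
  [Module.Finite ℤ M] {c : Red.DS S M ⟶ G} {idx : Type} [Fintype idx] {P : RootPairing idx ℤ M (Module.Dual ℤ M)}
  [P.IsReduced] {u : idx → (Red.Ga S ⟶ G)}

omit [Nonempty S] [Module.Free ℤ M] [Module.Finite ℤ M] [Fintype idx] [P.IsReduced] in
/-- Composition preserves the points of the positive Borel group. -/
theorem borelPts_comp {B : P.Base} {X Y : Over S} (f : Y ⟶ X) {g : X ⟶ G} (hg : g ∈ BorelPts c u B X) :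
    f ≫ g ∈ BorelPts c u B Y := by
  induction hg using Subgroup.closure_induction with
  | mem g hg =>
    rcases hg with ⟨t, rfl⟩ | ⟨b, hb, x, rfl⟩
    · exact Subgroup.subset_closure (Or.inl ⟨f ≫ t, Category.assoc _ _ _⟩)
    · exact Subgroup.subset_closure (Or.inr ⟨b, hb, f ≫ x, (Category.assoc _ _ _).symm⟩)
  | one => rw [MonObj.comp_one]; exact one_mem _
  | mul g g' _ _ hg hg' => rw [MonObj.comp_mul]; exact mul_mem hg hg'
  | inv g _ hg => rw [GrpObj.comp_inv]; exact inv_mem hg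

/-- The points of the group of limits are those of the positive Borel group. -/
theorem Frame.isP_pts (F : Frame c P.root u) (B : P.Base) (mu : M →+ ℤ) (hmu : ∀ a, mu (P.root a) ≠ 0)
    (hpos : ∀ a, 0 < mu (P.root a) ↔ B.IsPos a) {Q : Over S} [GrpObj Q] {p : Q ⟶ G}
    (hQ : IsP (Red.DSmap S mu ≫ c) p) (X : Over S) (g : X ⟶ G) :
    (∃ z, z ≫ p = g) ↔ g ∈ BorelPts c u B X := by
  classical
  haveI := F.hG.1; haveI := F.hG.2.1; haveI := F.hc.1
  haveI := hQ.1; haveI := hQ.2.1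
  obtain ⟨m, e, -, he⟩ := exists_extend {a | 0 < mu (P.root a)} (Fin.elim0 : Fin 0 → idx) (fun x => x.elim0)
    fun k => k.elim0
  obtain ⟨φ, hφ⟩ := F.exists_iso_isP mu hmu _ he hQ
  constructor
  · rintro ⟨z, rfl⟩
    rw [← Iso.inv_hom_id_assoc φ p, hφ, borelC, ← Category.assoc, MonObj.comp_mul, ← Category.assoc,
      ← Category.assoc _ (snd _ _), comp_prodMap_eq]
    exact mul_mem (torus_mem_BorelPts _) (Gam_le_BorelPts (fun b hb => (hpos b).1 hb) X
      (prod_mem_Gam (fun k => he.2.subset ⟨k, rfl⟩) _))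
  · intro hg
    induction hg using Subgroup.closure_induction with
    | mem g hg =>
      rcases hg with ⟨t, rfl⟩ | ⟨b, hb, x, rfl⟩
      · obtain ⟨q, hq⟩ := hQ.exists_le c fun R _ f y => mem_PSub_torus mu f y
        exact ⟨t ≫ q, by rw [Category.assoc, hq]⟩
      · obtain ⟨q, hq⟩ := hQ.exists_le (u b) fun R _ f y =>
          USub_le_PSub _ _ (rootHom_mem_USub_global (F.hu b) mu ((hpos b).2 hb) f y)
        exact ⟨x ≫ q, by rw [Category.assoc, hq]⟩
    | one => exact ⟨1, MonObj.one_comp p⟩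
    | mul g g' _ _ hg hg' =>
      obtain ⟨z, rfl⟩ := hg; obtain ⟨z', rfl⟩ := hg'
      exact ⟨z * z', MonObj.mul_comp z z' p⟩
    | inv g _ hg => obtain ⟨z, rfl⟩ := hg; exact ⟨z⁻¹, GrpObj.inv_comp z p⟩

omit [Nonempty S] [P.IsReduced] [Fintype idx] [Module.Free ℤ M] [Module.Finite ℤ M] in
theorem wordRefl_rev_root (l : List idx) (i : idx) : wordRefl P l.reverse (P.root i) = P.root (wperm P l i) := by
  rw [wordRefl_root]
  congr 1
  exact (Equiv.symm_apply_eq _).2 (by rw [← Equiv.Perm.mul_apply, wperm_reverse_mul]; rfl)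

/-- A word carrying the positive roots of one base to positive roots of another. -/
theorem exists_word_bases (b b' : P.Base) :
    ∃ l : List idx, (∀ a ∈ l, a ∈ b.support) ∧ ∀ i, b.IsPos i → b'.IsPos (wperm P l i) := by
  classical
  have key : ∀ (n : ℕ) (l : List idx), (∀ a ∈ l, a ∈ b.support) →
      {i | b.IsPos i ∧ ¬ b'.IsPos (wperm P l i)}.ncard = n →
        ∃ l : List idx, (∀ a ∈ l, a ∈ b.support) ∧ ∀ i, b.IsPos i → b'.IsPos (wperm P l i) := by
    intro n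
    induction n using Nat.strong_induction_on with
    | h n ih =>
      intro l hl hn
      by_cases hs : ∀ j ∈ b.support, b'.IsPos (wperm P l j)
      · refine ⟨l, hl, fun i hi => hi.induction_on_add (p := fun i => b'.IsPos (wperm P l i)) hs ?_⟩
        intro x y z e hx hy
        refine hx.add (hs y hy) ?_
        rw [← wordRefl_rev_root, ← wordRefl_rev_root, ← wordRefl_rev_root, e, map_add]
      · push Not at hs
        obtain ⟨j, hj, hbad⟩ := hs
        have happ : ∀ i, wperm P (l ++ [j]) i = wperm P l (P.reflectionPerm j i) := fun i => by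
          rw [wperm_append, Equiv.Perm.mul_apply]
          simp [wperm]
        refine ih _ ?_ (l ++ [j])
          (fun a ha => (List.mem_append.1 ha).elim (hl a) fun h => List.mem_singleton.1 h ▸ hj) rfl
        rw [← hn, ← Set.ncard_image_of_injective {i | b.IsPos i ∧ ¬ b'.IsPos (wperm P (l ++ [j]) i)}
          (P.reflectionPerm j).injective]
        refine lt_of_le_of_lt (Set.ncard_le_ncard ?_ (Set.toFinite _))
          (Set.ncard_sdiff_singleton_lt_of_mem (a := j)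
            (show j ∈ {i | b.IsPos i ∧ ¬ b'.IsPos (wperm P l i)} from
              ⟨RootPairing.Base.isPos_of_mem_support hj, hbad⟩) (Set.toFinite _))
        rintro _ ⟨i, ⟨hi, hbi⟩, rfl⟩
        rw [happ] at hbi
        have hij : i ≠ j := fun h => by
          subst h
          rw [wperm_opp] at hbi
          exact hbad (not_not.1 fun h' => hbi ((RootSys.isPos_opp_iff b' _).2 h'))
        exact ⟨⟨hi.reflectionPerm hj hij, hbi⟩, (refl_posAway hj ⟨hi, hij⟩).2⟩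
  exact key _ [] (fun _ h => absurd h List.not_mem_nil) rfl
/-- An element moving the positive roots into positive roots moves the Borel group into the other. -/
theorem WMoves.borelPts {B B' : P.Base} {X : Over S} {g : X ⟶ G} {σ : Equiv.Perm idx} (hg : WMoves c u g σ)
    (hσ : ∀ i, B.IsPos i → B'.IsPos (σ i)) {h : X ⟶ G} (hh : h ∈ BorelPts c u B X) :
    g * h * g⁻¹ ∈ BorelPts c u B' X := by
  induction hh using Subgroup.closure_induction with
  | mem h hh =>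
    rcases hh with ⟨t, rfl⟩ | ⟨b, hb, x, rfl⟩
    · obtain ⟨t', ht'⟩ := hg.torus t
      exact ht' ▸ torus_mem_BorelPts t'
    · obtain ⟨x', hx'⟩ := hg.root b x
      exact hx' ▸ Subgroup.subset_closure (Or.inr ⟨σ b, hσ b hb, x', rfl⟩)
  | one => rw [_root_.mul_one, mul_inv_cancel]; exact one_mem _
  | mul a a' _ _ ha ha' =>
    rw [show g * (a * a') * g⁻¹ = (g * a * g⁻¹) * (g * a' * g⁻¹) by group]
    exact mul_mem ha ha'
  | inv a _ ha =>
    rw [show g * a⁻¹ * g⁻¹ = (g * a * g⁻¹)⁻¹ by group]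
    exact inv_mem ha

end Pts

variable {S : Scheme.{u}} [Nonempty S] {G B : Over S} [GrpObj G] [GrpObj B]

/-- A permutation moving the positive roots into positive roots moves them onto them. -/
theorem isPos_symm_of_isPos {idx M : Type} [AddCommGroup M] [Fintype idx] {P : RootPairing idx ℤ M (Module.Dual ℤ M)}
    [Module.Free ℤ M] [Module.Finite ℤ M] [P.IsReduced] {b b' : P.Base} (l : List idx)
    (h : ∀ i, b.IsPos i → b'.IsPos (wperm P l i)) (j : idx) (hj : b'.IsPos j) : b.IsPos ((wperm P l)⁻¹ j) := by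
  by_contra hn
  have h1 := h _ ((RootSys.isPos_opp_iff b _).2 hn)
  rw [wperm_opp, show wperm P l ((wperm P l)⁻¹ j) = j from Equiv.apply_symm_apply _ j] at h1
  exact (RootSys.isPos_opp_iff b' j).1 h1 hj

/-- A Borel subgroup containing the torus has the points of a standard one near a point. -/
theorem exists_std_pts (D : Red.SplitRed G) (i : B ⟶ G) (hB : Red.IsBorel i) (t : D.T ⟶ B) (ht : t ≫ i = D.i)
    (s : S) :
    letI := D.grpT
    letI := D.acgM
    ∃ (V : S.Opens), s ∈ V ∧ ∃ b : D.P.Base, ∀ (X : Over S), Set.range X.hom ⊆ (V : Set S) → ∀ a : X ⟶ G,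
      (∃ z, z ≫ i = a) ↔ a ∈ BorelPts (D.split.inv.hom.hom ≫ D.i) D.u b X := by
  letI := D.grpT
  letI := D.acgM
  letI := D.fintypeIdx
  letI := D.finiteM
  letI := D.freeM
  haveI := isReduced_of_splitRed D
  have F := frame_of_splitRed D
  haveI := F.hG.1; haveI := F.hG.2.1; haveI := F.hc.1
  haveI := hB.1; haveI := hB.2.1; haveI := hB.2.2.1
  let c : Red.DS S D.M ⟶ G := D.split.inv.hom.hom ≫ D.i
  let tB : Red.DS S D.M ⟶ B := D.split.inv.hom.hom ≫ t
  have htB : tB ≫ i = c := by simp [tB, c, ht]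
  let φ := Red.geomPt s
  let K := AlgebraicClosure (S.residueField s)
  let Fu := Over.pullback φ
  have FK := F.bc φ
  have hred : Red.IsReductiveOver K (Fu.obj G) := F.hG.2.2 s
  haveI : IsAffine (Fu.obj G).left := hred.1
  haveI : Smooth (Fu.obj G).hom := hred.2.1
  haveI : IsAffine (Red.bc φ G).left := hred.1
  haveI : IsMonHom (bcHom' φ c) := isMonHom_bcHom' φ c
  have hiK : AGF.IsMaxTorus (bcHom' φ c) := Chev.Borel.isMaxTorus_of_isMaximalTorus _ FK.hc
  obtain ⟨mu, hreg, P₀, _, p₀, e₀, hP₀, he₀⟩ := exists_cochar_regular hred (bcHom' φ c) hiK (Fu.map i) (hB.2.2.2 s)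
    (ej φ D.M ≫ Fu.map tB) (by rw [Category.assoc, ← Fu.map_comp, htB]; rfl)
  have hmu : ∀ a, mu (D.P.root a) ≠ 0 := fun a => mu_ne_zero_of_regular (FK.hu a) (F.ne a) mu hreg
  let cm : Red.DS S ℤ ⟶ G := Red.DSmap S mu ≫ c
  haveI : IsMonHom cm := isMonHom_comp' (Red.DSmap S mu) c
  obtain ⟨P, _, p, hP⟩ := exists_isP (G := G) cm
  obtain ⟨d, hd⟩ := (show IsP (Red.DSmap _ mu ≫ bcHom' φ c) (Fu.map p) from bcHom'_DSmap φ mu c ▸ hP.bc φ).exists_iso hP₀
  have hKmem : ∀ (X : Over (Spec (CommRingCat.of K))) (a : (Over.map φ).obj X ⟶ G),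
      (∃ z, z ≫ i = a) ↔ ∃ z, z ≫ p = a :=
    iff_of_iso φ i p (e₀.symm ≪≫ d.symm) (by
      rw [Iso.trans_hom, Iso.symm_hom, Iso.symm_hom, Category.assoc, ← hd, Iso.inv_hom_id_assoc, ← he₀,
        Iso.inv_hom_id_assoc])
  obtain ⟨V, hV, hiff⟩ := exists_nhd_mem_iff (fun s => (F.hG.2.2 s).2.2.1) i
    (MTImage.isConnected_fibre_of_geom fun s => (hB.2.2.2 s).2.2.2.1) (c := cm)
    ⟨Red.DSmap S mu ≫ tB, by rw [Category.assoc, htB]⟩ hP φ hKmem
  rw [MTImage.geomPt_closedPoint] at hV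
  have hflip : ∀ a, D.P.root (D.P.reflectionPerm a a) = -D.P.root a := fun a => by
    rw [D.P.root_reflectionPerm, D.P.reflection_apply_self]
  obtain ⟨b, hb⟩ := RootClosed.exists_base_superset (P := D.P) (R' := {a | 0 < mu (D.P.root a)})
    (fun x y z hx hy h => by
      show 0 < mu (D.P.root z)
      rw [h, map_add]
      exact add_pos hx hy)
    (fun x (hx : 0 < mu (D.P.root x)) (h : 0 < mu (D.P.root (D.P.reflectionPerm x x))) => by
      rw [hflip, map_neg] at h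
      omega)
  have hpos : ∀ a, 0 < mu (D.P.root a) ↔ b.IsPos a := fun a => by
    rw [← RootSys.mem_posRoots_iff]
    refine ⟨fun ha => hb ha, fun ha => ?_⟩
    by_contra hn
    have h1 : D.P.reflectionPerm a a ∈ RedSub.posRoots D.P b := hb (by
      show 0 < mu (D.P.root (D.P.reflectionPerm a a))
      rw [hflip, map_neg]
      have := hmu a
      omega)
    exact (RootSys.isPos_opp_iff b a).1 ((RootSys.mem_posRoots_iff b _).1 h1) ((RootSys.mem_posRoots_iff b _).1 ha)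
  refine ⟨V, hV, b, fun X hX a => ?_⟩
  have hX' : Set.range X.hom ⊆ Set.range V.ι := by rwa [Scheme.Opens.range_ι]
  let e : (Over.map V.ι).obj (Over.mk (IsOpenImmersion.lift V.ι X.hom hX')) ≅ X := Over.isoMk (Iso.refl _) (by
    show 𝟙 _ ≫ X.hom = IsOpenImmersion.lift V.ι X.hom hX' ≫ V.ι
    rw [Category.id_comp, IsOpenImmersion.lift_fac])
  rw [← F.isP_pts b mu hmu hpos hP X a]
  constructor <;> rintro ⟨z, rfl⟩
  · exact (mem_iso_iff e p _).1 ((hiff _ _).1 ⟨e.hom ≫ z, by rw [Category.assoc]⟩)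
  · exact (mem_iso_iff e i _).1 ((hiff _ _).2 ⟨e.hom ≫ z, by rw [Category.assoc]⟩)

/-- **Two Borel subgroups containing the torus are locally conjugate by its normaliser.** -/
theorem exists_weyl_conj {B₁ B₂ : Over S} [GrpObj B₁] [GrpObj B₂] (D : Red.SplitRed G) (b₁ : B₁ ⟶ G) (b₂ : B₂ ⟶ G)
    (t₁ : D.T ⟶ B₁) (t₂ : D.T ⟶ B₂) (h₁ : Red.IsBorel b₁) (h₂ : Red.IsBorel b₂) (ht₁ : t₁ ≫ b₁ = D.i)
    (ht₂ : t₂ ≫ b₂ = D.i) (s : S) :
    ∃ (V : S.Opens), s ∈ V ∧ ∃ n : Over.mk V.ι ⟶ G, RedSub.ConjEq D.i D.i n ∧ RedSub.ConjEq b₁ b₂ n := by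
  classical
  letI := D.grpT
  letI := D.acgM
  letI := D.fintypeIdx
  letI := D.finiteM
  letI := D.freeM
  haveI := isReduced_of_splitRed D
  have F := frame_of_splitRed D
  obtain ⟨V₁, hs₁, β₁, hp₁⟩ := exists_std_pts D b₁ h₁ t₁ ht₁ s
  obtain ⟨V₂, hs₂, β₂, hp₂⟩ := exists_std_pts D b₂ h₂ t₂ ht₂ s
  obtain ⟨l, hl, hσ⟩ := exists_word_bases β₁ β₂
  choose nr hnr using D.refl
  have hw : Realises (D.split.inv.hom.hom ≫ D.i) β₁ nr := fun a _ X d => refl_frame D a (hnr a) X d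
  have hsub : ∀ (X : Over S) (x : X ⟶ Over.mk (V₁ ⊓ V₂).ι),
      Set.range X.hom ⊆ (V₁ : Set S) ∧ Set.range X.hom ⊆ (V₂ : Set S) := fun X x => by
    have h : Set.range X.hom ⊆ ((V₁ ⊓ V₂ : S.Opens) : Set S) := by
      rw [← Over.w x, ← Scheme.Opens.range_ι (V₁ ⊓ V₂)]
      rintro _ ⟨q, rfl⟩
      exact ⟨x.left q, rfl⟩
    exact ⟨fun q hq => (h hq).1, fun q hq => (h hq).2⟩
  have hm : ∀ (X : Over S) (x : X ⟶ Over.mk (V₁ ⊓ V₂).ι), WMoves (D.split.inv.hom.hom ≫ D.i) D.u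
      (x ≫ toUnit _ ≫ (l.map nr).prod) (wperm D.P l) := fun X x => by
    have h := F.wmoves_word D.pairing_eq hw X l hl
    rw [wpt_eq] at h
    rwa [← Category.assoc, toUnit_unique (x ≫ toUnit _) (toUnit X)]
  have hti : D.split.hom.hom.hom ≫ D.split.inv.hom.hom = 𝟙 _ :=
    congrArg (fun f => f.hom.hom) D.split.hom_inv_id
  refine ⟨V₁ ⊓ V₂, ⟨hs₁, hs₂⟩, toUnit _ ≫ (l.map nr).prod,
    fun X x => ⟨fun d => ?_, fun d => ?_⟩, fun X x => ⟨fun y => ?_, fun y => ?_⟩⟩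
  · obtain ⟨d', hd'⟩ := (hm X x).torus (d ≫ D.split.hom.hom.hom)
    simp only [Category.assoc, reassoc_of% hti] at hd'
    exact ⟨d' ≫ D.split.inv.hom.hom, hd'.trans (Category.assoc _ _ _).symm⟩
  · obtain ⟨d', hd'⟩ := (hm X x).torus' (d ≫ D.split.hom.hom.hom)
    simp only [Category.assoc, reassoc_of% hti] at hd'
    exact ⟨d' ≫ D.split.inv.hom.hom, hd'.trans (Category.assoc _ _ _).symm⟩
  · obtain ⟨z, hz⟩ := (hp₂ X (hsub X x).2 _).2 ((hm X x).borelPts hσ ((hp₁ X (hsub X x).1 _).1 ⟨y, rfl⟩))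
    exact ⟨z, hz.symm⟩
  · obtain ⟨z, hz⟩ := (hp₁ X (hsub X x).1 _).2
      ((hm X x).inv.borelPts (isPos_symm_of_isPos l hσ) ((hp₂ X (hsub X x).2 _).1 ⟨y, rfl⟩))
    rw [_root_.inv_inv] at hz
    exact ⟨z, hz.symm⟩

/-- **Locally for the Zariski topology a Borel subgroup contains a conjugate of the torus.** -/
theorem exists_cell_conj (D : Red.SplitRed G) (b : B ⟶ G) (hB : Red.IsBorel b) (s : S) :
    ∃ (V : S.Opens), s ∈ V ∧ ∃ g : Over.mk V.ι ⟶ G, ∀ (X : Over S) (x : X ⟶ Over.mk V.ι) (d : X ⟶ D.T),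
      ∃ z, z ≫ b = (x ≫ g) * (d ≫ D.i) * (x ≫ g)⁻¹ := by
  classical
  letI := D.grpT
  letI := D.acgM
  letI := D.fintypeIdx
  letI := D.finiteM
  letI := D.freeM
  haveI := isReduced_of_splitRed D
  obtain ⟨c, hc, F⟩ : ∃ c : Red.DS S D.M ⟶ G, D.split.inv.hom.hom ≫ D.i = c ∧ Frame c D.P.root D.u :=
    ⟨_, rfl, frame_of_splitRed D⟩
  haveI := F.hG.1; haveI := F.hG.2.1; haveI := F.hc.1
  haveI := hB.1; haveI := hB.2.1; haveI := hB.2.2.1
  haveI : Mono b.left := inferInstance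
  obtain ⟨b₀, -⟩ := S5522.result D (∅ : Set D.idx) (fun _ _ _ h => h.elim) (fun _ h => h.elim)
  obtain ⟨mu, hp, hn, hmu⟩ := exists_pos_hom D.P b₀
  obtain ⟨Q, _, q, hQ⟩ := exists_isP (G := G) (Red.DSmap S mu ≫ c)
  haveI := hQ.1; haveI := hQ.2.1
  have hq : Red.IsBorel q := F.isBorel mu hmu hQ
  haveI := hq.2.2.1
  haveI : IsAffineHom B.hom := by rw [← Over.w b]; infer_instance
  haveI : IsAffineHom Q.hom := by rw [← Over.w q]; infer_instance
  obtain ⟨n, e₁, hen⟩ : ∃ (n : ℕ) (e : Fin n → D.idx), RedSub.Enumerates {r | 0 < (-mu) (D.P.root r)} e := by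
    obtain ⟨n, en, -, hen⟩ := exists_extend {r | 0 < (-mu) (D.P.root r)} (Fin.elim0 : Fin 0 → D.idx) (fun x => x.elim0)
      fun k => k.elim0
    exact ⟨_, _, hen⟩
  obtain ⟨m, e₂, hep⟩ : ∃ (m : ℕ) (e : Fin m → D.idx), RedSub.Enumerates {r | 0 < mu (D.P.root r)} e := by
    obtain ⟨m, ep, -, hep⟩ := exists_extend {r | 0 < mu (D.P.root r)} (Fin.elim0 : Fin 0 → D.idx) (fun x => x.elim0)
      fun k => k.elim0
    exact ⟨_, _, hep⟩
  obtain ⟨φ, hφ⟩ := F.exists_iso_isP mu hmu _ hep hQ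
  haveI := (F.cell mu hmu _ _ _ _ hen hep hen hep).1
  let C := cellC c (fun k => D.u (e₁ k)) (fun k => D.u (e₂ k))
  haveI : Mono C := Over.mono_of_mono_left _
  have hen' : RedSub.Enumerates (RedSub.negRoots D.P b₀) e₁ := by
    rwa [show RedSub.negRoots D.P b₀ = {r | 0 < (-mu) (D.P.root r)} from Set.ext fun a => (hn a).symm]
  have hep' : RedSub.Enumerates (RedSub.posRoots D.P b₀) e₂ := by
    rwa [show RedSub.posRoots D.P b₀ = {r | 0 < mu (D.P.root r)} from Set.ext fun a => (hp a).symm]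
  -- a local conjugation of the standard Borel subgroup
  obtain ⟨W, f, hf, ⟨w₀, hw₀⟩, c₁, hc₁⟩ := BorelConj.exists_conj D.reductive q b
    (BorelConj.isBorelSub_of_geom D.reductive q hq.2.2.2)
    (BorelConj.isBorelSub_of_geom D.reductive b hB.2.2.2) s
  haveI := hf
  choose nr hnr using D.refl
  obtain ⟨l, hl⟩ := S3954.result D b₀ e₁ e₂ hen' hep' nr hnr (c₁.left w₀)
  obtain ⟨nl, hnl⟩ : ∃ nl, nl = (l.map nr).prod := ⟨_, rfl⟩
  rw [← hnl] at hl
  obtain ⟨h, hh⟩ : ∃ h : Over.mk f ⟶ G, h = (toUnit _ ≫ nl)⁻¹ * c₁ := ⟨_, rfl⟩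
  let L : G ⟶ G := (toUnit G ≫ nl)⁻¹ * 𝟙 G
  have hcell : Set.range (RedSub.cellMap D e₁ e₂).left ⊆ Set.range C.left := by
    obtain ⟨y, hy⟩ := F.exists_cellC_of_mem (B := b₀) e₁ e₂ hen' hep'
      (show RedSub.cellMap D e₁ e₂ ∈ CellPts c D.u b₀ _ from by
        have h1 := cellMap_mem_cellPts D b₀ hen' hep' (𝟙 _)
        rw [Category.id_comp] at h1
        exact hc ▸ h1)
    rintro _ ⟨p, rfl⟩
    exact ⟨y.left p, by rw [← Scheme.Hom.comp_apply, ← Over.comp_left, hy]⟩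
  have hrange : h.left w₀ ∈ Set.range C.left := by
    obtain ⟨p, hp⟩ := hl
    refine hcell ⟨p, ?_⟩
    have e1 : c₁ ≫ L = h := by
      rw [hh, MonObj.comp_mul, GrpObj.comp_inv, Category.comp_id, ← Category.assoc,
        toUnit_unique (c₁ ≫ toUnit G) (toUnit _)]
    have e2 : ((toUnit _ ≫ nl) * RedSub.cellMap D e₁ e₂) ≫ L = RedSub.cellMap D e₁ e₂ := by
      rw [MonObj.comp_mul, GrpObj.comp_inv, Category.comp_id, ← Category.assoc,
        toUnit_unique (_ ≫ toUnit G) (toUnit _), inv_mul_cancel_left]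
    rw [← e1, Over.comp_left, Scheme.Hom.comp_apply, ← hp, ← Scheme.Hom.comp_apply, ← Over.comp_left, e2]
  let W₁ : W.Opens := ⟨h.left ⁻¹' Set.range C.left, (C.left.isOpenEmbedding.isOpen_range).preimage h.left.continuous⟩
  let W' : Over S := Over.mk (W₁.ι ≫ f)
  let inc : W' ⟶ Over.mk f := Over.homMk W₁.ι rfl
  obtain ⟨y, hy⟩ := (exists_fac_iff_range C (inc ≫ h)).2 (by
    rintro _ ⟨p, rfl⟩
    exact p.2)
  let A := RedSub.pow (Red.Ga S) n
  let pN : A ⟶ G := RedSub.prodMap (Red.Ga S) n (fun k => D.u (e₁ k))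
  obtain ⟨yu, hyu⟩ : ∃ yu : W' ⟶ A, yu = y ≫ fst _ _ := ⟨_, rfl⟩
  -- the conjugations defined by the translated unipotent part
  let Conj : ∀ {X : Over S}, (X ⟶ A) → Prop := fun {X} v => ∀ (X' : Over S) (x : X' ⟶ X),
    (∀ z : X' ⟶ Q, ∃ z' : X' ⟶ B,
      z' ≫ b = ((toUnit X' ≫ nl) * ((x ≫ v) ≫ pN)) * (z ≫ q) * ((toUnit X' ≫ nl) * ((x ≫ v) ≫ pN))⁻¹) ∧
    ∀ z : X' ⟶ B, ∃ z' : X' ⟶ Q,
      z' ≫ q = ((toUnit X' ≫ nl) * ((x ≫ v) ≫ pN))⁻¹ * (z ≫ b) * ((toUnit X' ≫ nl) * ((x ≫ v) ≫ pN))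
  have hconj : ∀ {X₀ : Over S} (x₀ : X₀ ⟶ W'), Conj (x₀ ≫ yu) := by
    intro X₀ x₀ X x₁
    obtain ⟨x, hx⟩ : ∃ x, x₁ ≫ x₀ = x := ⟨_, rfl⟩
    rw [← Category.assoc x₁, hx]
    let β : X ⟶ G := (((x ≫ y) ≫ snd _ _ ≫ fst _ _) ≫ c) *
      (((x ≫ y) ≫ snd _ _ ≫ snd _ _) ≫ RedSub.prodMap (Red.Ga S) m (fun k => D.u (e₂ k)))
    obtain ⟨β', hβ'⟩ : ∃ β', β' ≫ q = β :=
      ⟨lift ((x ≫ y) ≫ snd _ _ ≫ fst _ _) ((x ≫ y) ≫ snd _ _ ≫ snd _ _) ≫ φ.hom, by
        rw [Category.assoc, hφ, borelC, MonObj.comp_mul, lift_fst_assoc, lift_snd_assoc]⟩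
    have e : (x ≫ inc) ≫ c₁ = ((toUnit X ≫ nl) * ((x ≫ yu) ≫ pN)) * β := by
      have h1 : x ≫ y ≫ C = x ≫ inc ≫ h := by rw [hy]
      simp only [C, cellC, hh, MonObj.comp_mul, GrpObj.comp_inv, ← Category.assoc] at h1
      rw [toUnit_unique ((x ≫ inc) ≫ toUnit _) (toUnit X), eq_inv_mul_iff_mul_eq] at h1
      rw [← h1, _root_.mul_assoc]
      simp only [β, hyu, pN, A, Category.assoc]
    obtain ⟨k1, k2⟩ := hc₁ X (x ≫ inc)
    refine ⟨fun z => ?_, fun z => ?_⟩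
    · obtain ⟨z', hz'⟩ := k1 (β'⁻¹ * z * β')
      refine ⟨z', hz'.symm.trans ?_⟩
      rw [e, MonObj.mul_comp, MonObj.mul_comp, GrpObj.inv_comp, hβ']
      group
    · obtain ⟨z', hz'⟩ := k2 z
      refine ⟨β' * z' * β'⁻¹, ?_⟩
      rw [MonObj.mul_comp, MonObj.mul_comp, GrpObj.inv_comp, hβ', ← hz', e]
      group
  have huniq : ∀ {X : Over S} (va vb : X ⟶ A), Conj va → Conj vb → va = vb := by
    intro X va vb hva hvb
    have hnq : Red.IsNormalizerOf q q :=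
      (S3962.result D.reductive q (BorelConj.isBorelSub_of_geom D.reductive q hq.2.2.2)).2
    obtain ⟨β, hβ⟩ : ∃ β, β ≫ q = (vb ≫ pN)⁻¹ * (va ≫ pN) := by
      refine (hnq.2.2 X _).2 fun X' x z => ⟨?_, ?_⟩
      · obtain ⟨z₁, hz₁⟩ := (hva X' x).1 z
        obtain ⟨z₂, hz₂⟩ := (hvb X' x).2 z₁
        refine ⟨z₂, ?_⟩
        rw [hz₂, hz₁, MonObj.comp_mul, GrpObj.comp_inv, ← Category.assoc x vb, ← Category.assoc x va]
        group
      · obtain ⟨z₁, hz₁⟩ := (hvb X' x).1 z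
        obtain ⟨z₂, hz₂⟩ := (hva X' x).2 z₁
        refine ⟨z₂, ?_⟩
        rw [hz₂, hz₁, MonObj.comp_mul, GrpObj.comp_inv, ← Category.assoc x vb, ← Category.assoc x va]
        group
    obtain ⟨y1, -, hy1⟩ := exists_pow_prod (G := G) (fun k => D.u (e₂ k)) (X := X) fun _ => 1
    rw [F.prod_one'] at hy1
    have e : lift va (lift (1 : X ⟶ Red.DS S D.M) y1) =
        lift vb (lift ((β ≫ φ.inv) ≫ fst _ _) ((β ≫ φ.inv) ≫ snd _ _)) := by
      rw [← cancel_mono C, comp_cellC, comp_cellC, hy1, MonObj.one_comp, _root_.mul_one, _root_.mul_one]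
      rw [show ((β ≫ φ.inv) ≫ fst _ _) ≫ c * ((β ≫ φ.inv) ≫ snd _ _) ≫ RedSub.prodMap (Red.Ga S) m
          (fun k => D.u (e₂ k)) = β ≫ q by
        rw [← Iso.inv_hom_id_assoc φ q, hφ, borelC]
        simp only [MonObj.comp_mul, Category.assoc]]
      rw [hβ, mul_inv_cancel_left]
    exact congrArg (fun z => z ≫ fst _ _) e |> fun h => by simpa only [lift_fst] using h
  -- descent to the image
  let V : S.Opens := ⟨Set.range (W₁.ι ≫ f), (W₁.ι ≫ f).isOpenMap.isOpen_range⟩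
  have hr : Set.range (W₁.ι ≫ f) ⊆ Set.range V.ι := by rw [Scheme.Opens.range_ι]; exact le_refl _
  obtain ⟨α, hα⟩ : ∃ α : (W₁ : Scheme.{u}) ⟶ (V : Scheme.{u}), α ≫ V.ι = W₁.ι ≫ f :=
    ⟨_, IsOpenImmersion.lift_fac V.ι (W₁.ι ≫ f) hr⟩
  haveI : Etale α := by
    haveI : Etale (α ≫ V.ι) := by rw [hα]; infer_instance
    exact Etale.of_comp α V.ι
  haveI : Surjective α := ⟨fun o => by
    obtain ⟨p, hp⟩ := o.2
    exact ⟨p, V.ι.isOpenEmbedding.injective (by rw [← Scheme.Hom.comp_apply, hα, hp]; rfl)⟩⟩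
  have hd : ∀ {Z : Scheme.{u}} (g₁ g₂ : Z ⟶ (W₁ : Scheme.{u})), g₁ ≫ α = g₂ ≫ α → g₁ ≫ yu.left = g₂ ≫ yu.left := by
    intro Z g₁ g₂ e
    let Z' : Over S := Over.mk ((g₁ ≫ W₁.ι) ≫ f)
    let z₁ : Z' ⟶ W' := Over.homMk g₁ (by simp [Z', W'])
    let z₂ : Z' ⟶ W' := Over.homMk g₂ (by
      show g₂ ≫ W₁.ι ≫ f = (g₁ ≫ W₁.ι) ≫ f
      rw [Category.assoc, ← hα, reassoc_of% e])
    exact congrArg Over.Hom.left (huniq (z₁ ≫ yu) (z₂ ≫ yu) (hconj z₁) (hconj z₂))
  let uV₀ := EffectiveEpi.desc α yu.left hd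
  have huV₀ : α ≫ uV₀ = yu.left := EffectiveEpi.fac α yu.left hd
  haveI : Epi α := Flat.epi_of_flat_of_surjective α
  let uV : Over.mk V.ι ⟶ A := Over.homMk uV₀ (by
    rw [← cancel_epi α, reassoc_of% huV₀, Over.w yu]
    exact hα.symm)
  let αO : W' ⟶ Over.mk V.ι := Over.homMk α hα
  have hαu : αO ≫ uV = yu := Over.OverMorphism.ext huV₀
  refine ⟨V, ⟨⟨w₀, hrange⟩, hw₀⟩, (toUnit _ ≫ nl) * (uV ≫ pN), fun X x d => ?_⟩
  let pb := pullback x.left α
  let X' : Over S := Over.mk (pullback.fst x.left α ≫ X.hom)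
  let qq : X' ⟶ X := Over.homMk (pullback.fst x.left α) rfl
  let x' : X' ⟶ W' := Over.homMk (pullback.snd x.left α) (by
    show pullback.snd x.left α ≫ W₁.ι ≫ f = pullback.fst x.left α ≫ X.hom
    rw [← hα, ← Category.assoc, ← pullback.condition, Category.assoc]
    exact congrArg (pullback.fst x.left α ≫ ·) (Over.w x))
  have hxx : x' ≫ αO = qq ≫ x := Over.OverMorphism.ext pullback.condition.symm
  haveI : Etale qq.left := inferInstanceAs (Etale (pullback.fst x.left α))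
  haveI : Surjective qq.left := inferInstanceAs (Surjective (pullback.fst x.left α))
  refine fac_of_etale_cover b _ qq ?_
  obtain ⟨q₀, hq₀⟩ := hQ.exists_le c fun R _ f y => mem_PSub_torus mu f y
  obtain ⟨z', hz'⟩ := (hconj x' X' (𝟙 _)).1 (((qq ≫ d) ≫ D.split.hom.hom.hom) ≫ q₀)
  refine ⟨z', hz'.trans ?_⟩
  have e : (𝟙 X' ≫ x' ≫ yu) = (qq ≫ x) ≫ uV := by rw [Category.id_comp, ← hxx, Category.assoc, hαu]
  rw [e, Category.assoc _ q₀, hq₀, ← hc]
  simp only [MonObj.comp_mul, GrpObj.comp_inv, Category.assoc, comp_toUnit_assoc,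
    reassoc_of% (show D.split.hom.hom.hom ≫ D.split.inv.hom.hom = 𝟙 _ from
      congrArg (fun f => f.hom.hom) D.split.hom_inv_id)]

end Groth.Agent.RootBase
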