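import Groth.Agent.RootBase.TypeRSolv
import Groth.Agent.AgIsog.Kernel
import Groth.Agent.UnipTor.Main

/-!
# The unipotent radical of a subgroup of type (R) with positive roots
-/

set_option autoImplicit false
set_option backward.isDefEq.respectTransparency false
set_option linter.style.haveILetI false
set_option maxHeartbeats 1000000
set_option synthInstance.maxHeartbeats 400000

universe u

open CategoryTheory Limits MonoidalCategory CartesianMonoidalCategory MonObj GrpObj AlgebraicGeometry LieS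
open scoped CategoryTheory.Obj

noncomputable section

namespace Groth.Agent.RootBase

open Groth.Agent.HomDiag Groth.Agent.DynPar Groth.Agent.RootSys Groth.Agent.MTBridge

variable {S : Scheme.{u}} {G H : Over S} [GrpObj G] [GrpObj H]

omit [GrpObj G] in
/-- A limit lies in every closed subscheme containing the orbit. -/
theorem exists_fac_qn {U : Over S} (j : U ⟶ G) [IsClosedImmersion j.left] {B : Type u} [CommRing B]
    (f : Spec (CommRingCat.of B) ⟶ S)
    (a : pt (AddMonoidAlgebra B (NN ℤ)) (fL f (NN ℤ)) ⟶ G) (w : pt (AddMonoidAlgebra B ℤ) (fL f ℤ) ⟶ U)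
    (hw : w ≫ j = qn f ℤ ≫ a) :
    ∃ a' : pt (AddMonoidAlgebra B (NN ℤ)) (fL f (NN ℤ)) ⟶ U, a' ≫ j = a := by
  let Z := pullback a.left j.left
  let k : Z ⟶ _ := pullback.fst a.left j.left
  haveI : IsClosedImmersion k := MorphismProperty.pullback_fst (P := @IsClosedImmersion) _ _ inferInstance
  obtain ⟨l, hl⟩ : ∃ l, l ≫ k = (qn f ℤ).left :=
    ⟨pullback.lift (qn f ℤ).left w.left (by rw [← Over.comp_left, ← Over.comp_left, hw]), pullback.lift_fst _ _ _⟩
  have hker : (qn f ℤ).left.ker = ⊥ := by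
    haveI : IsAffine (pt (AddMonoidAlgebra B (NN ℤ)) (fL f (NN ℤ))).left :=
      inferInstanceAs (IsAffine (Spec (CommRingCat.of _)))
    rw [Scheme.ker_of_isAffine]
    have hinj : Function.Injective (qn f ℤ).left.appTop := by
      intro x y hxy
      have e := (Scheme.ΓSpecIso_naturality
        (CommRingCat.ofHom (AddMonoidAlgebra.mapDomainRingHom B (NN ℤ).subtype)))
      have hx := ConcreteCategory.congr_hom e x
      have hy := ConcreteCategory.congr_hom e y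
      apply (ConcreteCategory.bijective_of_isIso (Scheme.ΓSpecIso (CommRingCat.of (AddMonoidAlgebra B (NN ℤ)))).hom).1
      apply qn_injective (Γ := ℤ) (B := B)
      exact hx.symm.trans ((congrArg (fun z => (Scheme.ΓSpecIso _).hom z) hxy).trans hy)
    rw [(RingHom.injective_iff_ker_eq_bot _).1 hinj]
    exact (Scheme.IdealSheafData.ext_of_isAffine (by simp))
  obtain ⟨z, hz⟩ : ∃ z, z ≫ k = 𝟙 _ := by
    rw [DynPar.exists_fac_iff_ker_le]
    exact le_trans ((DynPar.exists_fac_iff_ker_le k (qn f ℤ).left).1 ⟨l, hl⟩) (hker ▸ bot_le)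
  refine ⟨Over.homMk (z ≫ pullback.snd a.left j.left) ?_, Over.OverMorphism.ext ?_⟩
  · rw [← Over.w j, Category.assoc, ← pullback.condition_assoc, reassoc_of% hz, Over.w a]
  · show (z ≫ pullback.snd a.left j.left) ≫ j.left = a.left
    rw [Category.assoc, ← pullback.condition, reassoc_of% hz]

set_option maxHeartbeats 16000000 in
/-- **The unipotent radical of a subgroup of type (R) with positive roots.** -/
theorem exists_unipRad_pattern (D : Red.SplitRed G) (h : H ⟶ G) (hH : RedSub.IsTypeR h)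
    (t : D.T ⟶ H) (ht : t ≫ h = D.i) (R' : Set D.idx)
    (hrs : ∀ a (s : S), InFib h (D.u a) s ↔ a ∈ R')
    (hfac : ∀ a ∈ R', ∃ v : Red.Ga S ⟶ H, v ≫ h = D.u a) (b : D.P.Base)
    (hb : R' ⊆ RedSub.posRoots D.P b) :
    ∃ (U : Over S) (_ : GrpObj U) (u : U ⟶ H), IsMonHom u ∧ IsClosedImmersion (u ≫ h).left ∧ Smooth U.hom ∧
      Par.IsUnipotentRadical u ∧ IsIso ((t ⊗ₘ u) ≫ μ[H]) ∧
      ∀ {m : ℕ} (e : Fin m → D.idx), RedSub.Enumerates R' e →
        ∃ ψ : RedSub.pow (Red.Ga S) m ≅ U, ψ.hom ≫ u ≫ h = RedSub.prodMap (Red.Ga S) m (fun k => D.u (e k)) := by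
  classical
  letI := D.grpT
  letI := D.acgM
  letI := D.fintypeIdx
  letI := D.finiteM
  letI := D.freeM
  have hH' := id hH
  obtain ⟨⟨hm, himm⟩, hHs, -, hconn, -⟩ := hH'
  haveI := hm; haveI := himm; haveI := hHs
  haveI : Mono h := Over.mono_of_mono_left h
  obtain ⟨c, hc, F⟩ : ∃ c : Red.DS S D.M ⟶ G, D.split.inv.hom.hom ≫ D.i = c ∧ Frame c D.P.root D.u :=
    ⟨_, rfl, frame_of_splitRed D⟩
  haveI := F.hG.1; haveI := F.hG.2.1; haveI := F.hc.1; haveI := F.hc.2.1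
  haveI := D.maximalTorus.1
  haveI : Mono D.i := D.maximalTorus.2.1
  haveI : IsMonHom t := MTSplit.isMonHom_of_comp_mono t h D.i ht
  haveI hshom : IsMonHom D.split.hom.hom.hom := D.split.hom.hom.isMonHom_hom
  haveI hsinv : IsMonHom D.split.inv.hom.hom := D.split.inv.hom.isMonHom_hom
  have hψi : D.split.hom.hom.hom ≫ c = D.i := by
    have e : D.split.hom.hom.hom ≫ D.split.inv.hom.hom = 𝟙 _ := congrArg (fun f => f.hom.hom) D.split.hom_inv_id
    rw [← hc, reassoc_of% e]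
  obtain ⟨mu, hmp, hmn, hmu⟩ := exists_pos_hom D.P b
  obtain ⟨c₁, hc₁, hc₁hom⟩ : ∃ c₁ : Red.DS S ℤ ⟶ G, c₁ = Red.DSmap S mu ≫ c ∧ IsMonHom c₁ :=
    ⟨_, rfl, inferInstance⟩
  haveI := hc₁hom
  obtain ⟨P, _, p, hP⟩ := exists_isP (G := G) c₁
  obtain ⟨UG, _, uG, hUG⟩ := exists_isU (G := G) c₁
  obtain ⟨Z, _, z, hz, hzc, -⟩ := exists_centralizer_DS (G := G) inferInstance inferInstance c₁
  obtain ⟨L⟩ := exists_leviData hP hUG hz
  haveI := hz.1; haveI := hz.2.1; haveI := hP.1; haveI := hP.2.1; haveI := hUG.1; haveI := hUG.2.1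
  haveI := L.l_hom; haveI := L.iu_hom; haveI := L.r_hom
  haveI : Mono p := Over.mono_of_mono_left p
  haveI : Mono uG := Over.mono_of_mono_left uG
  obtain ⟨tC, htC⟩ := (hz.2.2 _ c).2 fun X' x h => by
    rw [hc₁]
    rw [← Category.assoc, ← MonObj.mul_comp, ← MonObj.mul_comp,
      show x * (h ≫ Red.DSmap S mu) = (h ≫ Red.DSmap S mu) * x from ch_ext fun m => by rw [ch_mul, ch_mul, mul_comm]]
  obtain ⟨tZ, htZ⟩ : ∃ tZ : D.T ⟶ Z, tZ ≫ z = D.i :=
    ⟨D.split.hom.hom.hom ≫ tC, by rw [Category.assoc, htC, hψi]⟩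
  haveI : Mono tZ := mono_of_mono_fac htZ
  haveI : Mono z := Over.mono_of_mono_left z
  haveI : IsMonHom tZ := MTSplit.isMonHom_of_comp_mono tZ z D.i htZ
  -- the enumeration dependent parts
  have key : ∀ {m : ℕ} (e : Fin m → D.idx), RedSub.Enumerates R' e →
      ∃ (φ : D.T ⊗ RedSub.pow (Red.Ga S) m ≅ H) (a : RedSub.pow (Red.Ga S) m ⟶ UG),
        φ.hom ≫ h = RedSub.borelMap D e ∧ a ≫ uG = RedSub.prodMap (Red.Ga S) m (fun k => D.u (e k)) ∧
        φ.hom ≫ h = ((fst _ _ ≫ tZ ≫ L.l) * (snd _ _ ≫ a ≫ L.iu)) ≫ p := by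
    intro m e he
    obtain ⟨φ, hφ⟩ := exists_iso_borelMap_pattern D h hH t ht R' hrs hfac b hb e he
    obtain ⟨a, ha⟩ := hUG.exists_le (RedSub.prodMap (Red.Ga S) m fun k => D.u (e k)) fun B _ f y =>
      hc₁ ▸ prodMap_mem_USub_global mu f (fun l => F.hu (e l)) (fun l => (hmp _).2 (hb (he.2.subset ⟨l, rfl⟩))) y
    refine ⟨φ, a, hφ, ha, ?_⟩
    rw [hφ, MonObj.mul_comp, RedSub.borelMap]
    simp only [Category.assoc, L.l_p, L.iu_p, htZ, ha]
  obtain ⟨m₀, e₀, he₀⟩ : ∃ (m : ℕ) (e : Fin m → D.idx), RedSub.Enumerates R' e := by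
    let s : Finset D.idx := Finset.univ.filter (· ∈ R')
    refine ⟨s.card, fun l => s.equivFin.symm l, fun x y h => s.equivFin.symm.injective (Subtype.ext h),
      Set.ext fun a => ⟨?_, fun ha => ⟨s.equivFin ⟨a, Finset.mem_filter.2 ⟨Finset.mem_univ _, ha⟩⟩, by simp⟩⟩⟩
    rintro ⟨l, rfl⟩
    exact (Finset.mem_filter.1 (s.equivFin.symm l).2).2
  obtain ⟨φ₀, a₀, hφ₀, ha₀, hφ₀p⟩ := key e₀ he₀
  let hp : H ⟶ P := φ₀.inv ≫ ((fst _ _ ≫ tZ ≫ L.l) * (snd _ _ ≫ a₀ ≫ L.iu))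
  have hhp : hp ≫ p = h := by
    show (_ ≫ _) ≫ _ = _
    rw [Category.assoc, ← hφ₀p, Iso.inv_hom_id_assoc]
  haveI : IsMonHom hp := MTSplit.isMonHom_of_comp_mono hp p h hhp
  haveI : IsMonHom (hp ≫ L.r) := inferInstance
  have hr0 : ∀ {m : ℕ} (e : Fin m → D.idx), RedSub.Enumerates R' e →
      ∀ (φ : D.T ⊗ RedSub.pow (Red.Ga S) m ≅ H) (a : RedSub.pow (Red.Ga S) m ⟶ UG),
        φ.hom ≫ h = ((fst _ _ ≫ tZ ≫ L.l) * (snd _ _ ≫ a ≫ L.iu)) ≫ p → φ.hom ≫ hp ≫ L.r = fst _ _ ≫ tZ := by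
    intro m e _ φ a hφ
    have e1 : φ.hom ≫ hp = (fst _ _ ≫ tZ ≫ L.l) * (snd _ _ ≫ a ≫ L.iu) := by
      rw [← cancel_mono p, Category.assoc, hhp, hφ]
    rw [← Category.assoc, e1, MonObj.mul_comp]
    simp only [Category.assoc, L.l_r, L.iu_r, Category.comp_id, MonObj.comp_one, _root_.mul_one]
  let rT : H ⟶ D.T := φ₀.inv ≫ fst _ _
  have hrT0 : rT ≫ tZ = hp ≫ L.r := by
    show (_ ≫ _) ≫ _ = _
    rw [Category.assoc, ← hr0 e₀ he₀ φ₀ a₀ hφ₀p, Iso.inv_hom_id_assoc]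
  haveI : IsMonHom rT := MTSplit.isMonHom_of_comp_mono rT tZ (hp ≫ L.r) hrT0
  have hfst : ∀ {m : ℕ} (e : Fin m → D.idx), RedSub.Enumerates R' e →
      ∀ (φ : D.T ⊗ RedSub.pow (Red.Ga S) m ≅ H) (a : RedSub.pow (Red.Ga S) m ⟶ UG),
        φ.hom ≫ h = ((fst _ _ ≫ tZ ≫ L.l) * (snd _ _ ≫ a ≫ L.iu)) ≫ p → φ.hom ≫ rT = fst _ _ := by
    intro m e he φ a hφ
    rw [← cancel_mono tZ, Category.assoc, hrT0, hr0 e he φ a hφ]
  obtain ⟨U, hUgrp, i, him, himono, hipb, hmem⟩ := AgIsog.exists_kernel rT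
  haveI := him; haveI := himono
  have hirT : i ≫ rT = 1 := (hmem U i).1 ⟨𝟙 _, Category.id_comp _⟩
  -- the kernel is the product of the root groups, in any order
  have keyU : ∀ {m : ℕ} (e : Fin m → D.idx), RedSub.Enumerates R' e →
      ∃ ψ : RedSub.pow (Red.Ga S) m ≅ U, ψ.hom ≫ i ≫ h = RedSub.prodMap (Red.Ga S) m (fun k => D.u (e k)) := by
    intro m e he
    obtain ⟨φ, a, hφ, ha, hφp⟩ := key e he
    have hf := hfst e he φ a hφp
    obtain ⟨ψh, hψh⟩ := (hmem _ (lift 1 (𝟙 _) ≫ φ.hom)).2 (by rw [Category.assoc, hf, lift_fst])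
    have hinv : φ.inv ≫ fst _ _ = rT := by rw [← hf, Iso.inv_hom_id_assoc]
    refine ⟨⟨ψh, i ≫ φ.inv ≫ snd _ _, ?_, ?_⟩, ?_⟩
    · rw [reassoc_of% hψh, Iso.hom_inv_id_assoc, lift_snd]
    · rw [← cancel_mono i, Category.id_comp, Category.assoc, hψh, ← Category.assoc _ (lift _ _), comp_lift,
        MonObj.comp_one, Category.comp_id]
      conv_rhs => rw [← Category.comp_id i, ← φ.inv_hom_id, ← Category.assoc]
      congr 1
      refine CartesianMonoidalCategory.hom_ext _ _ ?_ ?_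
      · rw [lift_fst, Category.assoc, hinv, hirT]
      · rw [lift_snd, Category.assoc]
    · show ψh ≫ i ≫ h = _
      rw [reassoc_of% hψh, hφ, RedSub.borelMap, MonObj.comp_mul, lift_fst_assoc, lift_snd_assoc, MonObj.one_comp,
        Category.id_comp, _root_.one_mul]
  obtain ⟨ψ₀, hψ₀⟩ := keyU e₀ he₀
  -- closedness
  haveI : IsAffineHom (RedSub.pow (Red.Ga S) m₀).hom := isSeparated_powGa S m₀
  haveI : IsClosedImmersion h.left := by
    haveI := isClosedImmersion_borelMap D b e₀ he₀.1 (he₀.2.trans_subset hb)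
    haveI : IsIso φ₀.inv.left := inferInstanceAs (IsIso ((Over.forget S).map φ₀.inv))
    rw [show h = φ₀.inv ≫ RedSub.borelMap D e₀ by rw [← hφ₀, Iso.inv_hom_id_assoc], Over.comp_left]
    infer_instance
  haveI : IsAffineHom D.T.hom := by
    haveI : IsClosedImmersion D.i.left := MTBridge.isClosedImmersion_of_mono
      (MTBridge.locally_of_isMultTypeFT' _ (MTBridge.isMultTypeFT_of_isTorus _ D.maximalTorus.2.2.1)) inferInstance D.i
    rw [← Over.w D.i]
    infer_instance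
  haveI : IsClosedImmersion (η[D.T] : 𝟙_ (Over S) ⟶ D.T).left := by
    haveI : IsClosedImmersion ((η[D.T] : 𝟙_ (Over S) ⟶ D.T).left ≫ D.T.hom) := by
      rw [Over.w]; exact inferInstanceAs (IsClosedImmersion (𝟙 S))
    exact IsClosedImmersion.of_comp _ D.T.hom
  haveI hic : IsClosedImmersion i.left := MorphismProperty.of_isPullback (P := @IsClosedImmersion) hipb.flip inferInstance
  haveI hihc : IsClosedImmersion (i ≫ h).left := by rw [Over.comp_left]; infer_instance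
  haveI : IsIso ψ₀.inv.left := inferInstanceAs (IsIso ((Over.forget S).map ψ₀.inv))
  haveI hUs : Smooth U.hom := by
    haveI := smooth_powGa S m₀
    rw [← Over.w ψ₀.inv]; infer_instance
  haveI hUq : QuasiCompact U.hom := by
    rw [← Over.w ψ₀.inv]; infer_instance
  obtain ⟨aU, haU⟩ : ∃ aU : U ⟶ UG, aU ≫ uG = i ≫ h := ⟨ψ₀.inv ≫ a₀, by
    rw [Category.assoc, ha₀, ← hψ₀, Iso.inv_hom_id_assoc]⟩
  haveI : IsMonHom aU := MTSplit.isMonHom_of_comp_mono aU uG (i ≫ h) haU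
  haveI : Mono (i ≫ h) := mono_comp _ _
  haveI : Mono aU := mono_of_mono_fac haU
  have hHconn : ∀ s : S, ConnectedSpace (Red.geomFibre s H).left := fun s => by
    haveI : GeometricallyIrreducible H.hom := GrpField.geometricallyIrreducible_of_connected_fibres H hconn
    haveI : GeometricallyIrreducible (Red.geomFibre s H).hom :=
      inferInstanceAs (GeometricallyIrreducible (pullback.snd H.hom (Red.geomPt s)))
    haveI : Smooth (Red.geomFibre s H).hom := inferInstanceAs (Smooth (pullback.snd H.hom (Red.geomPt s)))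
    haveI : IrreducibleSpace ↥(Spec (CommRingCat.of (AlgebraicClosure (S.residueField s)))) := inferInstance
    haveI : IrreducibleSpace (Red.geomFibre s H).left :=
      GeometricallyIrreducible.irreducibleSpace (Red.geomFibre s H).hom (Red.geomFibre s H).hom.isOpenMap
    infer_instance
  have hfib : ∀ s : S, ConnectedSpace (Red.geomFibre s U).left ∧
      Red.HasNoSubtorus (AlgebraicClosure (S.residueField s)) (Red.geomFibre s U) := fun s => by
    let j := Red.geomPt s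
    haveI := hHconn s
    refine ⟨DynPar.connectedSpace_of_retract ((Over.pullback j).map i)
      ((Over.pullback j).map (φ₀.inv ≫ snd _ _ ≫ ψ₀.hom)) ?_, fun T' _ v _ _ hT' => ?_⟩
    · rw [← Functor.map_comp, ← CategoryTheory.Functor.map_id]
      congr 1
      obtain ⟨φ, a, hφ, ha, hφp⟩ := key e₀ he₀
      have e1 : φ = φ₀ := Iso.ext ((cancel_mono h).1 (hφ.trans hφ₀.symm))
      subst e1
      have e2 : ψ₀.hom ≫ i = lift 1 (𝟙 _) ≫ φ.hom := by
        rw [← cancel_mono h, Category.assoc, hψ₀, Category.assoc, hφ, RedSub.borelMap, MonObj.comp_mul,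
          lift_fst_assoc, lift_snd_assoc, MonObj.one_comp, Category.id_comp, _root_.one_mul]
      rw [← cancel_epi ψ₀.hom, reassoc_of% e2, Iso.hom_inv_id_assoc, lift_snd_assoc, Category.id_comp, Category.comp_id]
    · have hu := (DynPar.geom_fibre (G := G) inferInstance (fun s => (F.hG.2.2 s).2.2.1) hP hUG hz s).2.2.2
      haveI : PreservesLimitsOfShape WalkingCospan (Over.pullback j) :=
        (Adjunction.rightAdjoint_preservesLimits (Over.mapPullbackAdj j)).preservesLimitsOfShape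
      exact hu T' (v ≫ (Over.pullback j).map aU) hT'
  refine ⟨U, hUgrp, i, him, hihc, hUs, ⟨him, hic, ?_, hUs, hUq, hfib, ?_⟩, ?_, fun e he => keyU e he⟩
  · intro X g n
    obtain ⟨n', hn'⟩ := (hmem X (g * (n ≫ i) * g⁻¹)).2 (by
      rw [MonObj.mul_comp, MonObj.mul_comp, GrpObj.inv_comp, Category.assoc, hirT, MonObj.comp_one,
        _root_.mul_one, mul_inv_cancel])
    exact ⟨n', hn'.symm⟩
  · intro U' _ u' _ hu'c hnorm hU's _ hU'fib
    haveI := hu'c; haveI := hU's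
    let j : U' ⟶ G := u' ≫ h
    haveI : IsClosedImmersion j.left := by
      show IsClosedImmersion (u' ≫ h).left
      rw [Over.comp_left]; infer_instance
    haveI : IsMonHom j := inferInstanceAs (IsMonHom (u' ≫ h))
    refine (hmem U' u').2 (hom_ext_pts _ _ fun B _ f y => ?_)
    rw [MonObj.comp_one]
    let τ := y ≫ u' ≫ rT
    have hgP : y ≫ j ∈ PSub f c₁ := hP.exists_fac_iff.1 ⟨y ≫ u' ≫ hp, by simp only [j, Category.assoc, hhp]⟩
    have hlim : lim c₁ (y ≫ j) = τ ≫ D.i := by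
      have e := L.lim_spec B f (y ≫ u' ≫ hp)
      rw [show (y ≫ u' ≫ hp) ≫ p = y ≫ j by simp only [j, Category.assoc, hhp]] at e
      rw [← e]
      simp only [τ, Category.assoc, ← htZ, reassoc_of% hrT0]
    obtain ⟨a, ha⟩ := (mem_PSub f c₁).1 hgP
    let x : pt (AddMonoidAlgebra B ℤ) (fL f ℤ) ⟶ H := xu f ℤ ≫ Red.DSmap S mu ≫ D.split.inv.hom.hom ≫ t
    have hx : x ≫ h = xu f ℤ ≫ c₁ := by simp only [x, hc₁, ← hc, Category.assoc, ht]
    obtain ⟨n', hn'⟩ := hnorm _ x (qc ℤ f ≫ y)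
    obtain ⟨a', ha'⟩ := exists_fac_qn j f a n' (by
      rw [ha, orb_apply, ← hx]
      show n' ≫ u' ≫ h = _
      rw [← Category.assoc, ← hn', MonObj.mul_comp, MonObj.mul_comp, GrpObj.inv_comp]
      simp only [j, Category.assoc])
    have hmeet : (qz f ℤ ≫ a') ≫ j = τ ≫ D.i := by
      rw [Category.assoc, ha', ← lim_eq ha, hlim]
    have h0 : qz f ℤ ≫ a' = 1 := by
      rw [← pullback.lift_fst (f := j) (g := D.i) (qz f ℤ ≫ a') τ hmeet,
        UnipTor.fst_eq_one D.i D.maximalTorus.2.2.1 j hU'fib, MonObj.comp_one]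
    rw [h0, MonObj.one_comp] at hmeet
    rw [← cancel_mono D.i, MonObj.one_comp]
    exact hmeet.symm
  · have e : (t ⊗ₘ i) ≫ μ[H] = (𝟙 D.T ⊗ₘ ψ₀.inv) ≫ φ₀.hom := by
      rw [← cancel_mono h, Category.assoc _ φ₀.hom, hφ₀,
        show (t ⊗ₘ i) ≫ μ[H] = (fst _ _ ≫ t) * (snd _ _ ≫ i) by rw [Hom.mul_def]; congr 1,
        MonObj.mul_comp, RedSub.borelMap, MonObj.comp_mul, tensorHom_fst_assoc, tensorHom_snd_assoc,
        Category.assoc, Category.assoc, ht, Category.id_comp, ← hψ₀, Iso.inv_hom_id_assoc]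
    rw [e]
    infer_instance

/-- The same over a connected base. -/
theorem exists_unipRad [ConnectedSpace S] (D : Red.SplitRed G) (h : H ⟶ G) (hH : RedSub.IsTypeR h)
    (t : D.T ⟶ H) (ht : t ≫ h = D.i) (R' : Set D.idx)
    (hR' : ∀ a : D.idx, (∃ v : Red.Ga S ⟶ H, v ≫ h = D.u a) ↔ a ∈ R') (b : D.P.Base)
    (hb : R' ⊆ RedSub.posRoots D.P b) :
    ∃ (U : Over S) (_ : GrpObj U) (u : U ⟶ H), IsMonHom u ∧ IsClosedImmersion (u ≫ h).left ∧ Smooth U.hom ∧
      Par.IsUnipotentRadical u ∧ IsIso ((t ⊗ₘ u) ≫ μ[H]) ∧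
      ∀ {m : ℕ} (e : Fin m → D.idx), RedSub.Enumerates R' e →
        ∃ ψ : RedSub.pow (Red.Ga S) m ≅ U, ψ.hom ≫ u ≫ h = RedSub.prodMap (Red.Ga S) m (fun k => D.u (e k)) :=
  exists_unipRad_pattern D h hH t ht R' (rootSet_iff D h hH t ht hR') (fun a ha => (hR' a).2 ha) b hb

end Groth.Agent.RootBase
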