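import Groth.Agent.BorelConj.Standard
import Groth.Agent.BorelConj.BSub
import Groth.Agent.RootBase.TypeRUnip
import Groth.Agent.ParStd.Levi
import Groth.Agent.RootBase.BruhatCell

/-!
# Intersections of the unipotent radicals of Borel subgroups containing the torus
-/

set_option autoImplicit false
set_option backward.isDefEq.respectTransparency false
set_option linter.style.haveILetI false
set_option maxHeartbeats 1000000
set_option synthInstance.maxHeartbeats 400000

universe u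

open CategoryTheory Limits MonoidalCategory CartesianMonoidalCategory MonObj GrpObj AlgebraicGeometry LieS
open scoped CategoryTheory.Obj

noncomputable section

namespace Groth.Agent.RootBase

open Groth.Agent.HomDiag Groth.Agent.DynPar Groth.Agent.RootSys Groth.Agent.MTBridge

/-- A product with one non-trivial factor. -/
theorem ofFn_prod_single {H : Type*} [Monoid H] : ∀ {n : ℕ} (f : Fin n → H) (l : Fin n), (∀ q, q ≠ l → f q = 1) →
    (List.ofFn f).prod = f l
  | 0, _, l, _ => l.elim0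
  | n + 1, f, l, h => by
    rw [List.ofFn_succ, List.prod_cons]
    induction l using Fin.cases with
    | zero => rw [List.prod_eq_one fun g hg => ?_, _root_.mul_one]
              obtain ⟨q, rfl⟩ := List.mem_ofFn.1 hg
              exact h _ (Fin.succ_ne_zero q)
    | succ l =>
      rw [h 0 (Fin.succ_ne_zero l).symm, _root_.one_mul]
      exact ofFn_prod_single _ l fun q hq => h _ fun e => hq (Fin.succ_injective _ e)

/-- The root groups and the radical of a Borel subgroup containing the torus, over a field. -/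
theorem exists_borel_std (k : Type u) [Field k] {G B U : Over (Spec (CommRingCat.of k))} [GrpObj G] [GrpObj B]
    [GrpObj U] (D : Red.SplitRed G) (iB : B ⟶ G) (hB : Red.IsBorel iB) (tB : D.T ⟶ B) (htB : tB ≫ iB = D.i)
    (uB : U ⟶ B) (hU : Par.IsUnipotentRadical uB) :
    ∃ b : D.P.Base, (∀ a : D.idx, (∃ v : Red.Ga _ ⟶ B, v ≫ iB = D.u a) ↔ a ∈ RedSub.posRoots D.P b) ∧
      ∀ {m : ℕ} (e : Fin m → D.idx), RedSub.Enumerates (RedSub.posRoots D.P b) e →
        ∃ ψ : RedSub.pow (Red.Ga _) m ≅ U, ψ.hom ≫ uB ≫ iB = RedSub.prodMap (Red.Ga _) m (fun l => D.u (e l)) := by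
  haveI : ConnectedSpace ↥(Spec (CommRingCat.of k)) := inferInstanceAs (ConnectedSpace (PrimeSpectrum k))
  let s₀ : ↥(Spec (CommRingCat.of k)) := IsLocalRing.closedPoint k
  obtain ⟨V, hsV, b, hb⟩ := BorelConj.exists_base_of_borel D iB hB tB htB s₀
  obtain ⟨hm, hc, hs, hgeo⟩ := id hB
  haveI := hm; haveI := hc; haveI := hs
  haveI := D.reductive.1
  haveI : IsIso V.ι := by
    haveI : Surjective V.ι := ⟨fun x => ⟨⟨x, by
      rw [Subsingleton.elim (α := PrimeSpectrum k) x s₀]; exact hsV⟩, rfl⟩⟩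
    exact (isIso_iff_isOpenImmersion_and_surjective V.ι).2 ⟨inferInstance, inferInstance⟩
  have hR : ∀ a : D.idx, (∃ v : Red.Ga _ ⟶ B, v ≫ iB = D.u a) ↔ a ∈ RedSub.posRoots D.P b := fun a => by
    refine ⟨fun ⟨v, hv⟩ => (hb a).1 ⟨(Over.pullback V.ι).map v, by rw [← Functor.map_comp, hv]⟩, fun ha => ?_⟩
    obtain ⟨v, hv⟩ := (hb a).2 ha
    let P := pullback.fst (Red.Ga (Spec (CommRingCat.of k))).hom V.ι
    haveI : IsIso P := inferInstance
    have h1 : v.left ≫ pullback.fst B.hom V.ι ≫ iB.left = P ≫ (D.u a).left := by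
      have h := congrArg (fun z => z.left ≫ pullback.fst G.hom V.ι) hv
      simpa [P] using h
    have h2 : (inv P ≫ v.left ≫ pullback.fst B.hom V.ι) ≫ iB.left = (D.u a).left := by
      rw [Category.assoc, Category.assoc, h1, IsIso.inv_hom_id_assoc]
    refine ⟨Over.homMk (inv P ≫ v.left ≫ pullback.fst B.hom V.ι) ?_, ?_⟩
    · exact (congrArg (fun z => (CategoryTheory.inv P ≫ v.left ≫ pullback.fst B.hom V.ι) ≫ z) (Over.w iB).symm).trans
        ((Category.assoc _ _ _).symm.trans ((congrArg (· ≫ G.hom) h2).trans (Over.w (D.u a))))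
    · ext1
      exact h2
  have hT : RedSub.IsTypeR iB := by
    haveI : IsAffineHom B.hom := by rw [← Over.w iB]; infer_instance
    exact (BorelConj.isBorelSub_of_geom D.reductive iB hgeo).1
  obtain ⟨U₀, _, u₀, -, -, -, hU₀, -, hψ⟩ := exists_unipRad D iB hT tB htB _ hR b subset_rfl
  obtain ⟨e₀, he₀⟩ := ParStd.exists_iso_radical hU₀ hU
  refine ⟨b, hR, fun {m} e he => ?_⟩
  obtain ⟨ψ, hψ'⟩ := hψ e he
  exact ⟨ψ ≪≫ e₀, by rw [Iso.trans_hom, Category.assoc, reassoc_of% he₀, hψ']⟩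

variable {S : Scheme.{u}} {G : Over S} [GrpObj G]
variable {M : Type} [AddCommGroup M] [Module.Free ℤ M] [Module.Finite ℤ M]
  {c : Red.DS S M ⟶ G} {idx : Type} [Fintype idx] {P : RootPairing idx ℤ M (Module.Dual ℤ M)}
  {u : idx → (Red.Ga S ⟶ G)}

omit [Module.Free ℤ M] [Module.Finite ℤ M] [Fintype idx] in
/-- A product of trivial coordinates. -/
theorem Frame.prod_one' [Fintype idx] (F : Frame c P.root u) {n : ℕ} (e : Fin n → idx) {X : Over S} :
    (List.ofFn fun l => (1 : X ⟶ Red.Ga S) ≫ u (e l)).prod = (1 : X ⟶ G) := by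
  refine List.prod_eq_one fun g hg => ?_
  obtain ⟨l, rfl⟩ := List.mem_ofFn.1 hg
  haveI := (F.hu (e l)).1
  exact MonObj.one_comp (X := X) (u (e l))

/-- Opposite unipotent products meet trivially. -/
theorem Frame.eq_one_of_gam (F : Frame c P.root u) (mu : M →+ ℤ) (hmu : ∀ a, mu (P.root a) ≠ 0) {X : Over S}
    {g : X ⟶ G} (h₁ : g ∈ Gam u {b | 0 < (-mu) (P.root b)} X) (h₂ : g ∈ Gam u {b | 0 < mu (P.root b)} X) : g = 1 := by
  haveI := F.hc.1
  obtain ⟨n, en, -, hn⟩ := exists_extend {r | 0 < (-mu) (P.root r)} (Fin.elim0 : Fin 0 → idx) (fun x => x.elim0)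
    fun k => k.elim0
  obtain ⟨m, ep, -, hp⟩ := exists_extend {r | 0 < mu (P.root r)} (Fin.elim0 : Fin 0 → idx) (fun x => x.elim0)
    fun k => k.elim0
  obtain ⟨x, hx⟩ := F.exists_pow_of_mem_Gam (-mu) _ hn h₁
  obtain ⟨y, hy⟩ := F.exists_pow_of_mem_Gam mu _ hp h₂
  haveI := (F.cell mu hmu _ _ _ _ hn hp hn hp).1
  obtain ⟨x1, -, hx1⟩ := exists_pow_prod (G := G) (fun l => u (Fin.append Fin.elim0 en l)) (X := X) fun _ => 1
  obtain ⟨y1, -, hy1⟩ := exists_pow_prod (G := G) (fun l => u (Fin.append Fin.elim0 ep l)) (X := X) fun _ => 1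
  rw [F.prod_one'] at hx1 hy1
  let C := cellC c (fun l => u (Fin.append Fin.elim0 en l)) (fun l => u (Fin.append Fin.elim0 ep l))
  haveI : Mono C := Over.mono_of_mono_left _
  have e : lift x (lift (1 : X ⟶ Red.DS S M) y1) = lift x1 (lift (1 : X ⟶ Red.DS S M) y) := by
    rw [← cancel_mono C, comp_cellC, comp_cellC, ← hx, ← hy, hx1, hy1, MonObj.one_comp, _root_.one_mul,
      _root_.mul_one, _root_.one_mul, _root_.one_mul]
  have e' := congrArg (fun z => z ≫ fst _ _) e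
  simp only [lift_fst] at e'
  rw [hx, e', hx1]

/-- No root homomorphism factors through the torus. -/
theorem Frame.not_comp_torus [Nonempty S] (F : Frame c P.root u) (mu : M →+ ℤ) (hmu : ∀ a, mu (P.root a) ≠ 0) {a : idx}
    (ha : 0 < mu (P.root a)) (w : Red.Ga S ⟶ Red.DS S M) : w ≫ c ≠ u a := fun e => by
  haveI := F.hc.1
  haveI := (F.hu a).1
  obtain ⟨n, en, -, hn⟩ := exists_extend {r | 0 < (-mu) (P.root r)} (Fin.elim0 : Fin 0 → idx) (fun x => x.elim0)
    fun k => k.elim0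
  obtain ⟨m, ep, -, hp⟩ := exists_extend {r | 0 < mu (P.root r)} (Fin.elim0 : Fin 0 → idx) (fun x => x.elim0)
    fun k => k.elim0
  haveI := (F.cell mu hmu _ _ _ _ hn hp hn hp).1
  let U := 𝟙_ (Over S)
  obtain ⟨y, hy⟩ := F.exists_pow_of_mem_Gam mu _ hp
    (mem_Gam (u := u) (show a ∈ {b | 0 < mu (P.root b)} from ha) (eOne U))
  obtain ⟨x1, -, hx1⟩ := exists_pow_prod (G := G) (fun l => u (Fin.append Fin.elim0 en l)) (X := U) fun _ => 1
  obtain ⟨y1, -, hy1⟩ := exists_pow_prod (G := G) (fun l => u (Fin.append Fin.elim0 ep l)) (X := U) fun _ => 1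
  rw [F.prod_one'] at hx1 hy1
  let C := cellC c (fun l => u (Fin.append Fin.elim0 en l)) (fun l => u (Fin.append Fin.elim0 ep l))
  haveI : Mono C := Over.mono_of_mono_left _
  have e1 : lift x1 (lift (eOne U ≫ w) y1) = lift x1 (lift (1 : U ⟶ Red.DS S M) y) := by
    rw [← cancel_mono C, comp_cellC, comp_cellC, ← hy, hx1, hy1, MonObj.one_comp, Category.assoc, e,
      _root_.one_mul, _root_.mul_one, _root_.one_mul, _root_.one_mul]
  have e2 := congrArg (fun z => z ≫ snd _ _ ≫ snd _ _) e1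
  simp only [lift_snd, lift_snd_assoc] at e2
  have h1 : eOne U ≫ u a = 1 := by rw [hy, ← e2, hy1]
  have h2 := F.prod_inj mu ![a] (Function.injective_of_subsingleton _) (fun k => by fin_cases k; simpa using ha)
    ![eOne U] ![1] (by simp [h1, MonObj.one_comp])
  have h3 : Red.gaFn (eOne U) = Red.gaFn (1 : U ⟶ Red.Ga S) := congrArg Red.gaFn (congrFun h2 0)
  rw [eOne, BGaNotS.gaFn_gaPt, BGaNotS.gaFn_one] at h3
  haveI : Nonempty U.left := ‹Nonempty S›
  haveI : Nonempty (⊤ : U.left.Opens) := ⟨⟨Classical.arbitrary _, trivial⟩⟩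
  haveI : Nontrivial Γ(U.left, ⊤) := inferInstance
  exact one_ne_zero h3

/-- Two products indexed by an appended enumeration. -/
theorem prod_addCases {n l : ℕ} (e1 : Fin n → idx) (e2 : Fin l → idx) {X : Over S} (z : Fin (n + l) → (X ⟶ Red.Ga S)) :
    (List.ofFn fun k => z k ≫ u (Fin.append e1 e2 k)).prod =
      (List.ofFn fun k => z (Fin.castAdd l k) ≫ u (e1 k)).prod *
        (List.ofFn fun k => z (Fin.natAdd n k) ≫ u (e2 k)).prod := by
  rw [List.ofFn_add, List.prod_append]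
  simp only [Fin.append_right]
  congr 3
  funext k
  exact congrArg (fun q => z (Fin.castAdd l k) ≫ u q) (Fin.append_left e1 e2 k)

/-- **The intersection of two products of positive root groups.** -/
theorem Frame.exists_inter_iso (F : Frame c P.root u) {U U' V : Over S} {i : U ⟶ G} {i' : U' ⟶ G} [Mono i] [Mono i']
    {p : V ⟶ U} {p' : V ⟶ U'} (hV : IsPullback p p' i i') (mu mu' : M →+ ℤ) (hmu' : ∀ a, mu' (P.root a) ≠ 0)
    (hU : ∀ {m : ℕ} (e : Fin m → idx), RedSub.Enumerates {a | 0 < mu (P.root a)} e →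
      ∃ ψ : RedSub.pow (Red.Ga S) m ≅ U, ψ.hom ≫ i = RedSub.prodMap (Red.Ga S) m (fun l => u (e l)))
    (hU' : ∀ {m : ℕ} (e : Fin m → idx), RedSub.Enumerates {a | 0 < mu' (P.root a)} e →
      ∃ ψ : RedSub.pow (Red.Ga S) m ≅ U', ψ.hom ≫ i' = RedSub.prodMap (Red.Ga S) m (fun l => u (e l)))
    {n : ℕ} (e : Fin n → idx) (he : RedSub.Enumerates {a | 0 < mu (P.root a) ∧ 0 < mu' (P.root a)} e) :
    ∃ ψ : RedSub.pow (Red.Ga S) n ≅ V, ψ.hom ≫ p ≫ i = RedSub.prodMap (Red.Ga S) n (fun l => u (e l)) := by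
  have hsub : ∀ k, 0 < mu (P.root (e k)) ∧ 0 < mu' (P.root (e k)) := fun k => he.2.subset ⟨k, rfl⟩
  obtain ⟨l, r, hr, hA⟩ := exists_extend {a | 0 < mu (P.root a)} e he.1 fun k => (hsub k).1
  obtain ⟨l', r', -, hA'⟩ := exists_extend {a | 0 < mu' (P.root a)} e he.1 fun k => (hsub k).2
  obtain ⟨ψ₁, hψ₁⟩ := hU _ hA
  obtain ⟨ψ₂, hψ₂⟩ := hU' _ hA'
  -- the product lies in both
  let X := RedSub.pow (Red.Ga S) n
  let pn := RedSub.prodMap (Red.Ga S) n (fun l => u (e l))
  have hpad : ∀ {q : ℕ} (r₀ : Fin q → idx), ∃ y : X ⟶ RedSub.pow (Red.Ga S) (n + q),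
      y ≫ RedSub.prodMap (Red.Ga S) (n + q) (fun l => u (Fin.append e r₀ l)) = pn := fun {q} r₀ => by
    obtain ⟨y, -, hy⟩ := exists_pow_prod (fun l => u (Fin.append e r₀ l))
      (Fin.append (fun k => proj S n k) (fun _ : Fin q => (1 : X ⟶ Red.Ga S)))
    refine ⟨y, hy.trans ?_⟩
    rw [prod_addCases]
    simp only [Fin.append_left, Fin.append_right, F.prod_one', _root_.mul_one]
    show _ = pn
    rw [← Category.id_comp pn, comp_prodMap_eq]
    simp
  obtain ⟨y₁, hy₁⟩ := hpad r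
  obtain ⟨y₂, hy₂⟩ := hpad r'
  let f : X ⟶ V := hV.lift (y₁ ≫ ψ₁.hom) (y₂ ≫ ψ₂.hom) (by
    rw [Category.assoc, hψ₁, hy₁, Category.assoc, hψ₂, hy₂])
  have hf : f ≫ p ≫ i = pn := by
    rw [hV.lift_fst_assoc, Category.assoc, hψ₁, hy₁]
  -- the coordinates
  obtain ⟨g, hg, -⟩ := exists_pow_prod (G := G) (fun l => u (e l))
    (fun k => (p ≫ ψ₁.inv) ≫ proj S (n + l) (Fin.castAdd l k))
  have hgf : g ≫ pn = p ≫ i := by
    have h0 : p ≫ i = (List.ofFn fun k => ((p ≫ ψ₁.inv) ≫ proj S (n + l) k) ≫ u (Fin.append e r k)).prod := by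
      rw [← comp_prodMap_eq, ← hψ₁, Category.assoc, Iso.inv_hom_id_assoc]
    rw [prod_addCases] at h0
    have h1 : g ≫ pn = (List.ofFn fun k => ((p ≫ ψ₁.inv) ≫ proj S (n + l) (Fin.castAdd l k)) ≫ u (e k)).prod := by
      rw [comp_prodMap_eq]; simp only [hg]
    rw [← h1] at h0
    suffices h : (List.ofFn fun k => ((p ≫ ψ₁.inv) ≫ proj S (n + l) (Fin.natAdd n k)) ≫ u (r k)).prod = 1 by
      rw [h0, h, _root_.mul_one]
    have h2 : p ≫ i ∈ Gam u {a | 0 < mu' (P.root a)} V := by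
      rw [hV.w, ← Iso.inv_hom_id_assoc ψ₂ i', hψ₂, ← Category.assoc, comp_prodMap_eq]
      exact prod_mem_Gam (fun k => hA'.2.subset ⟨k, rfl⟩) _
    refine F.eq_one_of_gam mu' hmu' (prod_mem_Gam (fun k => ?_) _) ?_
    · have h3 : 0 < mu (P.root (r k)) := hA.2.subset ⟨Fin.natAdd n k, Fin.append_right _ _ _⟩
      have h4 : ¬0 < mu' (P.root (r k)) := fun h => hr k (he.2.superset ⟨h3, h⟩)
      have h5 := hmu' (r k)
      show 0 < (-mu') (P.root (r k))
      rw [AddMonoidHom.neg_apply]; omega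
    · have h6 : g ≫ pn ∈ Gam u {a | 0 < mu' (P.root a)} V :=
        h1.symm ▸ (prod_mem_Gam (u := u) (Ψ := {a | 0 < mu' (P.root a)}) (e := e) (fun k => (hsub k).2)
          (fun k => (p ≫ ψ₁.inv) ≫ proj S (n + l) (Fin.castAdd l k)))
      rw [eq_inv_mul_of_mul_eq h0.symm]
      exact mul_mem (inv_mem h6) h2
  haveI : Mono p := ⟨fun {Z} a a' e => hV.hom_ext e (by
    rw [← cancel_mono i', Category.assoc, Category.assoc, ← hV.w, reassoc_of% e])⟩
  refine ⟨⟨f, g, ?_, ?_⟩, hf⟩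
  · have h : (f ≫ g) ≫ pn = 𝟙 X ≫ pn := by rw [Category.assoc, hgf, hf, Category.id_comp]
    rw [comp_prodMap_eq, comp_prodMap_eq] at h
    exact pow_ext fun k => congrFun (F.prod_inj mu e he.1 (fun k => (hsub k).1) _ _ h) k
  · rw [← cancel_mono (p ≫ i), Category.id_comp, Category.assoc, hf, hgf]

end Groth.Agent.RootBase
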