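import Groth.Agent.RootBase.PinSys

/-!
# Braid relations of Weyl elements
-/

set_option autoImplicit false
set_option backward.isDefEq.respectTransparency false
set_option linter.style.haveILetI false
set_option maxHeartbeats 1000000
set_option synthInstance.maxHeartbeats 400000

universe u

open CategoryTheory Limits MonoidalCategory CartesianMonoidalCategory MonObj GrpObj AlgebraicGeometry LieS
open scoped CategoryTheory.Obj

noncomputable section

namespace Groth.Agent.RootBase

open Groth.Agent.HomDiag Groth.Agent.DynPar Groth.Agent.RootSys Groth.Agent.MTBridge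

section Abstract

variable {H : Type*} [Group H] {x y : H}

theorem pow_comm_of (n : ℕ) (t : H) (h : (x * y) ^ n = t) (ht : x * t = t * x) : (y * x) ^ n = t := by
  have e : y * x = x⁻¹ * (x * y) * x := by group
  rw [e, show x⁻¹ * (x * y) * x = x⁻¹ * (x * y) * (x⁻¹)⁻¹ by rw [_root_.inv_inv], conj_pow, h, _root_.inv_inv,
    _root_.mul_assoc, ← ht, inv_mul_cancel_left]

variable (hh : x * x * (x * x) = 1) (hk : y * y * (y * y) = 1) (hc : x * x * (y * y) = y * y * (x * x))
include hh hk hc

theorem inv_eq_cube : x⁻¹ = x * (x * x) := by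
  refine inv_eq_of_mul_eq_one_right ?_
  rw [← _root_.mul_assoc]; exact hh

theorem twist (hy : y * (x * x) * y⁻¹ = x * x * (y * y)) : (x * x) * y = y * (x * x * (y * y)) := by
  calc (x * x) * y = (y * (x * x) * y⁻¹) * (y * y * (y * y)) * (y * y)⁻¹ * y := by
        rw [hy, hk]; group
    _ = y * ((x * x) * (y * y)) := by rw [hk]; group; rw [show (y : H) ^ (-2 : ℤ) = (y * y) from by
          rw [show (y : H) ^ (-2 : ℤ) = (y * y)⁻¹ by group]; exact inv_eq_of_mul_eq_one_right hk]; group

theorem braid_three (hy : y * (x * x) * y⁻¹ = x * x * (y * y)) (e : x * y * x⁻¹ = y * x⁻¹ * y⁻¹) :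
    (x * y) ^ 3 = 1 := by
  have hx := inv_eq_cube hh hk hc
  have hy' : y⁻¹ = y * (y * y) := inv_eq_cube hk hh hc.symm
  have tw := twist hh hk hc hy
  have br : x * y * x = y * x * y := by
    calc x * y * x = (x * y * x⁻¹) * (x * x) := by group
      _ = y * (x * (x * x)) * (y * (y * y)) * (x * x) := by rw [e, ← hx, ← hy']
      _ = y * x * ((x * x) * y) * (y * y) * (x * x) := by group
      _ = y * x * (y * (x * x * (y * y))) * (y * y) * (x * x) := by rw [tw]
      _ = y * x * y * ((x * x) * (y * y * (y * y)) * (x * x)) := by group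
      _ = y * x * y := by rw [hk, _root_.mul_one, hh, _root_.mul_one]
  calc (x * y) ^ 3 = (x * y * x) * (y * x * y) := by simp only [pow_succ, pow_zero, _root_.one_mul, _root_.mul_assoc]
    _ = (x * y * x) * (x * y * x) := by rw [br]
    _ = x * y * ((x * x) * y) * x := by group
    _ = x * y * (y * (x * x * (y * y))) * x := by rw [tw]
    _ = x * ((y * y * (x * x)) * (y * y)) * x := by group
    _ = x * ((x * x) * (y * y * (y * y))) * x := by rw [← hc]; group
    _ = x * x * (x * x) := by rw [hk]; group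
    _ = 1 := hh

theorem braid_four (hy : y * (x * x) * y⁻¹ = x * x) (hx : x * (y * y) * x⁻¹ = y * y * (x * x))
    (e : y * (x * y * x⁻¹) = (x * y * x⁻¹) * y) : (x * y) ^ 4 = x * x ∧ (y * x) ^ 4 = x * x := by
  have hxi := inv_eq_cube hh hk hc
  have hyc : x * x * y = y * (x * x) := (mul_inv_eq_iff_eq_mul.1 hy).symm
  have tw := twist hk hh hc.symm hx
  have sq : (y * x) * (y * x) = (x * y) * (x * y) := by
    refine mul_right_cancel (b := x * x) ?_
    calc (y * x) * (y * x) * (x * x) = y * (x * y * (x * (x * x))) := by group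
      _ = (x * y * (x * (x * x))) * y := by rw [← hxi]; exact e
      _ = x * y * x * ((x * x) * y) := by group
      _ = x * y * x * (y * (x * x)) := by rw [hyc]
      _ = _ := by group
  have main : (x * y) ^ 4 = x * x := by
    calc (x * y) ^ 4 = ((x * y) * (x * y)) * ((x * y) * (x * y)) := by simp only [pow_succ, pow_zero, _root_.one_mul, _root_.mul_assoc]
      _ = ((x * y) * (x * y)) * ((y * x) * (y * x)) := by rw [sq]
      _ = x * y * x * ((y * y) * x) * y * x := by group
      _ = x * y * x * (x * (y * y * (x * x))) * y * x := by rw [tw]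
      _ = x * y * ((x * x) * (y * y) * (x * x)) * y * x := by group
      _ = x * y * ((y * y) * ((x * x) * (x * x))) * y * x := by rw [hc]; group
      _ = x * (y * y * (y * y)) * x := by rw [hh]; group
      _ = x * x := by rw [hk, _root_.mul_one]
  exact ⟨main, pow_comm_of 4 _ main (by group)⟩

theorem braid_six (hy : y * (x * x) * y⁻¹ = x * x * (y * y)) (hx : x * (y * y) * x⁻¹ = y * y * (x * x))
    (e : y * (x * y * x * (x * y)⁻¹) = (x * y * x * (x * y)⁻¹) * y) : (x * y) ^ 6 = 1 := by
  have hxi := inv_eq_cube hh hk hc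
  have hyi : y⁻¹ = y * (y * y) := inv_eq_cube hk hh hc.symm
  have tx := twist hh hk hc hy
  have ty := twist hk hh hc.symm hx
  have cube : (y * x) * (y * x) * (y * x) = (x * y) * (x * y) * (x * y) := by
    refine mul_right_cancel (b := y * y) ?_
    have L : y * (x * y * x * (x * y)⁻¹) = (y * x) * (y * x) * (y * x) * (y * y) := by
      calc y * (x * y * x * (x * y)⁻¹) = y * x * y * x * y⁻¹ * x⁻¹ := by group
        _ = y * x * y * x * y * ((y * y) * x) * (x * x) := by rw [hxi, hyi]; group
        _ = y * x * y * x * y * (x * (y * y * (x * x))) * (x * x) := by rw [ty]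
        _ = (y * x) * (y * x) * (y * x) * ((y * y) * ((x * x) * (x * x))) := by group
        _ = _ := by rw [hh, _root_.mul_one]
    have R : (x * y * x * (x * y)⁻¹) * y = (x * y) * (x * y) * (x * y) * (y * y) := by
      calc (x * y * x * (x * y)⁻¹) * y = x * y * x * y⁻¹ * x⁻¹ * y := by group
        _ = x * y * x * y * ((y * y) * x) * ((x * x) * y) := by rw [hxi, hyi]; group
        _ = x * y * x * y * (x * (y * y * (x * x))) * ((x * x) * y) := by rw [ty]
        _ = x * y * x * y * x * ((y * y) * ((x * x) * (x * x))) * y := by group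
        _ = _ := by rw [hh, _root_.mul_one]; group
    rw [← L, e, R]
  calc (x * y) ^ 6 = ((x * y) * (x * y) * (x * y)) * ((x * y) * (x * y) * (x * y)) := by simp only [pow_succ, pow_zero, _root_.one_mul, _root_.mul_assoc]
    _ = ((x * y) * (x * y) * (x * y)) * ((y * x) * (y * x) * (y * x)) := by rw [cube]
    _ = x * y * x * y * x * ((y * y) * x) * y * x * y * x := by group
    _ = x * y * x * y * x * (x * (y * y * (x * x))) * y * x * y * x := by rw [ty]
    _ = x * y * x * y * ((x * x) * (y * y) * (x * x)) * y * x * y * x := by group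
    _ = x * y * x * y * ((y * y) * ((x * x) * (x * x))) * y * x * y * x := by rw [hc]; group
    _ = x * y * x * (y * y * (y * y)) * x * y * x := by rw [hh]; group
    _ = x * y * ((x * x) * y) * x := by rw [hk]; group
    _ = x * y * (y * (x * x * (y * y))) * x := by rw [tx]
    _ = x * ((y * y * (x * x)) * (y * y)) * x := by group
    _ = x * ((x * x) * (y * y * (y * y))) * x := by rw [← hc]; group
    _ = x * x * (x * x) := by rw [hk]; group
    _ = 1 := hh

end Abstract

variable {S : Scheme.{u}} {G : Over S} [GrpObj G] {M : Type} [AddCommGroup M] {c : Red.DS S M ⟶ G} {idx : Type}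
  {P : RootPairing idx ℤ M (Module.Dual ℤ M)} {u : idx → (Red.Ga S ⟶ G)}

theorem par_add (p q : ℤ) : (par (p + q) : Γ(S, ⊤)) = par p * par q := by
  by_cases hp : Even p <;> by_cases hq : Even q <;> simp [par, Int.even_add, hp, hq]

theorem par_mul_right (p q : ℤ) : (par (p * q) : Γ(S, ⊤)) = if Even q then 1 else par p := by
  simp only [par, Int.even_mul]; split_ifs <;> first | rfl | tauto

theorem cpt_mul [IsMonHom c] (f g : M →+ ℤ) : cpt c f * cpt c g = cpt c (f + g) := by
  have h : ((gmNeg : 𝟙_ (Over S) ⟶ Red.Gm S) ≫ Red.DSmap S f) * (gmNeg ≫ Red.DSmap S g) =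
      gmNeg ≫ Red.DSmap S (f + g) := ch_ext fun m => by
    obtain ⟨m, rfl⟩ : ∃ n : M, Multiplicative.ofAdd n = m := ⟨m.toAdd, rfl⟩
    rw [ch_mul, ch_gmNeg_DSmap, ch_gmNeg_DSmap, ch_gmNeg_DSmap, AddMonoidHom.add_apply, par_add]
  simp only [cpt]
  rw [← Category.assoc, ← Category.assoc, ← MonObj.mul_comp, h, Category.assoc]

theorem cpt_sq [IsMonHom c] (f : M →+ ℤ) : cpt c f * cpt c f = 1 := by
  have h := cpt_mul (c := c) f f
  rw [h, cpt, ← Category.assoc, show (gmNeg : 𝟙_ (Over S) ⟶ Red.Gm S) ≫ Red.DSmap S (f + f) = 1 from ch_ext fun m => by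
    obtain ⟨m, rfl⟩ : ∃ n : M, Multiplicative.ofAdd n = m := ⟨m.toAdd, rfl⟩
    rw [ch_gmNeg_DSmap, ch_one, AddMonoidHom.add_apply, par_add, par_mul_self], MonObj.one_comp]

namespace IsWeyl

variable {a a' : idx} {N : 𝟙_ (Over S) ⟶ G}

/-- A Weyl element on the values at `-1`. -/
theorem cj_cpt (W : IsWeyl c P u a a' N) (f : M →+ ℤ) :
    cj N (cpt c f) = if Even (f (P.root a)) then cpt c f else cpt c f * (N * N) := by
  haveI := W.hc
  have h := W.torus (𝟙_ (Over S)) (gmNeg ≫ Red.DSmap S f)
  simp only [cpt, Category.assoc] at h ⊢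
  rw [h, W.sq]
  have key : refl (P.root a) (P.coroot a).toAddMonoidHom ((gmNeg : 𝟙_ (Over S) ⟶ Red.Gm S) ≫ Red.DSmap S f) =
      gmNeg ≫ Red.DSmap S (if Even (f (P.root a)) then f else f + (P.coroot a).toAddMonoidHom) := ch_ext fun m => by
    obtain ⟨m, rfl⟩ : ∃ n : M, Multiplicative.ofAdd n = m := ⟨m.toAdd, rfl⟩
    rw [ch_refl, ch_gmNeg_DSmap, ch_gmNeg_DSmap, map_sub, map_zsmul, smul_eq_mul]
    by_cases h : Even (f (P.root a))
    · rw [if_pos h]; simp only [par, Int.even_sub, Int.even_mul, h, or_true, iff_true]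
    · rw [if_neg h]; simp only [par, Int.even_sub, Int.even_mul, h, or_false, AddMonoidHom.add_apply, Int.even_add]
  rw [key]
  split_ifs
  · rw [Category.assoc]
  · rw [show gmNeg ≫ Red.DSmap S f ≫ c = cpt c f from rfl, cpt_mul, cpt]; simp only [Category.assoc]

theorem sq_facts {b b' : idx} {K : 𝟙_ (Over S) ⟶ G} (W : IsWeyl c P u a a' N) (W' : IsWeyl c P u b b' K) :
    N * N * (N * N) = 1 ∧ K * K * (K * K) = 1 ∧ N * N * (K * K) = K * K * (N * N) ∧
      (K * (N * N) * K⁻¹ = if Even (P.coroot a (P.root b)) then N * N else N * N * (K * K)) ∧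
      (N * (K * K) * N⁻¹ = if Even (P.coroot b (P.root a)) then K * K else K * K * (N * N)) := by
  haveI := W.hc
  refine ⟨by rw [W.sq, cpt_sq], by rw [W'.sq, cpt_sq], by rw [W.sq, W'.sq, cpt_mul, cpt_mul, add_comm], ?_, ?_⟩
  · have h := W'.cj_cpt (P.coroot a).toAddMonoidHom
    rwa [cj_unit, ← W.sq] at h
  · have h := W.cj_cpt (P.coroot b).toAddMonoidHom
    rwa [cj_unit, ← W'.sq] at h

/-- The conjugate of a Weyl element. -/
theorem cj_self (W : IsWeyl c P u a a' N) (g : 𝟙_ (Over S) ⟶ G) :
    cj g N = cj g (eOne _ ≫ u a) * cj g (eC _ (-1) ≫ u a') * cj g (eOne _ ≫ u a) := by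
  conv_lhs => rw [W.eq]
  rw [cj_mul, cj_mul]

/-- A Weyl element commutes with what commutes with its two root groups. -/
theorem commute_of (W : IsWeyl c P u a a' N) (g : 𝟙_ (Over S) ⟶ G)
    (h : ∀ y : 𝟙_ (Over S) ⟶ Red.Ga S, (y ≫ u a) * g = g * (y ≫ u a) ∧ (y ≫ u a') * g = g * (y ≫ u a')) :
    N * g = g * N := by
  rw [W.eq]
  exact (((show Commute (eOne _ ≫ u a) g from (h _).1).mul_left (h _).2).mul_left (h _).1).eq

end IsWeyl

end Groth.Agent.RootBase
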