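import Groth.Agent.RootBase.Closed

/-!
# Ideals of closed sets of positive roots
-/

set_option autoImplicit false
set_option backward.isDefEq.respectTransparency false
set_option linter.style.haveILetI false
set_option maxHeartbeats 1000000
set_option synthInstance.maxHeartbeats 400000

universe u

open CategoryTheory Limits MonoidalCategory CartesianMonoidalCategory MonObj GrpObj AlgebraicGeometry
open scoped CategoryTheory.Obj

noncomputable section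

namespace Groth.Agent.RootBase

open Groth.Agent.HomDiag Groth.Agent.DynPar Groth.Agent.RootSys

variable {S : Scheme.{u}} {G : Over S} [GrpObj G] {M : Type} [AddCommGroup M] [Module.Free ℤ M] [Module.Finite ℤ M]
  {c : Red.DS S M ⟶ G} {idx : Type} [Fintype idx] {P : RootPairing idx ℤ M (Module.Dual ℤ M)}
  {u : idx → (Red.Ga S ⟶ G)}

/-- The positive combinations of a root of `Ψ` and a root of `J` lie in `J'`. -/
def IsIdealIn (P : RootPairing idx ℤ M (Module.Dual ℤ M)) (Ψ J J' : Set idx) : Prop :=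
  ∀ a ∈ Ψ, ∀ b ∈ J, ∀ (d : idx) (p q : ℕ), 1 ≤ p → 1 ≤ q →
    P.root d = (p : ℤ) • P.root a + (q : ℤ) • P.root b → d ∈ J'

variable [Nonempty S] (F : Frame c P.root u)
include F

theorem Frame.word_mem_ideal {Ψ J J' : Set idx} (hd : ∀ i ∈ Ψ, opp P i ∉ Ψ) (hI : IsIdealIn P Ψ J J')
    {a b : idx} (ha : a ∈ Ψ) (hb : b ∈ J) (hbΨ : b ∈ Ψ) {X : Over S} (x y : X ⟶ Red.Ga S) :
    word (u a) (u b) x y ∈ Gam u J' X := by
  haveI := (F.hu a).1
  haveI := (F.hu b).1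
  by_cases hab : a = b
  · subst hab
    have h : (x ≫ u a) * (y ≫ u a) = (y ≫ u a) * (x ≫ u a) := by
      rw [← MonObj.mul_comp, ← MonObj.mul_comp,
        show x * y = y * x from BGaNotS.gaPt_ext (by rw [BGaNotS.gaFn_mul, BGaNotS.gaFn_mul, add_comm])]
    rw [word, h, mul_inv_cancel_right, inv_mul_cancel]
    exact one_mem _
  have hli : ∀ x y : ℤ, x • P.root a + y • P.root b = 0 → x = 0 ∧ y = 0 := by
    intro p q hpq
    by_contra hne
    have hq : q ≠ 0 := fun h => by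
      rw [h, zero_smul, add_zero] at hpq
      exact hne ⟨(smul_eq_zero.1 hpq).resolve_right (P.ne_zero a), h⟩
    rcases F.dep (a := a) (b := b) (-p) q hq
      (show q • P.root b = (-p) • P.root a by rw [neg_smul]; exact eq_neg_of_add_eq_zero_right hpq) with h | h
    · exact hab (P.root.injective h).symm
    · exact hd a ha (by rwa [show opp P a = b from P.root.injective (by rw [root_opp, h])])
  obtain ⟨n, e, i, j, C, h⟩ := F.exists_formula hli
  rw [h.eq X x y (fun k => BGaNotS.gaPt (X.hom.appTop (C k) * Red.gaFn x ^ i k * Red.gaFn y ^ j k))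
    fun k => BGaNotS.gaFn_gaPt _]
  exact prod_mem_Gam (fun k => hI a ha b hb _ (i k) (j k) (h.hij k).1 (h.hij k).2.1 (h.hij k).2.2) _

/-- An ideal of roots gives a normal subgroup of points. -/
theorem Frame.conj_mem_ideal {Ψ J : Set idx} (hd : ∀ i ∈ Ψ, opp P i ∉ Ψ) (hJ : J ⊆ Ψ) (hI : IsIdealIn P Ψ J J)
    {X : Over S} {g h : X ⟶ G} (hg : g ∈ Gam u Ψ X)
    (hh : h ∈ Gam u (J) X) : g * h * g⁻¹ ∈ Gam u (J) X := by
  suffices H : ∀ (a : idx), a ∈ Ψ → ∀ (x : X ⟶ Red.Ga S), ∀ h ∈ Gam u (J) X,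
      (x ≫ u a) * h * (x ≫ u a)⁻¹ ∈ Gam u (J) X by
    refine Subgroup.closure_induction
      (p := fun g _ => ∀ h ∈ Gam u (J) X, g * h * g⁻¹ ∈ Gam u (J) X ∧
        g⁻¹ * h * g ∈ Gam u (J) X) ?_ ?_ ?_ ?_ hg h hh |>.1
    · rintro _ ⟨a, ha, x, rfl⟩ h hh
      haveI := (F.hu a).1
      refine ⟨H a ha x h hh, ?_⟩
      have := H a ha x⁻¹ h hh
      rwa [GrpObj.inv_comp, _root_.inv_inv] at this
    · intro h hh
      exact ⟨by simpa using hh, by simpa using hh⟩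
    · intro g g' _ _ hg hg' h hh
      constructor
      · have := (hg _ (hg' h hh).1).1
        rwa [show g * g' * h * (g * g')⁻¹ = g * (g' * h * g'⁻¹) * g⁻¹ by group]
      · have := (hg' _ (hg h hh).2).2
        rwa [show (g * g')⁻¹ * h * (g * g') = g'⁻¹ * (g⁻¹ * h * g) * g' by group]
    · intro g _ hg h hh
      exact ⟨by rw [_root_.inv_inv]; exact (hg h hh).2, by rw [_root_.inv_inv]; exact (hg h hh).1⟩
  intro a ha x h hh
  induction hh using Subgroup.closure_induction with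
  | mem h hh =>
    obtain ⟨b, hb, y, rfl⟩ := hh
    rw [show (x ≫ u a) * (y ≫ u b) * (x ≫ u a)⁻¹ = (y ≫ u b) * word (u a) (u b) x y by
      rw [word, mul_inv_cancel_left]]
    exact mul_mem (mem_Gam hb _) (F.word_mem_ideal hd hI ha hb (hJ hb) x y)
  | one => rw [_root_.mul_one, mul_inv_cancel]; exact one_mem _
  | mul g g' _ _ hg hg' =>
    rw [show (x ≫ u a) * (g * g') * (x ≫ u a)⁻¹ =
      ((x ≫ u a) * g * (x ≫ u a)⁻¹) * ((x ≫ u a) * g' * (x ≫ u a)⁻¹) by group]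
    exact mul_mem hg hg'
  | inv g _ hg =>
    rw [show (x ≫ u a) * g⁻¹ * (x ≫ u a)⁻¹ = ((x ≫ u a) * g * (x ≫ u a)⁻¹)⁻¹ by group]
    exact inv_mem hg

/-- An ideal is central modulo a smaller one. -/
theorem Frame.comm_mem_ideal {Ψ J J' : Set idx} (hd : ∀ i ∈ Ψ, opp P i ∉ Ψ) (hJ : J ⊆ Ψ) (hJ' : J' ⊆ Ψ)
    (hI : IsIdealIn P Ψ J J') (hI' : IsIdealIn P Ψ J' J') {X : Over S} {g h : X ⟶ G} (hg : g ∈ Gam u Ψ X)
    (hh : h ∈ Gam u (J) X) : h⁻¹ * g * h * g⁻¹ ∈ Gam u (J') X := by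
  have hN : ∀ {k n : X ⟶ G}, k ∈ Gam u Ψ X → n ∈ Gam u (J') X →
      k * n * k⁻¹ ∈ Gam u (J') X := fun hk hn => F.conj_mem_ideal hd hJ' hI' hk hn
  suffices H : ∀ (a : idx), a ∈ Ψ → ∀ (x : X ⟶ Red.Ga S), ∀ h ∈ Gam u (J) X,
      h⁻¹ * (x ≫ u a) * h * (x ≫ u a)⁻¹ ∈ Gam u (J') X by
    induction hg using Subgroup.closure_induction with
    | mem g hg => obtain ⟨a, ha, x, rfl⟩ := hg; exact H a ha x h hh
    | one => rw [_root_.mul_one, inv_mul_cancel, inv_one, _root_.mul_one]; exact one_mem _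
    | mul g g' hgm _ hg hg' =>
      rw [show h⁻¹ * (g * g') * h * (g * g')⁻¹ =
        (h⁻¹ * g * h * g⁻¹) * (g * (h⁻¹ * g' * h * g'⁻¹) * g⁻¹) by group]
      exact mul_mem hg (hN hgm hg')
    | inv g hgm hg =>
      have := hN (inv_mem hgm) (inv_mem hg)
      rwa [show h⁻¹ * g⁻¹ * h * g⁻¹⁻¹ = g⁻¹ * (h⁻¹ * g * h * g⁻¹)⁻¹ * g⁻¹⁻¹ by group]
  intro a ha x h hh
  have hsub : Gam u (J) X ≤ Gam u Ψ X := Gam_mono hJ X
  induction hh using Subgroup.closure_induction with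
  | mem h hh =>
    obtain ⟨b, hb, y, rfl⟩ := hh
    rw [_root_.mul_assoc, _root_.mul_assoc, ← _root_.mul_assoc (x ≫ u a)]
    show word (u a) (u b) x y ∈ _
    exact F.word_mem_ideal hd hI ha hb (hJ hb) x y
  | one => rw [inv_one, _root_.one_mul, _root_.mul_one, mul_inv_cancel]; exact one_mem _
  | mul g g' hgm hgm' hg hg' =>
    rw [show (g * g')⁻¹ * (x ≫ u a) * (g * g') * (x ≫ u a)⁻¹ =
      (g'⁻¹ * (g⁻¹ * (x ≫ u a) * g * (x ≫ u a)⁻¹) * g'⁻¹⁻¹) * (g'⁻¹ * (x ≫ u a) * g' * (x ≫ u a)⁻¹) by group]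
    exact mul_mem (hN (inv_mem (hsub hgm')) hg) hg'
  | inv g hgm hg =>
    have := hN (hsub hgm) (inv_mem hg)
    rwa [show g⁻¹⁻¹ * (x ≫ u a) * g⁻¹ * (x ≫ u a)⁻¹ = g * (g⁻¹ * (x ≫ u a) * g * (x ≫ u a)⁻¹)⁻¹ * g⁻¹ by group]

end Groth.Agent.RootBase
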