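import Groth.Agent.RootBase.TypeRMain

/-!
# Root groups outside a subgroup meet it trivially
-/

set_option autoImplicit false
set_option backward.isDefEq.respectTransparency false
set_option linter.style.haveILetI false
set_option maxHeartbeats 1000000
set_option synthInstance.maxHeartbeats 400000

universe u

open CategoryTheory Limits MonoidalCategory CartesianMonoidalCategory MonObj GrpObj AlgebraicGeometry
open scoped CategoryTheory.Obj

noncomputable section

namespace Groth.Agent.RootBase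

open Groth.Agent.HomDiag Groth.Agent.DynPar Groth.Agent.RootSys Groth.Agent.MTBridge

variable {S : Scheme.{u}}

/-- A coordinate of a smooth scheme vanishing at the geometric points of a fibre vanishes on the fibre. -/
theorem map_eq_one_of_pts {K : Over S} [Smooth K.hom] (q : K ⟶ Red.Ga S) (s : S)
    (hq : ∀ k : GP s ⟶ K, k ≫ q = 1) : (Over.pullback (Red.geomPt s)).map q = 1 := by
  let τ := Red.geomPt s
  let L := AlgebraicClosure (S.residueField s)
  haveI : Smooth (Red.bc τ K).hom := inferInstanceAs (Smooth (pullback.snd K.hom τ))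
  haveI : IsReduced (Red.bc τ K).left := SmoothRed.isReduced_of_smooth_scheme (Red.bc τ K).hom
  haveI := smooth_Ga S
  haveI : LocallyOfFiniteType (Red.bc τ (Red.Ga S)).hom :=
    inferInstanceAs (LocallyOfFiniteType (pullback.snd (Red.Ga S).hom τ))
  haveI : IsAffine Red.GaZ.left := isAffine_Spec _
  haveI : IsAffineHom (Red.Ga S).hom :=
    MorphismProperty.pullback_snd (P := @IsAffineHom) Red.GaZ.hom _ (isAffineHom_of_isAffine _)
  haveI : IsSeparated (Red.bc τ (Red.Ga S)).hom :=
    inferInstanceAs (IsSeparated (pullback.snd (Red.Ga S).hom τ))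
  haveI : LocallyOfFiniteType (((Over.pullback τ).map q).left ≫ (Red.bc τ (Red.Ga S)).hom) := by
    rw [Over.w ((Over.pullback τ).map q)]
    infer_instance
  refine Over.OverMorphism.ext (ext_of_apply_eq (Red.bc τ (Red.Ga S)).hom Set.univ isClosed_univ.isLocallyClosed
    dense_univ (fun z _ hz => ?_) ((Over.w _).trans (Over.w _).symm))
  let p : 𝟙_ (Over (Spec (CommRingCat.of L))) ⟶ Red.bc τ K :=
    Over.homMk (pointOfClosedPoint (Red.bc τ K).hom z hz) (pointOfClosedPoint_comp _ _ _)
  have h2 : p ≫ (Over.pullback τ).map q = p ≫ 1 := by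
    rw [MonObj.comp_one, ← show toBC τ (fromBC τ p) = p from Equiv.apply_symm_apply _ _, ← toBC_comp, hq, toBC_one']
  have h3 := congrArg (fun f => f.left (IsLocalRing.closedPoint L)) h2
  simp only [Over.comp_left, Scheme.Hom.comp_apply] at h3
  rwa [show p.left (IsLocalRing.closedPoint L) = z from pointOfClosedPoint_apply _ _ hz _] at h3

variable {G H : Over S} [GrpObj G] [GrpObj H] {M : Type} [AddCommGroup M] [Module.Free ℤ M] [Module.Finite ℤ M]
  {c : Red.DS S M ⟶ G} {idx : Type} [Fintype idx] {root : idx → M} {u : idx → (Red.Ga S ⟶ G)} {h : H ⟶ G}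
  [IsMonHom h] [IsImmersion h.left] [Smooth H.hom] {cH : Red.DS S M ⟶ H} [IsMonHom cH]

set_option maxHeartbeats 2000000 in
/-- **A root group in no fibre of the subgroup meets it only in the unit.** -/
theorem Frame.eq_one_of_notInFib (F : Frame c root u) (hopp : ∀ a, ∃ a', root a' = -root a)
    (hconn : RedSub.HasConnectedFibres H) (hcH : cH ≫ h = c)
    (hC : ∀ a, (∀ s : S, InFib h (u a) s) ∨ ∀ s : S, ¬ InFib h (u a) s) {a : idx}
    (ha : ∀ s : S, ¬ InFib h (u a) s) {X : Over S} (x : X ⟶ Red.Ga S) (g : X ⟶ H)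
    (hg : x ≫ u a = g ≫ h) : x = 1 := by
  rcases isEmpty_or_nonempty S with hS | hS
  · haveI : IsEmpty X.left := ⟨fun o => hS.false (X.hom o)⟩
    exact Over.OverMorphism.ext ((isInitialOfIsEmpty (X := X.left)).hom_ext _ _)
  obtain ⟨a', hopp'⟩ := hopp a
  obtain ⟨K, hK, wK, yc, tc, xc, hw, huni, hmono⟩ := F.exists_planeCell hcH hopp'
  haveI := hK
  haveI : ∀ b, IsMonHom (u b) := fun b => (F.hu b).1
  haveI := F.hc.1
  haveI := smooth_Ga S
  haveI : Smooth (Red.DS S M).hom := MTImage.smooth_torus F.hc.2.2.1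
  obtain ⟨k₀, -, -, -, hk₀⟩ := huni X g 1 1 x (by
    rw [← hg, MonObj.one_comp, MonObj.one_comp, _root_.one_mul, _root_.one_mul])
  suffices hxc : xc = 1 by rw [← hk₀, hxc, MonObj.comp_one]
  have hxs : ∀ (s : S) (k : GP s ⟶ K), k ≫ xc = 1 := fun s k =>
    F.coord_fibre hconn hcH hopp' (ha s) (g := k ≫ wK) (y := k ≫ yc) (t := k ≫ tc) (by
      rw [Category.assoc, hw, MonObj.comp_mul, MonObj.comp_mul]; simp only [Category.assoc])
  have hbc : ∀ (q : K ⟶ Red.Ga S) (s : S), (∀ k : GP s ⟶ K, k ≫ q = 1) →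
      ∀ b : (Over.map (Red.geomPt s)).obj (Red.bc (Red.geomPt s) K) ⟶ K, b ≫ q = 1 := fun q s hq b => by
    apply ((Over.mapPullbackAdj (Red.geomPt s)).homEquiv _ _).injective
    show toBC _ _ = toBC _ _
    rw [toBC_comp, map_eq_one_of_pts q s hq, MonObj.comp_one, toBC_one']
  rcases hC a' with ha' | ha'
  · obtain ⟨v, hv⟩ := F.fac_of_const hopp hconn hcH hC ha'
    obtain ⟨σ, -, e1, e2, e3⟩ := huni (Red.Ga S ⊗ Red.DS S M) ((fst _ _ ≫ v) * (snd _ _ ≫ cH)) (fst _ _) (snd _ _) 1
      (by rw [MonObj.mul_comp, Category.assoc, Category.assoc, hv, hcH, MonObj.one_comp, _root_.mul_one])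
    haveI : Smooth (Red.Ga S ⊗ Red.DS S M).hom := by
      show Smooth (pullback.fst (Red.Ga S).hom (Red.DS S M).hom ≫ (Red.Ga S).hom)
      infer_instance
    haveI : IsIso σ := by
      refine ParNorm.isIso_of_geomPts σ fun s => isIso_map_of_pts _ _ (fun b => ?_) fun k k' hk => ?_
      · refine ⟨lift (b ≫ yc) (b ≫ tc), hmono _ _ b (by rw [Category.assoc, e1, lift_fst])
          (by rw [Category.assoc, e2, lift_snd]) ?_⟩
        rw [Category.assoc, e3, MonObj.comp_one, hbc xc s (hxs s) b]
      · refine CartesianMonoidalCategory.hom_ext _ _ ?_ ?_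
        · simpa only [Category.assoc, e1] using congrArg (fun f => f ≫ yc) hk
        · simpa only [Category.assoc, e2] using congrArg (fun f => f ≫ tc) hk
    rw [← cancel_epi σ, e3, MonObj.comp_one]
  · obtain ⟨σ, -, e1, e2, e3⟩ := huni (Red.DS S M) cH 1 (𝟙 _) 1
      (by rw [hcH, MonObj.one_comp, MonObj.one_comp, Category.id_comp, _root_.one_mul, _root_.mul_one])
    have hys : ∀ (s : S) (k : GP s ⟶ K), k ≫ yc = 1 := fun s k => by
      by_contra hne
      refine ha' s ⟨k ≫ yc, (k ≫ wK) * ((k ≫ tc) ≫ cH)⁻¹, ?_, hne⟩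
      rw [MonObj.mul_comp, GrpObj.inv_comp, Category.assoc _ cH h, hcH, Category.assoc _ wK h, hw, MonObj.comp_mul,
        MonObj.comp_mul, ← Category.assoc k xc, hxs s k, MonObj.one_comp, _root_.mul_one]
      simp only [Category.assoc]
      group
    haveI : IsIso σ := by
      refine ParNorm.isIso_of_geomPts σ fun s => isIso_map_of_pts _ _ (fun b => ?_) fun k k' hk => ?_
      · refine ⟨b ≫ tc, hmono _ _ b ?_ (by rw [Category.assoc, e2, Category.comp_id]) ?_⟩
        · rw [Category.assoc, e1, MonObj.comp_one, hbc yc s (hys s) b]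
        · rw [Category.assoc, e3, MonObj.comp_one, hbc xc s (hxs s) b]
      · simpa only [Category.assoc, e2, Category.comp_id] using congrArg (fun f => f ≫ tc) hk
    rw [← cancel_epi σ, e3, MonObj.comp_one]

end Groth.Agent.RootBase
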