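import Groth.Agent.RootBase.TypeRIncl
import Groth.Agent.RootBase.TypeRTriv
import Groth.Agent.RootBase.BigCell

/-!
# Subgroups of type (R) containing the torus of a splitting
-/

set_option autoImplicit false
set_option backward.isDefEq.respectTransparency false
set_option linter.style.haveILetI false
set_option maxHeartbeats 1000000
set_option synthInstance.maxHeartbeats 400000

universe u

open CategoryTheory Limits MonoidalCategory CartesianMonoidalCategory MonObj GrpObj AlgebraicGeometry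
open scoped CategoryTheory.Obj

noncomputable section

namespace Groth.Agent.RootBase

open Groth.Agent.HomDiag Groth.Agent.DynPar Groth.Agent.RootSys Groth.Agent.MTBridge

variable {S : Scheme.{u}} {G H : Over S} [GrpObj G] [GrpObj H]

/-- Every root of a splitting has an opposite. -/
theorem exists_opp (D : Red.SplitRed G) :
    letI := D.acgM
    ∀ a, ∃ a', D.P.root a' = -D.P.root a := by
  letI := D.acgM
  exact fun a => ⟨D.P.reflectionPerm a a, by rw [D.P.root_reflectionPerm, D.P.reflection_apply_self]⟩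

/-- A lift of a homomorphism to a subgroup is one. -/
theorem torus_in_sub {A : Over S} {_ : GrpObj A} {c : A ⟶ G} {cH : A ⟶ H} (h : H ⟶ G) [IsMonHom h] [IsImmersion h.left]
    (hc : IsMonHom c) (h1 : cH ≫ h = c) : IsMonHom cH ∧ cH ≫ h = c := by
  haveI : Mono h := Over.mono_of_mono_left h
  haveI := hc
  exact ⟨MTSplit.isMonHom_of_comp_mono cH h c h1, h1⟩

/-- The torus of a splitting inside a subgroup. -/
theorem cH_hcH (D : Red.SplitRed G) (h : H ⟶ G) [IsMonHom h] [IsImmersion h.left]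
    (t : D.T ⟶ H) (ht : t ≫ h = D.i) :
    letI := D.grpT
    letI := D.acgM
    IsMonHom (D.split.inv.hom.hom ≫ t) ∧ (D.split.inv.hom.hom ≫ t) ≫ h = D.split.inv.hom.hom ≫ D.i := by
  letI := D.grpT
  letI := D.acgM
  letI := D.fintypeIdx
  letI := D.finiteM
  letI := D.freeM
  haveI : Mono h := Over.mono_of_mono_left h
  haveI := D.maximalTorus.1
  haveI : IsMonHom t := MTSplit.isMonHom_of_comp_mono t h D.i ht
  haveI := D.split.inv.hom.isMonHom_hom
  refine ⟨inferInstance, ?_⟩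
  rw [Category.assoc, ht]

/-- **Over a connected base a root group lies in the subgroup as soon as it does in one fibre.** -/
theorem fac_of_inFib_split [PreconnectedSpace S] (D : Red.SplitRed G) (h : H ⟶ G) (hH : RedSub.IsTypeR h)
    (t : D.T ⟶ H) (ht : t ≫ h = D.i) {a : D.idx} {s : S} (hs : InFib h (D.u a) s) :
    ∃ v, v ≫ h = D.u a := by
  letI := D.grpT
  letI := D.acgM
  letI := D.fintypeIdx
  letI := D.finiteM
  letI := D.freeM
  obtain ⟨⟨i1, i2⟩, i3, -, hconn, -⟩ := hH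
  haveI := i1; haveI := i2; haveI := i3
  have F := frame_of_splitRed D
  obtain ⟨i4, hcH⟩ := cH_hcH D h t ht
  haveI := i4
  have hC := F.const_of_connected (exists_opp D) hconn hcH
  exact F.fac_of_const (exists_opp D) hconn hcH hC ((hC a).resolve_right fun h0 => h0 s hs)

/-- A root group in the subgroup meets it in every fibre. -/
theorem inFib_of_fac_split (D : Red.SplitRed G) (h : H ⟶ G) {a : D.idx} (ha : ∃ v, v ≫ h = D.u a) (s : S) :
    InFib h (D.u a) s := by
  letI := D.grpT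
  letI := D.acgM
  letI := D.fintypeIdx
  letI := D.finiteM
  letI := D.freeM
  exact (frame_of_splitRed D).inFib_of_fac ha s

/-- The root set of a subgroup over a connected base describes all fibres. -/
theorem rootSet_iff [ConnectedSpace S] (D : Red.SplitRed G) (h : H ⟶ G) (hH : RedSub.IsTypeR h) (t : D.T ⟶ H)
    (ht : t ≫ h = D.i) {R' : Set D.idx} (hR' : ∀ a : D.idx, (∃ v : Red.Ga S ⟶ H, v ≫ h = D.u a) ↔ a ∈ R')
    (a : D.idx) (s : S) : InFib h (D.u a) s ↔ a ∈ R' :=
  ⟨fun hs => (hR' a).1 (fac_of_inFib_split D h hH t ht hs), fun ha => inFib_of_fac_split D h ((hR' a).2 ha) s⟩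

/-- **Inclusion of subgroups of type (R) from the fibres of the root groups.** -/
theorem exists_le_split (D : Red.SplitRed G) (h : H ⟶ G) (hH : RedSub.IsTypeR h) (t : D.T ⟶ H) (ht : t ≫ h = D.i)
    {H'' : Over S} [GrpObj H''] (h'' : H'' ⟶ G) (hH'' : RedSub.IsTypeR h'') (t'' : D.T ⟶ H'')
    (ht'' : t'' ≫ h'' = D.i) (hle : ∀ a (s : S), InFib h (D.u a) s → InFib h'' (D.u a) s) :
    ∃ f : H ⟶ H'', f ≫ h'' = h := by
  letI := D.grpT
  letI := D.acgM
  letI := D.fintypeIdx
  letI := D.finiteM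
  letI := D.freeM
  obtain ⟨⟨i1, i2⟩, i3, -, hconn, -⟩ := hH
  obtain ⟨⟨j1, j2⟩, j3, -, hconn'', -⟩ := hH''
  haveI := i1; haveI := i2; haveI := i3; haveI := j1; haveI := j2; haveI := j3
  obtain ⟨i4, hcH⟩ := cH_hcH D h t ht
  obtain ⟨j4, hc''⟩ := cH_hcH D h'' t'' ht''
  haveI := i4; haveI := j4
  exact (frame_of_splitRed D).exists_le (exists_opp D) hconn hcH hconn'' hc'' hle

/-- **The cell of a subgroup of type (R).** -/
theorem exists_cell_pattern (D : Red.SplitRed G) (h : H ⟶ G) (hH : RedSub.IsTypeR h)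
    (t : D.T ⟶ H) (ht : t ≫ h = D.i) (R' : Set D.idx)
    (hrs : ∀ a (s : S), InFib h (D.u a) s ↔ a ∈ R')
    (hfac : ∀ a ∈ R', ∃ v : Red.Ga S ⟶ H, v ≫ h = D.u a) (b : D.P.Base) {n m : ℕ}
    (eneg : Fin n → D.idx) (epos : Fin m → D.idx)
    (hneg : RedSub.Enumerates (R' ∩ RedSub.negRoots D.P b) eneg)
    (hpos : RedSub.Enumerates (R' ∩ RedSub.posRoots D.P b) epos) :
    ∃ f : RedSub.pow (Red.Ga S) n ⊗ (D.T ⊗ RedSub.pow (Red.Ga S) m) ⟶ H,
      f ≫ h = RedSub.cellMap D eneg epos ∧ IsOpenImmersion f.left := by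
  letI := D.grpT
  letI := D.acgM
  letI := D.fintypeIdx
  letI := D.finiteM
  letI := D.freeM
  obtain ⟨⟨i1, i2⟩, i3, -, hconn, -⟩ := hH
  haveI := i1; haveI := i2; haveI := i3
  have F := frame_of_splitRed D
  haveI := F.hc.1
  obtain ⟨i4, hcH⟩ := cH_hcH D h t ht
  haveI := i4
  obtain ⟨mu, hmp, hmn, hmu⟩ := exists_pos_hom D.P b
  choose vn hvn using fun l => hfac _ (hneg.2.subset ⟨l, rfl⟩).1
  choose vp hvp using fun l => hfac _ (hpos.2.subset ⟨l, rfl⟩).1
  haveI hopen := F.isOpenImmersion_cell hconn hcH R' hrs mu hmu eneg epos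
    (by simpa only [hmn, Set.inter_def] using hneg) (by simpa only [hmp, Set.inter_def] using hpos) vn hvn vp hvp
  let κ : RedSub.pow (Red.Ga S) n ⊗ (D.T ⊗ RedSub.pow (Red.Ga S) m) ⟶
      RedSub.pow (Red.Ga S) n ⊗ (Red.DS S D.M ⊗ RedSub.pow (Red.Ga S) m) :=
    𝟙 _ ⊗ₘ (D.split.hom.hom.hom ⊗ₘ 𝟙 _)
  haveI : IsIso D.split.hom.hom.hom :=
    ⟨⟨D.split.inv.hom.hom, congrArg (fun f => f.hom.hom) D.split.hom_inv_id,
      congrArg (fun f => f.hom.hom) D.split.inv_hom_id⟩⟩
  haveI : IsIso κ.left := inferInstanceAs (IsIso ((Over.forget S).map κ))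
  refine ⟨κ ≫ cellC (D.split.inv.hom.hom ≫ t) vn vp, ?_, ?_⟩
  · have e : D.split.hom.hom.hom ≫ D.split.inv.hom.hom = 𝟙 _ := congrArg (fun f => f.hom.hom) D.split.hom_inv_id
    simp only [κ, cellC, RedSub.cellMap, MonObj.comp_mul, MonObj.mul_comp, Category.assoc, tensorHom_fst_assoc,
      tensorHom_snd_assoc, Category.id_comp, prodMap_comp_hom, hvn, hvp, ht, reassoc_of% e]
  · rw [Over.comp_left]
    infer_instance

/-- The same over a connected base. -/
theorem exists_cell_split [ConnectedSpace S] (D : Red.SplitRed G) (h : H ⟶ G) (hH : RedSub.IsTypeR h)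
    (t : D.T ⟶ H) (ht : t ≫ h = D.i) (R' : Set D.idx)
    (hR' : ∀ a : D.idx, (∃ v : Red.Ga S ⟶ H, v ≫ h = D.u a) ↔ a ∈ R') (b : D.P.Base) {n m : ℕ}
    (eneg : Fin n → D.idx) (epos : Fin m → D.idx)
    (hneg : RedSub.Enumerates (R' ∩ RedSub.negRoots D.P b) eneg)
    (hpos : RedSub.Enumerates (R' ∩ RedSub.posRoots D.P b) epos) :
    ∃ f : RedSub.pow (Red.Ga S) n ⊗ (D.T ⊗ RedSub.pow (Red.Ga S) m) ⟶ H,
      f ≫ h = RedSub.cellMap D eneg epos ∧ IsOpenImmersion f.left :=
  exists_cell_pattern D h hH t ht R' (rootSet_iff D h hH t ht hR') (fun a ha => (hR' a).2 ha) b eneg epos hneg hpos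

end Groth.Agent.RootBase
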