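import Groth.Agent.RootBase.TypeRUnip
import Groth.Agent.RootBase.TypeRSplit
import Groth.Agent.RootBase.Ideal
import Groth.Agent.RootBase.Comb
import Groth.Agent.RootBase.Dense

/-!
# Subgroups normalised by a subgroup of type (R)
-/

set_option autoImplicit false
set_option linter.style.haveILetI false
set_option maxHeartbeats 1000000
set_option synthInstance.maxHeartbeats 400000

universe u

open CategoryTheory MonoidalCategory CartesianMonoidalCategory MonObj GrpObj AlgebraicGeometry
open scoped CategoryTheory.Obj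

noncomputable section

namespace Groth.Agent.RootBase

section Translate

variable {S : Scheme.{u}} {G Ω : Over S} [GrpObj G]

set_option backward.isDefEq.respectTransparency false in
/-- Finitely many points of a smooth group with connected fibres are translated into an open neighbourhood
of the unit, after a flat surjective cover. -/
theorem exists_translate_open' [Smooth G.hom] [GeometricallyIrreducible G.hom] (j : Ω ⟶ G) [IsOpenImmersion j.left]
    (e : 𝟙_ (Over S) ⟶ Ω) (he : e ≫ j = 1) {X : Over S} {n : ℕ} (g : Fin n → (X ⟶ G)) :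
    ∃ (X' : Over S) (f : X' ⟶ X) (c : X' ⟶ Ω), Flat f.left ∧ Surjective f.left ∧
      LocallyOfFinitePresentation f.left ∧ ∀ k, ∃ d : X' ⟶ Ω, d ≫ j = (c ≫ j) * (f ≫ g k) := by
  haveI : Smooth (fst X G).left := inferInstanceAs (Smooth (Limits.pullback.fst X.hom G.hom))
  haveI : GeometricallyIrreducible (fst X G).left :=
    inferInstanceAs (GeometricallyIrreducible (Limits.pullback.fst X.hom G.hom))
  let V : (X ⊗ G).left.Opens := (snd X G).left ⁻¹ᵁ j.left.opensRange
  let h : Option (Fin n) → (X ⟶ G) := fun o => o.elim 1 g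
  let W : (X ⊗ G).left.Opens := ⨅ o, (RedR1.transl (h o)).left ⁻¹ᵁ V
  let X' : Over S := Over.mk (W.ι ≫ (X ⊗ G).hom)
  let w : X' ⟶ X ⊗ G := Over.homMk W.ι
  have hmem : ∀ p, p ∈ W ↔ ∀ o, (RedR1.transl (h o)).left p ∈ V := fun p => by
    rw [← SetLike.mem_coe, TopologicalSpace.Opens.coe_iInf, Set.mem_iInter]; rfl
  have hin : ∀ o, ∃ d : X' ⟶ Ω, d ≫ j = w ≫ RedR1.transl (h o) ≫ snd X G := fun o => by
    rw [exists_fac_iff_range]
    rintro _ ⟨p, rfl⟩
    exact (hmem _).1 p.2 o
  obtain ⟨c, hc⟩ := hin none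
  simp only [h, Option.elim, RedR1.transl_one, Category.id_comp] at hc
  refine ⟨X', w ≫ fst X G, c, ?_, ?_, ?_, fun k => ?_⟩
  · exact inferInstanceAs (Flat (W.ι ≫ (fst X G).left))
  · refine ⟨fun p => ?_⟩
    have key : ∃ q : (X ⊗ G).left, (fst X G).left q = p ∧ q ∈ W := by
      let F : Set (X ⊗ G).left := (fst X G).left ⁻¹' {p}
      have hF : IsPreirreducible F := by
        have e := Scheme.Hom.range_fiberι (fst X G).left p
        rw [show F = Set.range ((fst X G).left.fiberι p) from e.symm]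
        exact (IrreducibleSpace.isIrreducible_univ _).2.image _ (Scheme.Hom.continuous _).continuousOn |> fun h => by
          rwa [Set.image_univ] at h
      have hne : ∀ o, (F ∩ ((RedR1.transl (h o)).left ⁻¹' (V : Set (X ⊗ G).left))).Nonempty := fun o => by
        let q0 := (lift (𝟙 X) (1 : X ⟶ G) ≫ RedR1.transl (h o)⁻¹).left p
        have e1 : (lift (𝟙 X) (1 : X ⟶ G) ≫ RedR1.transl (h o)⁻¹) ≫ fst X G = 𝟙 X := by simp [RedR1.transl]
        have e2 : (lift (𝟙 X) (1 : X ⟶ G) ≫ RedR1.transl (h o)⁻¹) ≫ RedR1.transl (h o) ≫ snd X G = 1 := by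
          rw [Category.assoc, ← Category.assoc (RedR1.transl (h o)⁻¹), RedR1.transl_transl, inv_mul_cancel,
            RedR1.transl_one]
          simp
        refine ⟨q0, congrArg (fun f : X ⟶ X => f.left p) e1, ?_⟩
        have h1 : ∃ a : X ⟶ Ω, a ≫ j = 1 := ⟨toUnit X ≫ e, by rw [Category.assoc, he, MonObj.comp_one]⟩
        rw [exists_fac_iff_range, ← e2] at h1
        exact h1 ⟨p, rfl⟩
      classical
      have : ∀ s : Finset (Option (Fin n)),
          (F ∩ ⋂ o ∈ s, (RedR1.transl (h o)).left ⁻¹' (V : Set (X ⊗ G).left)).Nonempty := by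
        intro s
        induction s using Finset.induction with
        | empty => obtain ⟨q, hq, -⟩ := hne none; exact ⟨q, hq, by simp⟩
        | insert o s _ ih =>
          rw [Finset.set_biInter_insert]
          exact hF _ _ (((V.isOpen).preimage (Scheme.Hom.continuous _)))
            (isOpen_biInter_finset fun o _ => (V.isOpen).preimage (Scheme.Hom.continuous _)) (hne o) ih
      obtain ⟨q, hq, hq'⟩ := this Finset.univ
      exact ⟨q, hq, (hmem q).2 fun o => Set.mem_iInter₂.1 hq' o (Finset.mem_univ o)⟩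
    obtain ⟨q, hq, hqW⟩ := key
    exact ⟨⟨q, hqW⟩, hq⟩
  · exact inferInstanceAs (LocallyOfFinitePresentation (W.ι ≫ (fst X G).left))
  · obtain ⟨d, hd⟩ := hin (some k)
    exact ⟨d, by simpa [h, RedR1.transl, MonObj.comp_mul, hc] using hd⟩

end Translate

set_option backward.isDefEq.respectTransparency false

open Groth.Agent.HomDiag Groth.Agent.DynPar Groth.Agent.RootSys

/-- **A factorisation through a closed subscheme descends along a flat cover.** -/
theorem exists_fac_cover {S : Scheme.{u}} {X X' N G : Over S} (v : N ⟶ G) [IsClosedImmersion v.left] (f : X' ⟶ X)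
    [Flat f.left] [Surjective f.left] [LocallyOfFinitePresentation f.left] (g : X ⟶ G)
    (h : ∃ z, z ≫ v = f ≫ g) : ∃ z, z ≫ v = g := by
  obtain ⟨z, hz⟩ := h
  have hz' : z.left ≫ v.left = f.left ≫ g.left := congrArg (fun w => w.left) hz
  let k := Limits.pullback.fst g.left v.left
  let p := Limits.pullback.fst f.left k
  haveI : IsClosedImmersion p := MorphismProperty.pullback_fst (P := @IsClosedImmersion) _ _ inferInstance
  let s := Limits.pullback.lift (𝟙 _) (Limits.pullback.lift f.left z.left hz'.symm)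
    (show 𝟙 _ ≫ f.left = _ ≫ k by rw [Category.id_comp, Limits.pullback.lift_fst])
  have hs : s ≫ p = 𝟙 _ := Limits.pullback.lift_fst _ _ _
  haveI : IsIso p := ⟨s, by rw [← cancel_mono p, Category.assoc, hs, Category.comp_id, Category.id_comp], hs⟩
  haveI : IsIso k := MorphismProperty.of_pullback_fst_of_descendsAlong (P := MorphismProperty.isomorphisms Scheme.{u})
    (Q := (@Surjective ⊓ @Flat ⊓ @LocallyOfFinitePresentation : MorphismProperty Scheme.{u})) (f := f.left)
    ⟨⟨inferInstance, inferInstance⟩, inferInstance⟩ ‹IsIso p›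
  refine ⟨Over.homMk (inv k ≫ Limits.pullback.snd g.left v.left) ?_, Over.OverMorphism.ext ?_⟩
  · rw [← Over.w v, Category.assoc, ← Limits.pullback.condition_assoc, Over.w g, IsIso.inv_hom_id_assoc]
  · show (inv k ≫ Limits.pullback.snd g.left v.left) ≫ v.left = g.left
    rw [Category.assoc, ← Limits.pullback.condition, IsIso.inv_hom_id_assoc]

section Nrm

variable {S : Scheme.{u}} {G N : Over S} [GrpObj G] (v : N ⟶ G)

/-- Conjugation carries the points of a subscheme into it. -/
def Conj1 {X : Over S} (g : X ⟶ G) : Prop :=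
  ∀ (X' : Over S) (q : X' ⟶ X) (x : X' ⟶ N), ∃ x' : X' ⟶ N, (q ≫ g) * (x ≫ v) * (q ≫ g)⁻¹ = x' ≫ v

/-- The points normalising a subscheme. -/
def Nrm (X : Over S) : Subgroup (X ⟶ G) where
  carrier := {g | Conj1 v g ∧ Conj1 v g⁻¹}
  one_mem' := by
    have h : Conj1 v (1 : X ⟶ G) := fun X' q x => ⟨x, by simp [MonObj.comp_one]⟩
    exact ⟨h, by rwa [inv_one]⟩
  mul_mem' := by
    have h : ∀ a b : X ⟶ G, Conj1 v a → Conj1 v b → Conj1 v (a * b) := fun a b ha hb X' q x => by
      obtain ⟨y, hy⟩ := hb X' q x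
      obtain ⟨z, hz⟩ := ha X' q y
      exact ⟨z, by rw [← hz, ← hy, MonObj.comp_mul]; group⟩
    intro a b ha hb
    exact ⟨h a b ha.1 hb.1, by rw [_root_.mul_inv_rev]; exact h _ _ hb.2 ha.2⟩
  inv_mem' := fun {a} ha => ⟨ha.2, by rw [_root_.inv_inv]; exact ha.1⟩

theorem Nrm.comp {X Y : Over S} (r : Y ⟶ X) {g : X ⟶ G} (hg : g ∈ Nrm v X) : r ≫ g ∈ Nrm v Y := by
  refine ⟨fun X' q x => ?_, fun X' q x => ?_⟩
  · simpa only [Category.assoc] using hg.1 X' (q ≫ r) x
  · simpa only [GrpObj.comp_inv, Category.assoc] using hg.2 X' (q ≫ r) x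

theorem mem_Nrm_of_stable {P : ∀ {X : Over S}, (X ⟶ G) → Prop} (hP : ∀ {X Y : Over S} (q : Y ⟶ X) g, P g → P (q ≫ g))
    (hinv : ∀ {X : Over S} (g : X ⟶ G), P g → P g⁻¹)
    (h : ∀ {X : Over S} (g : X ⟶ G) (x : X ⟶ N), P g → ∃ x' : X ⟶ N, g * (x ≫ v) * g⁻¹ = x' ≫ v)
    {X : Over S} {g : X ⟶ G} (hg : P g) : g ∈ Nrm v X :=
  ⟨fun X' q x => h _ x (hP q g hg), fun X' q x => h _ x (hP q _ (hinv g hg))⟩

end Nrm

section Combo

variable {idx M N : Type*} [AddCommGroup M] [AddCommGroup N] (P : RootPairing idx ℤ M N) [Finite idx]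

/-- Positive combinations with a root stabilising a closed set stay in the set. -/
theorem combo_mem [P.IsReduced] {J : Set idx} {a b : idx}
    (hli : ∀ x y : ℤ, x • P.root a + y • P.root b = 0 → x = 0 ∧ y = 0) (hb : b ∈ J)
    (hcl : ∀ x y z : idx, x ∈ J → y ∈ J → P.root x + P.root y = P.root z → z ∈ J)
    (hmix : ∀ x z : idx, x ∈ J → P.root x + P.root a = P.root z → z ∈ J) :
    ∀ (i j : ℕ) (c : idx), 1 ≤ i → 1 ≤ j → P.root c = (i : ℤ) • P.root a + (j : ℤ) • P.root b → c ∈ J := by
  suffices h : ∀ n, ∀ (i j : ℕ) (c : idx), i + j = n → 1 ≤ i → 1 ≤ j →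
      P.root c = (i : ℤ) • P.root a + (j : ℤ) • P.root b → c ∈ J from fun i j c => h (i + j) i j c rfl
  intro n
  induction n using Nat.strong_induction_on with
  | _ n ih =>
    intro i j c hn hi hj hc
    have hmul : ∀ (q : ℕ) (d : idx), 1 ≤ q → ∀ e : idx, P.root e = (q : ℤ) • P.root d → q = 1 := by
      intro q d hq e he
      by_contra hne
      rcases RootPairing.IsReduced.eq_or_eq_neg (P := P) d e (fun h => by
          obtain ⟨-, h1⟩ := LinearIndependent.pair_iff.1 h (q : ℤ) (-1) (by rw [he]; module)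
          omega) with h | h
      · have h1 := congrArg (fun m => P.toLinearMap m (P.coroot d)) (show (((q : ℤ) - 1)) • P.root d = 0 by
          rw [sub_smul, ← he, one_smul, h, sub_self])
        simp only [_root_.map_smul, LinearMap.smul_apply, P.root_coroot_two, map_zero, LinearMap.zero_apply,
          smul_eq_mul] at h1
        omega
      · have h1 := congrArg (fun m => P.toLinearMap m (P.coroot d)) (show (((q : ℤ) + 1)) • P.root d = 0 by
          rw [add_smul, ← he, one_smul, h, add_neg_cancel])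
        simp only [_root_.map_smul, LinearMap.smul_apply, P.root_coroot_two, map_zero, LinearMap.zero_apply,
          smul_eq_mul] at h1
        omega
    have hsum : (i : ℤ) * P.pairing a c + (j : ℤ) * P.pairing b c = 2 := by
      have h2 := P.root_coroot_two c
      rw [hc] at h2
      simpa [map_add, RootPairing.root_coroot_eq_pairing, smul_eq_mul] using h2
    have step : ∀ d : idx, 0 < P.pairing d c → P.root c ≠ P.root d → ∃ e, P.root e = P.root c - P.root d := by
      intro d hd hne
      obtain ⟨e, he⟩ := P.root_sub_root_mem_of_pairingIn_pos (i := d) (j := c) (by rw [pairingIn_int]; exact hd)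
        (fun h => hne (by rw [h]))
      obtain ⟨e', he'⟩ := P.neg_mem_range_root_iff.2 ⟨e, he⟩
      exact ⟨e', by rw [he', neg_sub]⟩
    by_cases hA : 0 < P.pairing a c
    · obtain ⟨e, he⟩ := step a hA fun h => by
        obtain ⟨-, h1⟩ := hli ((i : ℤ) - 1) j (by linear_combination (norm := module) h - hc)
        omega
      have he2 : P.root e = ((i - 1 : ℕ) : ℤ) • P.root a + (j : ℤ) • P.root b := by
        rw [he, hc, Nat.cast_sub hi]; module
      refine hmix e c ?_ (by rw [he]; abel)
      by_cases hi1 : i = 1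
      · subst hi1
        have hj1 := hmul j b hj e (by simpa using he2)
        subst hj1
        rwa [show e = b from P.root.injective (by simpa using he2)]
      · exact ih (i - 1 + j) (by omega) (i - 1) j e rfl (by omega) hj he2
    · have hB : 0 < P.pairing b c := by
        by_contra hB
        nlinarith
      obtain ⟨e, he⟩ := step b hB fun h => by
        obtain ⟨h1, -⟩ := hli i ((j : ℤ) - 1) (by linear_combination (norm := module) h - hc)
        omega
      have he2 : P.root e = (i : ℤ) • P.root a + ((j - 1 : ℕ) : ℤ) • P.root b := by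
        rw [he, hc, Nat.cast_sub hj]; module
      by_cases hj1 : j = 1
      · subst hj1
        have hi1 := hmul i a hi e (by simpa using he2)
        subst hi1
        refine hmix b c hb ?_
        rw [hc, Nat.cast_one, one_smul, one_smul, add_comm]
      · exact hcl e b c (ih (i + (j - 1)) (by omega) i (j - 1) e rfl hi (by omega) he2) hb (by rw [he]; abel)

end Combo

variable {S : Scheme.{u}} {G : Over S} [GrpObj G] {M : Type} [AddCommGroup M] [Module.Free ℤ M] [Module.Finite ℤ M]
  {c : Red.DS S M ⟶ G} {idx : Type} [Fintype idx] {P : RootPairing idx ℤ M (Module.Dual ℤ M)}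
  {u : idx → (Red.Ga S ⟶ G)}

/-- A root group stabilising a closed set of roots without opposites makes it an ideal. -/
theorem Frame.isIdealIn_insert [Nonempty S] [P.IsReduced] (F : Frame c P.root u) {J : Set idx} {a : idx}
    (hcl : ∀ x y z : idx, x ∈ J → y ∈ J → P.root x + P.root y = P.root z → z ∈ J)
    (hd : ∀ i ∈ insert a J, opp P i ∉ insert a J)
    (hmix : ∀ x z : idx, x ∈ J → P.root x + P.root a = P.root z → z ∈ J) :
    IsIdealIn P (insert a J) J J := by
  intro x hx b hb d p q hp hq hpq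
  by_cases hxb : x = b
  · subst hxb
    by_contra
    have h1 : P.root d = ((p + q : ℕ) : ℤ) • P.root x := by rw [hpq, Nat.cast_add, add_smul]
    rcases F.dep (a := x) (b := d) ((p + q : ℕ) : ℤ) 1 one_ne_zero
      (show (1 : ℤ) • P.root d = ((p + q : ℕ) : ℤ) • P.root x by rw [one_smul, h1]) with h | h
    · have h2 := congrArg (fun m => P.toLinearMap m (P.coroot x)) (show (((p + q : ℕ) : ℤ) - 1) • P.root x = 0 by
        rw [sub_smul, ← h1, one_smul, h, sub_self])
      simp only [_root_.map_smul, LinearMap.smul_apply, P.root_coroot_two, map_zero, LinearMap.zero_apply,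
        smul_eq_mul] at h2
      omega
    · have h2 := congrArg (fun m => P.toLinearMap m (P.coroot x)) (show (((p + q : ℕ) : ℤ) + 1) • P.root x = 0 by
        rw [add_smul, ← h1, one_smul, h, neg_add_cancel])
      simp only [_root_.map_smul, LinearMap.smul_apply, P.root_coroot_two, map_zero, LinearMap.zero_apply,
        smul_eq_mul] at h2
      omega
  have hli : ∀ r s : ℤ, r • P.root x + s • P.root b = 0 → r = 0 ∧ s = 0 := by
    intro r s hrs
    by_contra hne
    have hs : s ≠ 0 := fun h => by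
      rw [h, zero_smul, add_zero] at hrs
      exact hne ⟨(smul_eq_zero.1 hrs).resolve_right (P.ne_zero x), h⟩
    rcases F.dep (a := x) (b := b) (-r) s hs
      (show s • P.root b = (-r) • P.root x by rw [neg_smul]; exact eq_neg_of_add_eq_zero_right hrs) with h | h
    · exact hxb (P.root.injective h).symm
    · exact hd x hx (by rw [show opp P x = b from P.root.injective (by rw [root_opp, h])]; exact Set.mem_insert_of_mem _ hb)
  refine combo_mem P hli hb hcl (fun y z hy hyz => ?_) p q d hp hq hpq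
  rcases hx with rfl | hx
  · exact hmix y z hy hyz
  · exact hcl y x z hy hx hyz

set_option maxHeartbeats 4000000 in
/-- **A closed set of positive roots is normalised by the root groups stabilising it.** -/
theorem Frame.root_mem_Nrm [Nonempty S] [P.IsReduced] (F : Frame c P.root u) {J : Set idx} {a : idx}
    (hcl : ∀ x y z : idx, x ∈ J → y ∈ J → P.root x + P.root y = P.root z → z ∈ J)
    (hd : ∀ i ∈ insert a J, opp P i ∉ insert a J)
    (hmix : ∀ x z : idx, x ∈ J → P.root x + P.root a = P.root z → z ∈ J) {N : Over S} (v : N ⟶ G)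
    (hv : ∀ (X : Over S) (g : X ⟶ G), (∃ x : X ⟶ N, x ≫ v = g) ↔ g ∈ Gam u J X) {X : Over S} (z : X ⟶ Red.Ga S) :
    z ≫ u a ∈ Nrm v X := by
  have hI := F.isIdealIn_insert hcl hd hmix
  refine mem_Nrm_of_stable v (P := fun {X} g => g ∈ Gam u (insert a J) X) (fun q g hg => comp_Gam q hg)
    (fun g hg => inv_mem hg) (fun {X} g x hg => ?_) (mem_Gam (Set.mem_insert _ _) z)
  obtain ⟨x', hx'⟩ := (hv X _).2 (F.conj_mem_ideal hd (Set.subset_insert _ _) hI hg ((hv X _).1 ⟨x, rfl⟩))
  exact ⟨x', hx'.symm⟩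

set_option maxHeartbeats 4000000 in
/-- **A subgroup of type (R) normalises what its torus and root groups normalise.** -/
theorem typeR_le_Nrm {S : Scheme.{u}} [ConnectedSpace S] {G H N : Over S} [GrpObj G] [GrpObj H] (D : Red.SplitRed G)
    (h : H ⟶ G) (hH : RedSub.IsTypeR h) (t : D.T ⟶ H) (ht : t ≫ h = D.i) (R : Set D.idx)
    (hR : ∀ a : D.idx, (∃ v : Red.Ga S ⟶ H, v ≫ h = D.u a) ↔ a ∈ R) (b : D.P.Base) (v : N ⟶ G)
    [IsClosedImmersion v.left] (htor : ∀ (X : Over S) (s : X ⟶ D.T), s ≫ D.i ∈ Nrm v X)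
    (hroot : ∀ a ∈ R, ∀ (X : Over S) (z : X ⟶ Red.Ga S), z ≫ D.u a ∈ Nrm v X) {X : Over S} (y : X ⟶ H) :
    y ≫ h ∈ Nrm v X := by
  classical
  letI := D.grpT
  letI := D.acgM
  letI := D.fintypeIdx
  letI := D.finiteM
  letI := D.freeM
  obtain ⟨⟨hm, himm⟩, hHs, -, hconn, -⟩ := id hH
  haveI := hm; haveI := himm; haveI := hHs
  haveI : Mono h := Over.mono_of_mono_left h
  haveI : ∀ a, IsMonHom (D.u a) := fun a => (D.rootHom a).1
  haveI := D.maximalTorus.1
  haveI : GeometricallyIrreducible H.hom := GrpField.geometricallyIrreducible_of_connected_fibres H hconn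
  obtain ⟨n, en, -, hen⟩ := exists_extend (R ∩ RedSub.negRoots D.P b) (Fin.elim0 : Fin 0 → D.idx)
    (fun x => x.elim0) fun x => x.elim0
  obtain ⟨m, ep, -, hep⟩ := exists_extend (R ∩ RedSub.posRoots D.P b) (Fin.elim0 : Fin 0 → D.idx)
    (fun x => x.elim0) fun x => x.elim0
  obtain ⟨j, hj, hjo⟩ := exists_cell_split D h hH t ht R hR b _ _ hen hep
  haveI := hjo
  have hcell : ∀ {X : Over S} (a : X ⟶ _), (a ≫ j) ≫ h ∈ Nrm v X := fun {X} a => by
    rw [Category.assoc, hj, RedSub.cellMap, MonObj.comp_mul, MonObj.comp_mul]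
    have hp : ∀ {k : ℕ} (e : Fin k → D.idx) (_ : ∀ l, e l ∈ R) (z : X ⟶ RedSub.pow (Red.Ga S) k),
        z ≫ RedSub.prodMap (Red.Ga S) k (fun l => D.u (e l)) ∈ Nrm v X := fun e he z => by
      rw [comp_prodMap_eq]
      refine Subgroup.list_prod_mem _ fun g hg => ?_
      obtain ⟨l, rfl⟩ := List.mem_ofFn.1 hg
      exact hroot _ (he l) X _
    refine mul_mem ?_ (mul_mem ?_ ?_)
    · rw [← Category.assoc]; exact hp _ (fun l => (hen.2.subset ⟨l, rfl⟩).1) _
    · rw [← Category.assoc, ← Category.assoc]; exact htor X _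
    · rw [← Category.assoc, ← Category.assoc]; exact hp _ (fun l => (hep.2.subset ⟨l, rfl⟩).1) _
  obtain ⟨e0, he0⟩ : ∃ e0, e0 ≫ j = (1 : 𝟙_ (Over S) ⟶ H) := by
    obtain ⟨o, ho⟩ := exists_origin (S := S) (G := G) (0 + n)
    obtain ⟨o', ho'⟩ := exists_origin (S := S) (G := G) (0 + m)
    refine ⟨lift o (lift 1 o'), ?_⟩
    rw [← cancel_mono h, Category.assoc, hj, MonObj.one_comp, RedSub.cellMap, MonObj.comp_mul, MonObj.comp_mul,
      lift_fst_assoc, lift_snd_assoc, lift_fst_assoc, lift_snd_assoc, lift_snd_assoc, MonObj.one_comp,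
      ho _ (fun l => inferInstance), ho' _ (fun l => inferInstance)]
    simp
  have key : ∀ {X : Over S} (y : X ⟶ H), Conj1 v (y ≫ h) := by
    intro X y X' q x
    obtain ⟨X'', f, cc, hf, hfs, hfl, hd⟩ := exists_translate_open' j e0 he0 ![q ≫ y]
    haveI := hf; haveI := hfs; haveI := hfl
    obtain ⟨d, hd⟩ := hd 0
    change d ≫ j = (cc ≫ j) * (f ≫ q ≫ y) at hd
    have hg : f ≫ q ≫ y ≫ h ∈ Nrm v X'' := by
      rw [show f ≫ q ≫ y ≫ h = ((cc ≫ j) ≫ h)⁻¹ * ((d ≫ j) ≫ h) by
        rw [hd, MonObj.mul_comp, inv_mul_cancel_left]; simp only [Category.assoc]]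
      exact mul_mem (inv_mem (hcell cc)) (hcell d)
    obtain ⟨x', hx'⟩ := hg.1 X'' (𝟙 _) (f ≫ x)
    rw [Category.id_comp] at hx'
    obtain ⟨z, hz⟩ := exists_fac_cover v f ((q ≫ y ≫ h) * (x ≫ v) * (q ≫ y ≫ h)⁻¹) ⟨x', by
      rw [← hx']; simp only [MonObj.comp_mul, GrpObj.comp_inv, Category.assoc]⟩
    exact ⟨z, hz.symm⟩
  refine ⟨key y, ?_⟩
  have := key y⁻¹
  rwa [GrpObj.inv_comp] at this

end Groth.Agent.RootBase
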