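import Groth.Agent.RootBase.WeylPlane
import Groth.Agent.RootSys.CoxWord
import Groth.Agent.RootSys.BaseGen
import Mathlib.GroupTheory.QuotientGroup.Basic

/-!
# Products of Weyl elements of a pinning depend only on the Weyl group element, up to signs
-/

set_option autoImplicit false
set_option backward.isDefEq.respectTransparency false
set_option linter.style.haveILetI false
set_option maxHeartbeats 1000000
set_option synthInstance.maxHeartbeats 400000

universe u

open CategoryTheory Limits MonoidalCategory CartesianMonoidalCategory MonObj GrpObj AlgebraicGeometry LieS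
open scoped CategoryTheory.Obj

noncomputable section

namespace Groth.Agent.RootBase

open Groth.Agent.HomDiag Groth.Agent.DynPar Groth.Agent.RootSys Groth.Agent.MTBridge

variable {S : Scheme.{u}} {G : Over S} [GrpObj G] {M : Type} [AddCommGroup M]
  {c : Red.DS S M ⟶ G} {idx : Type} {P : RootPairing idx ℤ M (Module.Dual ℤ M)} {u : idx → (Red.Ga S ⟶ G)}

/-- The coefficients of the roots met along an alternating word. -/
def co (k₁ k₂ : ℤ) : ℕ → ℤ × ℤ
  | 0 => (1, 0)
  | k + 1 => (-(co k₂ k₁ k).2 - (co k₂ k₁ k).1 * k₁, (co k₂ k₁ k).1)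

theorem root_altWord : ∀ (k : ℕ) (a b : idx),
    P.root (((altWord a b k).map (RootPairing.Equiv.reflection P)).prod • altLetter a b k) =
      (co (P.pairing b a) (P.pairing a b) k).1 • P.root a + (co (P.pairing b a) (P.pairing a b) k).2 • P.root b
  | 0, a, b => by simp [altWord, altLetter, co]
  | k + 1, a, b => by
    have hl : altLetter a b (k + 1) = altLetter b a k := by
      simp only [altLetter, Nat.even_add_one]; by_cases h : Even k <;> simp [h]
    rw [altWord, List.map_cons, List.prod_cons, mul_smul, hl, groot_smul, RootPairing.Equiv.reflection_smul,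
      root_altWord k b a, _root_.map_add, _root_.map_smul, _root_.map_smul, P.reflection_apply_self,
      P.reflection_apply_root]
    simp only [co]
    module

theorem step_refl (a b : idx) (x : M) (p q : ℤ) :
    RootPairing.Equiv.reflection P a • (x + p • P.root a + q • P.root b) =
      x + (-P.coroot' a x - p - q * P.pairing b a) • P.root a + q • P.root b := by
  rw [RootPairing.Equiv.reflection_smul, _root_.map_add, _root_.map_add, _root_.map_smul, _root_.map_smul,
    P.reflection_apply_self, P.reflection_apply_root, P.reflection_apply]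
  module

theorem step_refl' (a b : idx) (x : M) (p q : ℤ) :
    RootPairing.Equiv.reflection P b • (x + p • P.root a + q • P.root b) =
      x + p • P.root a + (-P.coroot' b x - q - p * P.pairing a b) • P.root b := by
  rw [show x + p • P.root a + q • P.root b = x + q • P.root b + p • P.root a by abel, step_refl]
  abel

/-- The orders of products of two reflections. -/
theorem reflection_pow {a b : idx} {k : ℤ} {m : ℕ}
    (h : (k = 0 ∧ m = 2) ∨ (k = -1 ∧ m = 3) ∨ (k = -2 ∧ m = 4) ∨ (k = -3 ∧ m = 6))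
    (hba : P.pairing b a = k) (hab : P.pairing a b = max k (-1)) :
    (RootPairing.Equiv.reflection P a * RootPairing.Equiv.reflection P b) ^ m = 1 := by
  refine gaut_ext fun x => ?_
  rw [show x = x + (0 : ℤ) • P.root a + (0 : ℤ) • P.root b by simp, one_smul]
  rcases h with ⟨rfl, rfl⟩ | ⟨rfl, rfl⟩ | ⟨rfl, rfl⟩ | ⟨rfl, rfl⟩ <;> norm_num at hab <;>
    simp only [pow_succ, pow_zero, _root_.one_mul, mul_smul, step_refl, step_refl', hba, hab] <;> module

/-- The subgroup of values of cocharacters at `-1`. -/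
def signTorus (c : Red.DS S M ⟶ G) [IsMonHom c] : Subgroup (𝟙_ (Over S) ⟶ G) where
  carrier := Set.range (cpt c)
  mul_mem' := by
    rintro _ _ ⟨f, rfl⟩ ⟨g, rfl⟩
    exact ⟨f + g, (cpt_mul f g).symm⟩
  one_mem' := ⟨0 + 0, by rw [← cpt_mul, cpt_sq]⟩
  inv_mem' := by
    rintro _ ⟨f, rfl⟩
    exact ⟨-f, (cpt_inv f).symm⟩

theorem IsWeyl.mem_normalizer [IsMonHom c] {a a' : idx} {N : 𝟙_ (Over S) ⟶ G} (W : IsWeyl c P u a a' N) :
    N ∈ Subgroup.normalizer (signTorus c : Set (𝟙_ (Over S) ⟶ G)) := by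
  have hN : N * N ∈ signTorus c := ⟨_, W.sq.symm⟩
  have hfwd : ∀ h ∈ signTorus c, N * h * N⁻¹ ∈ signTorus c := by
    rintro h ⟨f, rfl⟩
    rw [← cj_unit, W.cj_cpt]
    split_ifs
    · exact ⟨f, rfl⟩
    · exact mul_mem (show cpt c f ∈ signTorus c from ⟨f, rfl⟩) hN
  refine Subgroup.mem_normalizer_iff.2 fun h => ⟨hfwd h, fun hh => ?_⟩
  have h2 := hfwd _ hh
  rw [show h = (N * N)⁻¹ * (N * (N * h * N⁻¹) * N⁻¹) * (N * N) by group]
  exact mul_mem (mul_mem (inv_mem hN) h2) hN

variable (c) in
/-- The Weyl group as seen on points. -/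
abbrev WeylQuot [IsMonHom c] :=
  Subgroup.normalizer (signTorus c : Set (𝟙_ (Over S) ⟶ G)) ⧸
    (signTorus c).subgroupOf (Subgroup.normalizer (signTorus c : Set (𝟙_ (Over S) ⟶ G)))

variable (c) in
open scoped Classical in
/-- The class of a point. -/
def cls [IsMonHom c] (g : 𝟙_ (Over S) ⟶ G) : WeylQuot c :=
  if h : g ∈ Subgroup.normalizer (signTorus c : Set (𝟙_ (Over S) ⟶ G)) then QuotientGroup.mk ⟨g, h⟩ else 1

theorem cls_mul [IsMonHom c] {g h : 𝟙_ (Over S) ⟶ G}
    (hg : g ∈ Subgroup.normalizer (signTorus c : Set (𝟙_ (Over S) ⟶ G)))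
    (hh : h ∈ Subgroup.normalizer (signTorus c : Set (𝟙_ (Over S) ⟶ G))) :
    cls c (g * h) = cls c g * cls c h := by
  rw [cls, cls, cls, dif_pos hg, dif_pos hh, dif_pos (mul_mem hg hh), ← QuotientGroup.mk_mul]
  rfl

theorem cls_one [IsMonHom c] : cls c (1 : 𝟙_ (Over S) ⟶ G) = 1 := by
  rw [cls, dif_pos (one_mem _)]
  rfl

theorem cls_cpt [IsMonHom c] {g : 𝟙_ (Over S) ⟶ G} (hg : g ∈ signTorus c) : cls c g = 1 := by
  rw [cls]
  split_ifs with h
  · rw [QuotientGroup.eq_one_iff]; exact hg
  · rfl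

theorem exists_of_cls [IsMonHom c] {g h : 𝟙_ (Over S) ⟶ G}
    (hg : g ∈ Subgroup.normalizer (signTorus c : Set (𝟙_ (Over S) ⟶ G)))
    (hh : h ∈ Subgroup.normalizer (signTorus c : Set (𝟙_ (Over S) ⟶ G))) (e : cls c g = cls c h) :
    ∃ f, g = h * cpt c f := by
  rw [cls, cls, dif_pos hg, dif_pos hh, eq_comm, QuotientGroup.eq, Subgroup.mem_subgroupOf] at e
  obtain ⟨f, hf⟩ := e
  exact ⟨f, by rw [hf]; simp⟩

theorem cls_prod [IsMonHom c] : ∀ (l : List (𝟙_ (Over S) ⟶ G)),
    (∀ g ∈ l, g ∈ Subgroup.normalizer (signTorus c : Set (𝟙_ (Over S) ⟶ G))) →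
      l.prod ∈ Subgroup.normalizer (signTorus c : Set (𝟙_ (Over S) ⟶ G)) ∧ cls c l.prod = (l.map (cls c)).prod
  | [], _ => ⟨one_mem _, cls_one⟩
  | g :: t, h => by
    obtain ⟨h1, h2⟩ := cls_prod t fun x hx => h x (List.mem_cons_of_mem _ hx)
    have hg := h g List.mem_cons_self
    exact ⟨by rw [List.prod_cons]; exact mul_mem hg h1, by
      rw [List.prod_cons, cls_mul hg h1, List.map_cons, List.prod_cons, h2]⟩

variable [Module.Free ℤ M] [Module.Finite ℤ M] [Fintype idx] [P.IsReduced]

theorem height_combo (B : P.Base) {d a b : idx} {p q : ℤ} (h : P.root d = p • P.root a + q • P.root b) :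
    B.height d = p * B.height a + q * B.height b := by
  obtain ⟨f, -, -, hf⟩ := B.exists_root_eq_sum_int a
  obtain ⟨g, -, -, hg⟩ := B.exists_root_eq_sum_int b
  have hfg : P.root d = ∑ l ∈ B.support, (p • f + q • g) l • P.root l := by
    rw [h, hf, hg, Finset.smul_sum, Finset.smul_sum, ← Finset.sum_add_distrib]
    refine Finset.sum_congr rfl fun l _ => ?_
    simp [add_smul, mul_smul]
  rw [RootPairing.Base.height_eq_sum hfg, RootPairing.Base.height_eq_sum hf, RootPairing.Base.height_eq_sum hg,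
    Finset.mul_sum, Finset.mul_sum, ← Finset.sum_add_distrib]
  exact Finset.sum_congr rfl fun l _ => by simp

/-- The relation of two simple roots. -/
theorem pair_relation [IsMonHom c] (hcor : ∀ x y, P.coroot x (P.root y) = P.pairing y x)
    {a a' b b' : idx} {Na Nb : 𝟙_ (Over S) ⟶ G} (Wa : IsWeyl c P u a a' Na) (Wb : IsWeyl c P u b b' Nb)
    (hR : Rels P u a b Na Nb) {k : ℤ} {m : ℕ}
    (h : (k = 0 ∧ m = 2) ∨ (k = -1 ∧ m = 3) ∨ (k = -2 ∧ m = 4) ∨ (k = -3 ∧ m = 6))
    (hba : P.pairing b a = k) (hab : P.pairing a b = max k (-1)) :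
    (cls c Na * cls c Nb) ^ m = 1 ∧ (cls c Nb * cls c Na) ^ m = 1 ∧
      (RootPairing.Equiv.reflection P a * RootPairing.Equiv.reflection P b) ^ m = 1 ∧
      (RootPairing.Equiv.reflection P b * RootPairing.Equiv.reflection P a) ^ m = 1 ∧
      ∀ t < m, 0 ≤ (co (P.pairing b a) (P.pairing a b) t).1 ∧ 0 ≤ (co (P.pairing b a) (P.pairing a b) t).2 ∧
        0 ≤ (co (P.pairing a b) (P.pairing b a) t).1 ∧ 0 ≤ (co (P.pairing a b) (P.pairing b a) t).2 := by
  have na := Wa.mem_normalizer
  have nb := Wb.mem_normalizer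
  have hr := reflection_pow h hba hab
  have hsq : ∀ (x : idx), RootPairing.Equiv.reflection P x * RootPairing.Equiv.reflection P x = 1 :=
    greflection_mul_self
  have ha2 : cls c Na * cls c Na = 1 := by rw [← cls_mul na na]; exact cls_cpt ⟨_, Wa.sq.symm⟩
  obtain ⟨h1, h2, h3, h4, h5⟩ := Wa.sq_facts Wb
  rw [hcor] at h4 h5
  rw [hba] at h4
  rw [hab] at h5
  have main : (cls c Na * cls c Nb) ^ m = 1 := by
    rcases h with ⟨rfl, rfl⟩ | ⟨rfl, rfl⟩ | ⟨rfl, rfl⟩ | ⟨rfl, rfl⟩ <;> norm_num at hab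
    · have e := hR.comm hba hab
      have hb2 : cls c Nb * cls c Nb = 1 := by rw [← cls_mul nb nb]; exact cls_cpt ⟨_, Wb.sq.symm⟩
      have ec : Commute (cls c Na) (cls c Nb) := by
        rw [commute_iff_eq, ← cls_mul na nb, ← cls_mul nb na, e]
      rw [ec.mul_pow, pow_two, pow_two, ha2, hb2, _root_.one_mul]
    · rw [if_neg (by decide)] at h4
      have e := braid_three h1 h2 h3 h4 (hR.braid₁ hba hab)
      rw [← cls_mul na nb]
      have hp := cls_prod (c := c) (List.replicate 3 (Na * Nb)) fun g hg => by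
        rw [List.eq_of_mem_replicate hg]; exact mul_mem na nb
      rw [List.prod_replicate, List.map_replicate, List.prod_replicate] at hp
      rw [← hp.2, e, cls_one]
    · rw [if_pos (by decide)] at h4
      rw [if_neg (by decide)] at h5
      have e := (braid_four h1 h2 h3 h4 h5 (hR.braid₂ hba hab)).1
      rw [← cls_mul na nb]
      have hp := cls_prod (c := c) (List.replicate 4 (Na * Nb)) fun g hg => by
        rw [List.eq_of_mem_replicate hg]; exact mul_mem na nb
      rw [List.prod_replicate, List.map_replicate, List.prod_replicate] at hp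
      rw [← hp.2, e, cls_mul na na, ha2]
    · rw [if_neg (by decide)] at h4 h5
      have e := braid_six h1 h2 h3 h4 h5 (hR.braid₃ hba hab)
      rw [← cls_mul na nb]
      have hp := cls_prod (c := c) (List.replicate 6 (Na * Nb)) fun g hg => by
        rw [List.eq_of_mem_replicate hg]; exact mul_mem na nb
      rw [List.prod_replicate, List.map_replicate, List.prod_replicate] at hp
      rw [← hp.2, e, cls_one]
  refine ⟨main, pow_comm_of m 1 main (by group), hr, pow_comm_of m 1 hr (by group), fun t ht => ?_⟩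
  rw [hba, hab]
  rcases h with ⟨rfl, rfl⟩ | ⟨rfl, rfl⟩ | ⟨rfl, rfl⟩ | ⟨rfl, rfl⟩ <;> interval_cases t <;> decide

/-- Weyl elements for all simple roots. -/
structure WeylCore (c : Red.DS S M ⟶ G) (P : RootPairing idx ℤ M (Module.Dual ℤ M)) (B : P.Base)
    (u : idx → (Red.Ga S ⟶ G)) (w : idx → (𝟙_ (Over S) ⟶ G)) : Prop where
  hc : IsMonHom c
  cor : ∀ x y, P.coroot x (P.root y) = P.pairing y x
  weyl : ∀ a ∈ B.support, IsWeyl c P u a (P.reflectionPerm a a) (w a)
  rels : ∀ a ∈ B.support, ∀ b ∈ B.support, a ≠ b → Rels₂ P u a b (w a) (w b) ∧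
    Rels₂ P u (P.reflectionPerm a a) (P.reflectionPerm b b) (w a)⁻¹ (w b)⁻¹

/-- A Weyl system inside a frame. -/
structure WeylSys (c : Red.DS S M ⟶ G) (P : RootPairing idx ℤ M (Module.Dual ℤ M)) (B : P.Base)
    (u : idx → (Red.Ga S ⟶ G)) (w : idx → (𝟙_ (Over S) ⟶ G)) : Prop extends WeylCore c P B u w where
  frame : Frame c P.root u

variable {B : P.Base} {w : idx → (𝟙_ (Over S) ⟶ G)}

/-- **Words of equal product give Weyl elements equal up to the values at `-1`.** -/
theorem WeylCore.word_eq (H : WeylCore c P B u w) {l l' : List idx} (hl : ∀ x ∈ l, x ∈ B.support)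
    (hl' : ∀ x ∈ l', x ∈ B.support)
    (e : (l.map (RootPairing.Equiv.reflection P)).prod = (l'.map (RootPairing.Equiv.reflection P)).prod) :
    ∃ f, (l.map w).prod = (l'.map w).prod * cpt c f := by
  haveI := H.hc
  have hn : ∀ x ∈ B.support, w x ∈ Subgroup.normalizer (signTorus c : Set (𝟙_ (Over S) ⟶ G)) :=
    fun x hx => (H.weyl x hx).mem_normalizer
  have key := (baseReflData B).prod_map_eq (fun x => cls c (w x)) (fun i hi => by
    rw [← cls_mul (hn i hi) (hn i hi)]; exact cls_cpt ⟨_, (H.weyl i hi).sq.symm⟩)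
    (fun i hi j hj hij => by
      obtain ⟨hli, hb1, hb2⟩ := simple_pair B hi hj hij
      have step : ∀ (k : ℤ) (m : ℕ),
          (k = 0 ∧ m = 2) ∨ (k = -1 ∧ m = 3) ∨ (k = -2 ∧ m = 4) ∨ (k = -3 ∧ m = 6) →
          (P.pairing j i = k ∧ P.pairing i j = max k (-1)) ∨ (P.pairing i j = k ∧ P.pairing j i = max k (-1)) →
          ∃ m, 1 ≤ m ∧
            ((altWord i j m).map (RootPairing.Equiv.reflection P)).prod =
              ((altWord j i m).map (RootPairing.Equiv.reflection P)).prod ∧
            ((altWord i j m).map fun x => cls c (w x)).prod = ((altWord j i m).map fun x => cls c (w x)).prod ∧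
            ∀ g ∈ Subgroup.closure (RootPairing.Equiv.reflection P '' (B.support : Set idx)),
              ¬ B.IsPos (g • i) → ¬ B.IsPos (g • j) → ∀ t < m,
              ¬ B.IsPos (g • ((altWord i j t).map (RootPairing.Equiv.reflection P)).prod • altLetter i j t) := by
        intro k m h hk
        obtain ⟨e1, e2, e3⟩ : (cls c (w i) * cls c (w j)) ^ m = 1 ∧
            (RootPairing.Equiv.reflection P i * RootPairing.Equiv.reflection P j) ^ m = 1 ∧
            ∀ t < m, 0 ≤ (co (P.pairing j i) (P.pairing i j) t).1 ∧ 0 ≤ (co (P.pairing j i) (P.pairing i j) t).2 := by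
          rcases hk with ⟨k1, k2⟩ | ⟨k1, k2⟩
          · obtain ⟨a1, -, a2, -, a3⟩ := pair_relation H.cor (H.weyl i hi) (H.weyl j hj) (H.rels i hi j hj hij).1.1 h k1 k2
            exact ⟨a1, a2, fun t ht => ⟨(a3 t ht).1, (a3 t ht).2.1⟩⟩
          · obtain ⟨-, a1, -, a2, a3⟩ :=
              pair_relation H.cor (H.weyl j hj) (H.weyl i hi) (H.rels i hi j hj hij).1.2 h k1 k2
            exact ⟨a1, a2, fun t ht => ⟨(a3 t ht).2.2.1, (a3 t ht).2.2.2⟩⟩
        have hm : m = 2 ∨ m = 3 ∨ m = 4 ∨ m = 6 := by omega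
        refine ⟨m, by omega, alt_eq_of_pow _ hm (greflection_mul_self i) (greflection_mul_self j) e2,
          alt_eq_of_pow (fun x => cls c (w x)) hm ?_ ?_ e1, fun g _ hgi hgj t ht hpos => ?_⟩
        · rw [← cls_mul (hn i hi) (hn i hi)]; exact cls_cpt ⟨_, (H.weyl i hi).sq.symm⟩
        · rw [← cls_mul (hn j hj) (hn j hj)]; exact cls_cpt ⟨_, (H.weyl j hj).sq.symm⟩
        · have hh := height_combo B (d := g • ((altWord i j t).map (RootPairing.Equiv.reflection P)).prod • altLetter i j t)
            (a := g • i) (b := g • j) (p := (co (P.pairing j i) (P.pairing i j) t).1)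
            (q := (co (P.pairing j i) (P.pairing i j) t).2) (by
              rw [groot_smul, root_altWord, smul_add, smul_comm g, smul_comm g, groot_smul, groot_smul])
          obtain ⟨p0, q0⟩ := e3 t ht
          rw [RootPairing.Base.isPos_iff'] at hgi hgj
          rw [RootPairing.Base.isPos_iff] at hpos
          rw [hh] at hpos
          nlinarith
      rcases pairing_simple hli hb1 with ⟨h, h'⟩ | ⟨h, h'⟩ | ⟨h, h'⟩ | ⟨h, h'⟩ | ⟨h, h'⟩ | ⟨h, h'⟩
      · exact step 0 2 (Or.inl ⟨rfl, rfl⟩) (Or.inl ⟨h, by rw [h']; rfl⟩)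
      · exact step (-1) 3 (Or.inr (Or.inl ⟨rfl, rfl⟩)) (Or.inl ⟨h, by rw [h']; rfl⟩)
      · exact step (-2) 4 (Or.inr (Or.inr (Or.inl ⟨rfl, rfl⟩))) (Or.inl ⟨h, by rw [h']; rfl⟩)
      · exact step (-2) 4 (Or.inr (Or.inr (Or.inl ⟨rfl, rfl⟩))) (Or.inr ⟨h', by rw [h]; rfl⟩)
      · exact step (-3) 6 (Or.inr (Or.inr (Or.inr ⟨rfl, rfl⟩))) (Or.inl ⟨h, by rw [h']; rfl⟩)
      · exact step (-3) 6 (Or.inr (Or.inr (Or.inr ⟨rfl, rfl⟩))) (Or.inr ⟨h', by rw [h]; rfl⟩))
    (l := l) (l' := l') hl hl' e
  obtain ⟨p1, p2⟩ := cls_prod (c := c) (l.map w) fun g hg => by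
    obtain ⟨x, hx, rfl⟩ := List.mem_map.1 hg; exact hn x (hl x hx)
  obtain ⟨q1, q2⟩ := cls_prod (c := c) (l'.map w) fun g hg => by
    obtain ⟨x, hx, rfl⟩ := List.mem_map.1 hg; exact hn x (hl' x hx)
  refine exists_of_cls p1 q1 ?_
  rw [p2, q2, List.map_map, List.map_map]
  exact key

theorem smove_cpt {v : Red.Ga S ⟶ G} {m : M} (hv : Red.IsRootHom c (Red.chi S m) v) (f : M →+ ℤ) :
    SMove (cpt c f) v v := ⟨_, sgn_par _, fun X x => cj_cpt hv f x⟩

/-- A word splits into a word positive on two simple roots and a word in these two. -/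
theorem exists_split (B : P.Base) {a b : idx} (ha : a ∈ B.support) (hb : b ∈ B.support) :
    ∀ {l : List idx}, (∀ x ∈ l, x ∈ B.support) → ∃ t v : List idx, (∀ x ∈ t, x ∈ B.support) ∧
      (∀ x ∈ v, x = a ∨ x = b) ∧ t.length + v.length ≤ l.length ∧
      ((t ++ v).map (RootPairing.Equiv.reflection P)).prod = (l.map (RootPairing.Equiv.reflection P)).prod ∧
      B.IsPos ((t.map (RootPairing.Equiv.reflection P)).prod • a) ∧
      B.IsPos ((t.map (RootPairing.Equiv.reflection P)).prod • b) := by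
  intro l
  induction hn : l.length using Nat.strong_induction_on generalizing l with
  | h n ih =>
    intro hl
    by_cases hpos : B.IsPos ((l.map (RootPairing.Equiv.reflection P)).prod • a) ∧
        B.IsPos ((l.map (RootPairing.Equiv.reflection P)).prod • b)
    · exact ⟨l, [], hl, by simp, by simp [hn], by simp, hpos.1, hpos.2⟩
    · obtain ⟨x, hx, hx'⟩ : ∃ x, (x = a ∨ x = b) ∧ ¬ B.IsPos ((l.map (RootPairing.Equiv.reflection P)).prod • x) := by
        rcases not_and_or.1 hpos with h | h
        exacts [⟨a, Or.inl rfl, h⟩, ⟨b, Or.inr rfl, h⟩]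
      have hxs : x ∈ B.support := by rcases hx with rfl | rfl <;> assumption
      obtain ⟨l', h1, h2, h3⟩ := (baseReflData B).exists_delete hxs hl hx'
      obtain ⟨t, v, h4, h5, h6, h7, h8, h9⟩ := ih l'.length (by omega) rfl h1
      refine ⟨t, v ++ [x], h4, fun y hy => ?_, by simp only [List.length_append, List.length_singleton]; omega, ?_, h8, h9⟩
      · rcases List.mem_append.1 hy with hy | hy
        exacts [h5 y hy, List.mem_singleton.1 hy ▸ hx]
      · have e := h7
        simp only [List.map_append, List.prod_append, List.map_cons, List.map_nil, List.prod_cons, List.prod_nil,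
          _root_.mul_one] at e ⊢
        rw [← _root_.mul_assoc, e, h3, _root_.mul_assoc, greflection_mul_self, _root_.mul_one]

/-- **A product of Weyl elements carrying a simple root to a simple root respects the pinning up to sign.** -/
theorem WeylCore.smove_word (H : WeylCore c P B u w) : ∀ (l : List idx), (∀ x ∈ l, x ∈ B.support) →
    ∀ a ∈ B.support, (l.map (RootPairing.Equiv.reflection P)).prod • a ∈ B.support →
      SMove (l.map w).prod (u a) (u ((l.map (RootPairing.Equiv.reflection P)).prod • a)) := by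
  haveI := H.hc
  intro l
  induction hn : l.length using Nat.strong_induction_on generalizing l with
  | h n ih =>
    intro hl a ha ha₀
    obtain ⟨r, hr, hre, hrl⟩ := ReflData.exists_reduced (RootPairing.Equiv.reflection P) (B.support : Set idx) hl
    rcases lt_or_eq_of_le hrl with hlt | heq
    · obtain ⟨f, hf⟩ := H.word_eq hl hr.1 hre.symm
      rw [hf, ← hre]
      exact (smove_cpt (H.weyl a ha).hua f).comp (ih r.length (by omega) r rfl hr.1 a ha (by rw [hre]; exact ha₀))
    rcases eq_or_ne l [] with rfl | hne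
    · simpa using SMove.one (u a)
    have hlast := (baseReflData B).neg_last_of_minimal hl hne fun l' h1 h2 => by
      have := hr.2 l' h1 (h2.trans hre.symm); omega
    let b := l.getLast hne
    have hb : b ∈ B.support := hl _ (List.getLast_mem hne)
    have hab : a ≠ b := fun h => hlast (by
      show B.IsPos ((l.map (RootPairing.Equiv.reflection P)).prod • b)
      rw [← h]; exact RootPairing.Base.isPos_of_mem_support ha₀)
    obtain ⟨t, v, ht, hv, hlen, hp, hpa, hpb⟩ := exists_split B ha hb hl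
    have hvne : v ≠ [] := by
      rintro rfl
      rw [List.append_nil] at hp
      rw [hp] at hpb
      exact hlast hpb
    have hvlen := List.length_pos_iff.2 hvne
    obtain ⟨hli, hb1, hb2⟩ := simple_pair B ha hb hab
    obtain ⟨hR, hR'⟩ := H.rels a ha b hb hab
    obtain ⟨L, hL⟩ := exists_isPlane H.cor hR (H.weyl a ha) (H.weyl b hb) hli hb1 hR'
    have hrun : ∀ v : List idx, (∀ x ∈ v, x = a ∨ x = b) →
        ∃ g, L ((v.map (RootPairing.Equiv.reflection P)).prod • a) g ∧ SMove (v.map w).prod (u a) g := by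
      intro v
      induction v with
      | nil => intro _; exact ⟨u a, by simpa using hL.mema, by simpa using SMove.one (u a)⟩
      | cons x v ihv =>
        intro hxv
        obtain ⟨g, hg, hm⟩ := ihv fun y hy => hxv y (List.mem_cons_of_mem _ hy)
        have hstep : ∀ g', L (P.reflectionPerm x ((v.map (RootPairing.Equiv.reflection P)).prod • a)) g' →
            SMove (w x) g g' → ∃ g, L (((x :: v).map (RootPairing.Equiv.reflection P)).prod • a) g ∧
              SMove ((x :: v).map w).prod (u a) g := fun g' h1 h2 => ⟨g', by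
          rw [List.map_cons, List.prod_cons, mul_smul]; exact h1, by
          rw [List.map_cons, List.prod_cons]; exact hm.comp h2⟩
        rcases hxv x List.mem_cons_self with rfl | rfl
        · obtain ⟨g', h1, h2⟩ := hL.mova _ g hg; exact hstep g' h1 h2
        · obtain ⟨g', h1, h2⟩ := hL.movb _ g hg; exact hstep g' h1 h2
    obtain ⟨g, hg, hm⟩ := hrun v hv
    obtain ⟨p, q, hpq, hsgn⟩ := hL.combo _ g hg
    have htv : (t.map (RootPairing.Equiv.reflection P)).prod • (v.map (RootPairing.Equiv.reflection P)).prod • a =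
        (l.map (RootPairing.Equiv.reflection P)).prod • a := by
      rw [← mul_smul, ← hp, List.map_append, List.prod_append]
    have hh := height_combo B (d := (l.map (RootPairing.Equiv.reflection P)).prod • a)
      (a := (t.map (RootPairing.Equiv.reflection P)).prod • a) (b := (t.map (RootPairing.Equiv.reflection P)).prod • b)
      (p := p) (q := q) (by rw [← htv, groot_smul, hpq, smul_add, smul_comm _ p, smul_comm _ q, groot_smul, groot_smul])
    rw [RootPairing.Base.height_one_of_mem_support ha₀] at hh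
    rw [RootPairing.Base.isPos_iff] at hpa hpb
    have hpq' : (p = 1 ∧ q = 0) ∨ (p = 0 ∧ q = 1) := by
      rcases hsgn with ⟨hp0, hq0⟩ | ⟨hp0, hq0⟩
      · rcases lt_trichotomy p 1 with hp1 | hp1 | hp1
        · obtain rfl : p = 0 := by omega
          refine Or.inr ⟨rfl, ?_⟩
          rw [zero_mul, zero_add] at hh
          rcases lt_trichotomy q 1 with hq1 | hq1 | hq1
          · obtain rfl : q = 0 := by omega
            simp at hh
          · exact hq1
          · nlinarith
        · subst hp1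
          refine Or.inl ⟨rfl, ?_⟩
          by_contra hq1
          have : 1 ≤ q := by omega
          nlinarith
        · nlinarith
      · nlinarith
    obtain ⟨x, hx, hxr, hgx⟩ : ∃ x, x ∈ B.support ∧ (v.map (RootPairing.Equiv.reflection P)).prod • a = x ∧ g = u x := by
      rcases hpq' with ⟨rfl, rfl⟩ | ⟨rfl, rfl⟩
      · have e : (v.map (RootPairing.Equiv.reflection P)).prod • a = a := P.root.injective (by rw [hpq]; simp)
        rw [e] at hg
        exact ⟨a, ha, e, hL.func _ _ _ hg hL.mema⟩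
      · have e : (v.map (RootPairing.Equiv.reflection P)).prod • a = b := P.root.injective (by rw [hpq]; simp)
        rw [e] at hg
        exact ⟨b, hb, e, hL.func _ _ _ hg hL.memb⟩
    rw [hxr] at htv
    have hih := ih t.length (by omega) t rfl ht x hx (by rw [htv]; exact ha₀)
    rw [htv] at hih
    have hvs : ∀ y ∈ t ++ v, y ∈ B.support := fun y hy => by
      rcases List.mem_append.1 hy with hy | hy
      · exact ht y hy
      · rcases hv y hy with rfl | rfl <;> assumption
    obtain ⟨f, hf⟩ := H.word_eq hl hvs hp.symm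
    rw [hf, List.map_append, List.prod_append]
    exact (smove_cpt (H.weyl a ha).hua f).comp ((hgx ▸ hm).comp hih)

theorem rels_negated {a a' b b' : idx} (ha : P.root a' = -P.root a) (hb : P.root b' = -P.root b)
    (hli : ∀ x y : ℤ, x • P.root a + y • P.root b = 0 → x = 0 ∧ y = 0)
    (hbot : P.root a - P.root b ∉ Set.range P.root) :
    (∀ x y : ℤ, x • P.root a' + y • P.root b' = 0 → x = 0 ∧ y = 0) ∧ P.root b' - P.root a' ∉ Set.range P.root :=
  ⟨li_symm P (li_neg (li_symm P (li_neg hli ha)) hb), by rw [ha, hb, neg_sub_neg]; exact hbot⟩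

/-- A frame with Weyl elements is a Weyl system. -/
theorem weylSys_of_frame (F : Frame c P.root u) (hcor : ∀ x y, P.coroot x (P.root y) = P.pairing y x)
    (hW : ∀ a ∈ B.support, IsWeyl c P u a (P.reflectionPerm a a) (w a)) : WeylSys c P B u w :=
  ⟨⟨F.hc.1, hcor, hW, fun a ha b hb hab => by
    obtain ⟨hli, h1, h2⟩ := simple_pair B ha hb hab
    obtain ⟨hli', h1'⟩ := rels_negated (hW a ha).opp (hW b hb).opp hli h2
    exact ⟨rels₂_of_frame hcor F (hW a ha) (hW b hb) hli h1,
      rels₂_of_frame hcor F (hW a ha).symm (hW b hb).symm hli' h1'⟩⟩, F⟩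

omit [P.IsReduced] in
/-- Over the empty scheme everything holds. -/
theorem WeylSys.of_isEmpty [IsEmpty S] (F : Frame c P.root u) (hcor : ∀ x y, P.coroot x (P.root y) = P.pairing y x)
    (hW : ∀ a ∈ B.support, IsWeyl c P u a (P.reflectionPerm a a) (w a)) : WeylSys c P B u w := by
  have h1 : ∀ {X : Over S} (x y : X ⟶ G), x = y := fun {X} x y => by
    haveI : IsEmpty X.left := Function.isEmpty X.hom
    exact Over.OverMorphism.ext (Limits.IsInitial.hom_ext isInitialOfIsEmpty _ _)
  have h2 : ∀ a b (Na Nb : 𝟙_ (Over S) ⟶ G), Rels P u a b Na Nb := fun a b Na Nb =>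
    ⟨fun _ _ _ _ => h1 _ _, fun _ _ => h1 _ _, fun _ _ _ _ => h1 _ _, fun _ _ => h1 _ _,
      fun _ _ => ⟨fun _ _ => h1 _ _, fun _ _ => h1 _ _⟩, fun _ _ => h1 _ _,
      fun _ _ => ⟨fun _ _ => h1 _ _, fun _ _ => h1 _ _⟩, fun _ _ => h1 _ _⟩
  exact ⟨⟨F.hc.1, hcor, hW, fun a _ b _ _ => ⟨⟨h2 _ _ _ _, h2 _ _ _ _⟩, ⟨h2 _ _ _ _, h2 _ _ _ _⟩⟩⟩, F⟩

theorem prod_reflectionPerm_apply (P : RootPairing idx ℤ M (Module.Dual ℤ M)) : ∀ (l : List idx) (r : idx),
    (l.map P.reflectionPerm).prod r = (l.map (RootPairing.Equiv.reflection P)).prod • r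
  | [], r => by simp
  | x :: l, r => by
    rw [List.map_cons, List.prod_cons, List.map_cons, List.prod_cons, Equiv.Perm.mul_apply, mul_smul,
      prod_reflectionPerm_apply P l r]
    rfl

/-- The Weyl elements of a pinning. -/
theorem pinned_weylSys (D : Red.Pinning G) (e₁ : 𝟙_ (Over S) ⟶ Red.Ga S) (he₁ : Red.gaFn e₁ = 1)
    (avc : D.idx → (Red.Gm S ⟶ D.T))
    (havc : ∀ a, avc a = Red.DSmap S (D.P.coroot a).toAddMonoidHom ≫ D.split.inv.hom.hom)
    (hpair : ∀ a ∈ D.base.support, ∀ (X : Over S) (x y : X ⟶ Red.Ga S), IsUnit (1 + Red.gaFn x * Red.gaFn y) →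
        ∃ (x' y' : X ⟶ Red.Ga S) (z : X ⟶ Red.Gm S), Red.gmFn z = 1 + Red.gaFn x * Red.gaFn y ∧
          Red.gaFn x' * Red.gmFn z = Red.gaFn x ∧ Red.gaFn y' * Red.gmFn z = Red.gaFn y ∧
          (x ≫ D.u a) * (y ≫ D.u (D.P.reflectionPerm a a)) =
            (y' ≫ D.u (D.P.reflectionPerm a a)) * (z ≫ avc a ≫ D.i) * (x' ≫ D.u a))
    (w : D.idx → (𝟙_ (Over S) ⟶ G))
    (hw : ∀ a, w a = (e₁ ≫ D.u a) * (e₁ ≫ D.u (D.P.reflectionPerm a a))⁻¹ * (e₁ ≫ D.u a)) :
    letI := D.grpT
    letI := D.acgM
    letI := D.fintypeIdx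
    letI := D.finiteM
    letI := D.freeM
    WeylSys (D.split.inv.hom.hom ≫ D.i) D.P D.base D.u w := by
  letI := D.grpT
  letI := D.acgM
  letI := D.fintypeIdx
  letI := D.finiteM
  letI := D.freeM
  obtain ⟨F, hW⟩ := pinned_weyl D e₁ he₁ avc havc hpair w hw
  rcases isEmpty_or_nonempty S with hS | hS
  · exact WeylSys.of_isEmpty F (coroot_apply_root D.pairing_eq) hW
  haveI := isReduced_of_splitRed D.toSplitRed
  exact weylSys_of_frame F (coroot_apply_root D.pairing_eq) hW

end Groth.Agent.RootBase
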