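import Groth.Agent.RootBase.RankOneBruhat
import Groth.Agent.RootBase.ChevSys
import Groth.Agent.RootBase.Normal
import Groth.Agent.RootBase.WeylWord
import Groth.Agent.RootSys.PosRoots
import Groth.Agent.RootSys.BaseGen

/-!
# The Bruhat decomposition of the points of a frame with values in a field

Let `X` be an object over the base whose functions are zero or invertible and `w` elements realising the
simple reflections. Every element of the group generated by the torus and the root groups lies in a double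
coset `B n_l B` of the positive Borel group, `n_l` a product of the `w` along a word in the simple roots.
-/

set_option autoImplicit false
set_option backward.isDefEq.respectTransparency false
set_option linter.style.haveILetI false
set_option maxHeartbeats 1000000
set_option synthInstance.maxHeartbeats 400000

universe u

open CategoryTheory Limits MonoidalCategory CartesianMonoidalCategory MonObj GrpObj AlgebraicGeometry
open scoped CategoryTheory.Obj

noncomputable section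

namespace Groth.Agent.RootBase

open Groth.Agent.HomDiag Groth.Agent.DynPar

variable {S : Scheme.{u}} {G : Over S} [GrpObj G] {M : Type} [AddCommGroup M] [Module.Free ℤ M] [Module.Finite ℤ M]
  {c : Red.DS S M ⟶ G} {idx : Type} [Fintype idx] {P : RootPairing idx ℤ M (Module.Dual ℤ M)}
  {u : idx → (Red.Ga S ⟶ G)}

/-- **A root homomorphism has the image of the one of the frame with the same root.** -/
theorem Frame.rootHom_range [Nonempty S] (F : Frame c P.root u) {d : idx} {v : Red.Ga S ⟶ G}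
    (hv : Red.IsRootHom c (Red.chi S (P.root d)) v) {X : Over S} (x : X ⟶ Red.Ga S) :
    ∃ x' : X ⟶ Red.Ga S, x' ≫ u d = x ≫ v := by
  classical
  haveI := F.hG.1
  haveI := F.hG.2.1
  haveI := F.hc.1
  haveI := hv.1
  obtain ⟨k, π, -, hπd, hker⟩ := F.exists_kernel d
  obtain ⟨mu, hmu, hd⟩ := F.exists_regular_at d
  obtain ⟨m, e₀, -, he⟩ := exists_extend {b | 0 < mu (P.root b)} (Fin.elim0 : Fin 0 → idx) (fun x => x.elim0)
    fun k => k.elim0
  generalize Fin.append (Fin.elim0 : Fin 0 → idx) e₀ = e at he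
  generalize 0 + m = p at e he
  obtain ⟨U, _, uU, hU⟩ := exists_isU (G := G) (Red.DSmap S mu ≫ c)
  obtain ⟨φ, hφ⟩ := F.exists_iso_isU mu e he hU
  have F' := F.update d hv
  obtain ⟨φ', hφ'⟩ := F'.exists_iso_isU mu e he hU
  obtain ⟨l₀, hl₀⟩ := he.2.ge (show d ∈ {b | 0 < mu (P.root b)} from hd)
  obtain ⟨y', hy', hy'p⟩ := exists_pow_prod (fun l => Function.update u d v (e l))
    (fun l => if e l = d then x else (1 : X ⟶ Red.Ga S))
  have e1 : y' ≫ RedSub.prodMap (Red.Ga S) p (fun l => Function.update u d v (e l)) = x ≫ v := by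
    rw [hy'p, prod_ofFn_single _ l₀]
    · rw [if_pos hl₀, hl₀, Function.update_self]
    · intro j hj
      have hjd : e j ≠ d := fun h => hj (he.1 (h.trans hl₀.symm))
      rw [if_neg hjd, Function.update_of_ne hjd]
      haveI := (F.hu (e j)).1
      exact MonObj.one_comp _
  let y := y' ≫ φ'.hom ≫ φ.inv
  have e2 : y ≫ RedSub.prodMap (Red.Ga S) p (fun l => u (e l)) = x ≫ v := by
    rw [← e1, ← hφ, ← hφ']
    simp only [y, Category.assoc, Iso.inv_hom_id_assoc]
  obtain ⟨x', hx'⟩ := F.eq_root_pt hker mu hmu hd e he y fun X' ρ s => by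
    show (ρ ≫ y) ≫ _ * _ = _ * ((ρ ≫ y) ≫ _)
    rw [Category.assoc, e2]
    obtain ⟨z, hz, hz'⟩ := hv.2.2 X' (s ≫ Red.DSmap S π) (ρ ≫ x)
    have h1 : z = ρ ≫ x := BGaNotS.gaPt_ext (by
      rw [hz', RootIntrinsic.gmFn_chi, ch_DSmap, toAdd_ofAdd, hπd,
        show Multiplicative.ofAdd (0 : Fin k → ℤ) = 1 from rfl, map_one, _root_.one_mul])
    rw [h1, Category.assoc, Category.assoc] at hz
    exact eq_mul_inv_iff_mul_eq.1 hz
  exact ⟨x', hx'.trans e2⟩

/-- Reflection permutations commute with negation. -/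
theorem reflectionPerm_opp (a b : idx) :
    P.reflectionPerm a (P.reflectionPerm b b) = P.reflectionPerm (P.reflectionPerm a b) (P.reflectionPerm a b) :=
  P.root.injective (by
    rw [root_refl, root_opp, root_opp, root_refl, RootPairing.pairing_reflectionPerm_self_left, neg_smul, sub_neg_eq_add,
      neg_sub, sub_eq_add_neg, add_comm])

/-- The permutation of a word. -/
abbrev wperm (P : RootPairing idx ℤ M (Module.Dual ℤ M)) (l : List idx) : Equiv.Perm idx :=
  (l.map P.reflectionPerm).prod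

theorem wperm_opp : ∀ (l : List idx) (b : idx),
    wperm P l (P.reflectionPerm b b) = P.reflectionPerm (wperm P l b) (wperm P l b)
  | [], b => rfl
  | a :: l, b => by
    simp only [wperm, List.map_cons, List.prod_cons, Equiv.Perm.mul_apply]
    rw [show (l.map P.reflectionPerm).prod (P.reflectionPerm b b) =
      P.reflectionPerm (wperm P l b) (wperm P l b) from wperm_opp l b]
    exact reflectionPerm_opp _ _

/-- The product of the `w` along a word, as a point of `X`. -/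
abbrev wpt (X : Over S) (w : idx → (𝟙_ (Over S) ⟶ G)) (l : List idx) : X ⟶ G :=
  (l.map fun a => toUnit X ≫ w a).prod

theorem wpt_eq (X : Over S) (w : idx → (𝟙_ (Over S) ⟶ G)) : ∀ l : List idx,
    wpt X w l = toUnit X ≫ (l.map w).prod
  | [] => by simp [wpt, MonObj.comp_one]
  | a :: l => by
    simp only [wpt, List.map_cons, List.prod_cons, MonObj.comp_mul]
    rw [show (l.map fun a => toUnit X ≫ w a).prod = _ from wpt_eq X w l]

/-- An element moving the torus into itself and the root groups by a permutation. -/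
structure WMoves (c : Red.DS S M ⟶ G) (u : idx → (Red.Ga S ⟶ G)) {X : Over S} (g : X ⟶ G) (σ : Equiv.Perm idx) :
    Prop where
  root : ∀ b (x : X ⟶ Red.Ga S), ∃ x' : X ⟶ Red.Ga S, g * (x ≫ u b) * g⁻¹ = x' ≫ u (σ b)
  root' : ∀ b (x : X ⟶ Red.Ga S), ∃ x' : X ⟶ Red.Ga S, g⁻¹ * (x ≫ u b) * g = x' ≫ u (σ.symm b)
  torus : ∀ t : X ⟶ Red.DS S M, ∃ t' : X ⟶ Red.DS S M, g * (t ≫ c) * g⁻¹ = t' ≫ c
  torus' : ∀ t : X ⟶ Red.DS S M, ∃ t' : X ⟶ Red.DS S M, g⁻¹ * (t ≫ c) * g = t' ≫ c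

omit [Module.Free ℤ M] [Module.Finite ℤ M] [Fintype idx] in
theorem WMoves.one {X : Over S} : WMoves c u (1 : X ⟶ G) 1 :=
  ⟨fun _ x => ⟨x, by simp⟩, fun _ x => ⟨x, by rw [inv_one, _root_.one_mul, _root_.mul_one]; rfl⟩, fun t => ⟨t, by simp⟩, fun t => ⟨t, by simp⟩⟩

omit [Module.Free ℤ M] [Module.Finite ℤ M] [Fintype idx] in
theorem WMoves.mul {X : Over S} {g h : X ⟶ G} {σ τ : Equiv.Perm idx} (hg : WMoves c u g σ) (hh : WMoves c u h τ) :
    WMoves c u (g * h) (σ * τ) := by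
  refine ⟨fun b x => ?_, fun b x => ?_, fun t => ?_, fun t => ?_⟩
  · obtain ⟨x₁, e₁⟩ := hh.root b x
    obtain ⟨x₂, e₂⟩ := hg.root _ x₁
    refine ⟨x₂, ?_⟩
    rw [Equiv.Perm.mul_apply, ← e₂, ← e₁]; group
  · obtain ⟨x₁, e₁⟩ := hg.root' b x
    obtain ⟨x₂, e₂⟩ := hh.root' _ x₁
    refine ⟨x₂, ?_⟩
    rw [show (σ * τ).symm b = τ.symm (σ.symm b) from rfl, ← e₂, ← e₁]; group
  · obtain ⟨x₁, e₁⟩ := hh.torus t
    obtain ⟨x₂, e₂⟩ := hg.torus x₁
    exact ⟨x₂, by rw [← e₂, ← e₁]; group⟩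
  · obtain ⟨x₁, e₁⟩ := hg.torus' t
    obtain ⟨x₂, e₂⟩ := hh.torus' x₁
    exact ⟨x₂, by rw [← e₂, ← e₁]; group⟩

variable [Nonempty S] [P.IsReduced] (B : P.Base)

/-- Elements realising the simple reflections. -/
def Realises (c : Red.DS S M ⟶ G) (B : P.Base) (w : idx → (𝟙_ (Over S) ⟶ G)) : Prop :=
  ∀ a ∈ B.support, ∀ (X : Over S) (t : X ⟶ Red.DS S M),
    cj (w a) (t ≫ c) = refl (P.root a) (P.coroot a).toAddMonoidHom t ≫ c

variable {B} {w : idx → (𝟙_ (Over S) ⟶ G)}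

theorem Frame.wmoves (F : Frame c P.root u) (hP : P.toLinearMap = Module.Dual.eval ℤ M) (hw : Realises c B w)
    {a : idx} (ha : a ∈ B.support) (X : Over S) : WMoves c u (toUnit X ≫ w a) (P.reflectionPerm a) := by
  have h2 : (P.coroot a).toAddMonoidHom (P.root a) = 2 := by
    show P.coroot a (P.root a) = 2
    rw [coroot_apply_root hP, P.pairing_same]
  have hN := hw a ha
  have hN' : ∀ (X : Over S) (t : X ⟶ Red.DS S M),
      cj (w a)⁻¹ (t ≫ c) = refl (P.root a) (P.coroot a).toAddMonoidHom t ≫ c := fun X t => by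
    have h := hN X (refl (P.root a) (P.coroot a).toAddMonoidHom t)
    rw [refl_refl h2 t] at h
    rw [← h, cj_inv_cj]
  have key : ∀ (N : 𝟙_ (Over S) ⟶ G), (∀ (X : Over S) (t : X ⟶ Red.DS S M),
      cj N (t ≫ c) = refl (P.root a) (P.coroot a).toAddMonoidHom t ≫ c) → ∀ b (x : X ⟶ Red.Ga S),
        ∃ x' : X ⟶ Red.Ga S, cj N (x ≫ u b) = x' ≫ u (P.reflectionPerm a b) := by
    intro N hN b x
    have h := rootHom_of_refl h2 hN (F.hu b)
    have e : P.root (P.reflectionPerm a b) = P.root b - (P.coroot a).toAddMonoidHom (P.root b) • P.root a := by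
      rw [root_refl, ← coroot_apply_root hP]; rfl
    rw [← e] at h
    obtain ⟨x', hx'⟩ := F.rootHom_range h x
    exact ⟨x', by rw [hx', comp_cj]⟩
  refine ⟨fun b x => key _ hN b x, fun b x => ?_, fun t => ⟨_, hN X t⟩,
    fun t => ⟨refl (P.root a) (P.coroot a).toAddMonoidHom t, ?_⟩⟩
  · obtain ⟨x', hx'⟩ := key _ hN' b x
    refine ⟨x', ?_⟩
    rw [RootPairing.reflectionPerm_symm, ← hx', cj, GrpObj.comp_inv, _root_.inv_inv]
  · rw [← hN' X t, cj, GrpObj.comp_inv, _root_.inv_inv]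

theorem Frame.wmoves_word (F : Frame c P.root u) (hP : P.toLinearMap = Module.Dual.eval ℤ M) (hw : Realises c B w)
    (X : Over S) : ∀ l : List idx, (∀ a ∈ l, a ∈ B.support) → WMoves c u (wpt X w l) (wperm P l)
  | [], _ => WMoves.one
  | a :: l, hl => by
    simp only [wpt, wperm, List.map_cons, List.prod_cons]
    exact (F.wmoves hP hw (hl a List.mem_cons_self) X).mul
      (F.wmoves_word hP hw X l fun b hb => hl b (List.mem_cons_of_mem _ hb))

/-- The points of the positive Borel group. -/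
def BorelPts (c : Red.DS S M ⟶ G) (u : idx → (Red.Ga S ⟶ G)) (B : P.Base) (X : Over S) : Subgroup (X ⟶ G) :=
  Subgroup.closure (Set.range (fun t : X ⟶ Red.DS S M => t ≫ c) ∪
    {g | ∃ b, B.IsPos b ∧ ∃ x : X ⟶ Red.Ga S, g = x ≫ u b})

omit [Nonempty S] [P.IsReduced] in
theorem torus_mem_BorelPts {X : Over S} (t : X ⟶ Red.DS S M) : t ≫ c ∈ BorelPts c u B X :=
  Subgroup.subset_closure (Or.inl ⟨t, rfl⟩)

omit [Nonempty S] [P.IsReduced] in
theorem Gam_le_BorelPts {Ψ : Set idx} (hΨ : ∀ b ∈ Ψ, B.IsPos b) (X : Over S) :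
    Gam u Ψ X ≤ BorelPts c u B X := by
  refine (Subgroup.closure_le _).2 ?_
  rintro _ ⟨b, hb, x, rfl⟩
  exact Subgroup.subset_closure (Or.inr ⟨b, hΨ b hb, x, rfl⟩)

omit [P.IsReduced] in
/-- The torus normalises the groups of root groups. -/
theorem Frame.torus_conj_Gam (F : Frame c P.root u) {Ψ : Set idx} {X : Over S} (t : X ⟶ Red.DS S M) {v : X ⟶ G}
    (hv : v ∈ Gam u Ψ X) : (t ≫ c) * v * (t ≫ c)⁻¹ ∈ Gam u Ψ X := by
  induction hv using Subgroup.closure_induction with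
  | mem v hv =>
    obtain ⟨b, hb, x, rfl⟩ := hv
    obtain ⟨z, hz, -⟩ := (F.hu b).2.2 X t x
    rw [← hz]
    exact mem_Gam hb z
  | one => rw [_root_.mul_one, mul_inv_cancel]; exact one_mem _
  | mul g g' _ _ hg hg' =>
    rw [show (t ≫ c) * (g * g') * (t ≫ c)⁻¹ = ((t ≫ c) * g * (t ≫ c)⁻¹) * ((t ≫ c) * g' * (t ≫ c)⁻¹) by group]
    exact mul_mem hg hg'
  | inv g _ hg =>
    rw [show (t ≫ c) * g⁻¹ * (t ≫ c)⁻¹ = ((t ≫ c) * g * (t ≫ c)⁻¹)⁻¹ by group]
    exact inv_mem hg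

omit [P.IsReduced] in
/-- The torus normalises the positive root groups. -/
theorem Frame.exists_torus_unip (F : Frame c P.root u) {X : Over S} {g : X ⟶ G} (hg : g ∈ BorelPts c u B X) :
    ∃ (t : X ⟶ Red.DS S M) (v : X ⟶ G), v ∈ Gam u {b | B.IsPos b} X ∧ g = (t ≫ c) * v := by
  haveI := F.hc.1
  induction hg using Subgroup.closure_induction with
  | mem g hg =>
    rcases hg with ⟨t, rfl⟩ | ⟨b, hb, x, rfl⟩
    · exact ⟨t, 1, one_mem _, (_root_.mul_one _).symm⟩
    · exact ⟨1, _, mem_Gam (Ψ := {b | B.IsPos b}) hb x, by rw [MonObj.one_comp, _root_.one_mul]⟩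
  | one => exact ⟨1, 1, one_mem _, by rw [MonObj.one_comp, _root_.one_mul]⟩
  | mul g g' _ _ hg hg' =>
    obtain ⟨t, v, hv, rfl⟩ := hg
    obtain ⟨t', v', hv', rfl⟩ := hg'
    refine ⟨t * t', _, mul_mem (F.torus_conj_Gam t'⁻¹ hv) hv', ?_⟩
    rw [MonObj.mul_comp, GrpObj.inv_comp]; group
  | inv g _ hg =>
    obtain ⟨t, v, hv, rfl⟩ := hg
    refine ⟨t⁻¹, _, inv_mem (F.torus_conj_Gam t hv), ?_⟩
    rw [GrpObj.inv_comp]; group

/-- The positive root groups other than a simple one are normalised by it. -/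
theorem Frame.simple_conj_Gam (F : Frame c P.root u) {a : idx} (ha : a ∈ B.support) {X : Over S}
    (x : X ⟶ Red.Ga S) {v : X ⟶ G} (hv : v ∈ Gam u {b | B.IsPos b ∧ b ≠ a} X) :
    (x ≫ u a) * v * (x ≫ u a)⁻¹ ∈ Gam u {b | B.IsPos b ∧ b ≠ a} X := by
  induction hv using Subgroup.closure_induction with
  | mem v hv =>
    obtain ⟨b, ⟨hb, hba⟩, y, rfl⟩ := hv
    rw [show (x ≫ u a) * (y ≫ u b) * (x ≫ u a)⁻¹ = (y ≫ u b) * word (u a) (u b) x y by
      rw [word, mul_inv_cancel_left]]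
    refine mul_mem (mem_Gam (Ψ := {b | B.IsPos b ∧ b ≠ a}) ⟨hb, hba⟩ y) ?_
    have hli : ∀ p q : ℤ, p • P.root a + q • P.root b = 0 → p = 0 ∧ q = 0 := by
      intro p q hpq
      by_contra hne
      have hq : q ≠ 0 := fun h => by
        rw [h, zero_smul, add_zero] at hpq
        exact hne ⟨(smul_eq_zero.1 hpq).resolve_right (P.ne_zero a), h⟩
      rcases F.dep (a := a) (b := b) (-p) q hq
        (show q • P.root b = (-p) • P.root a by rw [neg_smul]; exact eq_neg_of_add_eq_zero_right hpq) with h | h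
      · exact hba (P.root.injective h)
      · have e : b = P.reflectionPerm a a := P.root.injective (by rw [h, root_opp])
        exact (RootSys.isPos_opp_iff B a).1 (e ▸ hb) (RootPairing.Base.isPos_of_mem_support ha)
    obtain ⟨n, e, i, j, C, h⟩ := F.exists_formula hli
    rw [h.eq X x y (fun k => BGaNotS.gaPt (X.hom.appTop (C k) * Red.gaFn x ^ i k * Red.gaFn y ^ j k))
      fun k => BGaNotS.gaFn_gaPt _]
    refine prod_mem_Gam (fun k => ?_) _
    obtain ⟨hi, hj, hk⟩ := h.hij k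
    refine ⟨?_, fun he => ?_⟩
    · have hh := height_combo B hk
      have h1 : 0 < B.height a := RootPairing.Base.isPos_of_mem_support ha
      have h2 : 0 < B.height b := hb
      show 0 < B.height (e k)
      rw [hh]
      positivity
    · obtain ⟨-, h0⟩ := hli ((i k : ℤ) - 1) (j k) (by
        rw [he] at hk
        linear_combination (norm := module) -hk)
      omega
  | one => rw [_root_.mul_one, mul_inv_cancel]; exact one_mem _
  | mul g g' _ _ hg hg' =>
    rw [show (x ≫ u a) * (g * g') * (x ≫ u a)⁻¹ =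
      ((x ≫ u a) * g * (x ≫ u a)⁻¹) * ((x ≫ u a) * g' * (x ≫ u a)⁻¹) by group]
    exact mul_mem hg hg'
  | inv g _ hg =>
    rw [show (x ≫ u a) * g⁻¹ * (x ≫ u a)⁻¹ = ((x ≫ u a) * g * (x ≫ u a)⁻¹)⁻¹ by group]
    exact inv_mem hg

/-- A positive element is a product of one away from a simple root and one at that root. -/
theorem Frame.exists_split_simple (F : Frame c P.root u) {a : idx} (ha : a ∈ B.support) {X : Over S} {v : X ⟶ G}
    (hv : v ∈ Gam u {b | B.IsPos b} X) :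
    ∃ (k : X ⟶ G) (x : X ⟶ Red.Ga S), k ∈ Gam u {b | B.IsPos b ∧ b ≠ a} X ∧ v = k * (x ≫ u a) := by
  haveI := (F.hu a).1
  induction hv using Subgroup.closure_induction with
  | mem v hv =>
    obtain ⟨b, hb, y, rfl⟩ := hv
    by_cases hba : b = a
    · subst hba; exact ⟨1, y, one_mem _, (_root_.one_mul _).symm⟩
    · exact ⟨_, 1, mem_Gam (Ψ := {b | B.IsPos b ∧ b ≠ a}) ⟨hb, hba⟩ y, by
        rw [MonObj.one_comp, _root_.mul_one]⟩
  | one => exact ⟨1, 1, one_mem _, by rw [MonObj.one_comp, _root_.one_mul]⟩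
  | mul g g' _ _ hg hg' =>
    obtain ⟨k, x, hk, rfl⟩ := hg
    obtain ⟨k', x', hk', rfl⟩ := hg'
    refine ⟨_, x * x', mul_mem hk (F.simple_conj_Gam ha x hk'), ?_⟩
    rw [MonObj.mul_comp]; group
  | inv g _ hg =>
    obtain ⟨k, x, hk, rfl⟩ := hg
    refine ⟨_, x⁻¹, F.simple_conj_Gam ha x⁻¹ (inv_mem hk), ?_⟩
    rw [GrpObj.inv_comp]; group

/-- The union of the double cosets of the words in the simple roots. -/
def Cells (c : Red.DS S M ⟶ G) (u : idx → (Red.Ga S ⟶ G)) (B : P.Base) (w : idx → (𝟙_ (Over S) ⟶ G))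
    (X : Over S) : Set (X ⟶ G) :=
  {g | ∃ l : List idx, (∀ a ∈ l, a ∈ B.support) ∧ ∃ b₁ ∈ BorelPts c u B X, ∃ b₂ ∈ BorelPts c u B X,
    g = b₁ * wpt X w l * b₂}

/-- **A simple reflection times a double coset lies in the cells.** -/
theorem Frame.simple_mul_mem (F : Frame c P.root u) (hP : P.toLinearMap = Module.Dual.eval ℤ M) (hw : Realises c B w)
    {X : Over S} (hX : ∀ r : Γ(X.left, ⊤), r = 0 ∨ IsUnit r) {a : idx} (ha : a ∈ B.support) {g : X ⟶ G}
    (hg : g ∈ Cells c u B w X) : (toUnit X ≫ w a) * g ∈ Cells c u B w X := by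
  haveI := F.hc.1
  obtain ⟨l, hl, b₁, hb₁, b₂, hb₂, rfl⟩ := hg
  obtain ⟨t, v, hv, rfl⟩ := F.exists_torus_unip hb₁
  obtain ⟨k, x, hk, rfl⟩ := F.exists_split_simple ha hv
  obtain ⟨N, hN⟩ : ∃ N : X ⟶ G, N = toUnit X ≫ w a := ⟨_, rfl⟩
  have hm := F.wmoves hP hw ha X
  rw [← hN] at hm ⊢
  have hml := F.wmoves_word hP hw X l hl
  have hk' : N * k * N⁻¹ ∈ BorelPts c u B X := by
    refine Gam_le_BorelPts (Ψ := {b | B.IsPos b}) (fun b hb => hb) X ?_
    clear hb₁ hv
    induction hk using Subgroup.closure_induction with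
    | mem k hk =>
      obtain ⟨b, ⟨hb, hba⟩, y, rfl⟩ := hk
      obtain ⟨y', hy'⟩ := hm.root b y
      rw [hy']
      exact mem_Gam (Ψ := {b | B.IsPos b}) (RootPairing.Base.IsPos.reflectionPerm hb ha hba) y'
    | one => rw [_root_.mul_one, mul_inv_cancel]; exact one_mem _
    | mul g g' _ _ hg hg' =>
      rw [show N * (g * g') * N⁻¹ = (N * g * N⁻¹) * (N * g' * N⁻¹) by group]; exact mul_mem hg hg'
    | inv g _ hg =>
      rw [show N * g⁻¹ * N⁻¹ = (N * g * N⁻¹)⁻¹ by group]; exact inv_mem hg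
  obtain ⟨t', ht'⟩ := hm.torus t
  -- the main case
  suffices h : ∃ l' : List idx, (∀ a ∈ l', a ∈ B.support) ∧ ∃ c₁ ∈ BorelPts c u B X, ∃ c₂ ∈ BorelPts c u B X,
      N * (x ≫ u a) * wpt X w l = c₁ * wpt X w l' * c₂ by
    obtain ⟨l', hl', c₁, hc₁, c₂, hc₂, e⟩ := h
    refine ⟨l', hl', (t' ≫ c) * (N * k * N⁻¹) * c₁, mul_mem (mul_mem (torus_mem_BorelPts t') hk') hc₁,
      c₂ * b₂, mul_mem hc₂ hb₂, ?_⟩
    calc N * ((t ≫ c) * (k * (x ≫ u a)) * wpt X w l * b₂)
        = (N * (t ≫ c) * N⁻¹) * (N * k * N⁻¹) * (N * (x ≫ u a) * wpt X w l) * b₂ := by group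
      _ = _ := by rw [ht', e]; group
  have hla : ∀ b ∈ a :: l, b ∈ B.support := List.forall_mem_cons.2 ⟨ha, hl⟩
  have hcons : wpt X w (a :: l) = N * wpt X w l := by simp only [wpt, List.map_cons, List.prod_cons, hN]
  by_cases hpos : B.IsPos ((wperm P l).symm a)
  · obtain ⟨x', hx'⟩ := hml.root' a x
    refine ⟨a :: l, hla, 1, one_mem _, x' ≫ u _, Gam_le_BorelPts (Ψ := {b | B.IsPos b}) (fun b hb => hb) X
      (mem_Gam (Ψ := {b | B.IsPos b}) hpos x'), ?_⟩
    rw [_root_.one_mul, hcons, ← hx']; group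
  obtain ⟨y, hy⟩ := hm.root a x
  have hNx : N * (x ≫ u a) = (y ≫ u (P.reflectionPerm a a)) * N := by rw [← hy]; group
  rcases hX (Red.gaFn y) with h0 | hu
  · have hy1 : y ≫ u (P.reflectionPerm a a) = 1 := by
      haveI := (F.hu (P.reflectionPerm a a)).1
      rw [show y = 1 from BGaNotS.gaPt_ext (by rw [h0, BGaNotS.gaFn_one]), MonObj.one_comp]
    refine ⟨a :: l, hla, 1, one_mem _, 1, one_mem _, ?_⟩
    rw [hNx, hy1, _root_.one_mul, _root_.mul_one, _root_.one_mul, hcons]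
  · obtain ⟨mu, hmp, -, hmu⟩ := exists_pos_hom P B
    obtain ⟨p, en₀, -, hn⟩ := exists_extend {b | 0 < (-mu) (P.root b)} (Fin.elim0 : Fin 0 → idx) (fun x => x.elim0)
      fun k => k.elim0
    obtain ⟨q, ep₀, -, hp⟩ := exists_extend {b | 0 < mu (P.root b)} (Fin.elim0 : Fin 0 → idx) (fun x => x.elim0)
      fun k => k.elim0
    have hamu : 0 < mu (P.root a) :=
      (hmp a).2 ((RootSys.mem_posRoots_iff B a).2 (RootPairing.Base.isPos_of_mem_support ha))
    have ho := (F.cell mu hmu _ _ _ _ hn hp hn hp).1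
    obtain ⟨Z, _, ⟨R⟩⟩ := F.exists_rankOne (root_opp (P := P) a) mu hmu hamu _ _ hn hp
    obtain ⟨-, hex⟩ := R.exists_exchange F ho mu hmu (P.coroot a).toAddMonoidHom
      (by show P.coroot a (P.root a) = 2; rw [coroot_apply_root hP, P.pairing_same]) (w a) (hw a ha)
    obtain ⟨x₁, x₂, s, hs⟩ := hex X y hu
    rw [← hN] at hs
    have hml' := hm.mul hml
    have hpos' : B.IsPos ((P.reflectionPerm a * wperm P l).symm a) := by
      rw [show (P.reflectionPerm a * wperm P l).symm a = (wperm P l).symm ((P.reflectionPerm a).symm a) from rfl,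
        RootPairing.reflectionPerm_symm]
      obtain ⟨b, hb⟩ : ∃ b, (wperm P l).symm a = b := ⟨_, rfl⟩
      rw [show (wperm P l).symm (P.reflectionPerm a a) = P.reflectionPerm b b from (Equiv.symm_apply_eq _).2 (by
        rw [wperm_opp, ← hb, Equiv.apply_symm_apply])]
      exact (RootSys.isPos_opp_iff B b).2 (hb ▸ hpos)
    obtain ⟨s', hs'⟩ := hml'.torus' s
    obtain ⟨s'', hs''⟩ := hml'.root' a x₂
    obtain ⟨s₁, hs₁⟩ := hml'.torus' s
    refine ⟨a :: a :: l, List.forall_mem_cons.2 ⟨ha, hla⟩, x₁ ≫ u a,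
      Gam_le_BorelPts (Ψ := {b | B.IsPos b}) (fun b hb => hb) X
        (mem_Gam (Ψ := {b | B.IsPos b}) (RootPairing.Base.isPos_of_mem_support ha) x₁),
      (s' ≫ c) * (s'' ≫ u _), mul_mem (torus_mem_BorelPts s') (Gam_le_BorelPts (Ψ := {b | B.IsPos b})
        (fun b hb => hb) X (mem_Gam (Ψ := {b | B.IsPos b}) hpos' s'')), ?_⟩
    rw [show wpt X w (a :: a :: l) = N * (N * wpt X w l) by
        simp only [wpt, List.map_cons, List.prod_cons, hN], hNx, hs, ← hs', ← hs'']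
    group

/-- The square of a simple Weyl element lies in the torus. -/
theorem Frame.simple_sq (F : Frame c P.root u) (hP : P.toLinearMap = Module.Dual.eval ℤ M) (hw : Realises c B w)
    {a : idx} (ha : a ∈ B.support) : ∃ t : 𝟙_ (Over S) ⟶ Red.DS S M, w a * w a = t ≫ c := by
  obtain ⟨mu, hmp, -, hmu⟩ := exists_pos_hom P B
  obtain ⟨p, en₀, -, hn⟩ := exists_extend {b | 0 < (-mu) (P.root b)} (Fin.elim0 : Fin 0 → idx) (fun x => x.elim0)
    fun k => k.elim0
  obtain ⟨q, ep₀, -, hp⟩ := exists_extend {b | 0 < mu (P.root b)} (Fin.elim0 : Fin 0 → idx) (fun x => x.elim0)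
    fun k => k.elim0
  have hamu : 0 < mu (P.root a) :=
    (hmp a).2 ((RootSys.mem_posRoots_iff B a).2 (RootPairing.Base.isPos_of_mem_support ha))
  have ho := (F.cell mu hmu _ _ _ _ hn hp hn hp).1
  obtain ⟨Z, _, ⟨R⟩⟩ := F.exists_rankOne (root_opp (P := P) a) mu hmu hamu _ _ hn hp
  exact (R.exists_exchange F ho mu hmu (P.coroot a).toAddMonoidHom
      (by show P.coroot a (P.root a) = 2; rw [coroot_apply_root hP, P.pairing_same]) (w a) (hw a ha)).1

/-- The points generated by the torus and all root groups. -/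
def AllPts (c : Red.DS S M ⟶ G) (u : idx → (Red.Ga S ⟶ G)) (X : Over S) : Subgroup (X ⟶ G) :=
  Subgroup.closure (Set.range (fun t : X ⟶ Red.DS S M => t ≫ c) ∪ {g | ∃ b, ∃ x : X ⟶ Red.Ga S, g = x ≫ u b})

/-- **Bruhat decomposition.** -/
theorem Frame.allPts_subset_cells (F : Frame c P.root u) (hP : P.toLinearMap = Module.Dual.eval ℤ M)
    (hw : Realises c B w) {X : Over S} (hX : ∀ r : Γ(X.left, ⊤), r = 0 ∨ IsUnit r) {g : X ⟶ G}
    (hg : g ∈ AllPts c u X) : g ∈ Cells c u B w X := by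
  let St : Subgroup (X ⟶ G) :=
    { carrier := {g | (∀ h ∈ Cells c u B w X, g * h ∈ Cells c u B w X) ∧ ∀ h ∈ Cells c u B w X, g⁻¹ * h ∈ Cells c u B w X}
      one_mem' := ⟨fun h hh => by rwa [_root_.one_mul], fun h hh => by rwa [inv_one, _root_.one_mul]⟩
      mul_mem' := fun {g g'} hg hg' => ⟨fun h hh => by rw [_root_.mul_assoc]; exact hg.1 _ (hg'.1 h hh),
        fun h hh => by rw [_root_.mul_inv_rev, _root_.mul_assoc]; exact hg'.2 _ (hg.2 h hh)⟩
      inv_mem' := fun {g} hg => ⟨hg.2, fun h hh => by rw [_root_.inv_inv]; exact hg.1 h hh⟩ }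
  have hB : BorelPts c u B X ≤ St := by
    have key : ∀ b ∈ BorelPts c u B X, ∀ h ∈ Cells c u B w X, b * h ∈ Cells c u B w X := by
      rintro b hb h ⟨l, hl, b₁, hb₁, b₂, hb₂, rfl⟩
      exact ⟨l, hl, b * b₁, mul_mem hb hb₁, b₂, hb₂, by simp only [_root_.mul_assoc]⟩
    exact fun b hb => ⟨key b hb, key _ (inv_mem hb)⟩
  have hN : ∀ a ∈ B.support, toUnit X ≫ w a ∈ St := by
    intro a ha
    refine ⟨fun h hh => F.simple_mul_mem hP hw hX ha hh, fun h hh => ?_⟩
    obtain ⟨t, ht⟩ := F.simple_sq hP hw ha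
    have e : (toUnit X ≫ w a)⁻¹ = ((toUnit X ≫ t) ≫ c)⁻¹ * (toUnit X ≫ w a) := by
      rw [Category.assoc, ← ht, MonObj.comp_mul]; group
    rw [e, _root_.mul_assoc]
    exact (hB (torus_mem_BorelPts _)).2 _ (F.simple_mul_mem hP hw hX ha hh)
  have hW : ∀ l : List idx, (∀ a ∈ l, a ∈ B.support) → wpt X w l ∈ St := fun l hl =>
    list_prod_mem fun g hg => by
      obtain ⟨a, ha, rfl⟩ := List.mem_map.1 hg
      exact hN a (hl a ha)
  have hle : AllPts c u X ≤ St := by
    refine (Subgroup.closure_le _).2 ?_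
    rintro g (⟨t, rfl⟩ | ⟨r, x, rfl⟩)
    · exact hB (torus_mem_BorelPts t)
    · obtain ⟨l, a, hl, ha, hr, -⟩ := exists_word_conj B r
      rw [← prod_reflectionPerm_apply] at hr
      obtain ⟨x', hx'⟩ := (F.wmoves_word hP hw X l hl).root' r x
      rw [show (wperm P l).symm r = a from (Equiv.symm_apply_eq _).2 hr.symm] at hx'
      rw [show x ≫ u r = wpt X w l * (x' ≫ u a) * (wpt X w l)⁻¹ by rw [← hx']; group]
      exact mul_mem (mul_mem (hW l hl) (hB (Gam_le_BorelPts (Ψ := {b | B.IsPos b}) (fun b hb => hb) X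
        (mem_Gam (Ψ := {b | B.IsPos b}) (RootPairing.Base.isPos_of_mem_support ha) x')))) (inv_mem (hW l hl))
  have h1 : (1 : X ⟶ G) ∈ Cells c u B w X :=
    ⟨[], fun _ h => absurd h List.not_mem_nil, 1, one_mem _, 1, one_mem _, by simp [wpt]⟩
  simpa using (hle hg).1 1 h1

omit [P.IsReduced] in
/-- **Over a point every point is generated by the torus and the root groups.** -/
theorem Frame.exists_allPts (F : Frame c P.root u) {X : Over S} (g : X ⟶ G) (p : X.left) :
    ∃ (X' : Over S) (f : X' ⟶ X), (∀ z : X'.left, f.left z = p) ∧ Nonempty X'.left ∧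
      (∀ r : Γ(X'.left, ⊤), r = 0 ∨ IsUnit r) ∧ f ≫ g ∈ AllPts c u X' := by
  obtain ⟨mu, n, m, en, ep, hn, hm, hne, ho⟩ := F.exists_cell
  haveI := F.hc.1
  haveI := ho
  obtain ⟨y0, hy0, -⟩ := exists_pow_prod (G := G) (fun l => u (en l)) (X := 𝟙_ (Over S)) fun _ => 1
  obtain ⟨y1, hy1, -⟩ := exists_pow_prod (G := G) (fun l => u (ep l)) (X := 𝟙_ (Over S)) fun _ => 1
  let j := cellC c (fun l => u (en l)) (fun l => u (ep l))
  have he : lift y0 (lift (1 : 𝟙_ (Over S) ⟶ Red.DS S M) y1) ≫ j = 1 := by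
    rw [comp_cellC, prodMap_one _ (fun k => (F.hu _).1) y0 hy0, prodMap_one _ (fun k => (F.hu _).1) y1 hy1,
      MonObj.one_comp (X := 𝟙_ (Over S)) c, _root_.one_mul, _root_.one_mul]
  obtain ⟨X₁, f, cc, -, hs, -, hd⟩ := exists_translate_open F.hG j _ he ![g]
  obtain ⟨q, hq⟩ := f.left.surjective p
  obtain ⟨X', ρ, hρ, hne', hX', -⟩ := RedR1.exists_geom_point X₁ q
  obtain ⟨d, hd⟩ := hd 0
  refine ⟨X', ρ ≫ f, fun z => by rw [Over.comp_left, Scheme.Hom.comp_apply, hρ, hq], hne', hX', ?_⟩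
  have hcell : ∀ (y : X' ⟶ RedSub.pow (Red.Ga S) n ⊗ (Red.DS S M ⊗ RedSub.pow (Red.Ga S) m)),
      y ≫ j ∈ AllPts c u X' := by
    intro y
    have hy : lift (y ≫ fst _ _) (lift (y ≫ snd _ _ ≫ fst _ _) (y ≫ snd _ _ ≫ snd _ _)) = y := by
      refine CartesianMonoidalCategory.hom_ext _ _ (by simp) ?_
      refine CartesianMonoidalCategory.hom_ext _ _ (by simp) (by simp)
    rw [← hy, comp_cellC, comp_prodMap_eq, comp_prodMap_eq]
    refine mul_mem (list_prod_mem fun g hg => ?_) (mul_mem (Subgroup.subset_closure (Or.inl ⟨_, rfl⟩))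
      (list_prod_mem fun g hg => ?_))
    all_goals
      obtain ⟨k, rfl⟩ := List.mem_ofFn.1 hg
      exact Subgroup.subset_closure (Or.inr ⟨_, _, rfl⟩)
  simp only [Matrix.cons_val_zero] at hd
  have e : (ρ ≫ f) ≫ g = ((ρ ≫ cc) ≫ j)⁻¹ * ((ρ ≫ d) ≫ j) := by
    rw [Category.assoc ρ d, hd, MonObj.comp_mul, Category.assoc, Category.assoc, inv_mul_cancel_left]
  rw [e]
  exact mul_mem (inv_mem (hcell _)) (hcell _)

end Groth.Agent.RootBase
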