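import Groth.Agent.S15245
import Groth.Agent.S19548
import Groth.Agent.RootSys.PosRoots
import Groth.Agent.RootBase.ChevSys

/-!
# The order generated by the reflections increasing the length by one

Subwords of a reduced word are below it.
-/

set_option autoImplicit false

universe u

open RedSub

noncomputable section

namespace Groth.Agent.RootBase

variable {idx M N : Type} [AddCommGroup M] [AddCommGroup N] [Finite idx]
  {P : RootPairing idx ℤ M N} [P.IsReduced] (B : P.Base)

/-- The number of positive roots made negative. -/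
def invLen (σ : Equiv.Perm idx) : ℕ := Set.ncard {a | B.IsPos a ∧ ¬ B.IsPos (σ a)}

omit [P.IsReduced] in
theorem invLen_eq (σ : Equiv.Perm idx) :
    Set.ncard {a : idx | a ∈ RedSub.posRoots P B ∧ σ a ∈ RedSub.negRoots P B} = invLen B σ := by
  congr 1
  ext a
  simp [RootSys.mem_posRoots_iff, RootSys.mem_negRoots_iff]

/-- A step of the order. -/
def BStep (σ τ : Equiv.Perm idx) : Prop :=
  ∃ c : idx, B.IsPos c ∧ τ = P.reflectionPerm c * σ ∧ invLen B τ = invLen B σ + 1

/-- The order. -/
def BLe : Equiv.Perm idx → Equiv.Perm idx → Prop := Relation.ReflTransGen (BStep B)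

theorem wordPerm_cons (c : idx) (l : List idx) :
    RedSub.wordPerm P (c :: l) = P.reflectionPerm c * RedSub.wordPerm P l := by
  simp [RedSub.wordPerm]

omit [Finite idx] [P.IsReduced] in
theorem refl_mul_refl (c : idx) (σ : Equiv.Perm idx) : P.reflectionPerm c * (P.reflectionPerm c * σ) = σ :=
  Equiv.ext fun x => by simp [RootPairing.reflectionPerm_self]

omit [Finite idx] [P.IsReduced] in
theorem refl_symm (a c : idx) : (P.reflectionPerm a).symm c = P.reflectionPerm a c := by
  rw [RootPairing.reflectionPerm_symm]

theorem invLen_lt_iff (l : List idx) {c : idx} (hc : B.IsPos c) :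
    invLen B (RedSub.wordPerm P l) < invLen B (P.reflectionPerm c * RedSub.wordPerm P l) ↔
      B.IsPos ((RedSub.wordPerm P l).symm c) := by
  rw [← invLen_eq, ← invLen_eq, S15245.result P B l c ((RootSys.mem_posRoots_iff B c).2 hc),
    RootSys.mem_posRoots_iff]
  rfl

/-- A simple reflection changes the length by one. -/
theorem invLen_simple (l : List idx) {a : idx} (ha : a ∈ B.support)
    (hpos : B.IsPos ((RedSub.wordPerm P l).symm a)) :
    invLen B (P.reflectionPerm a * RedSub.wordPerm P l) = invLen B (RedSub.wordPerm P l) + 1 := by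
  let w := RedSub.wordPerm P l
  have hset : {x | B.IsPos x ∧ ¬ B.IsPos ((P.reflectionPerm a * w) x)} =
      insert (w.symm a) {x | B.IsPos x ∧ ¬ B.IsPos (w x)} := by
    ext x
    simp only [Set.mem_setOf_eq, Set.mem_insert_iff, Equiv.Perm.mul_apply]
    constructor
    · rintro ⟨hx, hneg⟩
      by_cases hw : B.IsPos (w x)
      · refine Or.inl ((Equiv.eq_symm_apply w).2 ?_)
        by_contra hne
        exact hneg (RootPairing.Base.IsPos.reflectionPerm hw ha hne)
      · exact Or.inr ⟨hx, hw⟩
    · rintro (rfl | ⟨hx, hw⟩)
      · refine ⟨hpos, ?_⟩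
        rw [Equiv.apply_symm_apply]
        exact fun h => (RootSys.isPos_opp_iff B a).1 h (RootPairing.Base.isPos_of_mem_support ha)
      · refine ⟨hx, fun h => ?_⟩
        by_cases hne : P.reflectionPerm a (w x) = a
        · have e : w x = P.reflectionPerm a a := by
            rw [← P.reflectionPerm_self a (w x), hne]
          have hxe : x = w.symm (P.reflectionPerm a a) := (Equiv.eq_symm_apply w).2 e
          have h2 := RootSys.wordPerm_mul_reflectionPerm (P := P) l (w.symm a)
          have h3 : w.symm (P.reflectionPerm a a) = P.reflectionPerm (w.symm a) (w.symm a) := by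
            rw [Equiv.symm_apply_eq]
            have h4 := congrArg (fun σ : Equiv.Perm idx => σ (w.symm a)) h2
            simp only [Equiv.Perm.mul_apply] at h4
            rw [show RedSub.wordPerm P l (P.reflectionPerm (w.symm a) (w.symm a)) =
              w (P.reflectionPerm (w.symm a) (w.symm a)) from rfl] at h4
            rw [h4]
            simp [w]
          rw [hxe, h3] at hx
          exact (RootSys.isPos_opp_iff B _).1 hx hpos
        · have h1 := RootPairing.Base.IsPos.reflectionPerm h ha hne
          rw [P.reflectionPerm_self] at h1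
          exact hw h1
  rw [invLen, hset, Set.ncard_insert_of_notMem (fun h => h.2 (by
    rw [Equiv.apply_symm_apply]; exact RootPairing.Base.isPos_of_mem_support ha)) (Set.toFinite _)]
  rfl

theorem invLen_simple_or (l : List idx) {a : idx} (ha : a ∈ B.support) :
    invLen B (P.reflectionPerm a * RedSub.wordPerm P l) = invLen B (RedSub.wordPerm P l) + 1 ∨
      invLen B (P.reflectionPerm a * RedSub.wordPerm P l) + 1 = invLen B (RedSub.wordPerm P l) := by
  by_cases h : B.IsPos ((RedSub.wordPerm P l).symm a)
  · exact Or.inl (invLen_simple B l ha h)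
  · refine Or.inr ?_
    have h' : B.IsPos ((RedSub.wordPerm P (a :: l)).symm a) := by
      rw [wordPerm_cons, show (P.reflectionPerm a * RedSub.wordPerm P l).symm a =
        (RedSub.wordPerm P l).symm (P.reflectionPerm a a) by rw [← refl_symm a a]; rfl]
      obtain ⟨b, hb⟩ : ∃ b, (RedSub.wordPerm P l).symm a = b := ⟨_, rfl⟩
      have h3 : (RedSub.wordPerm P l).symm (P.reflectionPerm a a) = P.reflectionPerm b b := by
        rw [Equiv.symm_apply_eq]
        have h2 := congrArg (fun σ : Equiv.Perm idx => σ b) (RootSys.wordPerm_mul_reflectionPerm (P := P) l b)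
        simp only [Equiv.Perm.mul_apply] at h2
        rw [h2, ← hb, Equiv.apply_symm_apply]
      rw [h3]
      exact (RootSys.isPos_opp_iff B b).2 (hb ▸ h)
    have h5 := invLen_simple B (a :: l) ha h'
    rw [wordPerm_cons, refl_mul_refl] at h5
    exact h5.symm

theorem exists_word_of_le {l : List idx} {τ : Equiv.Perm idx} (h : BLe B (RedSub.wordPerm P l) τ) :
    ∃ l' : List idx, τ = RedSub.wordPerm P l' := by
  induction h with
  | refl => exact ⟨l, rfl⟩
  | tail _ hs ih =>
    obtain ⟨l', rfl⟩ := ih
    obtain ⟨c, -, rfl, -⟩ := hs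
    exact ⟨c :: l', (wordPerm_cons c l').symm⟩

/-- The lifting property of the order. -/
theorem le_lift {lu : List idx} {τ : Equiv.Perm idx} (h : BLe B (RedSub.wordPerm P lu) τ) {a : idx}
    (ha : a ∈ B.support) :
    BLe B (P.reflectionPerm a * RedSub.wordPerm P lu) τ ∨
      BLe B (P.reflectionPerm a * RedSub.wordPerm P lu) (P.reflectionPerm a * τ) := by
  induction h with
  | refl => exact Or.inr Relation.ReflTransGen.refl
  | @tail v z hv hs ih =>
    obtain ⟨c, hc, rfl, hlen⟩ := hs
    rcases ih with ih | ih
    · exact Or.inl (ih.tail ⟨c, hc, rfl, hlen⟩)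
    by_cases hca : c = a
    · subst hca
      exact Or.inl ih
    obtain ⟨lv, rfl⟩ := exists_word_of_le B hv
    refine Or.inr (ih.trans ?_)
    have hc' : B.IsPos (P.reflectionPerm a c) := RootPairing.Base.IsPos.reflectionPerm hc ha hca
    have hconj : P.reflectionPerm a * (P.reflectionPerm c * RedSub.wordPerm P lv) =
        P.reflectionPerm (P.reflectionPerm a c) * RedSub.wordPerm P (a :: lv) := by
      rw [wordPerm_cons, ← _root_.mul_assoc, ← _root_.mul_assoc]
      congr 1
      have h1 := RootSys.wordPerm_mul_reflectionPerm (P := P) [a] c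
      simpa [RedSub.wordPerm] using h1
    have hvc : B.IsPos ((RedSub.wordPerm P lv).symm c) := (invLen_lt_iff B lv hc).1 (by omega)
    have hpos : B.IsPos ((RedSub.wordPerm P (a :: lv)).symm (P.reflectionPerm a c)) := by
      rw [wordPerm_cons, show (P.reflectionPerm a * RedSub.wordPerm P lv).symm (P.reflectionPerm a c) =
        (RedSub.wordPerm P lv).symm ((P.reflectionPerm a).symm (P.reflectionPerm a c)) from rfl,
        Equiv.symm_apply_apply]
      exact hvc
    have hlt := (invLen_lt_iff B (a :: lv) hc').2 hpos
    rw [← hconj, wordPerm_cons] at hlt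
    have h1 := invLen_simple_or B lv ha
    have h2 := invLen_simple_or B (c :: lv) ha
    rw [wordPerm_cons] at h2
    rcases (show invLen B (P.reflectionPerm a * (P.reflectionPerm c * RedSub.wordPerm P lv)) =
          invLen B (P.reflectionPerm a * RedSub.wordPerm P lv) + 1 ∨
        (invLen B (RedSub.wordPerm P lv) = invLen B (P.reflectionPerm a * RedSub.wordPerm P lv) + 1 ∧
          invLen B (P.reflectionPerm a * (P.reflectionPerm c * RedSub.wordPerm P lv)) =
            invLen B (P.reflectionPerm c * RedSub.wordPerm P lv) + 1) by omega) with h3 | ⟨h3, h4⟩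
    · exact Relation.ReflTransGen.single ⟨_, hc', by rw [hconj, wordPerm_cons], h3⟩
    · have hap := RootPairing.Base.isPos_of_mem_support ha
      exact ((Relation.ReflTransGen.single
        (show BStep B (P.reflectionPerm a * RedSub.wordPerm P lv) (RedSub.wordPerm P lv) from
          ⟨a, hap, (refl_mul_refl a _).symm, h3⟩)).tail ⟨c, hc, rfl, hlen⟩).tail ⟨a, hap, rfl, h4⟩

/-- Words all whose suffixes increase the length. -/
def IsRedWord : List idx → Prop
  | [] => True
  | a :: l => IsRedWord l ∧ B.IsPos ((RedSub.wordPerm P l).symm a)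

/-- **Subwords of a reduced word are below it.** -/
theorem le_of_sublist : ∀ {l : List idx}, (∀ a ∈ l, a ∈ B.support) → IsRedWord B l → ∀ {l' : List idx},
    l'.Sublist l → BLe B (RedSub.wordPerm P l') (RedSub.wordPerm P l)
  | [], _, _, l', h => by rw [List.sublist_nil.1 h]; exact Relation.ReflTransGen.refl
  | a :: l, hl, hred, l', h => by
    have ha := hl a List.mem_cons_self
    have hl₁ : ∀ x ∈ l, x ∈ B.support := fun x hx => hl x (List.mem_cons_of_mem _ hx)
    have hstep : BStep B (RedSub.wordPerm P l) (RedSub.wordPerm P (a :: l)) :=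
      ⟨a, RootPairing.Base.isPos_of_mem_support ha, wordPerm_cons a l, by
        rw [wordPerm_cons]; exact invLen_simple B l ha hred.2⟩
    cases h with
    | cons _ h => exact (le_of_sublist hl₁ hred.1 h).tail hstep
    | cons_cons _ h =>
      rw [wordPerm_cons, wordPerm_cons] at *
      rcases le_lift B (le_of_sublist hl₁ hred.1 h) ha with h1 | h1
      · exact h1.tail hstep
      · exact h1

theorem isRed_of_minimal : ∀ {l : List idx}, (∀ a ∈ l, a ∈ B.support) →
    (∀ l' : List idx, (∀ a ∈ l', a ∈ B.support) → RedSub.wordPerm P l' = RedSub.wordPerm P l →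
      l.length ≤ l'.length) → IsRedWord B l
  | [], _, _ => trivial
  | a :: l, hl, hmin => by
    have ha := hl a List.mem_cons_self
    have hl₁ : ∀ x ∈ l, x ∈ B.support := fun x hx => hl x (List.mem_cons_of_mem _ hx)
    have hmin₁ : ∀ l' : List idx, (∀ x ∈ l', x ∈ B.support) → RedSub.wordPerm P l' = RedSub.wordPerm P l →
        l.length ≤ l'.length := fun l' hl' e => by
      have := hmin (a :: l') (List.forall_mem_cons.2 ⟨ha, hl'⟩) (by rw [wordPerm_cons, wordPerm_cons, e])
      simpa using this
    refine ⟨isRed_of_minimal hl₁ hmin₁, ?_⟩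
    by_contra hneg
    obtain ⟨i, hi, he⟩ := S19548.result P B l hl₁ hmin₁ a
      ((RootSys.mem_posRoots_iff B a).2 (RootPairing.Base.isPos_of_mem_support ha))
      ((RootSys.mem_negRoots_iff B _).2 hneg)
    have h := hmin (l.take i ++ l.drop (i + 1)) (fun x hx => hl₁ x ((List.mem_append.1 hx).elim
      List.mem_of_mem_take List.mem_of_mem_drop)) (by
        conv_rhs => rw [wordPerm_cons, ← List.take_append_drop (i + 1) l]
        simp only [RedSub.wordPerm, List.map_append, List.prod_append] at he ⊢
        rw [← _root_.mul_assoc, he])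
    simp only [List.length_append, List.length_take, List.length_drop, List.length_cons] at h
    omega

end Groth.Agent.RootBase
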