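import Groth.Agent.RootBase.Gen

/-!
# Points of a split torus as products of values of cocharacters
-/

set_option autoImplicit false
set_option backward.isDefEq.respectTransparency false
set_option linter.style.haveILetI false
set_option maxHeartbeats 1000000
set_option synthInstance.maxHeartbeats 400000

universe u

open CategoryTheory Limits MonoidalCategory CartesianMonoidalCategory MonObj GrpObj AlgebraicGeometry
open scoped CategoryTheory.Obj

noncomputable section

namespace Groth.Agent.RootBase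

open Groth.Agent.HomDiag Groth.Agent.DynPar

variable {S : Scheme.{u}} {G : Over S} [GrpObj G] {M : Type} [AddCommGroup M]

/-- The cocharacters with values in a subgroup. -/
def coSub (c : Red.DS S M ⟶ G) [IsMonHom c] {X : Over S} (K : Subgroup (X ⟶ G)) : AddSubgroup (Module.Dual ℤ M) where
  carrier := {f | ∀ ζ : X ⟶ Red.Gm S, ζ ≫ Red.DSmap S f.toAddMonoidHom ≫ c ∈ K}
  zero_mem' ζ := by
    have e : ζ ≫ Red.DSmap S (0 : Module.Dual ℤ M).toAddMonoidHom = 1 := ch_ext fun m => by
      rw [ch_DSmap, ch_one]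
      exact map_one _
    rw [← Category.assoc, e, MonObj.one_comp]
    exact one_mem _
  add_mem' {f f'} hf hf' ζ := by
    have e : ζ ≫ Red.DSmap S (f + f').toAddMonoidHom =
        (ζ ≫ Red.DSmap S f.toAddMonoidHom) * (ζ ≫ Red.DSmap S f'.toAddMonoidHom) := ch_ext fun m => by
      rw [ch_mul, ch_DSmap, ch_DSmap, ch_DSmap, ← map_mul, ← ofAdd_add]
      rfl
    rw [← Category.assoc, e, MonObj.mul_comp, Category.assoc, Category.assoc]
    exact mul_mem (hf ζ) (hf' ζ)
  neg_mem' {f} hf ζ := by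
    have e : (ζ ≫ Red.DSmap S (-f).toAddMonoidHom) * (ζ ≫ Red.DSmap S f.toAddMonoidHom) = 1 :=
      ch_ext fun m => by
        rw [ch_mul, ch_DSmap, ch_DSmap, ch_one, ← map_mul, ← ofAdd_add]
        show (ch ζ) (Multiplicative.ofAdd (-f m.toAdd + f m.toAdd)) = 1
        rw [neg_add_cancel]
        exact map_one _
    have e' := congrArg (fun y => y ≫ c) e
    simp only [MonObj.mul_comp, MonObj.one_comp, Category.assoc] at e'
    rw [eq_inv_of_mul_eq_one_left e']
    exact inv_mem (hf ζ)

theorem prod_comp_mem {T : Over S} [GrpObj T] (f : T ⟶ G) [IsMonHom f] {X : Over S} (K : Subgroup (X ⟶ G))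
    {n : ℕ} (g : Fin n → (X ⟶ T)) (h : ∀ i, g i ≫ f ∈ K) : (List.ofFn g).prod ≫ f ∈ K := by
  rw [prod_comp, List.map_ofFn]
  exact list_prod_mem fun x hx => by obtain ⟨i, rfl⟩ := List.mem_ofFn.1 hx; exact h i

/-- **If spanning cocharacters take values in a subgroup, so does the torus.** -/
theorem torus_mem_of_span [Module.Free ℤ M] [Module.Finite ℤ M] (c : Red.DS S M ⟶ G) [IsMonHom c] {X : Over S}
    (K : Subgroup (X ⟶ G)) (C : Set (Module.Dual ℤ M)) (hspan : Submodule.span ℤ C = ⊤)
    (hC : ∀ f ∈ C, ∀ ζ : X ⟶ Red.Gm S, ζ ≫ Red.DSmap S f.toAddMonoidHom ≫ c ∈ K) (τ : X ⟶ Red.DS S M) :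
    τ ≫ c ∈ K := by
  classical
  have hV : ∀ f : Module.Dual ℤ M, f ∈ coSub c K := fun f => by
    have h1 : Submodule.span ℤ C ≤ (coSub c K).toIntSubmodule := Submodule.span_le.2 hC
    exact h1 (hspan.ge Submodule.mem_top)
  let bb := Module.finBasis ℤ M
  have hτ : τ = (List.ofFn fun i => τ ≫ Red.chi S (bb i) ≫ Red.DSmap S (bb.coord i).toAddMonoidHom).prod := by
    refine ch_ext fun m => ?_
    let φ : (X ⟶ Red.DS S M) →* Γ(X.left, ⊤) :=
      { toFun := fun x => ch x m, map_one' := ch_one m, map_mul' := fun x y => ch_mul x y m }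
    change ch τ m = φ _
    rw [map_list_prod, List.map_ofFn, List.prod_ofFn]
    show _ = ∏ i, ch (τ ≫ Red.chi S (bb i) ≫ Red.DSmap S (bb.coord i).toAddMonoidHom) m
    have e : ∀ i, ch (τ ≫ Red.chi S (bb i) ≫ Red.DSmap S (bb.coord i).toAddMonoidHom) m =
        ch τ (Multiplicative.ofAdd (bb.repr m.toAdd i • bb i)) := fun i => by
      rw [← Category.assoc, ch_DSmap, Red.chi, ch_DSmap]
      congr 1
    simp only [e]
    rw [← map_prod, ← ofAdd_sum, bb.sum_repr, ofAdd_toAdd]
  have hmem : ∀ i, (τ ≫ Red.chi S (bb i) ≫ Red.DSmap S (bb.coord i).toAddMonoidHom) ≫ c ∈ K := fun i => by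
    rw [Category.assoc, Category.assoc, ← Category.assoc τ]
    exact hV (bb.coord i) (τ ≫ Red.chi S (bb i))
  have h := prod_comp_mem c K _ hmem
  rwa [← hτ] at h

end Groth.Agent.RootBase
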