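import Groth.Agent.RootBase.BruhatUnique
import Groth.Agent.RootBase.BruhatTorus
import Groth.Agent.RootBase.BruhatOrder
import Groth.Agent.RootBase.AlgSet
import Mathlib.AlgebraicGeometry.AlgClosed.Basic

/-!
# The closure of a Bruhat cell on rational points

The points `P_{a₁} ⋯ P_{aₙ}` form a closed set, contained in the union of the double cosets of the subwords.
-/

set_option autoImplicit false
set_option backward.isDefEq.respectTransparency false
set_option linter.style.haveILetI false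
set_option maxHeartbeats 1000000
set_option synthInstance.maxHeartbeats 400000

universe u

open CategoryTheory Limits MonoidalCategory CartesianMonoidalCategory MonObj GrpObj AlgebraicGeometry
open scoped CategoryTheory.Obj

noncomputable section

namespace Groth.Agent.RootBase

open Groth.Agent.HomDiag Groth.Agent.DynPar

section Step

variable {S : Scheme.{u}} [Nonempty S] {G : Over S} [GrpObj G] {M : Type} [AddCommGroup M] [Module.Free ℤ M]
  [Module.Finite ℤ M] {c : Red.DS S M ⟶ G} {idx : Type} [Fintype idx] {P : RootPairing idx ℤ M (Module.Dual ℤ M)}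
  [P.IsReduced] {u : idx → (Red.Ga S ⟶ G)} {B : P.Base} {w : idx → (𝟙_ (Over S) ⟶ G)}

/-- A simple reflection times one double coset. -/
theorem Frame.simple_mul_cell (F : Frame c P.root u) (hP : P.toLinearMap = Module.Dual.eval ℤ M) (hw : Realises c B w)
    {X : Over S} (hX : ∀ r : Γ(X.left, ⊤), r = 0 ∨ IsUnit r) {a : idx} (ha : a ∈ B.support) {l : List idx} (hl : ∀ x ∈ l, x ∈ B.support) {b₁ b₂ : X ⟶ G}
    (hb₁ : b₁ ∈ BorelPts c u B X) (hb₂ : b₂ ∈ BorelPts c u B X) :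
    ∃ l', (l' = a :: l ∨ l' = a :: a :: l) ∧ ∃ c₁ ∈ BorelPts c u B X, ∃ c₂ ∈ BorelPts c u B X,
      (toUnit X ≫ w a) * (b₁ * wpt X w l * b₂) = c₁ * wpt X w l' * c₂ := by
  haveI := F.hc.1
  obtain ⟨t, v, hv, rfl⟩ := F.exists_torus_unip hb₁
  obtain ⟨k, x, hk, rfl⟩ := F.exists_split_simple ha hv
  obtain ⟨N, hN⟩ : ∃ N : X ⟶ G, N = toUnit X ≫ w a := ⟨_, rfl⟩
  have hm := F.wmoves hP hw ha X
  rw [← hN] at hm ⊢
  have hml := F.wmoves_word hP hw X l hl
  have hk' : N * k * N⁻¹ ∈ BorelPts c u B X := by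
    refine Gam_le_BorelPts (Ψ := {b | B.IsPos b}) (fun b hb => hb) X ?_
    clear hb₁ hv
    induction hk using Subgroup.closure_induction with
    | mem k hk =>
      obtain ⟨b, ⟨hb, hba⟩, y, rfl⟩ := hk
      obtain ⟨y', hy'⟩ := hm.root b y
      rw [hy']
      exact mem_Gam (Ψ := {b | B.IsPos b}) (RootPairing.Base.IsPos.reflectionPerm hb ha hba) y'
    | one => rw [_root_.mul_one, mul_inv_cancel]; exact one_mem _
    | mul g g' _ _ hg hg' =>
      rw [show N * (g * g') * N⁻¹ = (N * g * N⁻¹) * (N * g' * N⁻¹) by group]; exact mul_mem hg hg'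
    | inv g _ hg =>
      rw [show N * g⁻¹ * N⁻¹ = (N * g * N⁻¹)⁻¹ by group]; exact inv_mem hg
  obtain ⟨t', ht'⟩ := hm.torus t
  -- the main case
  suffices h : ∃ l' : List idx, (l' = a :: l ∨ l' = a :: a :: l) ∧ ∃ c₁ ∈ BorelPts c u B X, ∃ c₂ ∈ BorelPts c u B X,
      N * (x ≫ u a) * wpt X w l = c₁ * wpt X w l' * c₂ by
    obtain ⟨l', hl', c₁, hc₁, c₂, hc₂, e⟩ := h
    refine ⟨l', hl', (t' ≫ c) * (N * k * N⁻¹) * c₁, mul_mem (mul_mem (torus_mem_BorelPts t') hk') hc₁,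
      c₂ * b₂, mul_mem hc₂ hb₂, ?_⟩
    calc N * ((t ≫ c) * (k * (x ≫ u a)) * wpt X w l * b₂)
        = (N * (t ≫ c) * N⁻¹) * (N * k * N⁻¹) * (N * (x ≫ u a) * wpt X w l) * b₂ := by group
      _ = _ := by rw [ht', e]; group
  have hla : ∀ b ∈ a :: l, b ∈ B.support := List.forall_mem_cons.2 ⟨ha, hl⟩
  have hcons : wpt X w (a :: l) = N * wpt X w l := by simp only [wpt, List.map_cons, List.prod_cons, hN]
  by_cases hpos : B.IsPos ((wperm P l).symm a)
  · obtain ⟨x', hx'⟩ := hml.root' a x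
    refine ⟨a :: l, Or.inl rfl, 1, one_mem _, x' ≫ u _, Gam_le_BorelPts (Ψ := {b | B.IsPos b}) (fun b hb => hb) X
      (mem_Gam (Ψ := {b | B.IsPos b}) hpos x'), ?_⟩
    rw [_root_.one_mul, hcons, ← hx']; group
  obtain ⟨y, hy⟩ := hm.root a x
  have hNx : N * (x ≫ u a) = (y ≫ u (P.reflectionPerm a a)) * N := by rw [← hy]; group
  rcases hX (Red.gaFn y) with h0 | hu
  · have hy1 : y ≫ u (P.reflectionPerm a a) = 1 := by
      haveI := (F.hu (P.reflectionPerm a a)).1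
      rw [show y = 1 from BGaNotS.gaPt_ext (by rw [h0, BGaNotS.gaFn_one]), MonObj.one_comp]
    refine ⟨a :: l, Or.inl rfl, 1, one_mem _, 1, one_mem _, ?_⟩
    rw [hNx, hy1, _root_.one_mul, _root_.mul_one, _root_.one_mul, hcons]
  · obtain ⟨mu, hmp, -, hmu⟩ := exists_pos_hom P B
    obtain ⟨p, en₀, -, hn⟩ := exists_extend {b | 0 < (-mu) (P.root b)} (Fin.elim0 : Fin 0 → idx) (fun x => x.elim0)
      fun k => k.elim0
    obtain ⟨q, ep₀, -, hp⟩ := exists_extend {b | 0 < mu (P.root b)} (Fin.elim0 : Fin 0 → idx) (fun x => x.elim0)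
      fun k => k.elim0
    have hamu : 0 < mu (P.root a) :=
      (hmp a).2 ((RootSys.mem_posRoots_iff B a).2 (RootPairing.Base.isPos_of_mem_support ha))
    have ho := (F.cell mu hmu _ _ _ _ hn hp hn hp).1
    obtain ⟨Z, _, ⟨R⟩⟩ := F.exists_rankOne (root_opp (P := P) a) mu hmu hamu _ _ hn hp
    obtain ⟨-, hex⟩ := R.exists_exchange F ho mu hmu (P.coroot a).toAddMonoidHom
      (by show P.coroot a (P.root a) = 2; rw [coroot_apply_root hP, P.pairing_same]) (w a) (hw a ha)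
    obtain ⟨x₁, x₂, s, hs⟩ := hex X y hu
    rw [← hN] at hs
    have hml' := hm.mul hml
    have hpos' : B.IsPos ((P.reflectionPerm a * wperm P l).symm a) := by
      rw [show (P.reflectionPerm a * wperm P l).symm a = (wperm P l).symm ((P.reflectionPerm a).symm a) from rfl,
        RootPairing.reflectionPerm_symm]
      obtain ⟨b, hb⟩ : ∃ b, (wperm P l).symm a = b := ⟨_, rfl⟩
      rw [show (wperm P l).symm (P.reflectionPerm a a) = P.reflectionPerm b b from (Equiv.symm_apply_eq _).2 (by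
        rw [wperm_opp, ← hb, Equiv.apply_symm_apply])]
      exact (RootSys.isPos_opp_iff B b).2 (hb ▸ hpos)
    obtain ⟨s', hs'⟩ := hml'.torus' s
    obtain ⟨s'', hs''⟩ := hml'.root' a x₂
    obtain ⟨s₁, hs₁⟩ := hml'.torus' s
    refine ⟨a :: a :: l, Or.inr rfl, x₁ ≫ u a,
      Gam_le_BorelPts (Ψ := {b | B.IsPos b}) (fun b hb => hb) X
        (mem_Gam (Ψ := {b | B.IsPos b}) (RootPairing.Base.isPos_of_mem_support ha) x₁),
      (s' ≫ c) * (s'' ≫ u _), mul_mem (torus_mem_BorelPts s') (Gam_le_BorelPts (Ψ := {b | B.IsPos b})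
        (fun b hb => hb) X (mem_Gam (Ψ := {b | B.IsPos b}) hpos' s'')), ?_⟩
    rw [show wpt X w (a :: a :: l) = N * (N * wpt X w l) by
        simp only [wpt, List.map_cons, List.prod_cons, hN], hNx, hs, ← hs', ← hs'']
    group

end Step

section Points

variable {k : Type u} [Field k]

local notation "S₀" => Spec (CommRingCat.of k)
local notation "U₀" => 𝟙_ (Over (Spec (CommRingCat.of k)))

/-- The value of a coordinate at the rational point. -/
def kval (z : U₀ ⟶ Red.Ga S₀) : k := (Scheme.ΓSpecIso (CommRingCat.of k)).hom (Red.gaFn z)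

/-- The rational point with a coordinate. -/
def kpt (r : k) : U₀ ⟶ Red.Ga S₀ := BGaNotS.gaPt ((Scheme.ΓSpecIso (CommRingCat.of k)).inv r)

theorem kval_kpt (r : k) : kval (kpt r) = r := by
  rw [kval, kpt, BGaNotS.gaFn_gaPt]
  exact ConcreteCategory.congr_hom (Scheme.ΓSpecIso (CommRingCat.of k)).inv_hom_id r

theorem kval_inj {z z' : U₀ ⟶ Red.Ga S₀} (h : kval z = kval z') : z = z' :=
  BGaNotS.gaPt_ext ((ConcreteCategory.bijective_of_isIso (Scheme.ΓSpecIso (CommRingCat.of k)).hom).1 h)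

theorem kpt_kval (z : U₀ ⟶ Red.Ga S₀) : kpt (kval z) = z := kval_inj (kval_kpt _)

theorem kval_one : kval (1 : U₀ ⟶ Red.Ga S₀) = 0 := by rw [kval, BGaNotS.gaFn_one, map_zero]

theorem kpt_zero : kpt (0 : k) = 1 := kval_inj (by rw [kval_kpt, kval_one])

theorem gamma_zero_or_unit (r : Γ((U₀).left, ⊤)) : r = 0 ∨ IsUnit r := by
  let e := Scheme.ΓSpecIso (CommRingCat.of k)
  by_cases h : e.hom r = 0
  · exact Or.inl ((ConcreteCategory.bijective_of_isIso e.hom).1 (h.trans (map_zero e.hom.hom).symm))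
  · refine Or.inr ?_
    have h2 := (isUnit_iff_ne_zero.2 h).map e.inv.hom
    rwa [show e.inv.hom (e.hom r) = r from ConcreteCategory.congr_hom e.hom_inv_id r] at h2

variable {G : Over (Spec (CommRingCat.of k))}

/-- The value of a function at a rational point. -/
def evAt (g : U₀ ⟶ G) : Γ(G.left, ⊤) →+* k :=
  ((Scheme.ΓSpecIso (CommRingCat.of k)).hom.hom).comp g.left.appTop.hom

/-- The constant functions. -/
def cst (G : Over (Spec (CommRingCat.of k))) : k →+* Γ(G.left, ⊤) :=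
  G.hom.appTop.hom.comp (Scheme.ΓSpecIso (CommRingCat.of k)).inv.hom

theorem evAt_cst (g : U₀ ⟶ G) (r : k) : evAt g (cst G r) = r := by
  show (Scheme.ΓSpecIso (CommRingCat.of k)).hom
    (g.left.appTop (G.hom.appTop ((Scheme.ΓSpecIso (CommRingCat.of k)).inv r))) = r
  rw [← CommRingCat.comp_apply _ g.left.appTop, ← Scheme.Hom.comp_appTop, Over.w g]
  exact (congrArg _ (show (𝟙 S₀ : S₀ ⟶ S₀).appTop _ = _ by rw [Scheme.Hom.id_appTop]; rfl)).trans
    (ConcreteCategory.congr_hom (Scheme.ΓSpecIso (CommRingCat.of k)).inv_hom_id r)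

theorem left_eq_of_affine [IsAffine G.left] (g : U₀ ⟶ G) :
    g.left = Spec.map (CommRingCat.ofHom (evAt g)) ≫ G.left.isoSpec.inv := by
  have h1 : g.left ≫ G.left.toSpecΓ = (Spec (CommRingCat.of k)).toSpecΓ ≫ Spec.map g.left.appTop :=
    Scheme.toSpecΓ_naturality g.left
  have h2 : (Spec (CommRingCat.of k)).toSpecΓ = Spec.map (Scheme.ΓSpecIso (CommRingCat.of k)).hom :=
    (SpecMap_ΓSpecIso_hom (CommRingCat.of k)).symm
  rw [Iso.eq_comp_inv, Scheme.isoSpec_hom, h1, h2, ← Spec.map_comp]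
  rfl

/-- A function composed with a family over the affine line is a polynomial. -/
theorem exists_poly_eval [IsAffine G.left] (mm : Red.Ga S₀ ⊗ G ⟶ G) (f : Γ(G.left, ⊤)) :
    ∃ F : Polynomial Γ(G.left, ⊤), ∀ (g : U₀ ⟶ G) (r : k), F.eval₂ (evAt g) r = evAt (lift (kpt r) g ≫ mm) f := by
  let A := Γ(G.left, ⊤)
  let eA := Scheme.ΓSpecIso (CommRingCat.of (Polynomial A))
  let X₁ : Over S₀ := Over.mk (Spec.map (CommRingCat.ofHom (Polynomial.C (R := A))) ≫ G.left.isoSpec.inv ≫ G.hom)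
  let π : X₁ ⟶ G := Over.homMk (Spec.map (CommRingCat.ofHom (Polynomial.C (R := A))) ≫ G.left.isoSpec.inv)
    (Category.assoc _ _ _)
  let ξ : X₁ ⟶ Red.Ga S₀ := BGaNotS.gaPt (eA.inv Polynomial.X)
  refine ⟨eA.hom ((lift ξ π ≫ mm).left.appTop f), fun g r => ?_⟩
  let φ : Polynomial A →+* k := Polynomial.eval₂RingHom (evAt g) r
  have hφ : φ.comp Polynomial.C = evAt g := RingHom.ext fun a => Polynomial.eval₂_C _ _
  have hl : Spec.map (CommRingCat.ofHom φ) ≫ Spec.map (CommRingCat.ofHom (Polynomial.C (R := A))) ≫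
      G.left.isoSpec.inv = g.left := by
    rw [← Category.assoc, LieS.specMap_comp, hφ, ← left_eq_of_affine]
  let q : U₀ ⟶ X₁ := Over.homMk (Spec.map (CommRingCat.ofHom φ)) (by
    show _ ≫ _ ≫ _ ≫ _ = _
    rw [← Category.assoc, ← Category.assoc, Category.assoc _ _ G.left.isoSpec.inv, hl]
    exact Over.w g)
  have hπ : q ≫ π = g := Over.OverMorphism.ext hl
  have hnat : ∀ y : Γ(X₁.left, ⊤), (Scheme.ΓSpecIso (CommRingCat.of k)).hom (q.left.appTop y) = φ (eA.hom y) :=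
    fun y => ConcreteCategory.congr_hom (Scheme.ΓSpecIso_naturality (CommRingCat.ofHom φ)) y
  have hξ : q ≫ ξ = kpt r := kval_inj (by
    rw [kval_kpt, kval, BGaNotS.gaFn_comp, BGaNotS.gaFn_gaPt, hnat,
      show eA.hom (eA.inv Polynomial.X) = Polynomial.X from ConcreteCategory.congr_hom eA.inv_hom_id _]
    exact Polynomial.eval₂_X _ _)
  rw [show lift (kpt r) g = q ≫ lift ξ π by rw [comp_lift, hξ, hπ], Category.assoc]
  exact (hnat _).symm.trans (by
    show (Scheme.ΓSpecIso (CommRingCat.of k)).hom (q.left.appTop ((lift ξ π ≫ mm).left.appTop f)) = _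
    rw [← CommRingCat.comp_apply _ q.left.appTop, ← Scheme.Hom.comp_appTop, ← Over.comp_left]
    rfl)

/-- A set of rational points cut out by functions. -/
def IsAlgSet (E : Set (U₀ ⟶ G)) : Prop :=
  ∀ g, g ∉ E → ∃ f : Γ(G.left, ⊤), (∀ g' ∈ E, evAt g' f = 0) ∧ evAt g f ≠ 0

variable [IsAlgClosed k] [GrpObj G] {M : Type} [AddCommGroup M] [Module.Free ℤ M] [Module.Finite ℤ M]
  {c : Red.DS (Spec (CommRingCat.of k)) M ⟶ G} {idx : Type} [Fintype idx]
  {P : RootPairing idx ℤ M (Module.Dual ℤ M)} {u : idx → (Red.Ga (Spec (CommRingCat.of k)) ⟶ G)}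
  {B : P.Base} {w : idx → (𝟙_ (Over (Spec (CommRingCat.of k))) ⟶ G)}

omit [Fintype idx] [IsAlgClosed k] in
/-- The difference of two coordinates. -/
theorem kpt_sub_comp (v : Red.Ga S₀ ⟶ G) (hv : IsMonHom v) (r s : k) :
    kpt (r - s) ≫ v = (kpt s ≫ v)⁻¹ * (kpt r ≫ v) := by
  rw [← @GrpObj.inv_comp _ _ _ _ _ _ _ _ (kpt s) v hv, ← @MonObj.mul_comp _ _ _ _ _ _ _ _ _ _ v hv]
  congr 1
  refine kval_inj ?_
  rw [kval_kpt, kval, BGaNotS.gaFn_mul, gaFn_inv, map_add, map_neg]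
  show _ = -kval (kpt _) + kval (kpt _)
  rw [kval_kpt, kval_kpt]
  ring

omit [Fintype idx] in
/-- A character takes every invertible value. -/
theorem exists_torus_value {d : M} (hd : d ≠ 0) {v : k} (hv : v ≠ 0) :
    ∃ s : U₀ ⟶ Red.DS S₀ M, (Scheme.ΓSpecIso (CommRingCat.of k)).hom (ch s (Multiplicative.ofAdd d)) = v := by
  obtain ⟨θ, hθ⟩ := DynPar.exists_hom_pos_of_ne_zero hd
  obtain ⟨z, hz⟩ := IsAlgClosed.exists_pow_nat_eq v (n := (θ d).natAbs) (by omega)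
  have hz0 : z ≠ 0 := fun h0 => by
    rw [h0, zero_pow (by omega)] at hz
    exact hv hz.symm
  let χ : Multiplicative M →* k :=
    { toFun := fun m => z ^ θ m.toAdd
      map_one' := by simp
      map_mul' := fun m m' => by simp [zpow_add₀ hz0] }
  obtain ⟨s, hs⟩ := exists_ch (S := S₀) (X := U₀) ((Scheme.ΓSpecIso (CommRingCat.of k)).inv.hom.toMonoidHom.comp χ)
  refine ⟨s, ?_⟩
  rw [hs]
  refine (ConcreteCategory.congr_hom (Scheme.ΓSpecIso (CommRingCat.of k)).inv_hom_id (χ _)).trans ?_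
  show z ^ θ d = v
  rw [← hz, ← Int.natAbs_of_nonneg hθ.le, zpow_natCast, Int.natAbs_natCast]

/-- The torus scales the rational points of a root group. -/
theorem Frame.conj_kpt (F : Frame c P.root u) (a : idx) (s : U₀ ⟶ Red.DS S₀ M) (r : k) :
    (s ≫ c) * (kpt r ≫ u a) * (s ≫ c)⁻¹ =
      kpt ((Scheme.ΓSpecIso (CommRingCat.of k)).hom (ch s (Multiplicative.ofAdd (P.root a))) * r) ≫ u a := by
  obtain ⟨y, hy, hy'⟩ := (F.hu a).2.2 U₀ s (kpt r)
  rw [← hy]
  congr 1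
  refine kval_inj ?_
  rw [kval_kpt, kval, hy', map_mul, RootIntrinsic.gmFn_chi]
  congr 1
  exact kval_kpt r

/-- A non-trivial point of the root group of a negative root is no point of the Borel group. -/
theorem Frame.opp_not_mem (F : Frame c P.root u) {b : idx} (hb : ¬B.IsPos b) {r : k} (hr : r ≠ 0) :
    kpt r ≫ u b ∉ BorelPts c u B U₀ := fun h => by
  haveI := F.hc.1
  obtain ⟨t, v, hv, e⟩ := F.exists_torus_unip h
  obtain ⟨mu, hmp, hmn, hmu⟩ := exists_pos_hom P B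
  obtain ⟨p, en₀, -, hn⟩ := exists_extend {i | 0 < (-mu) (P.root i)} (Fin.elim0 : Fin 0 → idx) (fun x => x.elim0)
    fun k => k.elim0
  obtain ⟨q, ep₀, -, hp⟩ := exists_extend {i | 0 < mu (P.root i)} (Fin.elim0 : Fin 0 → idx) (fun x => x.elim0)
    fun k => k.elim0
  generalize Fin.append (Fin.elim0 : Fin 0 → idx) en₀ = en at hn
  generalize Fin.append (Fin.elim0 : Fin 0 → idx) ep₀ = ep at hp
  haveI := (F.cell mu hmu _ _ _ _ hn hp hn hp).1
  have hb' : 0 < (-mu) (P.root b) := (hmn b).2 ((RootSys.mem_negRoots_iff B b).2 hb)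
  obtain ⟨x, hx⟩ := F.exists_pow_of_mem_Gam (-mu) en hn
    (mem_Gam (u := u) (show b ∈ {i | 0 < (-mu) (P.root i)} from hb') (kpt r))
  have hpos : {i | B.IsPos i} = {i | 0 < mu (P.root i)} :=
    Set.ext fun i => ((hmp i).trans (RootSys.mem_posRoots_iff B i)).symm
  rw [hpos] at hv
  obtain ⟨y, hy⟩ := F.exists_pow_of_mem_Gam mu ep hp hv
  obtain ⟨x1, hx1, -⟩ := exists_pow_prod (G := G) (fun l => u (en l)) (X := U₀) fun _ => 1
  obtain ⟨y1, hy1, -⟩ := exists_pow_prod (G := G) (fun l => u (ep l)) (X := U₀) fun _ => 1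
  have ex1 := prodMap_one _ (fun k => (F.hu (en k)).1) x1 hx1
  have ey1 := prodMap_one _ (fun k => (F.hu (ep k)).1) y1 hy1
  let C := cellC c (fun l => u (en l)) (fun l => u (ep l))
  haveI : Mono C := Over.mono_of_mono_left _
  have e1 : lift x (lift (1 : U₀ ⟶ Red.DS S₀ M) y1) = lift x1 (lift t y) := by
    rw [← cancel_mono C, comp_cellC, comp_cellC, ← hx, ← hy, ex1, ey1, MonObj.one_comp, ← e,
      _root_.one_mul, _root_.mul_one, _root_.one_mul]
  have e2 := congrArg (fun z => z ≫ fst _ _) e1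
  simp only [lift_fst] at e2
  have h1 : kpt r ≫ u b = 1 := by rw [hx, e2, ex1]
  haveI := (F.hu b).1
  have h2 := congrFun (F.prod_inj (-mu) ![b] (Function.injective_of_subsingleton _)
    (fun k => by fin_cases k; exact hb') ![kpt r] ![1] (by simp [h1, MonObj.one_comp])) 0
  exact hr (by rw [← kval_kpt r, ← kval_one (k := k)]; exact congrArg kval h2)

variable [P.IsReduced]

/-- **The two charts of a rank-one flag variety.** -/
theorem Frame.exists_opp_exchange (F : Frame c P.root u) (hP : P.toLinearMap = Module.Dual.eval ℤ M)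
    (hw : Realises c B w) {a : idx} (ha : a ∈ B.support) :
    ∃ κ : k, ∀ x : k, x ≠ 0 → ∃ b ∈ BorelPts c u B U₀,
      (kpt x ≫ u a) * (toUnit U₀ ≫ w a) = (kpt (κ / x) ≫ u (P.reflectionPerm a a)) * b := by
  haveI := F.hc.1
  haveI : ∀ i, IsMonHom (u i) := fun i => (F.hu i).1
  obtain ⟨mu, hmp, -, hmu⟩ := exists_pos_hom P B
  obtain ⟨p, en₀, -, hn⟩ := exists_extend {b | 0 < (-mu) (P.root b)} (Fin.elim0 : Fin 0 → idx) (fun x => x.elim0)
    fun k => k.elim0
  obtain ⟨q, ep₀, -, hp⟩ := exists_extend {b | 0 < mu (P.root b)} (Fin.elim0 : Fin 0 → idx) (fun x => x.elim0)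
    fun k => k.elim0
  have hamu : 0 < mu (P.root a) :=
    (hmp a).2 ((RootSys.mem_posRoots_iff B a).2 (RootPairing.Base.isPos_of_mem_support ha))
  have ho := (F.cell mu hmu _ _ _ _ hn hp hn hp).1
  obtain ⟨Z, _, ⟨R⟩⟩ := F.exists_rankOne (root_opp (P := P) a) mu hmu hamu _ _ hn hp
  obtain ⟨-, hex⟩ := R.exists_exchange F ho mu hmu (P.coroot a).toAddMonoidHom
    (by show P.coroot a (P.root a) = 2; rw [coroot_apply_root hP, P.pairing_same]) (w a) (hw a ha)
  obtain ⟨x₁, x₂, t, hs⟩ := hex U₀ (kpt 1) (by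
    rcases gamma_zero_or_unit (k := k) (Red.gaFn (kpt (1 : k))) with h | h
    · exfalso
      have := kval_kpt (1 : k)
      rw [kval, h, map_zero] at this
      exact zero_ne_one this
    · exact h)
  obtain ⟨N, hN⟩ : ∃ N, N = toUnit U₀ ≫ w a := ⟨_, rfl⟩
  rw [← hN] at hs ⊢
  have hm := F.wmoves hP hw ha U₀
  rw [← hN] at hm
  have hpa : B.IsPos a := RootPairing.Base.isPos_of_mem_support ha
  have hBa : ∀ z : U₀ ⟶ Red.Ga S₀, z ≫ u a ∈ BorelPts c u B U₀ := fun z =>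
    Gam_le_BorelPts (Ψ := {b | B.IsPos b}) (fun b hb => hb) U₀ (mem_Gam (Ψ := {b | B.IsPos b}) hpa z)
  have hconj : ∀ v : k, v ≠ 0 → ∃ b ∈ BorelPts c u B U₀,
      kpt v⁻¹ ≫ u (P.reflectionPerm a a) = (kpt (v * kval x₁) ≫ u a) * N * b := by
    intro v hv
    obtain ⟨s, hsv⟩ := exists_torus_value (P.ne_zero a) hv
    obtain ⟨s', hs'⟩ := hm.torus' s
    have hA : (s ≫ c) * (x₁ ≫ u a) * (s ≫ c)⁻¹ = kpt (v * kval x₁) ≫ u a := by
      rw [← kpt_kval x₁, F.conj_kpt, hsv, kval_kpt]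
    have hOp : (s ≫ c) * (kpt 1 ≫ u (P.reflectionPerm a a)) * (s ≫ c)⁻¹ =
        kpt v⁻¹ ≫ u (P.reflectionPerm a a) := by
      rw [F.conj_kpt, _root_.mul_one]
      congr 2
      refine eq_inv_of_mul_eq_one_left ?_
      rw [root_opp, ← hsv, ← map_mul, ← map_mul (ch s), ← ofAdd_add, neg_add_cancel, ofAdd_zero, map_one, map_one]
    refine ⟨(s' ≫ c) * (t ≫ c) * (x₂ ≫ u a) * (s ≫ c)⁻¹, mul_mem (mul_mem (mul_mem (torus_mem_BorelPts s')
      (torus_mem_BorelPts t)) (hBa x₂)) (inv_mem (torus_mem_BorelPts s)), ?_⟩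
    rw [← hOp, ← hA, hs, ← hs']
    group
  have hx₁ : kval x₁ ≠ 0 := by
    intro h0
    classical
    obtain ⟨v, hv⟩ := Infinite.exists_notMem_finset ({0, 1} : Finset k)
    simp only [Finset.mem_insert, Finset.mem_singleton, not_or] at hv
    obtain ⟨b, hb, e⟩ := hconj v hv.1
    obtain ⟨b', hb', e'⟩ := hconj 1 one_ne_zero
    rw [h0, MulZeroClass.mul_zero, kpt_zero, MonObj.one_comp, _root_.one_mul] at e e'
    refine F.opp_not_mem (B := B) (b := P.reflectionPerm a a) (fun h => (RootSys.isPos_opp_iff B a).1 h hpa)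
      (r := v⁻¹ - 1) (sub_ne_zero.2 fun h => hv.2 (inv_eq_one.1 h)) ?_
    have e3 : kpt (v⁻¹ - 1) ≫ u (P.reflectionPerm a a) = (kpt (1:k)⁻¹ ≫ u (P.reflectionPerm a a))⁻¹ *
        (kpt v⁻¹ ≫ u (P.reflectionPerm a a)) := by
      rw [inv_one]
      exact kpt_sub_comp (u (P.reflectionPerm a a)) (F.hu (P.reflectionPerm a a)).1 _ _
    rw [e3, e, e', _root_.mul_inv_rev, _root_.mul_assoc, inv_mul_cancel_left]
    exact mul_mem (inv_mem hb') hb
  refine ⟨kval x₁, fun x hx => ?_⟩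
  obtain ⟨b, hb, e⟩ := hconj (x / kval x₁) (div_ne_zero hx hx₁)
  rw [inv_div, div_mul_cancel₀ x hx₁] at e
  exact ⟨b⁻¹, inv_mem hb, by rw [e, mul_inv_cancel_right]⟩

/-- The points of the product of the minimal parabolic groups along a word. -/
def Omega (c : Red.DS (Spec (CommRingCat.of k)) M ⟶ G) (u : idx → (Red.Ga (Spec (CommRingCat.of k)) ⟶ G))
    (B : P.Base) (w : idx → (𝟙_ (Over (Spec (CommRingCat.of k))) ⟶ G)) : List idx → Set (U₀ ⟶ G)
  | [] => BorelPts c u B U₀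
  | a :: l => Omega c u B w l ∪ {g | ∃ z : U₀ ⟶ Red.Ga S₀, ((z ≫ u a) * (toUnit U₀ ≫ w a))⁻¹ * g ∈ Omega c u B w l}

theorem Frame.omega_left (F : Frame c P.root u) (hP : P.toLinearMap = Module.Dual.eval ℤ M) (hw : Realises c B w) :
    ∀ {l : List idx}, (∀ a ∈ l, a ∈ B.support) → ∀ {b g : U₀ ⟶ G}, b ∈ BorelPts c u B U₀ →
      g ∈ Omega c u B w l → b * g ∈ Omega c u B w l
  | [], _, b, g, hb, hg => mul_mem hb hg
  | a :: l, hl, b, g, hb, hg => by
    have ha := hl a List.mem_cons_self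
    have hl₁ : ∀ x ∈ l, x ∈ B.support := fun x hx => hl x (List.mem_cons_of_mem _ hx)
    haveI := F.hc.1
    haveI := (F.hu a).1
    rcases hg with hg | ⟨z, hz⟩
    · exact Or.inl (F.omega_left hP hw hl₁ hb hg)
    refine Or.inr ?_
    obtain ⟨t, v, hv, rfl⟩ := F.exists_torus_unip hb
    obtain ⟨k₀, y, hk₀, hky⟩ := F.exists_split_simple ha
      (mul_mem hv (mem_Gam (u := u) (Ψ := {b | B.IsPos b}) (RootPairing.Base.isPos_of_mem_support ha) z))
    obtain ⟨k₁, hk₁e⟩ : ∃ k₁, k₁ = (y ≫ u a)⁻¹ * k₀ * (y ≫ u a) := ⟨_, rfl⟩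
    have hk₁ : k₁ ∈ Gam u {b | B.IsPos b ∧ b ≠ a} U₀ := by
      have h := F.simple_conj_Gam ha y⁻¹ hk₀
      rw [GrpObj.inv_comp, _root_.inv_inv] at h
      rwa [hk₁e]
    obtain ⟨N, hN⟩ : ∃ N, N = toUnit U₀ ≫ w a := ⟨_, rfl⟩
    have hm := F.wmoves hP hw ha U₀
    rw [← hN] at hm hz
    have hk₂ : N⁻¹ * k₁ * N ∈ BorelPts c u B U₀ := by
      refine Gam_le_BorelPts (Ψ := {b | B.IsPos b}) (fun b hb => hb) U₀ ?_
      have h := hm.inv.conj_Gam (Ψ := {b | B.IsPos b ∧ b ≠ a}) (Ψ' := {b | B.IsPos b}) (fun i hi => by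
        show B.IsPos ((P.reflectionPerm a).symm i)
        rw [RootPairing.reflectionPerm_symm]
        exact RootPairing.Base.IsPos.reflectionPerm hi.1 ha hi.2) hk₁
      rwa [_root_.inv_inv] at h
    obtain ⟨y', hy'⟩ : ∃ y', (t ≫ c) * (y ≫ u a) * (t ≫ c)⁻¹ = y' ≫ u a := by
      obtain ⟨y', hy', -⟩ := (F.hu a).2.2 U₀ t y
      exact ⟨y', hy'.symm⟩
    obtain ⟨t', ht'⟩ := hm.torus' t
    refine ⟨y', ?_⟩
    rw [← hN]
    have e : ((y' ≫ u a) * N)⁻¹ * ((t ≫ c) * v * g) =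
        ((t' ≫ c) * (N⁻¹ * k₁ * N)) * (((z ≫ u a) * N)⁻¹ * g) := by
      rw [← hy', ← ht', hk₁e, show k₀ = v * (z ≫ u a) * (y ≫ u a)⁻¹ by rw [hky]; group]
      group
    rw [e]
    exact F.omega_left hP hw hl₁ (mul_mem (torus_mem_BorelPts t') hk₂) hz

theorem Frame.wpt_mem_omega (F : Frame c P.root u) : ∀ (l : List idx) {b : U₀ ⟶ G}, b ∈ BorelPts c u B U₀ →
    wpt U₀ w l * b ∈ Omega c u B w l
  | [], b, hb => by simpa [wpt, Omega] using hb
  | a :: l, b, hb => by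
    haveI := (F.hu a).1
    refine Or.inr ⟨1, ?_⟩
    rw [MonObj.one_comp, _root_.one_mul, show wpt U₀ w (a :: l) = (toUnit U₀ ≫ w a) * wpt U₀ w l by
      simp only [wpt, List.map_cons, List.prod_cons], _root_.mul_assoc, inv_mul_cancel_left]
    exact F.wpt_mem_omega l hb

/-- **The points lie in the double cosets of the subwords.** -/
theorem Frame.omega_subset (F : Frame c P.root u) (hP : P.toLinearMap = Module.Dual.eval ℤ M) (hw : Realises c B w) :
    ∀ {l : List idx}, (∀ a ∈ l, a ∈ B.support) → ∀ g ∈ Omega c u B w l,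
      ∃ l' : List idx, (∀ a ∈ l', a ∈ B.support) ∧ (∃ l'' : List idx, l''.Sublist l ∧ wperm P l' = wperm P l'') ∧
        ∃ b₁ ∈ BorelPts c u B U₀, ∃ b₂ ∈ BorelPts c u B U₀, g = b₁ * wpt U₀ w l' * b₂
  | [], _, g, hg => ⟨[], by simp, ⟨[], List.Sublist.refl _, rfl⟩, g, hg, 1, one_mem _, by simp [wpt]⟩
  | a :: l, hl, g, hg => by
    have ha := hl a List.mem_cons_self
    have hl₁ : ∀ x ∈ l, x ∈ B.support := fun x hx => hl x (List.mem_cons_of_mem _ hx)
    rcases hg with hg | ⟨z, hz⟩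
    · obtain ⟨l', hl', ⟨l'', hsub, hperm⟩, h⟩ := F.omega_subset hP hw hl₁ g hg
      exact ⟨l', hl', ⟨l'', hsub.cons a, hperm⟩, h⟩
    obtain ⟨l', hl', ⟨l'', hsub, hperm⟩, b₁, hb₁, b₂, hb₂, e⟩ := F.omega_subset hP hw hl₁ _ hz
    obtain ⟨l₀, hl₀, c₁, hc₁, c₂, hc₂, e'⟩ := F.simple_mul_cell hP hw gamma_zero_or_unit ha hl' hb₁ hb₂
    have hla : ∀ x ∈ l₀, x ∈ B.support := by
      rcases hl₀ with rfl | rfl <;>
        simpa [List.forall_mem_cons, ha] using hl'
    refine ⟨l₀, hla, ?_, (z ≫ u a) * c₁, mul_mem (Gam_le_BorelPts (Ψ := {b | B.IsPos b}) (fun b hb => hb) U₀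
      (mem_Gam (Ψ := {b | B.IsPos b}) (RootPairing.Base.isPos_of_mem_support ha) z)) hc₁, c₂, hc₂, ?_⟩
    · rcases hl₀ with rfl | rfl
      · exact ⟨a :: l'', hsub.cons_cons a, by simp only [wperm, List.map_cons, List.prod_cons] at hperm ⊢; rw [hperm]⟩
      · refine ⟨l'', hsub.cons a, ?_⟩
        simp only [wperm, List.map_cons, List.prod_cons] at hperm ⊢
        rw [refl_mul_refl, hperm]
    · rw [show g = ((z ≫ u a) * (toUnit U₀ ≫ w a)) * (((z ≫ u a) * (toUnit U₀ ≫ w a))⁻¹ * g) from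
        (mul_inv_cancel_left _ _).symm, e, _root_.mul_assoc, e']
      group

/-- **The points form a closed set.** -/
theorem Frame.isAlgSet_omega (F : Frame c P.root u) (hP : P.toLinearMap = Module.Dual.eval ℤ M) (hw : Realises c B w)
    [IsAffine G.left] (h0 : IsAlgSet (BorelPts c u B U₀ : Set (U₀ ⟶ G))) :
    ∀ {l : List idx}, (∀ a ∈ l, a ∈ B.support) → IsAlgSet (Omega c u B w l)
  | [], _ => h0
  | a :: l, hl => by
    have ha := hl a List.mem_cons_self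
    have hl₁ : ∀ x ∈ l, x ∈ B.support := fun x hx => hl x (List.mem_cons_of_mem _ hx)
    have hY := F.isAlgSet_omega hP hw h0 hl₁
    intro g₀ hg₀
    simp only [Omega, Set.mem_union, Set.mem_setOf_eq, not_or, not_exists] at hg₀
    obtain ⟨κ, hκ⟩ := F.exists_opp_exchange hP hw ha
    let μ₁ : Red.Ga S₀ ⊗ G ⟶ G := ((fst _ _ ≫ u a) * (toUnit _ ≫ w a))⁻¹ * snd _ _
    let μ₂ : Red.Ga S₀ ⊗ G ⟶ G := (fst _ _ ≫ u (P.reflectionPerm a a))⁻¹ * snd _ _
    have hμ₁ : ∀ (x : k) (g : U₀ ⟶ G), lift (kpt x) g ≫ μ₁ = ((kpt x ≫ u a) * (toUnit U₀ ≫ w a))⁻¹ * g := fun x g => by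
      simp only [μ₁, MonObj.comp_mul, GrpObj.comp_inv, lift_fst_assoc, lift_snd]
      rw [← Category.assoc (lift _ _) (toUnit _), comp_toUnit]
    have hμ₂ : ∀ (y : k) (g : U₀ ⟶ G), lift (kpt y) g ≫ μ₂ = (kpt y ≫ u (P.reflectionPerm a a))⁻¹ * g := fun y g => by
      simp only [μ₂, MonObj.comp_mul, GrpObj.comp_inv, lift_fst_assoc, lift_snd]
    obtain ⟨f₂, hf₂, hf₂g⟩ := hY g₀ hg₀.1
    obtain ⟨F₂, hF₂⟩ := exists_poly_eval μ₂ f₂
    obtain ⟨H, hH, hHg⟩ := exists_sep_proj evAt (cst G) evAt_cst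
      (fun x g => ((kpt x ≫ u a) * (toUnit U₀ ≫ w a))⁻¹ * g ∈ Omega c u B w l) κ
      (fun x g hxg => by
        obtain ⟨f, hf, hfg⟩ := hY _ hxg
        obtain ⟨F₁, hF₁⟩ := exists_poly_eval μ₁ f
        exact ⟨F₁, fun x' g' h => by rw [hF₁, hμ₁]; exact hf _ h, by rw [hF₁, hμ₁]; exact hfg⟩)
      g₀ (fun x => hg₀.2 (kpt x)) F₂
      (fun x g hx hxg => by
        obtain ⟨b, hb, e⟩ := hκ x hx
        rw [hF₂, hμ₂]
        refine hf₂ _ ?_
        have e2 : (kpt (κ / x) ≫ u (P.reflectionPerm a a))⁻¹ * g = b * (((kpt x ≫ u a) * (toUnit U₀ ≫ w a))⁻¹ * g) := by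
          rw [e]; group
        rw [e2]
        exact F.omega_left hP hw hl₁ hb hxg)
      (by
        haveI := (F.hu (P.reflectionPerm a a)).1
        rwa [hF₂, hμ₂, kpt_zero, MonObj.one_comp, inv_one, _root_.one_mul])
    refine ⟨f₂ * H, ?_, by rw [map_mul]; exact mul_ne_zero hf₂g hHg⟩
    rintro g' (hg' | ⟨z, hz⟩)
    · rw [map_mul, hf₂ g' hg', MulZeroClass.zero_mul]
    · rw [map_mul, hH (kval z) g' (by rwa [kpt_kval]), MulZeroClass.mul_zero]

end Points

end Groth.Agent.RootBase
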