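import Groth.Agent.RootBase.BruhatSimple
import Groth.Agent.RootBase.BruhatSplit

/-!
# Covers of a split group by translates of its big cell
-/

set_option autoImplicit false
set_option backward.isDefEq.respectTransparency false
set_option linter.style.haveILetI false
set_option maxHeartbeats 1000000
set_option synthInstance.maxHeartbeats 400000

universe u

open CategoryTheory Limits MonoidalCategory CartesianMonoidalCategory MonObj GrpObj AlgebraicGeometry
open scoped CategoryTheory.Obj

noncomputable section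

namespace Groth.Agent.RootBase

open Groth.Agent.HomDiag Groth.Agent.DynPar

variable {S : Scheme.{u}} {G : Over S} [GrpObj G]

/-- The points of the big cell of a splitting. -/
abbrev splitCellPts (D : Red.SplitRed G) (b : D.P.Base) (X : Over S) : Set (X ⟶ G) :=
  letI := D.grpT
  letI := D.acgM
  CellPts (D.split.inv.hom.hom ≫ D.i) D.u b X

theorem cellMap_mem_cellPts (D : Red.SplitRed G) (b : D.P.Base) {n m : ℕ} {en : Fin n → D.idx} {ep : Fin m → D.idx}
    (hn : RedSub.Enumerates (RedSub.negRoots D.P b) en) (hp : RedSub.Enumerates (RedSub.posRoots D.P b) ep)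
    {X : Over S} (y : X ⟶ RedSub.pow (Red.Ga S) n ⊗ (D.T ⊗ RedSub.pow (Red.Ga S) m)) :
    y ≫ RedSub.cellMap D en ep ∈ splitCellPts D b X := by
  letI := D.grpT
  letI := D.acgM
  letI := D.fintypeIdx
  letI := D.finiteM
  letI := D.freeM
  have hinv : D.split.hom.hom.hom ≫ D.split.inv.hom.hom = 𝟙 _ := congrArg (fun z => z.hom.hom) D.split.hom_inv_id
  have e : lift (y ≫ fst _ _) (lift ((y ≫ snd _ _ ≫ fst _ _) ≫ D.split.hom.hom.hom) (y ≫ snd _ _ ≫ snd _ _)) ≫
      cellC (D.split.inv.hom.hom ≫ D.i) (fun k => D.u (en k)) (fun k => D.u (ep k)) = y ≫ RedSub.cellMap D en ep := by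
    simp only [RedSub.cellMap, cellC, MonObj.comp_mul, lift_fst_assoc, lift_snd_assoc, Category.assoc, reassoc_of% hinv]
  rw [← e]
  exact mem_cellPts_comp hn hp _

theorem mem_range_translate (D : Red.SplitRed G) (b : D.P.Base) {n m : ℕ} {en : Fin n → D.idx} {ep : Fin m → D.idx}
    (hn : RedSub.Enumerates (RedSub.negRoots D.P b) en) (hp : RedSub.Enumerates (RedSub.posRoots D.P b) ep)
    {X : Over S} {f : X ⟶ G} (z : X.left) (g : 𝟙_ (Over S) ⟶ G) (h : (toUnit X ≫ g)⁻¹ * f ∈ splitCellPts D b X) :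
    f.left z ∈ Set.range ((toUnit _ ≫ g) * RedSub.cellMap D en ep).left.base := by
  letI := D.grpT
  letI := D.acgM
  letI := D.fintypeIdx
  letI := D.finiteM
  letI := D.freeM
  haveI : Nonempty S := ⟨X.hom z⟩
  haveI := isReduced_of_splitRed D
  have F : Frame (D.split.inv.hom.hom ≫ D.i) D.P.root D.u := frame_of_splitRed D
  obtain ⟨y, hy⟩ := F.exists_cellC_of_mem en ep hn hp h
  obtain ⟨y', hy'⟩ := cellC_fac D en ep y
  refine ⟨y'.left z, ?_⟩
  have e : y' ≫ ((toUnit _ ≫ g) * RedSub.cellMap D en ep) = f := by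
    rw [MonObj.comp_mul, hy', ← Category.assoc, toUnit_unique (y' ≫ toUnit _) (toUnit X), hy, mul_inv_cancel_left]
  rw [← e, Over.comp_left]
  rfl

theorem mem_range_cell (D : Red.SplitRed G) (b : D.P.Base) {n m : ℕ} {en : Fin n → D.idx} {ep : Fin m → D.idx}
    (hn : RedSub.Enumerates (RedSub.negRoots D.P b) en) (hp : RedSub.Enumerates (RedSub.posRoots D.P b) ep)
    {X : Over S} {f : X ⟶ G} (z : X.left) (h : f ∈ splitCellPts D b X) :
    f.left z ∈ Set.range (RedSub.cellMap D en ep).left.base := by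
  have h' := mem_range_translate D b hn hp (f := f) z 1 (by rwa [MonObj.comp_one, inv_one, _root_.one_mul])
  rwa [MonObj.comp_one, _root_.one_mul] at h'

theorem isUnit_gaFn_comp {X : Over S} {x : 𝟙_ (Over S) ⟶ Red.Ga S} (hx : IsUnit (Red.gaFn x)) :
    IsUnit (Red.gaFn (toUnit X ≫ x)) := by
  rw [BGaNotS.gaFn_comp]
  exact hx.map (toUnit X).left.appTop.hom

end Groth.Agent.RootBase
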