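import Groth.Agent.RootBase.Rank1

/-!
# The coroot torus of a root is generated by its two root groups

If an element realises the reflection of `a`, the values of the coroot of `a` are products of values of the
root homomorphisms of `a` and of `-a`.
-/

set_option autoImplicit false
set_option backward.isDefEq.respectTransparency false
set_option linter.style.haveILetI false
set_option maxHeartbeats 1000000
set_option synthInstance.maxHeartbeats 400000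

universe u

open CategoryTheory Limits MonoidalCategory CartesianMonoidalCategory MonObj GrpObj AlgebraicGeometry
open scoped CategoryTheory.Obj

noncomputable section

namespace Groth.Agent.RootBase

open Groth.Agent.HomDiag Groth.Agent.DynPar

variable {S : Scheme.{u}} {G : Over S} [GrpObj G] {M : Type} [AddCommGroup M] [Module.Free ℤ M] [Module.Finite ℤ M]
  {c : Red.DS S M ⟶ G} {idx : Type} [Fintype idx] {root : idx → M} {u : idx → (Red.Ga S ⟶ G)}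
variable [Nonempty S] {a a' : idx} {p q : ℕ} {en : Fin p → idx} {ep : Fin q → idx} {Z : Over S} [GrpObj Z]

set_option maxHeartbeats 4000000 in
/-- **Values of the coroot in the group generated by the two root groups.** -/
theorem RankOne.coroot_mem (F : Frame c root u)
    (ho : IsOpenImmersion (cellC c (fun l => u (en l)) (fun l => u (ep l))).left)
    (mu : M →+ ℤ) (hmu : ∀ b, mu (root b) ≠ 0)
    (R : RankOne c (root a) (u a) (u a') (cellC c (fun l => u (en l)) (fun l => u (ep l))) Z)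
    (φ : M →+ ℤ) (hφ : φ (root a) = 2) (N : 𝟙_ (Over S) ⟶ G)
    (hN : ∀ (X : Over S) (t : X ⟶ Red.DS S M), cj N (t ≫ c) = refl (root a) φ t ≫ c)
    {X : Over S} (K : Subgroup (X ⟶ G)) (hK : ∀ x : X ⟶ Red.Ga S, x ≫ u a ∈ K ∧ x ≫ u a' ∈ K) (ζ : X ⟶ Red.Gm S) :
    ζ ≫ Red.DSmap S φ ≫ c ∈ K := by
  haveI := F.hc.1
  let α := root a
  haveI : IsMonHom (Red.chi S α) := MTQuot.isMonHom_DSmap _
  haveI : IsMonHom (Red.DSmap S φ) := MTQuot.isMonHom_DSmap _
  haveI : Mono R.tC := R.hTZ.2.1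
  have hα : ∀ s : S, (Over.pullback (Red.geomPt s)).map (Red.chi S α) ≠ 1 := chi_ne_one (F.ne a)
  have hT := R.hTZ.2.2.1
  let D : R1F.Setup Z (Red.DS S M) := ⟨R.tC, Red.chi S α, R.pp, R.pm, inferInstance, inferInstance, inferInstance,
    inferInstance, inferInstance, inferInstance, hT, hα, R.hP, R.hM, R.hΩ⟩
  have hnc : D.NC := fun s => S8446.result S Z (Red.DS S M) R.tC R.hZ R.hTZ (Red.chi S α) hα R.pp R.pm R.hP R.hM
    R.hΩ s
  obtain ⟨⟨a₀, av⟩, ⟨hav, hsq, hrel⟩, -⟩ := R1F.Setup.main (D := D) hnc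
  haveI : IsMonHom av := hav
  let A₀ : (Γ(S, ⊤))ˣ := GmPts.unitOfPt a₀
  have hA : ∀ X : Over S, Red.gmFn (toUnit X ≫ a₀) = X.hom.appTop (A₀ : Γ(S, ⊤)) := fun X => by
    rw [GmPts.gmFn_comp]; rfl
  let σ : Red.Ga S ⟶ Red.Ga S := scl (↑A₀⁻¹ : Γ(S, ⊤)) (𝟙 _)
  have hσ : ∀ {X : Over S} (x : X ⟶ Red.Ga S), x ≫ σ = scl (↑A₀⁻¹ : Γ(S, ⊤)) x := fun x => by
    rw [comp_scl, Category.comp_id]
  haveI : IsMonHom σ := HomDiag.isMonHom_of_mul σ fun X x y => BGaNotS.gaPt_ext (by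
    rw [hσ, hσ, hσ, BGaNotS.gaFn_mul, gaFn_scl, gaFn_scl, gaFn_scl, BGaNotS.gaFn_mul, _root_.mul_add])
  let σ' : Red.Ga S ⟶ Red.Ga S := scl (A₀ : Γ(S, ⊤)) (𝟙 _)
  have hσσ : σ ≫ σ' = 𝟙 _ ∧ σ' ≫ σ = 𝟙 _ := by
    constructor <;> refine BGaNotS.gaPt_ext ?_ <;>
      rw [comp_scl, Category.comp_id, gaFn_scl, gaFn_scl, ← _root_.mul_assoc, ← map_mul]
    · rw [Units.mul_inv, map_one, _root_.one_mul]
    · rw [Units.inv_mul, map_one, _root_.one_mul]
  haveI : IsIso σ := ⟨σ', hσσ.1, hσσ.2⟩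
  haveI : IsIso σ.left := ((Over.forget _).mapIso (asIso σ)).isIso_hom
  haveI := isOpenImmersion_cell_scl R.tC R.pp R.pm (Units.inv_mul A₀)
  haveI : IsOpenImmersion (RedR1.cellMap R.tC R.pp (σ ≫ R.pm)).left :=
    isOpenImmersion_cell_scl R.tC R.pp R.pm (Units.inv_mul A₀)
  have hMσ : RedR1.NormM R.tC (Red.chi S α) (σ ≫ R.pm) := fun X t y => by
    obtain ⟨y', hy, hy'⟩ := R.hM X t (y ≫ σ)
    refine ⟨y' ≫ σ', ?_, ?_⟩
    · rw [Category.assoc, ← Category.assoc σ', hσσ.2, Category.id_comp, hy, Category.assoc]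
    · rw [comp_scl, Category.comp_id, gaFn_scl, _root_.mul_assoc, hy', hσ, gaFn_scl, ← _root_.mul_assoc, ← map_mul,
        Units.mul_inv, map_one, _root_.one_mul]
  have s : RedR1.Sys R.tC (Red.chi S α) R.pp (σ ≫ R.pm) av :=
    ⟨inferInstance, inferInstance, inferInstance, inferInstance, inferInstance, hsq, R.hP, hMσ, fun X x y h => by
      have e : Red.gmFn (toUnit X ≫ a₀) * Red.gaFn x * Red.gaFn (y ≫ σ) = Red.gaFn x * Red.gaFn y := by
        rw [hσ, gaFn_scl, hA]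
        calc X.hom.appTop (A₀ : Γ(S, ⊤)) * Red.gaFn x * (X.hom.appTop (↑A₀⁻¹ : Γ(S, ⊤)) * Red.gaFn y)
            = X.hom.appTop (A₀ : Γ(S, ⊤)) * X.hom.appTop (↑A₀⁻¹ : Γ(S, ⊤)) * (Red.gaFn x * Red.gaFn y) := by ring
          _ = _ := by rw [← map_mul, Units.mul_inv, map_one, _root_.one_mul]
      obtain ⟨x', y', z, hz, hx, hy, hr⟩ := (hrel X x (y ≫ σ)).2 (by rw [e]; exact h)
      refine ⟨x', y' ≫ σ', z, by rw [hz, e], hx, ?_, ?_⟩
      · rw [comp_scl, Category.comp_id, gaFn_scl, _root_.mul_assoc, hy, hσ, gaFn_scl, ← _root_.mul_assoc, ← map_mul,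
          Units.mul_inv, map_one, _root_.one_mul]
      · rw [Category.assoc, ← Category.assoc σ', hσσ.2, Category.id_comp, ← Category.assoc y, hr]⟩
  -- identify the coroot
  obtain ⟨n, hn⟩ := R.lift_refl N φ hN
  have hconj : ∀ (X : Over S) (t : X ⟶ Red.DS S M),
      (toUnit X ≫ n) * (t ≫ R.tC) * (toUnit X ≫ n)⁻¹ = refl α φ t ≫ R.tC := fun X t => (cancel_mono R.z).1 (by
    simp only [MonObj.mul_comp, GrpObj.inv_comp, Category.assoc, hn, R.tz]
    exact hN X t)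
  -- the action of the Weyl element
  let r : ∀ {X : Over S}, (X ⟶ Red.DS S M) → (X ⟶ Red.DS S M) := fun t => ((t ≫ Red.chi S α) ≫ av)⁻¹ * t
  have hw : ∀ (X : Over S) (t : X ⟶ Red.DS S M),
      (s.calc' X).w 1 * (t ≫ R.tC) * ((s.calc' X).w 1)⁻¹ = r t ≫ R.tC := fun X t => by
    have h := s.torus_mul_w_conj hT (1 : X ⟶ Red.DS S M) t 1
    rw [MonObj.one_comp, _root_.one_mul] at h
    rw [h, MonObj.mul_comp, GrpObj.inv_comp]
    simp only [Category.assoc]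
  have hr2 : ∀ {X : Over S} (t : X ⟶ Red.DS S M), r (r t) = t := fun {X} t => by
    have q : Red.gmFn (((t ≫ Red.chi S α) ≫ av) ≫ Red.chi S α) =
        Red.gmFn (t ≫ Red.chi S α) * Red.gmFn (t ≫ Red.chi S α) := by
      rw [Category.assoc _ av, hsq, MonObj.comp_pow, Category.comp_id, pow_two, gmFn_mul']
    have h2 : Red.gmFn (r t ≫ Red.chi S α) * Red.gmFn (t ≫ Red.chi S α) = 1 := by
      show Red.gmFn ((((t ≫ Red.chi S α) ≫ av)⁻¹ * t) ≫ Red.chi S α) * _ = 1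
      rw [MonObj.mul_comp, gmFn_mul', _root_.mul_assoc, ← q, ← gmFn_mul', ← MonObj.mul_comp,
        show ((t ≫ Red.chi S α) ≫ av)⁻¹ * ((t ≫ Red.chi S α) ≫ av) = 1 from
          ch_ext fun m => by rw [ch_mul, ch_inv_mul, ch_one], MonObj.one_comp, RootIntrinsic.gmFn_one_eq]
    have e : r t ≫ Red.chi S α = (t ≫ Red.chi S α)⁻¹ := gmFn_inj (left_inv_eq_right_inv h2
      (by rw [_root_.mul_comm]; exact gmFn_inv' _))
    show ((r t ≫ Red.chi S α) ≫ av)⁻¹ * (((t ≫ Red.chi S α) ≫ av)⁻¹ * t) = t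
    rw [e]
    refine ch_ext fun m => ?_
    rw [ch_mul, ch_mul]
    have k1 := ch_inv_mul ((t ≫ Red.chi S α)⁻¹ ≫ av) m
    have k2 := ch_inv_mul ((t ≫ Red.chi S α) ≫ av) m
    have k3 : ch ((t ≫ Red.chi S α)⁻¹ ≫ av) m * ch ((t ≫ Red.chi S α) ≫ av) m = 1 := by
      rw [← ch_mul, ← MonObj.mul_comp, show (t ≫ Red.chi S α)⁻¹ * (t ≫ Red.chi S α) = 1 from
        gmFn_inj (by rw [gmFn_mul', gmFn_inv', RootIntrinsic.gmFn_one_eq]), MonObj.one_comp, ch_one]
    linear_combination (ch t m * (ch ((t ≫ Red.chi S α) ≫ av)⁻¹ m * ch ((t ≫ Red.chi S α) ≫ av) m)) * k1 +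
      ch t m * k2 -
      (ch t m * (ch ((t ≫ Red.chi S α)⁻¹ ≫ av)⁻¹ m * ch ((t ≫ Red.chi S α) ≫ av)⁻¹ m)) * k3
  have hcm : ∀ {X : Over S} (a b : X ⟶ Red.DS S M),
      (a ≫ R.tC) * (b ≫ R.tC) * (a ≫ R.tC)⁻¹ = b ≫ R.tC := fun a b => by
    rw [← MonObj.mul_comp a b, RedR1.mul_comm_torus hT, MonObj.mul_comp]
    exact mul_inv_cancel_right _ _
  let g : 𝟙_ (Over S) ⟶ Z := ((s.calc' _).w 1)⁻¹ * n
  have hgX : ∀ X : Over S, toUnit X ≫ g = ((s.calc' X).w 1)⁻¹ * (toUnit X ≫ n) := fun X => by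
    show toUnit X ≫ (_ * _) = _
    rw [MonObj.comp_mul, GrpObj.comp_inv, s.comp_w, map_one]
  have hgconj : ∀ (X : Over S) (t : X ⟶ Red.DS S M),
      (toUnit X ≫ g) * (t ≫ R.tC) * (toUnit X ≫ g)⁻¹ = r (refl α φ t) ≫ R.tC := fun X t => by
    have h := hw X (r (refl α φ t))
    rw [hr2, ← hconj] at h
    rw [hgX]
    calc ((s.calc' X).w 1)⁻¹ * (toUnit X ≫ n) * (t ≫ R.tC) * (((s.calc' X).w 1)⁻¹ * (toUnit X ≫ n))⁻¹
        = ((s.calc' X).w 1)⁻¹ * ((toUnit X ≫ n) * (t ≫ R.tC) * (toUnit X ≫ n)⁻¹) * (s.calc' X).w 1 := by group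
      _ = _ := by rw [← h]; group
  have hchiφ : ∀ {X : Over S} (v : X ⟶ Red.Gm S),
      (v ≫ Red.DSmap S φ) ≫ Red.chi S α = v * v := fun v => gmFn_inj (by
    rw [RootIntrinsic.gmFn_chi, ch_DSmap, toAdd_ofAdd, hφ, gmFn_mul', RootIntrinsic.gmFn_eq_ch, ← map_mul]
    rfl)
  have hcell : RedR1.InCell R.tC R.pp R.pm g := by
    have hcs : RedR1.InCell R.tC R.pp (σ ≫ R.pm) g := by
      rw [RedR1.inCell_iff]
      rintro _ ⟨pt, rfl⟩
      obtain ⟨X', f, hf, ⟨zz⟩, hv, hg⟩ := s.inCell_or R.hZ n pt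
      have hfu : f = toUnit X' := toUnit_unique _ _
      rcases hg with hg | hg
      · exfalso
        obtain ⟨y, t, x, hyt⟩ := hg
        obtain ⟨τ, hτ⟩ := R.torus_of_normalizes F ho mu hmu (f ≫ n)
          ⟨y ≫ σ, t, x, by rw [hyt, Category.assoc]⟩ fun X'' ρ t' => ⟨refl α φ t', by
            rw [← Category.assoc, hfu, toUnit_unique (ρ ≫ toUnit X') (toUnit X''), hconj]⟩
        obtain ⟨v, hv⟩ := hv 4 (by norm_num)
        let t₀ : X' ⟶ Red.DS S M := GmPts.ptOfUnit v ≫ Red.DSmap S φ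
        have h1 := hconj X' t₀
        rw [← hfu, ← hτ, hcm] at h1
        have h2 := congrArg (· ≫ Red.chi S α) (ds_eq_one ((cancel_mono R.tC).1 h1))
        have h3 : (t₀ ≫ Red.chi S α ≫ Red.DSmap S φ) ≫ Red.chi S α =
            (GmPts.ptOfUnit v * GmPts.ptOfUnit v) * (GmPts.ptOfUnit v * GmPts.ptOfUnit v) := by
          rw [← Category.assoc t₀ (Red.chi S α), show t₀ ≫ Red.chi S α = GmPts.ptOfUnit v * GmPts.ptOfUnit v from
            hchiφ _, hchiφ]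
        simp only [MonObj.one_comp] at h2
        refine hv ?_
        have h4 : Red.gmFn ((GmPts.ptOfUnit v * GmPts.ptOfUnit v) * (GmPts.ptOfUnit v * GmPts.ptOfUnit v)) = 1 := by
          rw [← h3, h2, RootIntrinsic.gmFn_one_eq]
        rw [gmFn_mul', gmFn_mul', GmPts.gmFn_ptOfUnit] at h4
        rw [← h4]
        push_cast
        ring
      · have h5 : f ≫ g = ((s.calc' X').w 1)⁻¹ * (f ≫ n) := by rw [hfu]; exact hgX X'
        rw [← h5, RedR1.inCell_iff, Over.comp_left] at hg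
        have h6 := hg ⟨zz, rfl⟩
        rwa [Scheme.Hom.comp_apply, hf zz] at h6
    obtain ⟨y, t, x, hyt⟩ := hcs
    exact ⟨y ≫ σ, t, x, by rw [hyt, Category.assoc]⟩
  obtain ⟨τ, hτ⟩ := R.torus_of_normalizes F ho mu hmu g hcell fun X' ρ t => ⟨r (refl α φ t), by
    rw [toUnit_unique ρ (toUnit X')]; exact hgconj X' t⟩
  have heq : ∀ {X : Over S} (t : X ⟶ Red.DS S M), r (refl α φ t) = t := fun {X} t => (cancel_mono R.tC).1 (by
    rw [← hgconj, ← hτ, ← Category.assoc, hcm])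
  have heq2 : ∀ {X : Over S} (v : X ⟶ Red.Gm S), (v * v) ≫ av = (v * v) ≫ Red.DSmap S φ := fun {X} v => by
    have h1 := congrArg r (heq (v ≫ Red.DSmap S φ))
    rw [hr2] at h1
    simp only [r, refl] at h1
    rw [hchiφ, ← Category.assoc (v ≫ _), hchiφ] at h1
    exact (ds_cancel h1).symm
  have hav' : av = Red.DSmap S φ := by
    obtain ⟨X', q, v, hq, -, -, hv⟩ := RedR1.exists_sqrt_cover (Red.Gm S) (GmPts.unitOfPt (𝟙 (Red.Gm S)))
    haveI := hq
    have e : q = GmPts.ptOfUnit v * GmPts.ptOfUnit v := GmPts.gmFn_injective (by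
      show Red.gmFn q = Red.gmFn _
      rw [gmFn_mul', GmPts.gmFn_ptOfUnit, hv, GmPts.val_unitOfPt, ← GmPts.gmFn_comp, Category.comp_id])
    rw [← cancel_epi q, e, heq2]
  let C := s.calc' X
  have hP : ∀ b, C.P b ∈ K.comap (MonoidHom.mk' (fun g : X ⟶ Z => g ≫ R.z) fun _ _ => MonObj.mul_comp _ _ _) :=
    fun b => by
      show C.P b ≫ R.z ∈ K
      rw [← s.calc'_P (BGaNotS.gaPt b) (BGaNotS.gaFn_gaPt _), Category.assoc, R.ppz]
      exact (hK _).1
  have hM : ∀ b, C.M b ∈ K.comap (MonoidHom.mk' (fun g : X ⟶ Z => g ≫ R.z) fun _ _ => MonObj.mul_comp _ _ _) :=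
    fun b => by
      show C.M b ≫ R.z ∈ K
      rw [← s.calc'_M (BGaNotS.gaPt b) (BGaNotS.gaFn_gaPt _), ← Category.assoc, Category.assoc _ R.pm, R.pmz]
      exact (hK _).2
  have hw' : ∀ v, C.w v ∈ K.comap (MonoidHom.mk' (fun g : X ⟶ Z => g ≫ R.z) fun _ _ => MonObj.mul_comp _ _ _) :=
    fun v => mul_mem (mul_mem (hP _) (hM _)) (hP _)
  let v := GmPts.unitOfPt ζ
  have h1 : C.H v = C.w (-v) * C.w 1 := by rw [C.w_mul_w, inv_one, _root_.mul_one, neg_neg]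
  have h2 : C.H v = ζ ≫ av ≫ R.tC := (s.calc'_H ζ (v := v) (GmPts.val_unitOfPt ζ).symm).symm
  have h3 : C.H v ≫ R.z ∈ K := h1 ▸ mul_mem (hw' (-v)) (hw' 1)
  rwa [h2, hav', Category.assoc, Category.assoc, R.tz] at h3

end Groth.Agent.RootBase
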