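import Groth.Agent.RootBase.BruhatCover
import Groth.Agent.RootBase.RankOneCoroot

/-!
# Generation of the points over a local ring by the simple root groups and the torus
-/

set_option autoImplicit false
set_option backward.isDefEq.respectTransparency false
set_option linter.style.haveILetI false
set_option maxHeartbeats 1000000
set_option synthInstance.maxHeartbeats 400000

universe u

open CategoryTheory Limits MonoidalCategory CartesianMonoidalCategory MonObj GrpObj AlgebraicGeometry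
open scoped CategoryTheory.Obj

noncomputable section

namespace Groth.Agent.RootBase

open Groth.Agent.HomDiag Groth.Agent.DynPar

variable {S : Scheme.{u}} {G : Over S} [GrpObj G] {M : Type} [AddCommGroup M] [Module.Free ℤ M] [Module.Finite ℤ M]
  {c : Red.DS S M ⟶ G} {idx : Type} [Fintype idx] {P : RootPairing idx ℤ M (Module.Dual ℤ M)}
  {u : idx → (Red.Ga S ⟶ G)} [Nonempty S] [P.IsReduced] {B : P.Base} {w : idx → (𝟙_ (Over S) ⟶ G)}

/-- **A subgroup with the torus and the root groups of simple roots and their opposites has all of them.** -/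
theorem Frame.allPts_le_of_simple (F : Frame c P.root u) (hP : P.toLinearMap = Module.Dual.eval ℤ M)
    (hw : Realises c B w) {X : Over S} (K : Subgroup (X ⟶ G)) (hT : ∀ t : X ⟶ Red.DS S M, t ≫ c ∈ K)
    (hK : ∀ a ∈ B.support, ∀ x : X ⟶ Red.Ga S, x ≫ u a ∈ K ∧ x ≫ u (P.reflectionPerm a a) ∈ K) :
    AllPts c u X ≤ K := by
  have hN : ∀ a ∈ B.support, toUnit X ≫ w a ∈ K := by
    intro a ha
    obtain ⟨x₁, x₂, t, hex⟩ := F.exchange_simple hP hw ha (y := BGaNotS.gaPt (1 : Γ(X.left, ⊤)))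
      (by rw [BGaNotS.gaFn_gaPt]; exact isUnit_one)
    have e : toUnit X ≫ w a = (x₁ ≫ u a)⁻¹ * (BGaNotS.gaPt (1 : Γ(X.left, ⊤)) ≫ u (P.reflectionPerm a a)) *
        (x₂ ≫ u a)⁻¹ * (t ≫ c)⁻¹ := by rw [hex]; group
    rw [e]
    exact mul_mem (mul_mem (mul_mem (inv_mem (hK a ha _).1) (hK a ha _).2) (inv_mem (hK a ha _).1)) (inv_mem (hT t))
  refine (Subgroup.closure_le _).2 ?_
  rintro g (⟨t, rfl⟩ | ⟨r, z, rfl⟩)
  · exact hT t
  · obtain ⟨l, a, hl, ha, hr, -⟩ := exists_word_conj B r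
    rw [← prod_reflectionPerm_apply] at hr
    obtain ⟨z', hz'⟩ := (F.wmoves_word hP hw X l hl).root' r z
    rw [show (wperm P l).symm r = a from (Equiv.symm_apply_eq _).2 hr.symm] at hz'
    have hWl : wpt X w l ∈ K := list_prod_mem fun g hg => by
      obtain ⟨d, hd, rfl⟩ := List.mem_map.1 hg
      exact hN d (hl d hd)
    rw [show z ≫ u r = wpt X w l * (z' ≫ u a) * (wpt X w l)⁻¹ by rw [← hz']; group]
    exact mul_mem (mul_mem hWl (hK a ha z').1) (inv_mem hWl)

/-- **The coroots of simple roots have values in the group generated by the simple root groups.** -/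
theorem Frame.coroot_mem_of_simple (F : Frame c P.root u) (hP : P.toLinearMap = Module.Dual.eval ℤ M)
    (hw : Realises c B w) {X : Over S} (K : Subgroup (X ⟶ G)) {a : idx} (ha : a ∈ B.support)
    (hK : ∀ x : X ⟶ Red.Ga S, x ≫ u a ∈ K ∧ x ≫ u (P.reflectionPerm a a) ∈ K) (ζ : X ⟶ Red.Gm S) :
    ζ ≫ Red.DSmap S (P.coroot a).toAddMonoidHom ≫ c ∈ K := by
  obtain ⟨mu, hmp, -, hmu⟩ := exists_pos_hom P B
  obtain ⟨p, en₀, -, hn⟩ := exists_extend {b | 0 < (-mu) (P.root b)} (Fin.elim0 : Fin 0 → idx) (fun x => x.elim0)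
    fun k => k.elim0
  obtain ⟨q, ep₀, -, hp⟩ := exists_extend {b | 0 < mu (P.root b)} (Fin.elim0 : Fin 0 → idx) (fun x => x.elim0)
    fun k => k.elim0
  have hamu : 0 < mu (P.root a) :=
    (hmp a).2 ((RootSys.mem_posRoots_iff B a).2 (RootPairing.Base.isPos_of_mem_support ha))
  have ho := (F.cell mu hmu _ _ _ _ hn hp hn hp).1
  obtain ⟨Z, _, ⟨R⟩⟩ := F.exists_rankOne (root_opp (P := P) a) mu hmu hamu _ _ hn hp
  exact R.coroot_mem F ho mu hmu (P.coroot a).toAddMonoidHom
    (by show P.coroot a (P.root a) = 2; rw [coroot_apply_root hP, P.pairing_same]) (w a) (hw a ha) K hK ζ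

end Groth.Agent.RootBase

namespace Groth.Agent.RootBase

open Groth.Agent.HomDiag Groth.Agent.DynPar

/-- Over a scheme with a point specialising all others, a point in an open translate factors through it. -/
theorem exists_fac_of_closedPoint {S : Scheme.{u}} {G Ω : Over S} [GrpObj G] (j : Ω ⟶ G) [IsOpenImmersion j.left]
    (g w : 𝟙_ (Over S) ⟶ G) (s : (𝟙_ (Over S)).left) (hs : ∀ t : (𝟙_ (Over S)).left, t ⤳ s)
    (h : g.left s ∈ Set.range ((toUnit _ ≫ w) * j).left.base) :
    ∃ y : 𝟙_ (Over S) ⟶ Ω, y ≫ j = w⁻¹ * g := by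
  rw [exists_fac_iff_range]
  let L : G ⟶ G := (toUnit G ≫ w⁻¹) * 𝟙 G
  have h1 : g ≫ L = w⁻¹ * g := by
    rw [MonObj.comp_mul, ← Category.assoc, toUnit_unique (g ≫ toUnit _) (𝟙 _), Category.id_comp, Category.comp_id]
  have h2 : ((toUnit _ ≫ w) * j) ≫ L = j := by
    rw [MonObj.comp_mul, ← Category.assoc, Category.comp_id,
      toUnit_unique (((toUnit _ ≫ w) * j) ≫ toUnit G) (toUnit Ω), GrpObj.comp_inv, inv_mul_cancel_left]
  obtain ⟨z, hz⟩ := h
  have hc : (g ≫ L).left s ∈ Set.range j.left := by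
    refine ⟨z, ?_⟩
    have e := congrArg (fun f : Ω ⟶ G => f.left z) h2
    simp only [Over.comp_left, Scheme.Hom.comp_apply] at e
    rw [Over.comp_left, Scheme.Hom.comp_apply, ← hz]
    exact e.symm
  rintro _ ⟨t, rfl⟩
  rw [← h1]
  exact ((hs t).map (g ≫ L).left.continuous).mem_open j.left.isOpenEmbedding.isOpen_range hc

end Groth.Agent.RootBase
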