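import Groth.Agent.RootBase.BruhatMap
import Groth.Agent.RootBase.UPsi
import Groth.Agent.S3951

/-!
# The Bruhat cell map is an immersion, closed in a translate of the big cell
-/

set_option autoImplicit false
set_option backward.isDefEq.respectTransparency false
set_option linter.style.haveILetI false
set_option maxHeartbeats 1000000
set_option synthInstance.maxHeartbeats 400000

universe u

open CategoryTheory Limits MonoidalCategory CartesianMonoidalCategory MonObj GrpObj AlgebraicGeometry
open scoped CategoryTheory.Obj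

noncomputable section

namespace Groth.Agent.RootBase

open Groth.Agent.HomDiag Groth.Agent.DynPar

theorem isClosedImmersion_whiskerRight {S : Scheme.{u}} {A B C : Over S} (i : A ⟶ B) [IsClosedImmersion i.left] :
    IsClosedImmersion (i ▷ C).left := by
  have h1 : (i ▷ C).left ≫ (snd B C).left = (snd A C).left := congr($(whiskerRight_snd i C).left)
  have h2 : (i ▷ C).left ≫ (fst B C).left = (fst A C).left ≫ i.left := congr($(whiskerRight_fst i C).left)
  have big : IsPullback (snd A C).left (fst A C).left C.hom A.hom :=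
    (IsPullback.of_hasPullback A.hom C.hom).flip
  have small : IsPullback (snd B C).left (fst B C).left C.hom B.hom :=
    (IsPullback.of_hasPullback B.hom C.hom).flip
  have pb : IsPullback (i ▷ C).left (fst A C).left (fst B C).left i.left := by
    refine IsPullback.of_right ?_ h2 small
    rw [h1, Over.w i]
    exact big
  exact MorphismProperty.of_isPullback (P := @IsClosedImmersion) pb.flip inferInstance

variable {S : Scheme.{u}} {G : Over S} [GrpObj G] {M : Type} [AddCommGroup M] [Module.Free ℤ M] [Module.Finite ℤ M]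
  {c : Red.DS S M ⟶ G} {idx : Type} [Fintype idx] {P : RootPairing idx ℤ M (Module.Dual ℤ M)}
  {u : idx → (Red.Ga S ⟶ G)} [Nonempty S] [P.IsReduced] {B : P.Base}

/-- **The conjugated coordinates inside the negative unipotent group.** -/
theorem Frame.exists_negKept_incl (F : Frame c P.root u) (hP : P.toLinearMap = Module.Dual.eval ℤ M)
    {n : idx → (𝟙_ (Over S) ⟶ G)}
    (hn : ∀ a, ∀ (X : Over S) (t : X ⟶ Red.DS S M),
      cj (n a) (t ≫ c) = refl (P.root a) (P.coroot a).toAddMonoidHom t ≫ c)
    (l : List idx) {k p : ℕ} (e : Fin k → idx) (he : RedSub.Enumerates (negKept B (wperm P l)) e)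
    (en : Fin p → idx) (hen : RedSub.Enumerates (RedSub.negRoots P B) en) :
    ∃ ψ : RedSub.pow (Red.Ga S) k ⟶ RedSub.pow (Red.Ga S) p, IsClosedImmersion ψ.left ∧
      RedSub.prodMap (Red.Ga S) k (fun j => u (e j)) * (toUnit _ ≫ (l.map n).prod) =
        (toUnit _ ≫ (l.map n).prod) * (ψ ≫ RedSub.prodMap (Red.Ga S) p fun j => u (en j)) := by
  classical
  haveI := F.hc.1
  obtain ⟨mu, hmp, hmn, -⟩ := exists_pos_hom P B
  have e1 : {i | ¬ B.IsPos i} = {i | 0 < (-mu) (P.root i)} := Set.ext fun i =>
    ((hmn i).trans (RootSys.mem_negRoots_iff B i)).symm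
  obtain ⟨U, _, v, -, hvc, -, -, -, hpt, hprod⟩ := F.exists_UPsi (isClosedSub_negKept B l) (-mu)
    (fun a ha => (hmn a).2 ((RootSys.mem_negRoots_iff B a).2 ha.1))
  obtain ⟨φ, hφ⟩ := hprod e he
  haveI : IsClosedImmersion (RedSub.prodMap (Red.Ga S) k fun j => u (e j)).left := by
    rw [← hφ, Over.comp_left]
    haveI := hvc
    haveI : IsIso φ.hom.left := inferInstanceAs (IsIso ((Over.forget _).map φ.hom))
    infer_instance
  obtain ⟨N, hN⟩ : ∃ N : 𝟙_ (Over S) ⟶ G, N = (l.map n).prod := ⟨_, rfl⟩
  let X := RedSub.pow (Red.Ga S) k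
  let g : X ⟶ G := RedSub.prodMap (Red.Ga S) k fun j => u (e j)
  have hg : g ∈ Gam u (negKept B (wperm P l)) X := by
    show RedSub.prodMap (Red.Ga S) k (fun j => u (e j)) ∈ _
    rw [← Category.id_comp (RedSub.prodMap _ _ _), comp_prodMap_eq]
    exact prod_mem_Gam (fun j => he.2.subset ⟨j, rfl⟩) _
  have h1 : cj N⁻¹ g ∈ Gam u {i | 0 < (-mu) (P.root i)} X := by
    have h2 := ((F.wmoves_list hP hn X l).inv).conj_Gam (Ψ' := {i | ¬ B.IsPos i}) (fun i hi => hi.2) hg
    rw [wpt_eq, ← hN, e1] at h2
    rw [cj, GrpObj.comp_inv]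
    exact h2
  have e2 : RedSub.negRoots P B = {i | 0 < (-mu) (P.root i)} := Set.ext fun i => (hmn i).symm
  rw [e2] at hen
  obtain ⟨ψ, hψ⟩ := F.exists_pow_of_mem_Gam (-mu) en hen h1
  refine ⟨ψ, ?_, ?_⟩
  · have hc : IsClosedImmersion (cj N⁻¹ g).left := by
      rw [show cj N⁻¹ g = g ≫ (cjIso N⁻¹).hom by rw [cjIso, comp_cj, Category.comp_id], Over.comp_left]
      haveI : IsIso (cjIso N⁻¹).hom.left := ((Over.forget _).mapIso (cjIso N⁻¹)).isIso_hom
      infer_instance
    rw [hψ, Over.comp_left] at hc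
    haveI := hc
    haveI := isSeparated_powGa S p
    haveI : IsSeparated ((RedSub.prodMap (Red.Ga S) p fun j => u (en j)).left ≫ G.hom) := by
      rw [Over.w]; infer_instance
    haveI : IsSeparated (RedSub.prodMap (Red.Ga S) p fun j => u (en j)).left := IsSeparated.of_comp _ G.hom
    exact IsClosedImmersion.of_comp ψ.left (RedSub.prodMap (Red.Ga S) p fun j => u (en j)).left
  · rw [← hψ, cj, ← hN, GrpObj.comp_inv, _root_.inv_inv]
    show g * (toUnit X ≫ N) = (toUnit X ≫ N) * ((toUnit X ≫ N)⁻¹ * g * (toUnit X ≫ N))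
    group

end Groth.Agent.RootBase
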