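import Groth.Agent.RootBase.BruhatGen
import Groth.Agent.S3951

/-!
# Sections over a local ring
-/

set_option autoImplicit false
set_option backward.isDefEq.respectTransparency false
set_option linter.style.haveILetI false
set_option maxHeartbeats 1000000
set_option synthInstance.maxHeartbeats 400000

universe u

open CategoryTheory Limits MonoidalCategory CartesianMonoidalCategory MonObj GrpObj AlgebraicGeometry
open scoped CategoryTheory.Obj

noncomputable section

namespace Groth.Agent.RootBase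

variable {A : Type u} [CommRing A] [IsLocalRing A] {G : Over (Spec (CommRingCat.of A))} [GrpObj G]

/-- **Over a local ring the torus and the simple root groups generate the sections.** -/
theorem mem_of_local (D : Red.SplitRed G) (b : D.P.Base) (K : Subgroup (𝟙_ (Over (Spec (CommRingCat.of A))) ⟶ G))
    (hT : ∀ t : 𝟙_ _ ⟶ D.T, t ≫ D.i ∈ K)
    (hK : ∀ a ∈ b.support, ∀ x : 𝟙_ _ ⟶ Red.Ga _, x ≫ D.u a ∈ K ∧ x ≫ D.u (D.P.reflectionPerm a a) ∈ K)
    (g : 𝟙_ (Over (Spec (CommRingCat.of A))) ⟶ G) : g ∈ K := by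
  classical
  letI := D.grpT
  letI := D.acgM
  letI := D.fintypeIdx
  letI := D.finiteM
  letI := D.freeM
  let s : Spec (CommRingCat.of A) := IsLocalRing.closedPoint A
  haveI : Nonempty (Spec (CommRingCat.of A)) := ⟨s⟩
  haveI := isReduced_of_splitRed D
  have F : Frame (D.split.inv.hom.hom ≫ D.i) D.P.root D.u := frame_of_splitRed D
  choose nr hnr using D.refl
  have hw := realises_of_reflections D b (n := nr) (fun a _ => hnr a)
  obtain ⟨n, eneg, -, hn⟩ := exists_extend (RedSub.negRoots D.P b) (Fin.elim0 : Fin 0 → D.idx) (fun x => x.elim0)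
    fun k => k.elim0
  obtain ⟨m, epos, -, hp⟩ := exists_extend (RedSub.posRoots D.P b) (Fin.elim0 : Fin 0 → D.idx) (fun x => x.elim0)
    fun k => k.elim0
  generalize Fin.append (Fin.elim0 : Fin 0 → D.idx) eneg = en at hn
  generalize Fin.append (Fin.elim0 : Fin 0 → D.idx) epos = ep at hp
  have hall := F.allPts_le_of_simple D.pairing_eq hw K (fun t => by
    rw [← Category.assoc]; exact hT _) hK
  obtain ⟨X', f, hf, ⟨z⟩, hX', hg⟩ := F.exists_allPts g s
  obtain ⟨l, hl, h⟩ := F.allPts_subset_simpleTranslates D.pairing_eq hw hX' ⟨z⟩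
    (x := fun _ => eOne X') (fun a _ => by rw [eOne, BGaNotS.gaFn_gaPt]; exact isUnit_one) hg
  let w₀ := (l.map fun a => eOne (𝟙_ (Over (Spec (CommRingCat.of A)))) ≫ D.u a).prod
  have e : toUnit X' ≫ w₀ = (l.map fun a => eOne X' ≫ D.u a).prod := by
    rw [← wpt_eq]
    simp only [wpt, ← Category.assoc]
    congr 1
    refine List.map_congr_left fun a _ => ?_
    congr 1
    refine BGaNotS.gaPt_ext ?_
    rw [BGaNotS.gaFn_comp, eOne, eOne, BGaNotS.gaFn_gaPt, BGaNotS.gaFn_gaPt, map_one]
  rw [← e] at h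
  have hmem := mem_range_translate D b hn hp z w₀ h
  rw [Over.comp_left, Scheme.Hom.comp_apply, hf z] at hmem
  haveI := (S3951.result D b _ _ hn hp).1
  obtain ⟨y, hy⟩ := exists_fac_of_closedPoint _ g w₀ s (fun t => IsLocalRing.specializes_closedPoint t) hmem
  have hcell : y ≫ RedSub.cellMap D en ep ∈ AllPts (D.split.inv.hom.hom ≫ D.i) D.u (𝟙_ _) := by
    obtain ⟨v, hv, b', hb', e'⟩ := cellMap_mem_cellPts D b hn hp y
    rw [e']
    refine mul_mem ((Subgroup.closure_le _).2 ?_ hv) ((Subgroup.closure_le _).2 ?_ hb')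
    · rintro _ ⟨d, -, x, rfl⟩
      exact Subgroup.subset_closure (Or.inr ⟨d, x, rfl⟩)
    · rintro _ (⟨t, rfl⟩ | ⟨d, -, x, rfl⟩)
      · exact Subgroup.subset_closure (Or.inl ⟨t, rfl⟩)
      · exact Subgroup.subset_closure (Or.inr ⟨d, x, rfl⟩)
  rw [hy] at hcell
  have hw₀ : w₀ ∈ K := list_prod_mem fun g hg => by
    obtain ⟨a, ha, rfl⟩ := List.mem_map.1 hg
    exact (hK a (hl a ha) _).1
  simpa using mul_mem hw₀ (hall hcell)

end Groth.Agent.RootBase
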