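import Groth.Agent.RootBase.BruhatUnique
import Groth.Agent.RootBase.BruhatCover

/-!
# The Bruhat cell maps of a splitting and the double cosets `U⁻ n B`
-/

set_option autoImplicit false
set_option backward.isDefEq.respectTransparency false
set_option linter.style.haveILetI false
set_option maxHeartbeats 1000000
set_option synthInstance.maxHeartbeats 400000

universe u

open CategoryTheory Limits MonoidalCategory CartesianMonoidalCategory MonObj GrpObj AlgebraicGeometry
open scoped CategoryTheory.Obj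

noncomputable section

namespace Groth.Agent.RootBase

open Groth.Agent.HomDiag Groth.Agent.DynPar

variable {S : Scheme.{u}} {G : Over S} [GrpObj G]

theorem negKept_eq {M : Type} [AddCommGroup M] [Module.Free ℤ M] [Module.Finite ℤ M] {idx : Type} [Fintype idx] {P : RootPairing idx ℤ M (Module.Dual ℤ M)}
    [P.IsReduced] (B : P.Base) (σ : Equiv.Perm idx) :
    negKept B σ = RedSub.negMeetNeg P B σ := by
  ext i
  simp only [negKept, RedSub.negMeetNeg, Set.mem_setOf_eq, RootSys.mem_negRoots_iff]

theorem isClosedSub_negKept {M : Type} [AddCommGroup M] [Module.Free ℤ M] [Module.Finite ℤ M] {idx : Type} [Fintype idx]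
    {P : RootPairing idx ℤ M (Module.Dual ℤ M)} [P.IsReduced] (B : P.Base) (l : List idx) :
    RootD.IsClosedSub P (negKept B (wperm P l)) := by
  rintro i j k ⟨hi, hi'⟩ ⟨hj, hj'⟩ e
  refine ⟨fun hk => ?_, fun hk => ?_⟩
  · have h1 := B.height_add e
    have h2 : ¬ 0 < B.height i := hi
    have h3 : ¬ 0 < B.height j := hj
    have h4 : 0 < B.height k := hk
    omega
  · have e1 : P.root ((wperm P l).symm k) = P.root ((wperm P l).symm i) + P.root ((wperm P l).symm j) := by
      obtain ⟨i', rfl⟩ := (wperm P l).surjective i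
      obtain ⟨j', rfl⟩ := (wperm P l).surjective j
      obtain ⟨k', rfl⟩ := (wperm P l).surjective k
      simp only [Equiv.symm_apply_apply]
      simp only [wperm] at e
      rw [prod_reflectionPerm_apply, prod_reflectionPerm_apply, prod_reflectionPerm_apply, RootSys.groot_smul,
        RootSys.groot_smul, RootSys.groot_smul, ← smul_add] at e
      exact MulAction.injective _ e
    have h1 := B.height_add e1
    have h2 : ¬ 0 < B.height ((wperm P l).symm i) := hi'
    have h3 : ¬ 0 < B.height ((wperm P l).symm j) := hj'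
    have h4 : 0 < B.height ((wperm P l).symm k) := hk
    omega

set_option maxHeartbeats 4000000 in
/-- Values of a Bruhat cell map. -/
theorem exists_of_bruhatMap [Nonempty S] (D : Red.SplitRed G) (b : D.P.Base) {k m : ℕ} {e : Fin k → D.idx}
    {epos : Fin m → D.idx} (nr : D.idx → (𝟙_ (Over S) ⟶ G)) (l : List D.idx)
    (he : RedSub.Enumerates (RedSub.negMeetNeg D.P b (RedSub.wordPerm D.P l)) e)
    (hp : RedSub.Enumerates (RedSub.posRoots D.P b) epos) {X : Over S}
    (y : X ⟶ RedSub.pow (Red.Ga S) k ⊗ (D.T ⊗ RedSub.pow (Red.Ga S) m)) :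
    letI := D.grpT
    letI := D.acgM
    ∃ v ∈ Gam D.u {i | ¬ b.IsPos i} X, ∃ β ∈ BorelPts (D.split.inv.hom.hom ≫ D.i) D.u b X,
      y ≫ RedSub.bruhatMap D nr l e epos = v * wpt X nr l * β := by
  letI := D.grpT
  letI := D.acgM
  letI := D.fintypeIdx
  letI := D.finiteM
  letI := D.freeM
  haveI := isReduced_of_splitRed D
  have hinv : D.split.hom.hom.hom ≫ D.split.inv.hom.hom = 𝟙 _ := congrArg (fun z => z.hom.hom) D.split.hom_inv_id
  refine ⟨(y ≫ fst _ _) ≫ RedSub.prodMap (Red.Ga S) k (fun j => D.u (e j)), ?_,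
    (((y ≫ snd _ _ ≫ fst _ _) ≫ D.split.hom.hom.hom) ≫ D.split.inv.hom.hom ≫ D.i) *
      ((y ≫ snd _ _ ≫ snd _ _) ≫ RedSub.prodMap (Red.Ga S) m (fun j => D.u (epos j))),
    mul_mem (torus_mem_BorelPts _) ?_, ?_⟩
  · rw [comp_prodMap_eq]
    refine prod_mem_Gam (fun j => ?_) _
    exact (RootSys.mem_negRoots_iff b _).1 (he.2.subset ⟨j, rfl⟩).1
  · rw [comp_prodMap_eq]
    refine Gam_le_BorelPts (Ψ := {i | b.IsPos i}) (fun _ h => h) X (prod_mem_Gam (fun j => ?_) _)
    exact (RootSys.mem_posRoots_iff b _).1 (hp.2.subset ⟨j, rfl⟩)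
  · rw [wpt_eq]
    simp only [RedSub.bruhatMap, MonObj.comp_mul, Category.assoc, reassoc_of% hinv]
    rw [← Category.assoc y (toUnit _), toUnit_unique (y ≫ toUnit _) (toUnit X)]
    group

end Groth.Agent.RootBase
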