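import Groth.Agent.RootBase.BruhatUnique
import Groth.Agent.HomDiag.Local

/-!
# Points normalising the torus act on it through the Weyl group
-/

set_option autoImplicit false
set_option backward.isDefEq.respectTransparency false
set_option linter.style.haveILetI false
set_option maxHeartbeats 1000000
set_option synthInstance.maxHeartbeats 400000

universe u

open CategoryTheory Limits MonoidalCategory CartesianMonoidalCategory MonObj GrpObj AlgebraicGeometry
open scoped CategoryTheory.Obj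

noncomputable section

namespace Groth.Agent.RootBase

open Groth.Agent.HomDiag Groth.Agent.DynPar

variable {S : Scheme.{u}} {G : Over S} [GrpObj G] {M : Type} [AddCommGroup M] [Module.Free ℤ M] [Module.Finite ℤ M]
  {c : Red.DS S M ⟶ G} {idx : Type} [Fintype idx] {P : RootPairing idx ℤ M (Module.Dual ℤ M)}
  {u : idx → (Red.Ga S ⟶ G)}

/-- The linear map of a word of reflections acting on characters. -/
def wordRefl (P : RootPairing idx ℤ M (Module.Dual ℤ M)) (l : List idx) : M →+ M :=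
  (((l.reverse.map fun a => P.reflection a).prod : M ≃ₗ[ℤ] M).toLinearMap).toAddMonoidHom

omit [Module.Free ℤ M] [Module.Finite ℤ M] [Fintype idx] in
theorem wordRefl_cons (a : idx) (l : List idx) (m : M) :
    wordRefl P (a :: l) m = wordRefl P l (P.reflection a m) := by
  simp only [wordRefl, List.reverse_cons, List.map_append, List.map_cons, List.map_nil, List.prod_append,
    List.prod_singleton]
  rfl

variable [Nonempty S] [P.IsReduced] {B : P.Base} {w : idx → (𝟙_ (Over S) ⟶ G)}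

omit [P.IsReduced] in
/-- A product of Weyl elements acts on the torus by its word. -/
theorem wpt_conj_torus (hP : P.toLinearMap = Module.Dual.eval ℤ M) (hw : Realises c B w) (X : Over S) :
    ∀ (l : List idx), (∀ a ∈ l, a ∈ B.support) → ∀ t : X ⟶ Red.DS S M,
      wpt X w l * (t ≫ c) * (wpt X w l)⁻¹ = (t ≫ Red.DSmap S (wordRefl P l)) ≫ c
  | [], _, t => by
    simp only [wpt, List.map_nil, List.prod_nil, _root_.one_mul, inv_one, _root_.mul_one]
    congr 1
    refine ch_ext fun m => ?_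
    rw [ch_DSmap]
    rfl
  | a :: l, hl, t => by
    have ih := wpt_conj_torus hP hw X l (fun d hd => hl d (List.mem_cons_of_mem _ hd)) t
    have e : wpt X w (a :: l) = (toUnit X ≫ w a) * wpt X w l := by simp only [wpt, List.map_cons, List.prod_cons]
    rw [e, show (toUnit X ≫ w a) * wpt X w l * (t ≫ c) * ((toUnit X ≫ w a) * wpt X w l)⁻¹ =
      (toUnit X ≫ w a) * (wpt X w l * (t ≫ c) * (wpt X w l)⁻¹) * (toUnit X ≫ w a)⁻¹ by group, ih]
    refine (hw a (hl a List.mem_cons_self) X _).trans ?_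
    congr 1
    refine ch_ext fun m => ?_
    obtain ⟨m, rfl⟩ : ∃ k : M, Multiplicative.ofAdd k = m := ⟨m.toAdd, rfl⟩
    rw [ch_refl, ch_DSmap, ch_DSmap, toAdd_ofAdd, wordRefl_cons, P.reflection_apply]
    show _ = ch t (Multiplicative.ofAdd (wordRefl P l (m - P.toLinearMap m (P.coroot a) • P.root a)))
    rw [hP]
    rfl

/-- **A point normalising the torus acts on it by a word of reflections, if the space is connected.** -/
theorem Frame.exists_word_of_normalizes (F : Frame c P.root u) (hP : P.toLinearMap = Module.Dual.eval ℤ M)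
    (hw : Realises c B w) (X : Over S) [ConnectedSpace X.left] (g : X ⟶ G)
    (hg : ∀ (X' : Over S) (ρ : X' ⟶ X) (t : X' ⟶ Red.DS S M),
      ∃ t' : X' ⟶ Red.DS S M, (ρ ≫ g) * (t ≫ c) * (ρ ≫ g)⁻¹ = t' ≫ c) :
    ∃ l : List idx, ∀ (X' : Over S) (ρ : X' ⟶ X) (t : X' ⟶ Red.DS S M),
      (ρ ≫ g) * (t ≫ c) * (ρ ≫ g)⁻¹ = (t ≫ Red.DSmap S (wordRefl P l)) ≫ c := by
  classical
  haveI := F.hc.1
  haveI : Mono c := F.hc.2.1
  haveI : AddGroup.FG M := Module.Finite.iff_addGroup_fg.1 inferInstance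
  obtain ⟨φ, hφ⟩ := hg (Red.DS S M ⊗ X) (snd _ _) (fst _ _)
  have hev : ∀ (X' : Over S) (ρ : X' ⟶ X) (t : X' ⟶ Red.DS S M),
      (ρ ≫ g) * (t ≫ c) * (ρ ≫ g)⁻¹ = (lift t ρ ≫ φ) ≫ c := fun X' ρ t => by
    rw [Category.assoc, ← hφ, MonObj.comp_mul, MonObj.comp_mul, GrpObj.comp_inv, lift_fst_assoc, lift_snd_assoc]
  have hfam : AutFam.IsHomFamily (Red.DS S M) (Red.DS S M) φ := fun X' a b ρ => by
    rw [← cancel_mono c, MonObj.mul_comp, ← hev, ← hev, ← hev, MonObj.mul_comp]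
    group
  -- the action near every point
  let good : List idx → Set X.left := fun l => {p | ∃ U : X.left.Opens, p ∈ U ∧
    ∀ (X' : Over S) (ρ : X' ⟶ X), Set.range ρ.left ⊆ U → ∀ t : X' ⟶ Red.DS S M,
      lift t ρ ≫ φ = t ≫ Red.DSmap S (wordRefl P l)}
  have hex : ∀ p, ∃ l, p ∈ good l := by
    intro p
    obtain ⟨T', v, hv, ⟨q, hq⟩, θ, hθ⟩ := exists_locally_DSmap hfam p
    haveI := hv
    obtain ⟨X', f, hf, hne, hX', hall⟩ := F.exists_allPts (v ≫ g) q
    obtain ⟨l, hl, vv, hvv, β, hβ, e⟩ := F.allPts_subset_oppCells hP hw hX' hall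
    obtain ⟨v₁, hv₁, v₂, hv₂, hve⟩ := F.split_neg (F.wmoves_word hP hw X' l hl) hvv
    -- the quotient by the word lies in the torus
    have hm := F.wmoves_word hP hw X' l hl
    obtain ⟨N, hN⟩ : ∃ N, N = wpt X' w l := ⟨_, rfl⟩
    rw [← hN] at hm e hve
    have hz : N⁻¹ * v₁ * N ∈ Gam u {i | ¬ B.IsPos i} X' := by
      have h1 := (hm.inv).conj_Gam (Ψ' := {i | ¬ B.IsPos i}) (fun i hi => hi.2) hv₁
      rwa [_root_.inv_inv] at h1
    have hcell : N⁻¹ * (f ≫ v ≫ g) ∈ CellPts c u B X' :=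
      ⟨_, hz, v₂ * β, mul_mem (Gam_le_BorelPts (Ψ := {i | B.IsPos i}) (fun _ h => h) X' hv₂) hβ, by
        rw [e, hve]; group⟩
    obtain ⟨mu, hmp, hmn, hmu⟩ := exists_pos_hom P B
    obtain ⟨p', en₀, -, hen⟩ := exists_extend (RedSub.negRoots P B) (Fin.elim0 : Fin 0 → idx) (fun x => x.elim0)
      fun k => k.elim0
    obtain ⟨q', ep₀, -, hep⟩ := exists_extend (RedSub.posRoots P B) (Fin.elim0 : Fin 0 → idx) (fun x => x.elim0)
      fun k => k.elim0
    generalize Fin.append (Fin.elim0 : Fin 0 → idx) en₀ = en at hen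
    generalize Fin.append (Fin.elim0 : Fin 0 → idx) ep₀ = ep at hep
    obtain ⟨z, hzc⟩ := F.exists_cellC_of_mem en ep hen hep hcell
    have e1 : RedSub.posRoots P B = {i | 0 < mu (P.root i)} := Set.ext fun i => (hmp i).symm
    have e2 : RedSub.negRoots P B = {i | 0 < (-mu) (P.root i)} := Set.ext fun i => (hmn i).symm
    rw [e1] at hep
    rw [e2] at hen
    have ho := (F.cell mu hmu _ _ _ _ hen hep hen hep).1
    have hz' : lift (z ≫ fst _ _) (lift (z ≫ snd _ _ ≫ fst _ _) (z ≫ snd _ _ ≫ snd _ _)) = z := by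
      refine CartesianMonoidalCategory.hom_ext _ _ (by simp) ?_
      refine CartesianMonoidalCategory.hom_ext _ _ (by simp) (by simp)
    have key := S5509.torus_of_normalizes F en ep ho mu hmu (z ≫ fst _ _) (z ≫ snd _ _ ≫ fst _ _)
      (z ≫ snd _ _ ≫ snd _ _) fun X'' ρ t => by
        obtain ⟨t₁, ht₁⟩ := hg X'' (ρ ≫ f ≫ v) t
        obtain ⟨t₂, ht₂⟩ := (F.wmoves_word hP hw X'' l hl).torus' t₁
        refine ⟨t₂, ?_⟩
        rw [hz', hzc, MonObj.comp_mul, GrpObj.comp_inv, hN, comp_wpt, ← ht₂, ← ht₁]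
        simp only [Category.assoc]
        group
    rw [hz', hzc] at key
    set s₀ := z ≫ snd _ _ ≫ fst _ _
    have hθl : θ = wordRefl P l := by
      haveI : Nonempty X'.left := hne
      refine DSmap_inj (S := S) (T := X') ?_
      let D₀ := Red.DS S M ⊗ X'
      have h1 : ((snd (Red.DS S M) X' ≫ f ≫ v) ≫ g) * (fst _ X' ≫ c) * ((snd (Red.DS S M) X' ≫ f ≫ v) ≫ g)⁻¹ =
          (fst _ X' ≫ Red.DSmap S (wordRefl P l)) ≫ c := by
        have h2 : (snd (Red.DS S M) X' ≫ f ≫ v) ≫ g = wpt D₀ w l * ((snd (Red.DS S M) X' ≫ s₀) ≫ c) := by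
          have e4 : f ≫ v ≫ g = N * (s₀ ≫ c) := by rw [← key]; group
          rw [Category.assoc, Category.assoc, e4, MonObj.comp_mul, hN, comp_wpt, Category.assoc]
          simp only [D₀, s₀, Category.assoc]
        have hcm : ∀ a b : D₀ ⟶ Red.DS S M, a * b = b * a := fun a b => ch_ext fun m => by
          rw [ch_mul, ch_mul, mul_comm]
        rw [h2, show wpt D₀ w l * ((snd _ X' ≫ s₀) ≫ c) * (fst _ X' ≫ c) * (wpt D₀ w l * ((snd _ X' ≫ s₀) ≫ c))⁻¹ =
          wpt D₀ w l * (((snd _ X' ≫ s₀) ≫ c) * (fst _ X' ≫ c) * ((snd _ X' ≫ s₀) ≫ c)⁻¹) * (wpt D₀ w l)⁻¹ by group,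
          ← MonObj.mul_comp, hcm, MonObj.mul_comp, mul_inv_cancel_right, wpt_conj_torus hP hw D₀ l hl]
      rw [hev, cancel_mono] at h1
      rw [← h1]
      have h3 := congrArg (fun k => lift (fst (Red.DS S M) X') (snd _ X' ≫ f) ≫ k) hθ
      simp only [lift_whiskerLeft_assoc, lift_fst_assoc, Category.assoc] at h3
      exact h3.symm
    refine ⟨l, v.left.opensRange, ⟨q, hq⟩, fun X'' ρ hρ t => ?_⟩
    obtain ⟨ρ', hρ'⟩ := (exists_fac_iff_range v ρ).2 hρ
    rw [← hρ', ← hθl]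
    have h3 := congrArg (fun k => lift t ρ' ≫ k) hθ
    simp only [lift_whiskerLeft_assoc, lift_fst_assoc] at h3
    exact h3
  have hopen : ∀ l, IsOpen (good l) := fun l => isOpen_iff_forall_mem_open.2 fun p ⟨U, hp, hU⟩ =>
    ⟨U, fun q hq => ⟨U, hq, hU⟩, U.isOpen, hp⟩
  have hagree : ∀ l l' p, p ∈ good l → p ∈ good l' → wordRefl P l = wordRefl P l' := by
    rintro l l' p ⟨U, hp, hU⟩ ⟨U', hp', hU'⟩
    let T : Over S := Over.mk ((U ⊓ U').ι ≫ X.hom)
    let ρ : T ⟶ X := Over.homMk (U ⊓ U').ι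
    haveI : Nonempty T.left := ⟨(⟨p, hp, hp'⟩ : ↥(U ⊓ U'))⟩
    have hr : Set.range (snd (Red.DS S M) T ≫ ρ).left ⊆ (U ⊓ U' : X.left.Opens) := by
      rintro _ ⟨y, rfl⟩
      rw [Over.comp_left, Scheme.Hom.comp_apply]
      exact ((snd (Red.DS S M) T).left y).2
    refine DSmap_inj (S := S) (T := T) ?_
    rw [← hU _ (snd _ T ≫ ρ) (hr.trans fun y hy => hy.1) (fst _ T),
      ← hU' _ (snd _ T ≫ ρ) (hr.trans fun y hy => hy.2) (fst _ T)]
  obtain ⟨p₀⟩ : Nonempty X.left := inferInstance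
  obtain ⟨l, hl⟩ := hex p₀
  have hS : {p | ∀ l', p ∈ good l' → wordRefl P l' = wordRefl P l} = Set.univ := by
    refine IsClopen.eq_univ ⟨?_, ?_⟩ ⟨p₀, fun l' h => hagree l' l p₀ h hl⟩
    · refine isOpen_compl_iff.1 (isOpen_iff_forall_mem_open.2 fun p hp => ?_)
      simp only [Set.mem_compl_iff, Set.mem_setOf_eq, not_forall] at hp
      obtain ⟨l', h', hne'⟩ := hp
      exact ⟨good l', fun q hq hq' => hne' (hq' l' hq), hopen l', h'⟩
    · refine isOpen_iff_forall_mem_open.2 fun p hp => ?_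
      obtain ⟨l', h'⟩ := hex p
      exact ⟨good l', fun q hq l'' h'' => (hagree l'' l' q h'' hq).trans (hp l' h'), hopen l', h'⟩
  refine ⟨l, fun X' ρ t => ?_⟩
  rw [hev]
  congr 1
  refine Over.OverMorphism.ext (Scheme.hom_ext_of_forall _ _ fun x => ?_)
  obtain ⟨l', h'⟩ := hex (ρ.left x)
  have e := (Set.eq_univ_iff_forall.1 hS (ρ.left x)) l' h'
  obtain ⟨U, hU, hUl⟩ := h'
  let T : Over S := Over.mk ((ρ.left ⁻¹ᵁ U).ι ≫ X'.hom)
  let j : T ⟶ X' := Over.homMk (ρ.left ⁻¹ᵁ U).ι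
  refine ⟨ρ.left ⁻¹ᵁ U, hU, ?_⟩
  have h5 := hUl T (j ≫ ρ) (by
    rintro _ ⟨y, rfl⟩
    rw [Over.comp_left, Scheme.Hom.comp_apply]
    exact y.2) (j ≫ t)
  rw [e, ← comp_lift, Category.assoc, Category.assoc] at h5
  exact congrArg CommaMorphism.left h5

end Groth.Agent.RootBase
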