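import Groth.Agent.RootBase.BruhatSchubert
import Groth.Agent.RootBase.BorelUnip
import Groth.Agent.RootBase.BorelStd
import Groth.Agent.GrpAct.Stabilizer
import Mathlib.AlgebraicGeometry.Morphisms.FlatDescent

/-!
# Orbits of unipotent radicals on a flag variety
-/

set_option autoImplicit false
set_option backward.isDefEq.respectTransparency false
set_option linter.style.haveILetI false
set_option maxHeartbeats 1000000
set_option synthInstance.maxHeartbeats 400000

universe u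

open CategoryTheory Limits MonoidalCategory CartesianMonoidalCategory MonObj GrpObj AlgebraicGeometry
open scoped CategoryTheory.Obj

noncomputable section

namespace Groth.Agent.RootBase

open Groth.Agent.HomDiag Groth.Agent.DynPar

theorem wordRefl_root {idx M : Type} [AddCommGroup M] {P : RootPairing idx ℤ M (Module.Dual ℤ M)} :
    ∀ (l : List idx) (x : idx), wordRefl P l (P.root x) = P.root ((wperm P l).symm x)
  | [], x => by simp [wordRefl, wperm]; rfl
  | a :: l, x => by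
    rw [wordRefl_cons, ← P.root_reflectionPerm, wordRefl_root l, wperm_cons]
    congr 1
    show _ = (wperm P l).symm ((P.reflectionPerm a).symm x)
    rw [RootPairing.reflectionPerm_symm]

variable {k : Type u} [Field k]

local notation "S₀" => Spec (CommRingCat.of k)
local notation "U₀" => 𝟙_ (Over (Spec (CommRingCat.of k)))

variable {G : Over (Spec (CommRingCat.of k))} [GrpObj G] {M : Type} [AddCommGroup M] [Module.Free ℤ M]
  [Module.Finite ℤ M] {c : Red.DS (Spec (CommRingCat.of k)) M ⟶ G} {idx : Type} [Fintype idx]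
  {P : RootPairing idx ℤ M (Module.Dual ℤ M)}
  {u : idx → (Red.Ga (Spec (CommRingCat.of k)) ⟶ G)}

/-- A point of the torus fixes every root group. -/
theorem Frame.wmoves_torus (F : Frame c P.root u) {X : Over S₀} (t : X ⟶ Red.DS S₀ M) :
    WMoves c u (t ≫ c) 1 := by
  haveI := F.hc.1
  have hcm : ∀ s t : X ⟶ Red.DS S₀ M, (t ≫ c) * (s ≫ c) * (t ≫ c)⁻¹ = s ≫ c := fun s t => by
    rw [← MonObj.mul_comp, show t * s = s * t from ch_ext fun m => by rw [ch_mul, ch_mul, mul_comm],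
      MonObj.mul_comp, mul_inv_cancel_right]
  refine ⟨fun b x => ?_, fun b x => ?_, fun s => ⟨s, hcm s t⟩, fun s => ⟨s, ?_⟩⟩
  · obtain ⟨z, hz, -⟩ := (F.hu b).2.2 X t x
    exact ⟨z, hz.symm⟩
  · obtain ⟨z, hz, -⟩ := (F.hu b).2.2 X t⁻¹ x
    refine ⟨z, ?_⟩
    rw [GrpObj.inv_comp, _root_.inv_inv] at hz
    exact hz.symm
  · have h := hcm s t⁻¹
    rw [GrpObj.inv_comp, _root_.inv_inv] at h
    exact h

variable [P.IsReduced] {B : P.Base} {w : idx → (𝟙_ (Over (Spec (CommRingCat.of k))) ⟶ G)}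

/-- **A rational point normalising the torus moves the frame by a word.** -/
theorem Frame.exists_wmoves_of_normalizes (F : Frame c P.root u) (hP : P.toLinearMap = Module.Dual.eval ℤ M)
    (hw : RealisesAll P c w) (B : P.Base) (g : U₀ ⟶ G)
    (hg : ∀ (X : Over S₀) (ρ : X ⟶ U₀) (t : X ⟶ Red.DS S₀ M),
      ∃ t' : X ⟶ Red.DS S₀ M, (ρ ≫ g) * (t ≫ c) * (ρ ≫ g)⁻¹ = t' ≫ c) :
    ∃ l : List idx, ∀ X : Over S₀, WMoves c u (toUnit X ≫ g) (wperm P l) := by
  haveI := F.hc.1
  haveI := F.hc.2.1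
  haveI : ConnectedSpace (U₀).left := inferInstanceAs (ConnectedSpace (PrimeSpectrum k))
  obtain ⟨l, hl⟩ := F.exists_word_of_normalizes hP (B := B) (fun a _ => hw a) U₀ g hg
  obtain ⟨t, ht⟩ := (((S3917.result k G F.hG (Red.DS S₀ M) c F.hc.2.2.1).1 F.hc).2.2 U₀
    ((wpt U₀ w l)⁻¹ * g)).2 fun X x s => by
      rw [MonObj.comp_mul, GrpObj.comp_inv, comp_wpt]
      have h1 := wpt_conj_torus_all hP hw X l s
      have h2 := hl X x s
      rw [← h1] at h2
      calc (wpt X w l)⁻¹ * (x ≫ g) * (s ≫ c)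
          = (wpt X w l)⁻¹ * ((x ≫ g) * (s ≫ c) * (x ≫ g)⁻¹) * (x ≫ g) := by group
        _ = _ := by rw [h2]; group
  refine ⟨l, fun X => ?_⟩
  have e : toUnit X ≫ g = wpt X w l * ((toUnit X ≫ t) ≫ c) := by
    rw [Category.assoc, ht, MonObj.comp_mul, GrpObj.comp_inv, comp_wpt, mul_inv_cancel_left]
  rw [e, ← _root_.mul_one (wperm P l)]
  exact (F.wmoves_list hP hw X l).mul (F.wmoves_torus _)

omit [P.IsReduced] in
/-- A point of the big cell has unique components. -/
theorem Frame.cell_coords (F : Frame c P.root u) (mu : M →+ ℤ) (hmu : ∀ a, mu (P.root a) ≠ 0) {X : Over S₀}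
    {v v' w₁ w₁' : X ⟶ G} {t t' : X ⟶ Red.DS S₀ M} (hv : v ∈ Gam u {b | 0 < (-mu) (P.root b)} X)
    (hv' : v' ∈ Gam u {b | 0 < (-mu) (P.root b)} X) (hw : w₁ ∈ Gam u {b | 0 < mu (P.root b)} X)
    (hw' : w₁' ∈ Gam u {b | 0 < mu (P.root b)} X) (h : v * (t ≫ c) * w₁ = v' * (t' ≫ c) * w₁') :
    v = v' ∧ t = t' ∧ w₁ = w₁' := by
  obtain ⟨p, en₀, -, hn⟩ := exists_extend {i | 0 < (-mu) (P.root i)} (Fin.elim0 : Fin 0 → idx) (fun x => x.elim0)
    fun k => k.elim0
  obtain ⟨q, ep₀, -, hp⟩ := exists_extend {i | 0 < mu (P.root i)} (Fin.elim0 : Fin 0 → idx) (fun x => x.elim0)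
    fun k => k.elim0
  generalize Fin.append (Fin.elim0 : Fin 0 → idx) en₀ = en at hn
  generalize Fin.append (Fin.elim0 : Fin 0 → idx) ep₀ = ep at hp
  haveI := (F.cell mu hmu _ _ _ _ hn hp hn hp).1
  obtain ⟨x, hx⟩ := F.exists_pow_of_mem_Gam (-mu) en hn hv
  obtain ⟨x', hx'⟩ := F.exists_pow_of_mem_Gam (-mu) en hn hv'
  obtain ⟨y, hy⟩ := F.exists_pow_of_mem_Gam mu ep hp hw
  obtain ⟨y', hy'⟩ := F.exists_pow_of_mem_Gam mu ep hp hw'
  let C := cellC c (fun l => u (en l)) (fun l => u (ep l))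
  haveI : Mono C := Over.mono_of_mono_left _
  have e1 : lift x (lift t y) = lift x' (lift t' y') := by
    rw [← cancel_mono C, comp_cellC, comp_cellC, ← hx, ← hy, ← hx', ← hy', ← _root_.mul_assoc, ← _root_.mul_assoc, h]
  have e2 := congrArg (fun z => z ≫ fst _ _) e1
  have e3 := congrArg (fun z => z ≫ snd _ _ ≫ fst _ _) e1
  have e4 := congrArg (fun z => z ≫ snd _ _ ≫ snd _ _) e1
  simp only [lift_fst, lift_snd_assoc] at e2 e3 e4
  simp only [lift_fst, lift_snd] at e3 e4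
  exact ⟨by rw [hx, hx', e2], e3, by rw [hy, hy', e4]⟩

omit [P.IsReduced] in
/-- The unipotent group of one functional splits by the sign of another. -/
theorem Frame.split_sign (F : Frame c P.root u) (mu nu : M →+ ℤ) (hmu : ∀ a, mu (P.root a) ≠ 0) {X : Over S₀}
    {v : X ⟶ G} (hv : v ∈ Gam u {b | 0 < nu (P.root b)} X) :
    ∃ v₁ ∈ Gam u {b | 0 < nu (P.root b) ∧ 0 < (-mu) (P.root b)} X,
      ∃ v₂ ∈ Gam u {b | 0 < nu (P.root b) ∧ 0 < mu (P.root b)} X, v = v₁ * v₂ := by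
  obtain ⟨p₀, e₀, -, he₀⟩ := exists_extend {b | 0 < nu (P.root b) ∧ 0 < (-mu) (P.root b)}
    (Fin.elim0 : Fin 0 → idx) (fun x => x.elim0) fun k => k.elim0
  generalize Fin.append (Fin.elim0 : Fin 0 → idx) e₀ = e₁ at he₀
  generalize 0 + p₀ = p at e₁ he₀
  obtain ⟨q, r, hr0, hr⟩ := exists_extend {b | 0 < nu (P.root b)} e₁ he₀.1 fun k => (he₀.2.subset ⟨k, rfl⟩).1
  obtain ⟨y, rfl⟩ := F.exists_pow_of_mem_Gam nu (Fin.append e₁ r) hr hv
  rw [comp_prodMap_eq, prod_addCases]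
  refine ⟨_, prod_mem_Gam (u := u) (e := e₁) (fun k => he₀.2.subset ⟨k, rfl⟩) _, _,
    prod_mem_Gam (u := u) (e := r) (fun k => ?_) _, rfl⟩
  have h1 : 0 < nu (P.root (r k)) := hr.2.subset ⟨Fin.natAdd p k, Fin.append_right _ _ _⟩
  have h2 : ¬0 < (-mu) (P.root (r k)) := fun h => hr0 k (he₀.2.superset ⟨h1, h⟩)
  have h3 := hmu (r k)
  rw [AddMonoidHom.neg_apply] at h2
  exact ⟨h1, by omega⟩

omit [GrpObj G] in
/-- Open immersions descend along orbit maps. -/
theorem isOpenImmersion_of_orbit {W Y X : Over S₀} {p : Y ⟶ W} {q : Y ⟶ G} {j : W ⟶ X} {f : G ⟶ X}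
    [Flat f.left] [Surjective f.left] [LocallyOfFiniteType G.hom] [LocallyOfFiniteType X.hom]
    (h : IsPullback p q j f) [IsOpenImmersion q.left] : IsOpenImmersion j.left := by
  haveI : IsLocallyNoetherian X.left := LocallyOfFiniteType.isLocallyNoetherian X.hom
  haveI : LocallyOfFiniteType (f.left ≫ X.hom) := by rw [Over.w]; infer_instance
  haveI : LocallyOfFiniteType f.left := locallyOfFiniteType_of_comp f.left X.hom
  exact MorphismProperty.of_isPullback_of_descendsAlong (P := @IsOpenImmersion)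
    (Q := @Surjective ⊓ @Flat ⊓ @LocallyOfFinitePresentation) (h.flip.map (Over.forget S₀))
    ⟨⟨inferInstanceAs (Surjective f.left), inferInstanceAs (Flat f.left)⟩,
      inferInstanceAs (LocallyOfFinitePresentation f.left)⟩ ‹IsOpenImmersion q.left›

end Groth.Agent.RootBase
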