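import Groth.Agent.RootBase.BruhatClosure
import Groth.Agent.RootBase.BruhatNorm
import Groth.Agent.S3917
import Mathlib.AlgebraicGeometry.AlgClosed.Basic

/-!
# Inclusions between the closures of Bruhat double cosets
-/

set_option autoImplicit false
set_option backward.isDefEq.respectTransparency false
set_option linter.style.haveILetI false
set_option maxHeartbeats 1000000
set_option synthInstance.maxHeartbeats 400000

universe u

open CategoryTheory Limits MonoidalCategory CartesianMonoidalCategory MonObj GrpObj AlgebraicGeometry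
open scoped CategoryTheory.Obj

noncomputable section

namespace Groth.Agent.RootBase

open Groth.Agent.HomDiag Groth.Agent.DynPar

section Comb

variable {idx M : Type} [AddCommGroup M] {P : RootPairing idx ℤ M (Module.Dual ℤ M)}

theorem wperm_cons (a : idx) (l : List idx) : wperm P (a :: l) = P.reflectionPerm a * wperm P l := by
  simp only [wperm, List.map_cons, List.prod_cons]

theorem wperm_append (l l' : List idx) : wperm P (l ++ l') = wperm P l * wperm P l' := by
  simp only [wperm, List.map_append, List.prod_append]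

theorem refl_perm_sq (a : idx) : P.reflectionPerm a * P.reflectionPerm a = 1 :=
  Equiv.ext fun x => P.reflectionPerm_self a x

theorem wperm_reverse_mul : ∀ l : List idx, wperm P l.reverse * wperm P l = 1
  | [] => by simp [wperm]
  | a :: l => by
    rw [List.reverse_cons, wperm_append, wperm_cons a l, wperm_cons a [], _root_.mul_assoc,
      _root_.mul_assoc (P.reflectionPerm a), show wperm P ([] : List idx) = 1 by simp [wperm],
      _root_.one_mul, ← _root_.mul_assoc (P.reflectionPerm a), refl_perm_sq, _root_.one_mul]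
    exact wperm_reverse_mul l

/-- The pairing with a coroot is moved by the word. -/
theorem pair_wordRefl (hP : P.toLinearMap = Module.Dual.eval ℤ M) : ∀ (l : List idx) (m : M) (x : idx),
    P.coroot x (wordRefl P l m) = P.coroot (wperm P l x) m
  | [], m, x => by simp [wordRefl, wperm]
  | a :: l, m, x => by
    rw [wordRefl_cons, pair_wordRefl hP l, wperm_cons, Equiv.Perm.mul_apply, P.coroot_reflectionPerm,
      P.reflection_apply, P.coreflection_apply]
    simp only [RootPairing.coroot', RootPairing.root', hP, LinearMap.flip_apply, Module.Dual.eval_apply, map_sub,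
      map_smul, LinearMap.sub_apply, LinearMap.smul_apply, smul_eq_mul]
    ring

theorem wordRefl_eq_of_wperm (hP : P.toLinearMap = Module.Dual.eval ℤ M) [Module.Free ℤ M] [Module.Finite ℤ M]
    (hsc : Submodule.span ℤ (Set.range ⇑P.coroot) = ⊤) {l l' : List idx} (h : wperm P l = wperm P l') :
    wordRefl P l = wordRefl P l' := by
  refine AddMonoidHom.ext fun m => ?_
  refine sub_eq_zero.1 ((Module.forall_dual_apply_eq_zero_iff ℤ _).1 fun φ => ?_)
  rw [map_sub, sub_eq_zero]
  have hφ : φ ∈ Submodule.span ℤ (Set.range ⇑P.coroot) := hsc.ge Submodule.mem_top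
  induction hφ using Submodule.span_induction with
  | mem f hf =>
    obtain ⟨x, rfl⟩ := hf
    rw [pair_wordRefl hP, pair_wordRefl hP, h]
  | zero => rfl
  | add f g _ _ hf hg => rw [LinearMap.add_apply, LinearMap.add_apply, hf, hg]
  | smul r f _ hf => rw [LinearMap.smul_apply, LinearMap.smul_apply, hf]

variable [Fintype idx] [Module.Free ℤ M] [Module.Finite ℤ M] [P.IsReduced] (B : P.Base)

theorem exists_simple_word : ∀ l : List idx, ∃ l', (∀ a ∈ l', a ∈ B.support) ∧ wperm P l' = wperm P l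
  | [] => ⟨[], fun _ h => absurd h List.not_mem_nil, rfl⟩
  | r :: l => by
    obtain ⟨l', hl', e'⟩ := exists_simple_word l
    obtain ⟨p, a, hp, ha, hr, -⟩ := exists_word_conj B r
    rw [RootSys.smul_eq_wordPerm] at hr
    refine ⟨(p ++ a :: p.reverse) ++ l', ?_, ?_⟩
    · intro x hx
      simp only [List.mem_append, List.mem_cons, List.mem_reverse] at hx
      rcases hx with (hx | rfl | hx) | hx
      exacts [hp x hx, ha, hp x hx, hl' x hx]
    · rw [wperm_append, wperm_cons r, e']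
      congr 1
      rw [wperm_append, wperm_cons, ← _root_.mul_assoc,
        show wperm P p * P.reflectionPerm a = P.reflectionPerm r * wperm P p from
          hr ▸ RootSys.wordPerm_mul_reflectionPerm p a, _root_.mul_assoc,
        show wperm P p * wperm P p.reverse = 1 from mul_eq_one_comm.1 (wperm_reverse_mul p), _root_.mul_one]

/-- Every permutation of a word is that of a reduced word in the simple roots. -/
theorem exists_red_word (l : List idx) :
    ∃ r : List idx, (∀ a ∈ r, a ∈ B.support) ∧ IsRedWord B r ∧ wperm P r = wperm P l := by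
  classical
  have hex : ∃ n, ∃ r : List idx, (∀ a ∈ r, a ∈ B.support) ∧ wperm P r = wperm P l ∧ r.length = n := by
    obtain ⟨r, hr, e⟩ := exists_simple_word B l
    exact ⟨_, r, hr, e, rfl⟩
  obtain ⟨r, hr, e, hlen⟩ := Nat.find_spec hex
  refine ⟨r, hr, isRed_of_minimal B hr fun r' hr' e' => ?_, e⟩
  rw [hlen]
  exact Nat.find_min' hex ⟨r', hr', e'.trans e, rfl⟩

end Comb

section Points

variable {k : Type u} [Field k]

local notation "S₀" => Spec (CommRingCat.of k)
local notation "U₀" => 𝟙_ (Over (Spec (CommRingCat.of k)))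

variable {G : Over (Spec (CommRingCat.of k))}

/-- The point of a rational point. -/
def ptOf (g : U₀ ⟶ G) : G.left := g.left (IsLocalRing.closedPoint k)

theorem mem_basicOpen_iff (g : U₀ ⟶ G) (f : Γ(G.left, ⊤)) :
    ptOf g ∈ G.left.basicOpen f ↔ evAt g f ≠ 0 := by
  have h : ptOf g ∈ G.left.basicOpen f ↔
      (IsLocalRing.closedPoint k : (U₀).left) ∈ (U₀).left.basicOpen (g.left.appTop f) := by
    rw [← Scheme.preimage_basicOpen_top]
    rfl
  rw [h]
  rcases gamma_zero_or_unit (k := k) (g.left.appTop f) with h0 | hu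
  · rw [h0, Scheme.basicOpen_zero]
    refine iff_of_false (fun hh => hh.elim) (fun hh => hh ?_)
    show (Scheme.ΓSpecIso (CommRingCat.of k)).hom (g.left.appTop f) = 0
    rw [h0, map_zero]
  · rw [Scheme.basicOpen_of_isUnit _ hu]
    refine iff_of_true trivial fun hh => ?_
    exact not_isUnit_zero (hh ▸ hu.map (Scheme.ΓSpecIso (CommRingCat.of k)).hom.hom :)

/-- The rational points in the closure of a set of rational points. -/
def Cl (E : Set (U₀ ⟶ G)) : Set (U₀ ⟶ G) :=
  {g | ∀ f : Γ(G.left, ⊤), (∀ g' ∈ E, evAt g' f = 0) → evAt g f = 0}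

theorem subset_Cl (E : Set (U₀ ⟶ G)) : E ⊆ Cl E := fun g hg _ hf => hf g hg

theorem Cl_trans {E E' : Set (U₀ ⟶ G)} (h : E ⊆ Cl E') : Cl E ⊆ Cl E' := fun _ hg f hf =>
  hg f fun g' hg' => h hg' f hf

theorem IsAlgSet.Cl_subset {E : Set (U₀ ⟶ G)} (hE : IsAlgSet E) : Cl E ⊆ E := fun g hg => by
  by_contra hne
  obtain ⟨f, hf, hfg⟩ := hE g hne
  exact hfg (hg f hf)

theorem exists_sep_of_notMem [IsAffine G.left] (g : U₀ ⟶ G) {C : Set G.left} (hC : IsClosed C) (hg : ptOf g ∉ C) :
    ∃ f : Γ(G.left, ⊤), ptOf g ∈ G.left.basicOpen f ∧ ∀ x ∈ C, x ∉ G.left.basicOpen f := by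
  obtain ⟨f, hle, hmem⟩ := (isAffineOpen_top G.left).exists_basicOpen_le
    (V := ⟨Cᶜ, hC.isOpen_compl⟩) ⟨ptOf g, hg⟩ trivial
  exact ⟨f, hmem, fun x hx hxf => hle hxf hx⟩

variable [IsAlgClosed k]

theorem exists_point {Z : Over S₀} [LocallyOfFiniteType Z.hom] {x : Z.left} (hx : IsClosed {x}) :
    ∃ z : U₀ ⟶ Z, ptOf z = x :=
  ⟨Over.homMk (pointOfClosedPoint Z.hom x hx) (pointOfClosedPoint_comp _ _ _),
    pointOfClosedPoint_apply Z.hom x hx _⟩

theorem isClosed_ptOf [LocallyOfFiniteType G.hom] (g : U₀ ⟶ G) : IsClosed {ptOf g} :=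
  ((pointEquivClosedPoint G.hom) ⟨g.left, Over.w g⟩).2

/-- The points of a closed subscheme form a closed set. -/
theorem isAlgSet_range [IsAffine G.left] [LocallyOfFiniteType G.hom] {Z : Over S₀} (i : Z ⟶ G)
    [IsClosedImmersion i.left] : IsAlgSet (Set.range fun z : U₀ ⟶ Z => z ≫ i) := by
  haveI : LocallyOfFiniteType Z.hom := by rw [← Over.w i]; infer_instance
  intro g hg
  by_cases hmem : ptOf g ∈ Set.range i.left
  · exfalso
    obtain ⟨x, hx⟩ := hmem
    have hcl : IsClosed {x} := by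
      rw [i.left.isClosedEmbedding.isClosed_iff_image_isClosed, Set.image_singleton, hx]
      exact isClosed_ptOf g
    obtain ⟨z, hz⟩ := exists_point hcl
    refine hg ⟨z, Over.OverMorphism.ext (ext_of_apply_closedPoint_eq G.hom (Over.w (z ≫ i)) (Over.w g) ?_)⟩
    show i.left (ptOf z) = ptOf g
    rw [hz, hx]
  · obtain ⟨f, hf, hfC⟩ := exists_sep_of_notMem g i.left.isClosedEmbedding.isClosed_range hmem
    refine ⟨f, ?_, (mem_basicOpen_iff g f).1 hf⟩
    rintro _ ⟨z, rfl⟩
    by_contra hne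
    exact hfC (i.left (ptOf z)) ⟨_, rfl⟩ ((mem_basicOpen_iff (z ≫ i) f).2 hne)

/-- **Inclusion in the closure of an image is checked on rational points.** -/
theorem range_subset_closure_iff [IsAffine G.left] {Z Z' : Over S₀} [LocallyOfFiniteType Z.hom]
    [LocallyOfFiniteType Z'.hom] (f : Z ⟶ G) (f' : Z' ⟶ G) :
    Set.range f'.left ⊆ closure (Set.range f.left) ↔
      ∀ z' : U₀ ⟶ Z', z' ≫ f' ∈ Cl (Set.range fun z : U₀ ⟶ Z => z ≫ f) := by
  constructor
  · intro h z' f₀ hf₀
    by_contra hne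
    have hC : IsClosed ((G.left.basicOpen f₀ : Set G.left))ᶜ := (G.left.basicOpen f₀).isOpen.isClosed_compl
    haveI : JacobsonSpace Z.left := LocallyOfFiniteType.jacobsonSpace Z.hom
    have hsub : Set.range f.left ⊆ (G.left.basicOpen f₀ : Set G.left)ᶜ := by
      rintro _ ⟨x, rfl⟩
      have hD : closure (closedPoints Z.left) ⊆ f.left ⁻¹' (G.left.basicOpen f₀ : Set G.left)ᶜ := by
        refine closure_minimal (fun y hy => ?_) (hC.preimage f.left.continuous)
        obtain ⟨z, hz⟩ := exists_point (mem_closedPoints_iff.1 hy)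
        rw [← hz]
        exact fun hin => (mem_basicOpen_iff (z ≫ f) f₀).1 hin (hf₀ _ ⟨z, rfl⟩)
      exact hD (by rw [closure_closedPoints]; trivial)
    exact closure_minimal hsub hC (h ⟨ptOf z', rfl⟩) ((mem_basicOpen_iff (z' ≫ f') f₀).2 hne)
  · intro h
    haveI : JacobsonSpace Z'.left := LocallyOfFiniteType.jacobsonSpace Z'.hom
    rintro _ ⟨x, rfl⟩
    have hD : closure (closedPoints Z'.left) ⊆ f'.left ⁻¹' closure (Set.range f.left) := by
      refine closure_minimal (fun y hy => ?_) (isClosed_closure.preimage f'.left.continuous)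
      obtain ⟨z', hz'⟩ := exists_point (mem_closedPoints_iff.1 hy)
      rw [← hz', Set.mem_preimage]
      by_contra hne
      obtain ⟨f₀, hf₀, hC⟩ := exists_sep_of_notMem (z' ≫ f') isClosed_closure hne
      refine (mem_basicOpen_iff (z' ≫ f') f₀).1 hf₀ (h z' f₀ ?_)
      rintro _ ⟨z, rfl⟩
      by_contra hz
      exact hC (f.left (ptOf z)) (subset_closure ⟨_, rfl⟩) ((mem_basicOpen_iff (z ≫ f) f₀).2 hz)
    exact hD (by rw [closure_closedPoints]; trivial)

end Points

section Schubert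

variable {k : Type u} [Field k]

local notation "S₀" => Spec (CommRingCat.of k)
local notation "U₀" => 𝟙_ (Over (Spec (CommRingCat.of k)))

variable {G : Over (Spec (CommRingCat.of k))} [GrpObj G] {M : Type} [AddCommGroup M] [Module.Free ℤ M]
  [Module.Finite ℤ M] {c : Red.DS (Spec (CommRingCat.of k)) M ⟶ G} {idx : Type} [Fintype idx]
  {P : RootPairing idx ℤ M (Module.Dual ℤ M)}
  {u : idx → (Red.Ga (Spec (CommRingCat.of k)) ⟶ G)} {B : P.Base}
  {n : idx → (𝟙_ (Over (Spec (CommRingCat.of k))) ⟶ G)}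

/-- The rational points of a double coset. -/
def Cell (c : Red.DS (Spec (CommRingCat.of k)) M ⟶ G) (u : idx → (Red.Ga (Spec (CommRingCat.of k)) ⟶ G))
    (B : P.Base) (n : idx → (𝟙_ (Over (Spec (CommRingCat.of k))) ⟶ G)) (l : List idx) : Set (U₀ ⟶ G) :=
  {g | ∃ b₁ ∈ BorelPts c u B U₀, ∃ b₂ ∈ BorelPts c u B U₀, g = b₁ * wpt U₀ n l * b₂}

/-- Elements realising all the reflections. -/
def RealisesAll (P : RootPairing idx ℤ M (Module.Dual ℤ M)) (c : Red.DS (Spec (CommRingCat.of k)) M ⟶ G)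
    (n : idx → (𝟙_ (Over (Spec (CommRingCat.of k))) ⟶ G)) : Prop :=
  ∀ a, ∀ (X : Over S₀) (t : X ⟶ Red.DS S₀ M),
    cj (n a) (t ≫ c) = refl (P.root a) (P.coroot a).toAddMonoidHom t ≫ c

/-- A product of realisers acts on the torus by its word. -/
theorem wpt_conj_torus_all (hP : P.toLinearMap = Module.Dual.eval ℤ M) (hn : RealisesAll P c n) (X : Over S₀) :
    ∀ (l : List idx) (t : X ⟶ Red.DS S₀ M),
      wpt X n l * (t ≫ c) * (wpt X n l)⁻¹ = (t ≫ Red.DSmap S₀ (wordRefl P l)) ≫ c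
  | [], t => by
    simp only [wpt, List.map_nil, List.prod_nil, _root_.one_mul, inv_one, _root_.mul_one]
    congr 1
    refine ch_ext fun m => ?_
    rw [ch_DSmap]
    rfl
  | a :: l, t => by
    have ih := wpt_conj_torus_all hP hn X l t
    have e : wpt X n (a :: l) = (toUnit X ≫ n a) * wpt X n l := by simp only [wpt, List.map_cons, List.prod_cons]
    rw [e, show (toUnit X ≫ n a) * wpt X n l * (t ≫ c) * ((toUnit X ≫ n a) * wpt X n l)⁻¹ =
      (toUnit X ≫ n a) * (wpt X n l * (t ≫ c) * (wpt X n l)⁻¹) * (toUnit X ≫ n a)⁻¹ by group, ih]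
    refine (hn a X _).trans ?_
    congr 1
    refine ch_ext fun m => ?_
    obtain ⟨m, rfl⟩ : ∃ j : M, Multiplicative.ofAdd j = m := ⟨m.toAdd, rfl⟩
    rw [ch_refl, ch_DSmap, ch_DSmap, toAdd_ofAdd, wordRefl_cons, P.reflection_apply]
    show _ = ch t (Multiplicative.ofAdd (wordRefl P l (m - P.toLinearMap m (P.coroot a) • P.root a)))
    rw [hP]
    rfl

/-- **Words with the same permutation differ by a point of the torus.** -/
theorem Frame.wpt_eq_of_wperm (F : Frame c P.root u) (hP : P.toLinearMap = Module.Dual.eval ℤ M)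
    (hn : RealisesAll P c n) (hsc : Submodule.span ℤ (Set.range ⇑P.coroot) = ⊤) {l l' : List idx}
    (h : wperm P l = wperm P l') : ∃ t : U₀ ⟶ Red.DS S₀ M, wpt U₀ n l' = wpt U₀ n l * (t ≫ c) := by
  haveI := F.hc.1
  haveI := F.hc.2.1
  obtain ⟨t, ht⟩ := (((S3917.result k G F.hG (Red.DS S₀ M) c F.hc.2.2.1).1 F.hc).2.2 U₀
    ((wpt U₀ n l)⁻¹ * wpt U₀ n l')).2 fun X x s => by
      rw [MonObj.comp_mul, GrpObj.comp_inv, comp_wpt, comp_wpt]
      have h1 := wpt_conj_torus_all hP hn X l s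
      have h2 := wpt_conj_torus_all hP hn X l' s
      rw [← wordRefl_eq_of_wperm hP hsc h, ← h1] at h2
      calc (wpt X n l)⁻¹ * wpt X n l' * (s ≫ c)
          = (wpt X n l)⁻¹ * (wpt X n l' * (s ≫ c) * (wpt X n l')⁻¹) * wpt X n l' := by group
        _ = _ := by rw [h2]; group
  exact ⟨t, by rw [ht, mul_inv_cancel_left]⟩

theorem Frame.cell_subset_of_wperm (F : Frame c P.root u) (hP : P.toLinearMap = Module.Dual.eval ℤ M)
    (hn : RealisesAll P c n) (hsc : Submodule.span ℤ (Set.range ⇑P.coroot) = ⊤) {l l' : List idx}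
    (h : wperm P l = wperm P l') : Cell c u B n l ⊆ Cell c u B n l' := by
  rintro _ ⟨b₁, hb₁, b₂, hb₂, rfl⟩
  obtain ⟨t, ht⟩ := F.wpt_eq_of_wperm hP hn hsc h.symm
  exact ⟨b₁, hb₁, (t ≫ c) * b₂, mul_mem (torus_mem_BorelPts t) hb₂, by rw [ht]; group⟩

variable [P.IsReduced]

/-- **The double cosets are disjoint.** -/
theorem Frame.cell_unique (F : Frame c P.root u) (hP : P.toLinearMap = Module.Dual.eval ℤ M)
    (hn : RealisesAll P c n) {l l' : List idx} {g : U₀ ⟶ G} (h : g ∈ Cell c u B n l)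
    (h' : g ∈ Cell c u B n l') : wperm P l = wperm P l' := by
  haveI := F.hc.1
  obtain ⟨l₀, hl₀, hlong⟩ := exists_longest B
  have hm := F.wmoves_list hP hn U₀ l₀
  have key : ∀ l, g ∈ Cell c u B n l → ∃ v ∈ Gam u {i | ¬ B.IsPos i} U₀, ∃ b ∈ BorelPts c u B U₀,
      wpt U₀ n l₀ * g = v * wpt U₀ n (l₀ ++ l) * b := by
    rintro l ⟨b₁, hb₁, b₂, hb₂, rfl⟩
    obtain ⟨t, v, hv, rfl⟩ := F.exists_torus_unip hb₁
    have hv' : wpt U₀ n l₀ * v * (wpt U₀ n l₀)⁻¹ ∈ Gam u {b | ¬ B.IsPos b} U₀ :=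
      hm.conj_Gam (fun b hb => hlong b hb) hv
    obtain ⟨t', ht'⟩ := hm.torus t
    obtain ⟨s, hs⟩ := (F.wmoves_list hP hn U₀ (l₀ ++ l)).torus' t'
    refine ⟨(t' ≫ c) * (wpt U₀ n l₀ * v * (wpt U₀ n l₀)⁻¹) * (t' ≫ c)⁻¹, F.torus_conj_Gam t' hv',
      (s ≫ c) * b₂, mul_mem (torus_mem_BorelPts s) hb₂, ?_⟩
    have ew : wpt U₀ n (l₀ ++ l) = wpt U₀ n l₀ * wpt U₀ n l := by
      simp only [wpt, List.map_append, List.prod_append]
    rw [← hs, ew, ← ht']
    group
  obtain ⟨v, hv, b, hb, e⟩ := key l h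
  obtain ⟨v', hv', b', hb', e'⟩ := key l' h'
  have := F.oppCells_unique hP hn ⟨IsLocalRing.closedPoint k⟩ hv hv' hb hb' (e.symm.trans e')
  rw [wperm_append, wperm_append] at this
  exact mul_left_cancel this

variable [IsAlgClosed k]

/-- The points of the Borel group form a closed set. -/
theorem Frame.isAlgSet_borelPts (F : Frame c P.root u) [IsAffine G.left] :
    IsAlgSet (BorelPts c u B U₀ : Set (U₀ ⟶ G)) := by
  haveI := F.hc.1
  haveI := F.hG.2.1
  obtain ⟨mu, hmp, -, hmu⟩ := exists_pos_hom P B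
  obtain ⟨q, ep₀, -, hp⟩ := exists_extend {i | 0 < mu (P.root i)} (Fin.elim0 : Fin 0 → idx) (fun x => x.elim0)
    fun k => k.elim0
  generalize Fin.append (Fin.elim0 : Fin 0 → idx) ep₀ = ep at hp
  generalize 0 + q = m at ep hp
  obtain ⟨Q, hQg, p, hQ⟩ := DynPar.exists_isP (G := G) (Red.DSmap S₀ mu ≫ c)
  obtain ⟨φ, hφ⟩ := F.exists_iso_isP mu hmu ep hp hQ
  haveI : IsClosedImmersion (borelC c fun l => u (ep l)).left := by
    haveI := hQ.2.1
    haveI : IsIso φ.hom.left := inferInstanceAs (IsIso ((Over.forget S₀).map φ.hom))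
    rw [← hφ, Over.comp_left]
    infer_instance
  have hpos : ∀ i, B.IsPos i ↔ 0 < mu (P.root i) := fun i =>
    ((hmp i).trans (RootSys.mem_posRoots_iff B i)).symm
  convert isAlgSet_range (borelC c fun l => u (ep l)) using 1
  ext g
  simp only [Set.mem_range, SetLike.mem_coe]
  constructor
  · intro hg
    obtain ⟨t, v, hv, rfl⟩ := F.exists_torus_unip hg
    rw [show {i | B.IsPos i} = {i | 0 < mu (P.root i)} from Set.ext hpos] at hv
    obtain ⟨y, hy⟩ := F.exists_pow_of_mem_Gam mu ep hp hv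
    exact ⟨lift t y, by rw [borelC, MonObj.comp_mul, lift_fst_assoc, lift_snd_assoc, hy]⟩
  · rintro ⟨z, rfl⟩
    have e1 : z ≫ borelC c (fun l => u (ep l)) =
        ((z ≫ fst _ _) ≫ c) * ((z ≫ snd _ _) ≫ RedSub.prodMap (Red.Ga S₀) m fun l => u (ep l)) := by
      rw [borelC, MonObj.comp_mul, Category.assoc, Category.assoc]
    rw [e1, comp_prodMap_eq]
    refine mul_mem (torus_mem_BorelPts _) ?_
    refine Gam_le_BorelPts (Ψ := {i | B.IsPos i}) (fun _ h => h) U₀ ?_
    exact prod_mem_Gam (u := u) (e := ep) (fun j => (hpos _).2 (hp.2.subset ⟨j, rfl⟩))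
      (fun j => (z ≫ snd _ _) ≫ proj S₀ m j)

/-- **One step of the order.** -/
theorem Frame.cell_subset_step (F : Frame c P.root u) (hP : P.toLinearMap = Module.Dual.eval ℤ M)
    (hn : RealisesAll P c n) [IsAffine G.left] {l : List idx} {a : idx} (ha : B.IsPos a)
    (hla : B.IsPos ((wperm P l).symm a)) : Cell c u B n l ⊆ Cl (Cell c u B n (a :: l)) := by
  haveI := F.hc.1
  haveI := (F.hu (P.reflectionPerm a a)).1
  rintro _ ⟨b₁, hb₁, b₂, hb₂, rfl⟩ f hf
  obtain ⟨mu, hmp, -, hmu⟩ := exists_pos_hom P B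
  obtain ⟨p, en₀, -, hen⟩ := exists_extend {b | 0 < (-mu) (P.root b)} (Fin.elim0 : Fin 0 → idx) (fun x => x.elim0)
    fun k => k.elim0
  obtain ⟨q, ep₀, -, hep⟩ := exists_extend {b | 0 < mu (P.root b)} (Fin.elim0 : Fin 0 → idx) (fun x => x.elim0)
    fun k => k.elim0
  have hamu : 0 < mu (P.root a) := (hmp a).2 ((RootSys.mem_posRoots_iff B a).2 ha)
  have ho := (F.cell mu hmu _ _ _ _ hen hep hen hep).1
  obtain ⟨Z, _, ⟨R⟩⟩ := F.exists_rankOne (root_opp (P := P) a) mu hmu hamu _ _ hen hep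
  obtain ⟨-, hex⟩ := R.exists_exchange F ho mu hmu (P.coroot a).toAddMonoidHom
    (by show P.coroot a (P.root a) = 2; rw [coroot_apply_root hP, P.pairing_same]) (n a) (hn a)
  let μ₀ : Red.Ga S₀ ⊗ G ⟶ G :=
    (toUnit _ ≫ b₁) * (fst _ _ ≫ u (P.reflectionPerm a a)) * snd _ _
  have hμ₀ : ∀ (r : k) (g : U₀ ⟶ G), lift (kpt r) g ≫ μ₀ = b₁ * (kpt r ≫ u (P.reflectionPerm a a)) * g := fun r g => by
    simp only [μ₀, MonObj.comp_mul, lift_fst_assoc, lift_snd]
    rw [← Category.assoc (lift _ _) (toUnit _), toUnit_unique (lift (kpt r) g ≫ toUnit _) (toUnit U₀)]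
    congr 2
  obtain ⟨Q, hQ⟩ := exists_poly_eval μ₀ f
  let g₀ : U₀ ⟶ G := wpt U₀ n l * b₂
  have hzero : ∀ r : k, r ≠ 0 → (Q.map (evAt g₀)).IsRoot r := by
    intro r hr
    rw [Polynomial.IsRoot.def, Polynomial.eval_map, hQ, hμ₀]
    refine hf _ ?_
    obtain ⟨x₁, x₂, t, hx⟩ := hex U₀ (kpt r) (by
      rcases gamma_zero_or_unit (k := k) (Red.gaFn (kpt r)) with h | h
      · exfalso
        have := kval_kpt r
        rw [kval, h, map_zero] at this
        exact hr this.symm
      · exact h)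
    have hm := F.wmoves_list hP hn U₀ l
    obtain ⟨x', hx'⟩ := hm.root' a x₂
    obtain ⟨t', ht'⟩ := hm.torus' t
    refine ⟨b₁ * (x₁ ≫ u a), mul_mem hb₁ (Gam_le_BorelPts (Ψ := {b | B.IsPos b}) (fun b hb => hb) U₀
        (mem_Gam (Ψ := {b | B.IsPos b}) ha x₁)), (t' ≫ c) * (x' ≫ u _) * b₂,
      mul_mem (mul_mem (torus_mem_BorelPts t') (Gam_le_BorelPts (Ψ := {b | B.IsPos b}) (fun b hb => hb) U₀
        (mem_Gam (Ψ := {b | B.IsPos b}) hla x'))) hb₂, ?_⟩
    rw [hx, ← hx', ← ht', show wpt U₀ n (a :: l) = (toUnit U₀ ≫ n a) * wpt U₀ n l by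
      simp only [wpt, List.map_cons, List.prod_cons]]
    simp only [g₀]
    group
  have hQ0 : Q.map (evAt g₀) = 0 := Polynomial.eq_zero_of_infinite_isRoot _
    ((Set.finite_singleton (0 : k)).infinite_compl.mono fun r hr => hzero r hr)
  have h0 := hQ g₀ 0
  rw [← Polynomial.eval_map, hQ0, Polynomial.eval_zero, hμ₀, kpt_zero, MonObj.one_comp, _root_.mul_one] at h0
  rw [_root_.mul_assoc]
  exact h0.symm

/-- **The closures of the double cosets are ordered as the words.** -/
theorem Frame.cell_subset_iff (F : Frame c P.root u) (hP : P.toLinearMap = Module.Dual.eval ℤ M)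
    (hn : RealisesAll P c n) (hsc : Submodule.span ℤ (Set.range ⇑P.coroot) = ⊤) [IsAffine G.left]
    (l l' : List idx) :
    Cell c u B n l' ⊆ Cl (Cell c u B n l) ↔ BLe B (RedSub.wordPerm P l') (RedSub.wordPerm P l) := by
  constructor
  · intro h
    have hw : Realises c B n := fun a _ => hn a
    obtain ⟨r, hr, hred, hperm⟩ := exists_red_word B l
    have hl : Cell c u B n l ⊆ Omega c u B n r := by
      intro g hg
      obtain ⟨b₁, hb₁, b₂, hb₂, rfl⟩ := F.cell_subset_of_wperm hP hn hsc hperm.symm hg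
      rw [_root_.mul_assoc]
      exact F.omega_left hP hw hr hb₁ (F.wpt_mem_omega r hb₂)
    have halg := F.isAlgSet_omega hP hw (F.isAlgSet_borelPts (B := B)) hr
    have hmem : wpt U₀ n l' ∈ Omega c u B n r :=
      halg.Cl_subset (Cl_trans (hl.trans (subset_Cl _)) (h ⟨1, one_mem _, 1, one_mem _, by
        rw [_root_.one_mul, _root_.mul_one]⟩))
    obtain ⟨r', hr', ⟨r'', hsub, hperm'⟩, b₁, hb₁, b₂, hb₂, e⟩ := F.omega_subset hP hw hr _ hmem
    have hu := F.cell_unique (B := B) hP hn (g := wpt U₀ n l') (l := l') (l' := r')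
      ⟨1, one_mem _, 1, one_mem _, by rw [_root_.one_mul, _root_.mul_one]⟩ ⟨b₁, hb₁, b₂, hb₂, e⟩
    have hle := le_of_sublist B hr hred hsub
    show BLe B (wperm P l') (wperm P l)
    rw [hu, hperm', ← hperm]
    exact hle
  · intro h
    obtain ⟨σ, hσ⟩ : ∃ σ, σ = RedSub.wordPerm P l := ⟨_, rfl⟩
    rw [← hσ] at h
    induction h generalizing l with
    | refl => exact (F.cell_subset_of_wperm hP hn hsc hσ).trans (subset_Cl _)
    | @tail v w hv hs ih =>
      obtain ⟨a, ha, rfl, hlen⟩ := hs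
      obtain ⟨lv, rfl⟩ := exists_word_of_le B hv
      refine (ih lv rfl).trans (Cl_trans ?_)
      have hlt : B.IsPos ((RedSub.wordPerm P lv).symm a) := (invLen_lt_iff B lv ha).1 (by omega)
      refine (F.cell_subset_step hP hn ha hlt).trans (Cl_trans ?_)
      exact (F.cell_subset_of_wperm hP hn hsc (show wperm P (a :: lv) = wperm P l by
        rw [wperm_cons]; exact hσ)).trans (subset_Cl _)

end Schubert

end Groth.Agent.RootBase
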