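import Groth.Agent.RootBase.BruhatCell

/-!
# The big cell and the opposite of a simple root group

For a point with values in a field the big cell `U⁻ B` times an element of `U_{-a}`, `a` simple, lies in the big
cell or in its left translate by a nontrivial element of `U_a`; the translates by products of such elements
cover the group.
-/

set_option autoImplicit false
set_option backward.isDefEq.respectTransparency false
set_option linter.style.haveILetI false
set_option maxHeartbeats 1000000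
set_option synthInstance.maxHeartbeats 400000

universe u

open CategoryTheory Limits MonoidalCategory CartesianMonoidalCategory MonObj GrpObj AlgebraicGeometry
open scoped CategoryTheory.Obj

noncomputable section

namespace Groth.Agent.RootBase

open Groth.Agent.HomDiag Groth.Agent.DynPar

variable {S : Scheme.{u}} {G : Over S} [GrpObj G] {M : Type} [AddCommGroup M] [Module.Free ℤ M] [Module.Finite ℤ M]
  {c : Red.DS S M ⟶ G} {idx : Type} [Fintype idx] {P : RootPairing idx ℤ M (Module.Dual ℤ M)}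
  {u : idx → (Red.Ga S ⟶ G)}

/-- A root group normalises the group of a set of roots closed under combinations with it. -/
theorem Frame.conj_Gam_of_combos (F : Frame c P.root u) {Ψ : Set idx} {r : idx}
    (hli : ∀ b ∈ Ψ, ∀ p q : ℤ, p • P.root r + q • P.root b = 0 → p = 0 ∧ q = 0)
    (hcl : ∀ b ∈ Ψ, ∀ (e : idx) (i j : ℕ), 1 ≤ i → 1 ≤ j →
      P.root e = (i : ℤ) • P.root r + (j : ℤ) • P.root b → e ∈ Ψ)
    {X : Over S} (x : X ⟶ Red.Ga S) {v : X ⟶ G} (hv : v ∈ Gam u Ψ X) :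
    (x ≫ u r) * v * (x ≫ u r)⁻¹ ∈ Gam u Ψ X := by
  induction hv using Subgroup.closure_induction with
  | mem v hv =>
    obtain ⟨b, hb, y, rfl⟩ := hv
    rw [show (x ≫ u r) * (y ≫ u b) * (x ≫ u r)⁻¹ = (y ≫ u b) * word (u r) (u b) x y by
      rw [word, mul_inv_cancel_left]]
    refine mul_mem (mem_Gam hb y) ?_
    obtain ⟨n, e, i, j, C, h⟩ := F.exists_formula (hli b hb)
    rw [h.eq X x y (fun k => BGaNotS.gaPt (X.hom.appTop (C k) * Red.gaFn x ^ i k * Red.gaFn y ^ j k))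
      fun k => BGaNotS.gaFn_gaPt _]
    exact prod_mem_Gam (fun k => hcl b hb _ _ _ (h.hij k).1 (h.hij k).2.1 (h.hij k).2.2) _
  | one => rw [_root_.mul_one, mul_inv_cancel]; exact one_mem _
  | mul g g' _ _ hg hg' =>
    rw [show (x ≫ u r) * (g * g') * (x ≫ u r)⁻¹ =
      ((x ≫ u r) * g * (x ≫ u r)⁻¹) * ((x ≫ u r) * g' * (x ≫ u r)⁻¹) by group]
    exact mul_mem hg hg'
  | inv g _ hg =>
    rw [show (x ≫ u r) * g⁻¹ * (x ≫ u r)⁻¹ = ((x ≫ u r) * g * (x ≫ u r)⁻¹)⁻¹ by group]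
    exact inv_mem hg

/-- An element moving one set of roots into another conjugates their groups. -/
theorem WMoves.conj_Gam {X : Over S} {g : X ⟶ G} {σ : Equiv.Perm idx} (hg : WMoves c u g σ) {Ψ Ψ' : Set idx}
    (h : ∀ b ∈ Ψ, σ b ∈ Ψ') {v : X ⟶ G} (hv : v ∈ Gam u Ψ X) : g * v * g⁻¹ ∈ Gam u Ψ' X := by
  induction hv using Subgroup.closure_induction with
  | mem v hv =>
    obtain ⟨b, hb, y, rfl⟩ := hv
    obtain ⟨y', hy'⟩ := hg.root b y
    rw [hy']
    exact mem_Gam (h b hb) y'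
  | one => rw [_root_.mul_one, mul_inv_cancel]; exact one_mem _
  | mul a b _ _ ha hb =>
    rw [show g * (a * b) * g⁻¹ = (g * a * g⁻¹) * (g * b * g⁻¹) by group]; exact mul_mem ha hb
  | inv a _ ha =>
    rw [show g * a⁻¹ * g⁻¹ = (g * a * g⁻¹)⁻¹ by group]; exact inv_mem ha

theorem WMoves.inv {X : Over S} {g : X ⟶ G} {σ : Equiv.Perm idx} (hg : WMoves c u g σ) : WMoves c u g⁻¹ σ.symm :=
  ⟨fun b x => by simpa only [_root_.inv_inv] using hg.root' b x,
    fun b x => by simpa only [_root_.inv_inv, Equiv.symm_symm] using hg.root b x,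
    fun t => by simpa only [_root_.inv_inv] using hg.torus' t,
    fun t => by simpa only [_root_.inv_inv] using hg.torus t⟩

variable [Nonempty S] [P.IsReduced] {B : P.Base} {w : idx → (𝟙_ (Over S) ⟶ G)}

/-- Splitting off one root group from a group it normalises. -/
theorem Frame.exists_split_root (F : Frame c P.root u) {Ψ : Set idx} {r : idx}
    (hn : ∀ {X : Over S} (x : X ⟶ Red.Ga S) (v : X ⟶ G), v ∈ Gam u Ψ X → (x ≫ u r) * v * (x ≫ u r)⁻¹ ∈ Gam u Ψ X)
    {Φ : Set idx} (hΦ : ∀ b ∈ Φ, b = r ∨ b ∈ Ψ) {X : Over S} {v : X ⟶ G} (hv : v ∈ Gam u Φ X) :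
    ∃ (k : X ⟶ G) (x : X ⟶ Red.Ga S), k ∈ Gam u Ψ X ∧ v = k * (x ≫ u r) := by
  haveI := (F.hu r).1
  induction hv using Subgroup.closure_induction with
  | mem v hv =>
    obtain ⟨b, hb, y, rfl⟩ := hv
    rcases hΦ b hb with rfl | hb'
    · exact ⟨1, y, one_mem _, (_root_.one_mul _).symm⟩
    · exact ⟨_, 1, mem_Gam hb' y, by rw [MonObj.one_comp, _root_.mul_one]⟩
  | one => exact ⟨1, 1, one_mem _, by rw [MonObj.one_comp, _root_.one_mul]⟩
  | mul g g' _ _ hg hg' =>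
    obtain ⟨k, x, hk, rfl⟩ := hg
    obtain ⟨k', x', hk', rfl⟩ := hg'
    refine ⟨_, x * x', mul_mem hk (hn x _ hk'), ?_⟩
    rw [MonObj.mul_comp]; group
  | inv g _ hg =>
    obtain ⟨k, x, hk, rfl⟩ := hg
    refine ⟨_, x⁻¹, hn x⁻¹ _ (inv_mem hk), ?_⟩
    rw [GrpObj.inv_comp]; group

/-- The negative roots other than the opposite of a simple root. -/
def negAway (B : P.Base) (a : idx) : Set idx := {b | ¬ B.IsPos b ∧ b ≠ P.reflectionPerm a a}

/-- The positive roots other than a simple root. -/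
def posAway (B : P.Base) (a : idx) : Set idx := {b | B.IsPos b ∧ b ≠ a}

omit [Nonempty S] in
theorem refl_posAway {a : idx} (ha : a ∈ B.support) {b : idx} (hb : b ∈ posAway B a) :
    P.reflectionPerm a b ∈ posAway B a := by
  refine ⟨RootPairing.Base.IsPos.reflectionPerm hb.1 ha hb.2, fun h => ?_⟩
  have e : b = P.reflectionPerm a a := by
    rw [← P.reflectionPerm_self a b, h]
  exact (RootSys.isPos_opp_iff B a).1 (e ▸ hb.1) (RootPairing.Base.isPos_of_mem_support ha)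

omit [Nonempty S] in
theorem refl_negAway {a : idx} (ha : a ∈ B.support) {b : idx} (hb : b ∈ negAway B a) :
    P.reflectionPerm a b ∈ negAway B a := by
  have hb' : P.reflectionPerm b b ∈ posAway B a := by
    refine ⟨by_contra fun h => h ((RootSys.isPos_opp_iff B b).2 hb.1), fun h => hb.2 ?_⟩
    exact P.root.injective (by rw [root_opp, ← h, root_opp, neg_neg])
  obtain ⟨h1, h2⟩ := refl_posAway ha hb'
  rw [reflectionPerm_opp] at h1 h2
  refine ⟨(RootSys.isPos_opp_iff B _).1 h1, fun h => h2 ?_⟩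
  exact P.root.injective (by rw [root_opp, h, root_opp, neg_neg])

omit [P.IsReduced] in
theorem Frame.li_of_ne (F : Frame c P.root u) {r b : idx} (h1 : b ≠ r) (h2 : b ≠ P.reflectionPerm r r) :
    ∀ p q : ℤ, p • P.root r + q • P.root b = 0 → p = 0 ∧ q = 0 := by
  intro p q hpq
  by_contra hne
  have hq : q ≠ 0 := fun h => by
    rw [h, zero_smul, add_zero] at hpq
    exact hne ⟨(smul_eq_zero.1 hpq).resolve_right (P.ne_zero r), h⟩
  rcases F.dep (a := r) (b := b) (-p) q hq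
    (show q • P.root b = (-p) • P.root r by rw [neg_smul]; exact eq_neg_of_add_eq_zero_right hpq) with h | h
  · exact h1 (P.root.injective h)
  · exact h2 (P.root.injective (by rw [h, root_opp]))

/-- `U_{-a}` normalises the negative root groups other than itself. -/
theorem Frame.opp_conj_negAway (F : Frame c P.root u) {a : idx} (ha : a ∈ B.support) {X : Over S}
    (x : X ⟶ Red.Ga S) {v : X ⟶ G} (hv : v ∈ Gam u (negAway B a) X) :
    (x ≫ u (P.reflectionPerm a a)) * v * (x ≫ u (P.reflectionPerm a a))⁻¹ ∈ Gam u (negAway B a) X := by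
  have hap : B.IsPos a := RootPairing.Base.isPos_of_mem_support ha
  have hli : ∀ b ∈ negAway B a, ∀ p q : ℤ, p • P.root (P.reflectionPerm a a) + q • P.root b = 0 → p = 0 ∧ q = 0 :=
    fun b hb => F.li_of_ne hb.2 fun h => hb.1 (by
      rwa [h, show P.reflectionPerm (P.reflectionPerm a a) (P.reflectionPerm a a) = a from
        P.root.injective (by rw [root_opp, root_opp, neg_neg])])
  refine F.conj_Gam_of_combos hli (fun b hb e i j hi hj he => ⟨fun hp => ?_, fun h => ?_⟩) x hv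
  · have hh := height_combo B he
    have h1 : ¬ 0 < B.height (P.reflectionPerm a a) := fun h => (RootSys.isPos_opp_iff B a).1 h hap
    have h2 : ¬ 0 < B.height b := hb.1
    have h3 : 0 < B.height e := hp
    nlinarith [mul_nonpos_of_nonneg_of_nonpos (Int.natCast_nonneg i) (le_of_not_gt h1),
      mul_nonpos_of_nonneg_of_nonpos (Int.natCast_nonneg j) (le_of_not_gt h2)]
  · rw [h] at he
    obtain ⟨-, h0⟩ := hli b hb ((i : ℤ) - 1) j (by linear_combination (norm := module) -he)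
    omega

/-- `U_a` normalises the negative root groups other than `U_{-a}`. -/
theorem Frame.simple_conj_negAway (F : Frame c P.root u) (hP : P.toLinearMap = Module.Dual.eval ℤ M)
    (hw : Realises c B w) {a : idx} (ha : a ∈ B.support) {X : Over S} (x : X ⟶ Red.Ga S) {v : X ⟶ G}
    (hv : v ∈ Gam u (negAway B a) X) : (x ≫ u a) * v * (x ≫ u a)⁻¹ ∈ Gam u (negAway B a) X := by
  obtain ⟨N, hN⟩ : ∃ N : X ⟶ G, N = toUnit X ≫ w a := ⟨_, rfl⟩
  have hm := F.wmoves hP hw ha X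
  rw [← hN] at hm
  obtain ⟨x', hx'⟩ := hm.root' a x
  rw [RootPairing.reflectionPerm_symm] at hx'
  have h1 := (hm.inv).conj_Gam (Ψ' := negAway B a) (fun b hb => by
    rw [RootPairing.reflectionPerm_symm]; exact refl_negAway ha hb) hv
  have h2 := F.opp_conj_negAway ha x' h1
  have h3 := hm.conj_Gam (Ψ' := negAway B a) (fun b hb => refl_negAway ha hb) h2
  rw [← hx'] at h3
  rw [show (x ≫ u a) * v * (x ≫ u a)⁻¹ =
    N * (N⁻¹ * (x ≫ u a) * N * (N⁻¹ * v * N⁻¹⁻¹) * (N⁻¹ * (x ≫ u a) * N)⁻¹) * N⁻¹ by group]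
  exact h3

/-- `U_{-a}` normalises the positive root groups other than `U_a`. -/
theorem Frame.opp_conj_posAway (F : Frame c P.root u) (hP : P.toLinearMap = Module.Dual.eval ℤ M)
    (hw : Realises c B w) {a : idx} (ha : a ∈ B.support) {X : Over S} (x : X ⟶ Red.Ga S) {v : X ⟶ G}
    (hv : v ∈ Gam u (posAway B a) X) :
    (x ≫ u (P.reflectionPerm a a)) * v * (x ≫ u (P.reflectionPerm a a))⁻¹ ∈ Gam u (posAway B a) X := by
  obtain ⟨N, hN⟩ : ∃ N : X ⟶ G, N = toUnit X ≫ w a := ⟨_, rfl⟩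
  have hm := F.wmoves hP hw ha X
  rw [← hN] at hm
  obtain ⟨x', hx'⟩ := hm.root' _ x
  rw [RootPairing.reflectionPerm_symm, P.reflectionPerm_self] at hx'
  have h1 := (hm.inv).conj_Gam (Ψ' := posAway B a) (fun b hb => by
    rw [RootPairing.reflectionPerm_symm]; exact refl_posAway ha hb) hv
  have h2 := F.simple_conj_Gam ha x' h1
  have h3 := hm.conj_Gam (Ψ' := posAway B a) (fun b hb => refl_posAway ha hb) h2
  rw [← hx'] at h3
  rw [show (x ≫ u (P.reflectionPerm a a)) * v * (x ≫ u (P.reflectionPerm a a))⁻¹ =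
    N * (N⁻¹ * (x ≫ u (P.reflectionPerm a a)) * N * (N⁻¹ * v * N⁻¹⁻¹) *
      (N⁻¹ * (x ≫ u (P.reflectionPerm a a)) * N)⁻¹) * N⁻¹ by group]
  exact h3

/-- The exchange of a simple root. -/
theorem Frame.exchange_simple (F : Frame c P.root u) (hP : P.toLinearMap = Module.Dual.eval ℤ M)
    (hw : Realises c B w) {a : idx} (ha : a ∈ B.support) {X : Over S} {y : X ⟶ Red.Ga S}
    (hy : IsUnit (Red.gaFn y)) : ∃ (x₁ x₂ : X ⟶ Red.Ga S) (t : X ⟶ Red.DS S M),
      y ≫ u (P.reflectionPerm a a) = (x₁ ≫ u a) * (toUnit X ≫ w a) * (t ≫ c) * (x₂ ≫ u a) := by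
  obtain ⟨mu, hmp, -, hmu⟩ := exists_pos_hom P B
  obtain ⟨p, en₀, -, hn⟩ := exists_extend {b | 0 < (-mu) (P.root b)} (Fin.elim0 : Fin 0 → idx) (fun x => x.elim0)
    fun k => k.elim0
  obtain ⟨q, ep₀, -, hp⟩ := exists_extend {b | 0 < mu (P.root b)} (Fin.elim0 : Fin 0 → idx) (fun x => x.elim0)
    fun k => k.elim0
  have hamu : 0 < mu (P.root a) :=
    (hmp a).2 ((RootSys.mem_posRoots_iff B a).2 (RootPairing.Base.isPos_of_mem_support ha))
  have ho := (F.cell mu hmu _ _ _ _ hn hp hn hp).1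
  obtain ⟨Z, _, ⟨R⟩⟩ := F.exists_rankOne (root_opp (P := P) a) mu hmu hamu _ _ hn hp
  exact (R.exists_exchange F ho mu hmu (P.coroot a).toAddMonoidHom
    (by show P.coroot a (P.root a) = 2; rw [coroot_apply_root hP, P.pairing_same]) (w a) (hw a ha)).2 X y hy

/-- The points `U⁻ B` of the big cell. -/
def CellPts (c : Red.DS S M ⟶ G) (u : idx → (Red.Ga S ⟶ G)) (B : P.Base) (X : Over S) : Set (X ⟶ G) :=
  {g | ∃ v ∈ Gam u {b | ¬ B.IsPos b} X, ∃ b ∈ BorelPts c u B X, g = v * b}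

omit [Nonempty S] [P.IsReduced] in
theorem CellPts.mul_borel {X : Over S} {g b : X ⟶ G} (hg : g ∈ CellPts c u B X) (hb : b ∈ BorelPts c u B X) :
    g * b ∈ CellPts c u B X := by
  obtain ⟨v, hv, b', hb', rfl⟩ := hg
  exact ⟨v, hv, b' * b, mul_mem hb' hb, _root_.mul_assoc _ _ _⟩

omit [Nonempty S] [P.IsReduced] in
theorem CellPts.neg_mul {X : Over S} {g v : X ⟶ G} (hv : v ∈ Gam u {b | ¬ B.IsPos b} X) (hg : g ∈ CellPts c u B X) :
    v * g ∈ CellPts c u B X := by
  obtain ⟨v', hv', b', hb', rfl⟩ := hg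
  exact ⟨v * v', mul_mem hv hv', b', hb', (_root_.mul_assoc _ _ _).symm⟩

omit [Nonempty S] [P.IsReduced] in
theorem one_mem_cellPts {X : Over S} : (1 : X ⟶ G) ∈ CellPts c u B X :=
  ⟨1, one_mem _, 1, one_mem _, (_root_.one_mul _).symm⟩

omit [Nonempty S] in
theorem opp_mem_neg {a : idx} (ha : a ∈ B.support) {X : Over S} (y : X ⟶ Red.Ga S) :
    y ≫ u (P.reflectionPerm a a) ∈ Gam u {b | ¬ B.IsPos b} X :=
  mem_Gam (Ψ := {b | ¬ B.IsPos b})
    (fun h => (RootSys.isPos_opp_iff B a).1 h (RootPairing.Base.isPos_of_mem_support ha)) y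

omit [Nonempty S] [P.IsReduced] in
theorem simple_mem_borel {a : idx} (ha : a ∈ B.support) {X : Over S} (y : X ⟶ Red.Ga S) :
    y ≫ u a ∈ BorelPts c u B X :=
  Gam_le_BorelPts (Ψ := {b | B.IsPos b}) (fun _ h => h) X
    (mem_Gam (Ψ := {b | B.IsPos b}) (RootPairing.Base.isPos_of_mem_support ha) y)

/-- `U_a` moves `N` into the big cell. -/
theorem Frame.unit_mul_weyl_mem (F : Frame c P.root u) (hP : P.toLinearMap = Module.Dual.eval ℤ M)
    (hw : Realises c B w) {X : Over S} (hX : ∀ r : Γ(X.left, ⊤), r = 0 ∨ IsUnit r) (hne : Nonempty X.left) {a : idx}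
    (ha : a ∈ B.support) {e : X ⟶ Red.Ga S} (he : IsUnit (Red.gaFn e)) :
    (e ≫ u a) * (toUnit X ≫ w a) ∈ CellPts c u B X := by
  haveI := (F.hu a).1
  haveI := (F.hu (P.reflectionPerm a a)).1
  obtain ⟨N, hN⟩ : ∃ N : X ⟶ G, N = toUnit X ≫ w a := ⟨_, rfl⟩
  have hm := F.wmoves hP hw ha X
  rw [← hN] at hm ⊢
  obtain ⟨e', he'⟩ := hm.root' a e
  rw [RootPairing.reflectionPerm_symm] at he'
  have h : (e ≫ u a) * N = N * (e' ≫ u (P.reflectionPerm a a)) := by rw [← he']; group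
  rcases hX (Red.gaFn e') with h0 | hu
  · exfalso
    have h1 : e' = 1 := BGaNotS.gaPt_ext (by rw [h0, BGaNotS.gaFn_one])
    rw [h1, MonObj.one_comp] at he'
    have h2 : e ≫ u a = (1 : X ⟶ Red.Ga S) ≫ u a := by
      rw [MonObj.one_comp, show e ≫ u a = N * (N⁻¹ * (e ≫ u a) * N) * N⁻¹ by group, he']
      group
    haveI := (F.hu a).2.1
    haveI : Mono (u a) := Over.mono_of_mono_left _
    rw [(cancel_mono (u a)).1 h2, BGaNotS.gaFn_one] at he
    haveI : Nontrivial Γ(X.left, ⊤) := by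
      obtain ⟨z⟩ := hne
      exact (X.left.presheaf.germ ⊤ z trivial).hom.domain_nontrivial
    exact not_isUnit_zero he
  · obtain ⟨x₁, x₂, t, hex⟩ := F.exchange_simple hP hw ha hu
    rw [← hN] at hex
    obtain ⟨y, hy⟩ := hm.root a x₁
    obtain ⟨t₀, ht₀⟩ := F.simple_sq hP hw ha
    have hsq : N * N = (toUnit X ≫ t₀) ≫ c := by
      rw [hN, Category.assoc, ← ht₀, MonObj.comp_mul]
    refine ⟨y ≫ u _, opp_mem_neg ha y, ((toUnit X ≫ t₀) ≫ c) * (t ≫ c) * (x₂ ≫ u a),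
      mul_mem (mul_mem (torus_mem_BorelPts _) (torus_mem_BorelPts _)) (simple_mem_borel ha x₂), ?_⟩
    rw [h, hex, ← hy, ← hsq]
    group

/-- The two cases of a product in a rank-one subgroup. -/
theorem Frame.rankOne_dichotomy (F : Frame c P.root u) (hP : P.toLinearMap = Module.Dual.eval ℤ M)
    (hw : Realises c B w) {X : Over S} (hX : ∀ r : Γ(X.left, ⊤), r = 0 ∨ IsUnit r) (hne : Nonempty X.left) {a : idx}
    (ha : a ∈ B.support) (r p q : X ⟶ Red.Ga S) :
    let g := (r ≫ u (P.reflectionPerm a a)) * (p ≫ u a) * (q ≫ u (P.reflectionPerm a a))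
    g ∈ CellPts c u B X ∨ ∃ b ∈ BorelPts c u B X, g = (toUnit X ≫ w a) * b := by
  haveI := (F.hu a).1
  haveI := (F.hu (P.reflectionPerm a a)).1
  intro g
  rcases hX (Red.gaFn q) with h0 | hu
  · refine Or.inl ⟨r ≫ u _, opp_mem_neg ha r, p ≫ u a, simple_mem_borel ha p, ?_⟩
    rw [show g = (r ≫ u (P.reflectionPerm a a)) * (p ≫ u a) * (q ≫ u (P.reflectionPerm a a)) from rfl,
      show q = 1 from BGaNotS.gaPt_ext (by rw [h0, BGaNotS.gaFn_one]), MonObj.one_comp, _root_.mul_one]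
  obtain ⟨x₁, x₂, t, hex⟩ := F.exchange_simple hP hw ha hu
  obtain ⟨N, hN⟩ : ∃ N : X ⟶ G, N = toUnit X ≫ w a := ⟨_, rfl⟩
  rw [← hN] at hex ⊢
  have hg : g = (r ≫ u (P.reflectionPerm a a)) * (((p * x₁) ≫ u a) * N) * ((t ≫ c) * (x₂ ≫ u a)) := by
    rw [MonObj.mul_comp]
    show _ * _ * _ = _
    rw [hex]; group
  have hb : (t ≫ c) * (x₂ ≫ u a) ∈ BorelPts c u B X := mul_mem (torus_mem_BorelPts _) (simple_mem_borel ha x₂)
  rcases hX (Red.gaFn (p * x₁)) with h0 | hu'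
  · right
    have hm := F.wmoves hP hw ha X
    rw [← hN] at hm
    obtain ⟨r', hr'⟩ := hm.root' (P.reflectionPerm a a) r
    rw [RootPairing.reflectionPerm_symm, P.reflectionPerm_self] at hr'
    refine ⟨(r' ≫ u a) * ((t ≫ c) * (x₂ ≫ u a)), mul_mem (simple_mem_borel ha r') hb, ?_⟩
    rw [hg, show p * x₁ = 1 from BGaNotS.gaPt_ext (by rw [h0, BGaNotS.gaFn_one]), MonObj.one_comp, ← hr']
    group
  · left
    rw [hg, hN]
    exact CellPts.mul_borel (CellPts.neg_mul (opp_mem_neg ha r) (F.unit_mul_weyl_mem hP hw hX hne ha hu')) hb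

/-- **The big cell times an element of `U_{-a}`.** -/
theorem Frame.cellPts_mul_opp (F : Frame c P.root u) (hP : P.toLinearMap = Module.Dual.eval ℤ M)
    (hw : Realises c B w) {X : Over S} (hX : ∀ r : Γ(X.left, ⊤), r = 0 ∨ IsUnit r) (hne : Nonempty X.left) {a : idx}
    (ha : a ∈ B.support) {x : X ⟶ Red.Ga S} (hx : IsUnit (Red.gaFn x)) {g : X ⟶ G} (hg : g ∈ CellPts c u B X)
    (q : X ⟶ Red.Ga S) :
    g * (q ≫ u (P.reflectionPerm a a)) ∈ CellPts c u B X ∨
      (x ≫ u a)⁻¹ * (g * (q ≫ u (P.reflectionPerm a a))) ∈ CellPts c u B X := by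
  haveI := (F.hu a).1
  haveI := (F.hu (P.reflectionPerm a a)).1
  obtain ⟨v₀, hv₀, b₀, hb₀, rfl⟩ := hg
  obtain ⟨t, v, hv, rfl⟩ := F.exists_torus_unip hb₀
  obtain ⟨k, p, hk, rfl⟩ := F.exists_split_simple ha hv
  obtain ⟨k₀, r, hk₀, rfl⟩ := F.exists_split_root (Ψ := negAway B a) (r := P.reflectionPerm a a)
    (fun y v hv => F.opp_conj_negAway ha y hv) (fun b hb => (em (b = P.reflectionPerm a a)).imp id fun h => ⟨hb, h⟩) hv₀
  obtain ⟨p', hp', -⟩ := (F.hu a).2.2 X t p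
  obtain ⟨q', hq', -⟩ := (F.hu (P.reflectionPerm a a)).2.2 X t q
  have hk' := F.torus_conj_Gam t hk
  have h1 := F.simple_conj_Gam ha p'⁻¹ hk'
  have h2 := F.opp_conj_posAway hP hw ha q'⁻¹ h1
  have hb : (q'⁻¹ ≫ u (P.reflectionPerm a a)) * ((p'⁻¹ ≫ u a) * ((t ≫ c) * k * (t ≫ c)⁻¹) * (p'⁻¹ ≫ u a)⁻¹) *
      (q'⁻¹ ≫ u (P.reflectionPerm a a))⁻¹ * (t ≫ c) ∈ BorelPts c u B X :=
    mul_mem (Gam_le_BorelPts (Ψ := posAway B a) (fun _ h => h.1) X h2) (torus_mem_BorelPts t)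
  generalize hh : (q'⁻¹ ≫ u (P.reflectionPerm a a)) * ((p'⁻¹ ≫ u a) * ((t ≫ c) * k * (t ≫ c)⁻¹) * (p'⁻¹ ≫ u a)⁻¹) *
      (q'⁻¹ ≫ u (P.reflectionPerm a a))⁻¹ * (t ≫ c) = b at hb
  have e : k₀ * (r ≫ u (P.reflectionPerm a a)) * ((t ≫ c) * (k * (p ≫ u a))) * (q ≫ u (P.reflectionPerm a a)) =
      k₀ * ((r ≫ u (P.reflectionPerm a a)) * (p' ≫ u a) * (q' ≫ u (P.reflectionPerm a a))) * b := by
    rw [← hh, GrpObj.inv_comp, GrpObj.inv_comp, hp', hq']
    group
  have hneg : ∀ k, k ∈ Gam u (negAway B a) X → k ∈ Gam u {b | ¬ B.IsPos b} X :=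
    fun k hk => Gam_mono (fun _ h => h.1) X hk
  rw [e]
  rcases F.rankOne_dichotomy hP hw hX hne ha r p' q' with h | ⟨b', hb', h⟩
  · exact Or.inl (CellPts.mul_borel (CellPts.neg_mul (hneg _ hk₀) h) hb)
  · right
    rw [h]
    have h3 := hneg _ (F.simple_conj_negAway hP hw ha x⁻¹ hk₀)
    have h4 : IsUnit (Red.gaFn x⁻¹) := by rw [gaFn_inv]; exact hx.neg
    rw [show (x ≫ u a)⁻¹ * (k₀ * ((toUnit X ≫ w a) * b') * b) =
        ((x⁻¹ ≫ u a) * k₀ * (x⁻¹ ≫ u a)⁻¹) * ((x⁻¹ ≫ u a) * (toUnit X ≫ w a)) * (b' * b) by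
      rw [GrpObj.inv_comp]; group]
    exact CellPts.mul_borel (CellPts.neg_mul h3 (F.unit_mul_weyl_mem hP hw hX hne ha h4)) (mul_mem hb' hb)

/-- The translates of the big cell by products of given elements of the simple root groups. -/
def SimpleTranslates (c : Red.DS S M ⟶ G) (u : idx → (Red.Ga S ⟶ G)) (B : P.Base) {X : Over S}
    (x : idx → (X ⟶ Red.Ga S)) : Set (X ⟶ G) :=
  {g | ∃ l : List idx, (∀ a ∈ l, a ∈ B.support) ∧ (l.map fun a => x a ≫ u a).prod⁻¹ * g ∈ CellPts c u B X}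

/-- **The translates cover.** -/
theorem Frame.allPts_subset_simpleTranslates (F : Frame c P.root u) (hP : P.toLinearMap = Module.Dual.eval ℤ M)
    (hw : Realises c B w) {X : Over S} (hX : ∀ r : Γ(X.left, ⊤), r = 0 ∨ IsUnit r) (hne : Nonempty X.left)
    {x : idx → (X ⟶ Red.Ga S)} (hx : ∀ a ∈ B.support, IsUnit (Red.gaFn (x a))) {g : X ⟶ G}
    (hg : g ∈ AllPts c u X) : g ∈ SimpleTranslates c u B x := by
  let St : Subgroup (X ⟶ G) :=
    { carrier := {h | (∀ y ∈ SimpleTranslates c u B x, y * h ∈ SimpleTranslates c u B x) ∧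
        ∀ y ∈ SimpleTranslates c u B x, y * h⁻¹ ∈ SimpleTranslates c u B x}
      one_mem' := ⟨fun h hh => by rwa [_root_.mul_one], fun h hh => by rwa [inv_one, _root_.mul_one]⟩
      mul_mem' := fun {g g'} hg hg' => ⟨fun h hh => by rw [← _root_.mul_assoc]; exact hg'.1 _ (hg.1 h hh),
        fun h hh => by rw [_root_.mul_inv_rev, ← _root_.mul_assoc]; exact hg.2 _ (hg'.2 h hh)⟩
      inv_mem' := fun {g} hg => ⟨hg.2, fun h hh => by rw [_root_.inv_inv]; exact hg.1 h hh⟩ }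
  have hB : BorelPts c u B X ≤ St := by
    have key : ∀ b ∈ BorelPts c u B X, ∀ y ∈ SimpleTranslates c u B x, y * b ∈ SimpleTranslates c u B x := by
      rintro b hb y ⟨l, hl, hy⟩
      exact ⟨l, hl, by rw [← _root_.mul_assoc]; exact CellPts.mul_borel hy hb⟩
    exact fun b hb => ⟨key b hb, key _ (inv_mem hb)⟩
  have hopp : ∀ a ∈ B.support, ∀ q : X ⟶ Red.Ga S, q ≫ u (P.reflectionPerm a a) ∈ St := by
    intro a ha q
    have key : ∀ q : X ⟶ Red.Ga S, ∀ y ∈ SimpleTranslates c u B x,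
        y * (q ≫ u (P.reflectionPerm a a)) ∈ SimpleTranslates c u B x := by
      rintro q y ⟨l, hl, hy⟩
      rcases F.cellPts_mul_opp hP hw hX hne ha (hx a ha) hy q with h | h
      · exact ⟨l, hl, by rw [← _root_.mul_assoc]; exact h⟩
      · refine ⟨l ++ [a], fun b hb => (List.mem_append.1 hb).elim (hl b) fun h => List.mem_singleton.1 h ▸ ha, ?_⟩
        rw [List.map_append, List.prod_append, List.map_singleton, List.prod_singleton, _root_.mul_inv_rev,
          _root_.mul_assoc, ← _root_.mul_assoc _ y]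
        exact h
    refine ⟨key q, fun y hy => ?_⟩
    haveI := (F.hu (P.reflectionPerm a a)).1
    rw [← GrpObj.inv_comp q (u (P.reflectionPerm a a))]
    exact key _ y hy
  have hN : ∀ a ∈ B.support, toUnit X ≫ w a ∈ St := by
    intro a ha
    obtain ⟨x₁, x₂, t, hex⟩ := F.exchange_simple hP hw ha (y := BGaNotS.gaPt (1 : Γ(X.left, ⊤)))
      (by rw [BGaNotS.gaFn_gaPt]; exact isUnit_one)
    have e : toUnit X ≫ w a = (x₁ ≫ u a)⁻¹ * (BGaNotS.gaPt (1 : Γ(X.left, ⊤)) ≫ u (P.reflectionPerm a a)) *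
        (x₂ ≫ u a)⁻¹ * (t ≫ c)⁻¹ := by rw [hex]; group
    rw [e]
    exact mul_mem (mul_mem (mul_mem (inv_mem (hB (simple_mem_borel ha _))) (hopp a ha _))
      (inv_mem (hB (simple_mem_borel ha _)))) (inv_mem (hB (torus_mem_BorelPts t)))
  have hW : ∀ l : List idx, (∀ a ∈ l, a ∈ B.support) → wpt X w l ∈ St := fun l hl =>
    list_prod_mem fun g hg => by
      obtain ⟨a, ha, rfl⟩ := List.mem_map.1 hg
      exact hN a (hl a ha)
  have hle : AllPts c u X ≤ St := by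
    refine (Subgroup.closure_le _).2 ?_
    rintro g (⟨t, rfl⟩ | ⟨r, z, rfl⟩)
    · exact hB (torus_mem_BorelPts t)
    · obtain ⟨l, a, hl, ha, hr, -⟩ := exists_word_conj B r
      rw [← prod_reflectionPerm_apply] at hr
      obtain ⟨z', hz'⟩ := (F.wmoves_word hP hw X l hl).root' r z
      rw [show (wperm P l).symm r = a from (Equiv.symm_apply_eq _).2 hr.symm] at hz'
      rw [show z ≫ u r = wpt X w l * (z' ≫ u a) * (wpt X w l)⁻¹ by rw [← hz']; group]
      exact mul_mem (mul_mem (hW l hl) (hB (simple_mem_borel ha z'))) (inv_mem (hW l hl))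
  have h1 : (1 : X ⟶ G) ∈ SimpleTranslates c u B x :=
    ⟨[], fun _ h => absurd h List.not_mem_nil, by simpa using one_mem_cellPts⟩
  simpa using (hle hg).1 1 h1

/-- **In semisimple rank one the big cell and one translate cover.** -/
theorem Frame.allPts_subset_two (F : Frame c P.root u) (hP : P.toLinearMap = Module.Dual.eval ℤ M)
    (hw : Realises c B w) {X : Over S} (hX : ∀ r : Γ(X.left, ⊤), r = 0 ∨ IsUnit r) (hne : Nonempty X.left) {a : idx}
    (ha : a ∈ B.support) (hR : ∀ b, b = a ∨ b = P.reflectionPerm a a) {x : X ⟶ Red.Ga S}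
    (hx : IsUnit (Red.gaFn x)) {g : X ⟶ G} (hg : g ∈ AllPts c u X) :
    g ∈ CellPts c u B X ∨ (x ≫ u a)⁻¹ * g ∈ CellPts c u B X := by
  haveI := (F.hu a).1
  obtain ⟨l, hl, b₁, hb₁, b₂, hb₂, rfl⟩ := F.allPts_subset_cells hP hw hX hg
  have hla : ∀ d ∈ l, d = a := fun d hd => (hR d).resolve_right fun h =>
    (RootSys.isPos_opp_iff B a).1 (h ▸ RootPairing.Base.isPos_of_mem_support (hl d hd))
      (RootPairing.Base.isPos_of_mem_support ha)
  have hl2 : (∃ t : X ⟶ Red.DS S M, wpt X w l = t ≫ c) ∨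
      ∃ t : X ⟶ Red.DS S M, wpt X w l = (toUnit X ≫ w a) * (t ≫ c) := by
    clear hl hg
    haveI := F.hc.1
    induction l with
    | nil => exact Or.inl ⟨1, by simp [wpt, MonObj.one_comp]⟩
    | cons d l ih =>
      have hd := hla d List.mem_cons_self
      subst hd
      rcases ih (fun e he => hla e (List.mem_cons_of_mem _ he)) with ⟨t, ht⟩ | ⟨t, ht⟩
      · refine Or.inr ⟨t, ?_⟩
        rw [← ht]
        simp only [wpt, List.map_cons, List.prod_cons]
      · obtain ⟨t₀, ht₀⟩ := F.simple_sq hP hw ha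
        refine Or.inl ⟨(toUnit X ≫ t₀) * t, ?_⟩
        rw [MonObj.mul_comp, Category.assoc, ← ht₀, MonObj.comp_mul, _root_.mul_assoc, ← ht]
        simp only [wpt, List.map_cons, List.prod_cons]
  obtain ⟨t₁, v, hv, rfl⟩ := F.exists_torus_unip hb₁
  obtain ⟨k, p, hk, rfl⟩ := F.exists_split_simple ha hv
  have hk1 : k = 1 := by
    have h0 : {b | B.IsPos b ∧ b ≠ a} = (∅ : Set idx) := Set.eq_empty_iff_forall_notMem.2 fun d hd => by
      rcases hR d with h | h
      · exact hd.2 h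
      · exact (RootSys.isPos_opp_iff B a).1 (h ▸ hd.1) (RootPairing.Base.isPos_of_mem_support ha)
    rw [h0] at hk
    simpa [Gam] using hk
  subst hk1
  rcases hl2 with ⟨t, ht⟩ | ⟨t, ht⟩
  · left
    refine ⟨1, one_mem _, _, ?_, (_root_.one_mul _).symm⟩
    rw [ht]
    exact mul_mem (mul_mem (mul_mem (torus_mem_BorelPts t₁) (mul_mem (one_mem _) (simple_mem_borel ha p)))
      (torus_mem_BorelPts t)) hb₂
  obtain ⟨p', hp', -⟩ := (F.hu a).2.2 X t₁ p
  obtain ⟨s, hs⟩ := (F.wmoves hP hw ha X).torus' t₁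
  have e : (t₁ ≫ c) * (1 * (p ≫ u a)) * wpt X w l * b₂ =
      (p' ≫ u a) * (toUnit X ≫ w a) * ((s ≫ c) * (t ≫ c) * b₂) := by
    rw [ht, hp', ← hs]; group
  have hb : (s ≫ c) * (t ≫ c) * b₂ ∈ BorelPts c u B X :=
    mul_mem (mul_mem (torus_mem_BorelPts s) (torus_mem_BorelPts t)) hb₂
  rw [e]
  rcases hX (Red.gaFn p') with h0 | hu
  · right
    rw [show p' = 1 from BGaNotS.gaPt_ext (by rw [h0, BGaNotS.gaFn_one]), MonObj.one_comp, _root_.one_mul,
      ← GrpObj.inv_comp x (u a), ← _root_.mul_assoc]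
    exact CellPts.mul_borel (F.unit_mul_weyl_mem hP hw hX hne ha (by rw [gaFn_inv]; exact hx.neg)) hb
  · exact Or.inl (CellPts.mul_borel (F.unit_mul_weyl_mem hP hw hX hne ha hu) hb)

/-- Points of the big cell as values of the cell map. -/
theorem Frame.exists_cellC_of_mem (F : Frame c P.root u) {n m : ℕ} (en : Fin n → idx) (ep : Fin m → idx)
    (hn : RedSub.Enumerates (RedSub.negRoots P B) en) (hp : RedSub.Enumerates (RedSub.posRoots P B) ep)
    {X : Over S} {g : X ⟶ G} (hg : g ∈ CellPts c u B X) :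
    ∃ y, y ≫ cellC c (fun k => u (en k)) (fun k => u (ep k)) = g := by
  obtain ⟨v, hv, b, hb, rfl⟩ := hg
  obtain ⟨t, v', hv', rfl⟩ := F.exists_torus_unip hb
  obtain ⟨mu, hmp, hmn, -⟩ := exists_pos_hom P B
  have e1 : RedSub.posRoots P B = {b | 0 < mu (P.root b)} := Set.ext fun b => (hmp b).symm
  have e2 : RedSub.negRoots P B = {b | 0 < (-mu) (P.root b)} := Set.ext fun b => (hmn b).symm
  have h1 : {b | B.IsPos b} = RedSub.posRoots P B := Set.ext fun b => (RootSys.mem_posRoots_iff B b).symm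
  have h2 : {b | ¬ B.IsPos b} = RedSub.negRoots P B := Set.ext fun b => (RootSys.mem_negRoots_iff B b).symm
  rw [h1, e1] at hv'
  rw [h2, e2] at hv
  rw [e1] at hp
  rw [e2] at hn
  obtain ⟨yn, hyn⟩ := F.exists_pow_of_mem_Gam (-mu) en hn hv
  obtain ⟨yp, hyp⟩ := F.exists_pow_of_mem_Gam mu ep hp hv'
  exact ⟨lift yn (lift t yp), by rw [comp_cellC, ← hyn, ← hyp]⟩

omit [Nonempty S] [P.IsReduced] in
/-- Values of the cell map are points of the big cell. -/
theorem mem_cellPts_comp {n m : ℕ} {en : Fin n → idx} {ep : Fin m → idx}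
    (hn : RedSub.Enumerates (RedSub.negRoots P B) en) (hp : RedSub.Enumerates (RedSub.posRoots P B) ep)
    {X : Over S} (y : X ⟶ RedSub.pow (Red.Ga S) n ⊗ (Red.DS S M ⊗ RedSub.pow (Red.Ga S) m)) :
    y ≫ cellC c (fun k => u (en k)) (fun k => u (ep k)) ∈ CellPts c u B X := by
  have hy : lift (y ≫ fst _ _) (lift (y ≫ snd _ _ ≫ fst _ _) (y ≫ snd _ _ ≫ snd _ _)) = y := by
    refine CartesianMonoidalCategory.hom_ext _ _ (by simp) ?_
    refine CartesianMonoidalCategory.hom_ext _ _ (by simp) (by simp)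
  rw [← hy, comp_cellC, comp_prodMap_eq, comp_prodMap_eq]
  refine ⟨_, prod_mem_Gam (fun k => ?_) _, _, mul_mem (torus_mem_BorelPts _)
    (Gam_le_BorelPts (Ψ := {b | B.IsPos b}) (fun _ h => h) X (prod_mem_Gam (fun k => ?_) _)), rfl⟩
  · exact (RootSys.mem_negRoots_iff B _).1 (hn.2.subset ⟨k, rfl⟩)
  · exact (RootSys.mem_posRoots_iff B _).1 (hp.2.subset ⟨k, rfl⟩)

end Groth.Agent.RootBase
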