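import Groth.Agent.RootBase.BruhatSimple
import Groth.Agent.S5509

/-!
# The double cosets `U⁻ n B` are disjoint and cover
-/

set_option autoImplicit false
set_option backward.isDefEq.respectTransparency false
set_option linter.style.haveILetI false
set_option maxHeartbeats 1000000
set_option synthInstance.maxHeartbeats 400000

universe u

open CategoryTheory Limits MonoidalCategory CartesianMonoidalCategory MonObj GrpObj AlgebraicGeometry
open scoped CategoryTheory.Obj

noncomputable section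

namespace Groth.Agent.RootBase

open Groth.Agent.HomDiag Groth.Agent.DynPar

variable {S : Scheme.{u}} {G : Over S} [GrpObj G] {M : Type} [AddCommGroup M] [Module.Free ℤ M] [Module.Finite ℤ M]
  {c : Red.DS S M ⟶ G} {idx : Type} [Fintype idx] {P : RootPairing idx ℤ M (Module.Dual ℤ M)}
  {u : idx → (Red.Ga S ⟶ G)}

/-- An element realising the reflection of a root moves the frame by it. -/
theorem Frame.wmoves_refl [Nonempty S] (F : Frame c P.root u) (hP : P.toLinearMap = Module.Dual.eval ℤ M) {a : idx}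
    {N : 𝟙_ (Over S) ⟶ G}
    (hN : ∀ (X : Over S) (t : X ⟶ Red.DS S M),
      cj N (t ≫ c) = refl (P.root a) (P.coroot a).toAddMonoidHom t ≫ c) (X : Over S) :
    WMoves c u (toUnit X ≫ N) (P.reflectionPerm a) := by
  have h2 : (P.coroot a).toAddMonoidHom (P.root a) = 2 := by
    show P.coroot a (P.root a) = 2
    rw [coroot_apply_root hP, P.pairing_same]
  have hN' : ∀ (X : Over S) (t : X ⟶ Red.DS S M),
      cj N⁻¹ (t ≫ c) = refl (P.root a) (P.coroot a).toAddMonoidHom t ≫ c := fun X t => by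
    have h := hN X (refl (P.root a) (P.coroot a).toAddMonoidHom t)
    rw [refl_refl h2 t] at h
    rw [← h, cj_inv_cj]
  have key : ∀ (N : 𝟙_ (Over S) ⟶ G), (∀ (X : Over S) (t : X ⟶ Red.DS S M),
      cj N (t ≫ c) = refl (P.root a) (P.coroot a).toAddMonoidHom t ≫ c) → ∀ b (x : X ⟶ Red.Ga S),
        ∃ x' : X ⟶ Red.Ga S, cj N (x ≫ u b) = x' ≫ u (P.reflectionPerm a b) := by
    intro N hN b x
    have h := rootHom_of_refl h2 hN (F.hu b)
    have e : P.root (P.reflectionPerm a b) = P.root b - (P.coroot a).toAddMonoidHom (P.root b) • P.root a := by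
      rw [root_refl, ← coroot_apply_root hP]; rfl
    rw [← e] at h
    obtain ⟨x', hx'⟩ := F.rootHom_range h x
    exact ⟨x', by rw [hx', comp_cj]⟩
  refine ⟨fun b x => key _ hN b x, fun b x => ?_, fun t => ⟨_, hN X t⟩,
    fun t => ⟨refl (P.root a) (P.coroot a).toAddMonoidHom t, ?_⟩⟩
  · obtain ⟨x', hx'⟩ := key _ hN' b x
    refine ⟨x', ?_⟩
    rw [RootPairing.reflectionPerm_symm, ← hx', cj, GrpObj.comp_inv, _root_.inv_inv]
  · rw [← hN' X t, cj, GrpObj.comp_inv, _root_.inv_inv]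

/-- Products of arbitrary reflection realisers. -/
theorem Frame.wmoves_list [Nonempty S] (F : Frame c P.root u) (hP : P.toLinearMap = Module.Dual.eval ℤ M)
    {n : idx → (𝟙_ (Over S) ⟶ G)}
    (hn : ∀ a, ∀ (X : Over S) (t : X ⟶ Red.DS S M),
      cj (n a) (t ≫ c) = refl (P.root a) (P.coroot a).toAddMonoidHom t ≫ c) (X : Over S) :
    ∀ l : List idx, WMoves c u (wpt X n l) (wperm P l)
  | [] => WMoves.one
  | a :: l => by
    simp only [wpt, wperm, List.map_cons, List.prod_cons]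
    exact (F.wmoves_refl hP (hn a) X).mul (F.wmoves_list hP hn X l)

theorem comp_wpt {X X' : Over S} (ρ : X' ⟶ X) (n : idx → (𝟙_ (Over S) ⟶ G)) (l : List idx) :
    ρ ≫ wpt X n l = wpt X' n l := by
  rw [wpt_eq, wpt_eq, ← Category.assoc, toUnit_unique (ρ ≫ toUnit X) (toUnit X')]

variable [Nonempty S] [P.IsReduced] {B : P.Base} {w : idx → (𝟙_ (Over S) ⟶ G)}

omit [P.IsReduced] in
/-- A nontrivial value determines the root. -/
theorem Frame.root_eq_of_pt (F : Frame c P.root u) {X : Over S} (hne : Nonempty X.left) {b d : idx}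
    {y y' : X ⟶ Red.Ga S} (hy : IsUnit (Red.gaFn y)) (h : y ≫ u b = y' ≫ u d) : b = d := by
  classical
  by_contra hbd
  haveI := F.hc.1
  haveI : Nontrivial Γ(X.left, ⊤) := by
    obtain ⟨z⟩ := hne
    exact (X.left.presheaf.germ ⊤ z trivial).hom.domain_nontrivial
  have hy1 : y ≠ 1 := fun e => not_isUnit_zero (by rwa [e, BGaNotS.gaFn_one] at hy)
  obtain ⟨mu, hmu, hb⟩ := F.exists_regular_at b
  rcases lt_or_gt_of_ne (hmu d) with hd | hd
  · obtain ⟨p, en₀, -, hn⟩ := exists_extend {i | 0 < (-mu) (P.root i)} (Fin.elim0 : Fin 0 → idx) (fun x => x.elim0)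
      fun k => k.elim0
    obtain ⟨q, ep₀, -, hp⟩ := exists_extend {i | 0 < mu (P.root i)} (Fin.elim0 : Fin 0 → idx) (fun x => x.elim0)
      fun k => k.elim0
    generalize Fin.append (Fin.elim0 : Fin 0 → idx) en₀ = en at hn
    generalize Fin.append (Fin.elim0 : Fin 0 → idx) ep₀ = ep at hp
    haveI := (F.cell mu hmu _ _ _ _ hn hp hn hp).1
    obtain ⟨kb, hkb⟩ := hp.2.ge (show b ∈ {i | 0 < mu (P.root i)} from hb)
    obtain ⟨kd, hkd⟩ := hn.2.ge (show d ∈ {i | 0 < (-mu) (P.root i)} by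
      show 0 < (-mu) (P.root d); rw [AddMonoidHom.neg_apply]; omega)
    obtain ⟨A, hA, hA'⟩ := exists_pow_prod (G := G) (fun l => u (ep l))
      (fun l => if l = kb then y else (1 : X ⟶ Red.Ga S))
    obtain ⟨A₀, hA₀, hA₀'⟩ := exists_pow_prod (G := G) (fun l => u (ep l)) (fun _ => (1 : X ⟶ Red.Ga S))
    obtain ⟨C, hC, hC'⟩ := exists_pow_prod (G := G) (fun l => u (en l))
      (fun l => if l = kd then y' else (1 : X ⟶ Red.Ga S))
    obtain ⟨C₀, hC₀, hC₀'⟩ := exists_pow_prod (G := G) (fun l => u (en l)) (fun _ => (1 : X ⟶ Red.Ga S))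
    haveI := Over.mono_of_mono_left (cellC c (fun l => u (en l)) (fun l => u (ep l)))
    have e : lift C₀ (lift (1 : X ⟶ Red.DS S M) A) ≫ cellC c (fun l => u (en l)) (fun l => u (ep l)) =
        lift C (lift (1 : X ⟶ Red.DS S M) A₀) ≫ cellC c (fun l => u (en l)) (fun l => u (ep l)) := by
      rw [comp_cellC, comp_cellC, prodMap_one _ (fun k => (F.hu _).1) C₀ hC₀, prodMap_one _ (fun k => (F.hu _).1) A₀ hA₀,
        hA', hC', MonObj.one_comp, _root_.one_mul, _root_.one_mul, _root_.mul_one, _root_.mul_one,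
        prod_ofFn_single _ kb, prod_ofFn_single _ kd, if_pos rfl, if_pos rfl, hkb, hkd, h]
      · intro j hj; rw [if_neg hj]; haveI := (F.hu (en j)).1; exact MonObj.one_comp _
      · intro j hj; rw [if_neg hj]; haveI := (F.hu (ep j)).1; exact MonObj.one_comp _
    have e' := congrArg (fun z => z ≫ snd _ _ ≫ snd _ _ ≫ proj S _ kb) ((cancel_mono _).1 e)
    simp only [lift_snd_assoc, hA, hA₀, if_true] at e'
    exact hy1 e'
  · have hinj : Function.Injective (![b, d] : Fin 2 → idx) := by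
      intro i j hij
      fin_cases i <;> fin_cases j <;> simp_all
    have e := F.prod_inj mu ![b, d] hinj (fun k => by fin_cases k <;> simpa)
      ![y, (1 : X ⟶ Red.Ga S)] ![(1 : X ⟶ Red.Ga S), y'] (by
        haveI := (F.hu b).1
        haveI := (F.hu d).1
        simp [List.ofFn_succ, h, MonObj.one_comp])
    exact hy1 (congrFun e 0)

/-- **A word sending all positive roots to negative ones.** -/
theorem exists_longest (B : P.Base) :
    ∃ l : List idx, (∀ a ∈ l, a ∈ B.support) ∧ ∀ i, B.IsPos i → ¬ B.IsPos (wperm P l i) := by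
  have key : ∀ (n : ℕ) (l : List idx), (∀ a ∈ l, a ∈ B.support) →
      {i | B.IsPos i ∧ B.IsPos (wperm P l i)}.ncard = n →
        ∃ l : List idx, (∀ a ∈ l, a ∈ B.support) ∧ ∀ i, B.IsPos i → ¬ B.IsPos (wperm P l i) := by
    intro n
    induction n using Nat.strong_induction_on with
    | h n ih =>
      intro l hl hn
      by_cases hs : ∀ j ∈ B.support, ¬ B.IsPos (wperm P l j)
      · refine ⟨l, hl, fun i hi => hi.induction_on_add (p := fun i => ¬ B.IsPos (wperm P l i)) hs ?_⟩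
        intro x y z e hx hy hz
        have e1 : P.root (wperm P l z) = P.root (wperm P l x) + P.root (wperm P l y) := by
          simp only [wperm]
          rw [prod_reflectionPerm_apply, prod_reflectionPerm_apply, prod_reflectionPerm_apply, RootSys.groot_smul,
            RootSys.groot_smul, RootSys.groot_smul, e, smul_add]
        have h1 := B.height_add e1
        have h2 : ¬ 0 < B.height (wperm P l x) := hx
        have h3 : ¬ 0 < B.height (wperm P l y) := hs y hy
        have h4 : 0 < B.height (wperm P l z) := hz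
        omega
      · push Not at hs
        obtain ⟨j, hj, hbad⟩ := hs
        refine ih _ ?_ (l ++ [j]) (fun a ha => (List.mem_append.1 ha).elim (hl a)
          fun h => List.mem_singleton.1 h ▸ hj) rfl
        have happ : ∀ i, wperm P (l ++ [j]) i = wperm P l (P.reflectionPerm j i) := fun i => by
          simp only [wperm, List.map_append, List.prod_append, List.map_cons, List.map_nil, List.prod_cons,
            List.prod_nil, _root_.mul_one, Equiv.Perm.mul_apply]
        rw [← hn, ← Set.ncard_image_of_injective {i | B.IsPos i ∧ B.IsPos (wperm P (l ++ [j]) i)}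
          (P.reflectionPerm j).injective]
        refine lt_of_le_of_lt (Set.ncard_le_ncard ?_ (Set.toFinite _))
          (Set.ncard_sdiff_singleton_lt_of_mem (a := j)
            (show j ∈ {i | B.IsPos i ∧ B.IsPos (wperm P l i)} from
              ⟨RootPairing.Base.isPos_of_mem_support hj, hbad⟩) (Set.toFinite _))
        rintro _ ⟨i, ⟨hi, hbi⟩, rfl⟩
        rw [happ] at hbi
        have hij : i ≠ j := fun h => by
          subst h
          rw [wperm_opp] at hbi
          exact (RootSys.isPos_opp_iff B _).1 hbi hbad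
        exact ⟨⟨hi.reflectionPerm hj hij, hbi⟩, (refl_posAway hj ⟨hi, hij⟩).2⟩
  exact key _ [] (fun _ h => absurd h List.not_mem_nil) rfl

/-- The reversed word is inverse up to the torus. -/
theorem Frame.wpt_reverse (F : Frame c P.root u) (hP : P.toLinearMap = Module.Dual.eval ℤ M) (hw : Realises c B w)
    (X : Over S) : ∀ l : List idx, (∀ a ∈ l, a ∈ B.support) →
      ∃ t : X ⟶ Red.DS S M, wpt X w l.reverse * wpt X w l = t ≫ c
  | [], _ => ⟨1, by haveI := F.hc.1; simp [wpt, MonObj.one_comp]⟩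
  | a :: l, hl => by
    haveI := F.hc.1
    have hl' : ∀ d ∈ l, d ∈ B.support := fun d hd => hl d (List.mem_cons_of_mem _ hd)
    obtain ⟨t, ht⟩ := F.wpt_reverse hP hw X l hl'
    obtain ⟨t₀, ht₀⟩ := F.simple_sq hP hw (hl a List.mem_cons_self)
    obtain ⟨t₁, ht₁⟩ := (F.wmoves_word hP hw X l.reverse fun d hd => hl' d (List.mem_reverse.1 hd)).torus (toUnit X ≫ t₀)
    refine ⟨t₁ * t, ?_⟩
    rw [MonObj.mul_comp, ← ht₁, ← ht, Category.assoc, ← ht₀, MonObj.comp_mul]
    simp only [wpt, List.reverse_cons, List.map_append, List.prod_append, List.map_cons, List.map_nil, List.prod_cons,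
      List.prod_nil, _root_.mul_one]
    group

theorem Frame.wpt_mem_allPts (F : Frame c P.root u) (hP : P.toLinearMap = Module.Dual.eval ℤ M)
    (hw : Realises c B w) (X : Over S) {l : List idx} (hl : ∀ a ∈ l, a ∈ B.support) : wpt X w l ∈ AllPts c u X :=
  list_prod_mem fun g hg => by
    obtain ⟨a, ha, rfl⟩ := List.mem_map.1 hg
    obtain ⟨x₁, x₂, t, hex⟩ := F.exchange_simple hP hw (hl a ha) (y := BGaNotS.gaPt (1 : Γ(X.left, ⊤)))
      (by rw [BGaNotS.gaFn_gaPt]; exact isUnit_one)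
    have e : toUnit X ≫ w a = (x₁ ≫ u a)⁻¹ * (BGaNotS.gaPt (1 : Γ(X.left, ⊤)) ≫ u (P.reflectionPerm a a)) *
        (x₂ ≫ u a)⁻¹ * (t ≫ c)⁻¹ := by rw [hex]; group
    rw [e]
    exact mul_mem (mul_mem (mul_mem (inv_mem (Subgroup.subset_closure (Or.inr ⟨a, x₁, rfl⟩)))
      (Subgroup.subset_closure (Or.inr ⟨_, _, rfl⟩))) (inv_mem (Subgroup.subset_closure (Or.inr ⟨a, x₂, rfl⟩))))
      (inv_mem (Subgroup.subset_closure (Or.inl ⟨t, rfl⟩)))

/-- **The double cosets `U⁻ n B` cover.** -/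
theorem Frame.allPts_subset_oppCells (F : Frame c P.root u) (hP : P.toLinearMap = Module.Dual.eval ℤ M)
    (hw : Realises c B w) {X : Over S} (hX : ∀ r : Γ(X.left, ⊤), r = 0 ∨ IsUnit r) {g : X ⟶ G}
    (hg : g ∈ AllPts c u X) :
    ∃ l : List idx, (∀ a ∈ l, a ∈ B.support) ∧ ∃ v ∈ Gam u {b | ¬ B.IsPos b} X, ∃ b ∈ BorelPts c u B X,
      g = v * wpt X w l * b := by
  haveI := F.hc.1
  obtain ⟨l₀, hl₀, hlong⟩ := exists_longest B
  have hm := F.wmoves_word hP hw X l₀ hl₀
  obtain ⟨l, hl, b₁, hb₁, b₂, hb₂, e⟩ := F.allPts_subset_cells hP hw hX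
    (mul_mem (inv_mem (F.wpt_mem_allPts hP hw X hl₀)) hg)
  obtain ⟨t, v, hv, rfl⟩ := F.exists_torus_unip hb₁
  have hv' : wpt X w l₀ * v * (wpt X w l₀)⁻¹ ∈ Gam u {b | ¬ B.IsPos b} X := hm.conj_Gam (fun b hb => hlong b hb) hv
  obtain ⟨t', ht'⟩ := hm.torus t
  have hll : ∀ a ∈ l₀ ++ l, a ∈ B.support := fun a ha => (List.mem_append.1 ha).elim (hl₀ a) (hl a)
  refine ⟨l₀ ++ l, hll, (t' ≫ c) * (wpt X w l₀ * v * (wpt X w l₀)⁻¹) * (t' ≫ c)⁻¹, F.torus_conj_Gam t' hv', ?_⟩
  obtain ⟨s, hs⟩ := (F.wmoves_word hP hw X (l₀ ++ l) hll).torus' t'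
  refine ⟨(s ≫ c) * b₂, mul_mem (torus_mem_BorelPts s) hb₂, ?_⟩
  have ew : wpt X w (l₀ ++ l) = wpt X w l₀ * wpt X w l := by
    simp only [wpt, List.map_append, List.prod_append]
  rw [← hs, ew, ← ht', show g = wpt X w l₀ * ((wpt X w l₀)⁻¹ * g) by group, e]
  group

/-- The negative roots kept negative by the inverse of a permutation. -/
def negKept (B : P.Base) (σ : Equiv.Perm idx) : Set idx := {b | ¬ B.IsPos b ∧ ¬ B.IsPos (σ.symm b)}

/-- The negative root groups split along a permutation. -/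
theorem Frame.split_neg (F : Frame c P.root u) {X : Over S} {N : X ⟶ G} {σ : Equiv.Perm idx} (hN : WMoves c u N σ)
    {v : X ⟶ G} (hv : v ∈ Gam u {b | ¬ B.IsPos b} X) :
    ∃ v₁ ∈ Gam u (negKept B σ) X, ∃ v₂ ∈ Gam u {b | B.IsPos b} X, v = v₁ * (N * v₂ * N⁻¹) := by
  classical
  obtain ⟨mu, hmp, hmn, -⟩ := exists_pos_hom P B
  have hneg : {b | ¬ B.IsPos b} = {b | 0 < (-mu) (P.root b)} := Set.ext fun b =>
    ((hmn b).trans (RootSys.mem_negRoots_iff B b)).symm
  obtain ⟨p₀, e₀, -, he₀⟩ := exists_extend (negKept B σ) (Fin.elim0 : Fin 0 → idx)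
    (fun x => x.elim0) fun k => k.elim0
  generalize Fin.append (Fin.elim0 : Fin 0 → idx) e₀ = e₁ at he₀
  generalize 0 + p₀ = p at e₁ he₀
  obtain ⟨q, r, -, hr⟩ := exists_extend {b | ¬ B.IsPos b} e₁ he₀.1 fun k => (he₀.2.subset ⟨k, rfl⟩).1
  rw [hneg] at hv
  obtain ⟨y, hy⟩ := F.exists_pow_of_mem_Gam (-mu) (Fin.append e₁ r) (by rwa [← hneg]) hv
  rw [comp_prodMap_eq, ofFn_split, List.prod_append] at hy
  refine ⟨(List.ofFn fun k => (y ≫ proj S (p + q) (Fin.castAdd q k)) ≫ u (Fin.append e₁ r (Fin.castAdd q k))).prod,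
    prod_mem_Gam (fun k => ?_) _,
    N⁻¹ * (List.ofFn fun k => (y ≫ proj S (p + q) (Fin.natAdd p k)) ≫ u (Fin.append e₁ r (Fin.natAdd p k))).prod * N,
    ?_, by rw [hy]; group⟩
  · rw [Fin.append_left]; exact he₀.2.subset ⟨k, rfl⟩
  · have conj_prod : ∀ {Ψ : Set idx} {k : ℕ} (f : Fin k → (X ⟶ G)), (∀ i, N⁻¹ * f i * N ∈ Gam u Ψ X) →
        N⁻¹ * (List.ofFn f).prod * N ∈ Gam u Ψ X := by
      intro Ψ k
      induction k with
      | zero => intro f _; simp
      | succ k ih =>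
        intro f hf
        rw [List.ofFn_succ, List.prod_cons,
          show N⁻¹ * (f 0 * (List.ofFn fun i : Fin k => f i.succ).prod) * N =
            (N⁻¹ * f 0 * N) * (N⁻¹ * (List.ofFn fun i : Fin k => f i.succ).prod * N) by group]
        exact mul_mem (hf 0) (ih _ fun i => hf i.succ)
    refine conj_prod _ fun i => ?_
    obtain ⟨x', hx'⟩ := hN.root' (Fin.append e₁ r (Fin.natAdd p i)) (y ≫ proj S (p + q) (Fin.natAdd p i))
    rw [hx']
    refine mem_Gam ?_ x'
    rw [Fin.append_right]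
    by_contra hc
    have hri : r i ∈ negKept B σ :=
      ⟨by have := hr.2.subset ⟨Fin.natAdd p i, rfl⟩; rwa [Fin.append_right] at this, hc⟩
    obtain ⟨k, hk⟩ := he₀.2.ge hri
    have h := hr.1 (a₁ := Fin.castAdd q k) (a₂ := Fin.natAdd p i) (by rw [Fin.append_left, Fin.append_right, hk])
    have h' := congrArg Fin.val h
    simp only [Fin.val_castAdd, Fin.val_natAdd] at h'
    omega

/-- **The double cosets `U⁻ n B` are disjoint.** -/
theorem Frame.oppCells_unique (F : Frame c P.root u) (hP : P.toLinearMap = Module.Dual.eval ℤ M)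
    {n : idx → (𝟙_ (Over S) ⟶ G)}
    (hn : ∀ a, ∀ (X : Over S) (t : X ⟶ Red.DS S M),
      cj (n a) (t ≫ c) = refl (P.root a) (P.coroot a).toAddMonoidHom t ≫ c)
    {X : Over S} (hne : Nonempty X.left) {l l' : List idx} {v v' b b' : X ⟶ G}
    (hv : v ∈ Gam u {i | ¬ B.IsPos i} X) (hv' : v' ∈ Gam u {i | ¬ B.IsPos i} X)
    (hb : b ∈ BorelPts c u B X) (hb' : b' ∈ BorelPts c u B X)
    (h : v * wpt X n l * b = v' * wpt X n l' * b') : wperm P l = wperm P l' := by
  classical
  haveI := F.hc.1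
  have hm := F.wmoves_list hP hn X l
  have hm' := F.wmoves_list hP hn X l'
  obtain ⟨v₁, hv₁, v₂, hv₂, e⟩ := F.split_neg hm (mul_mem (inv_mem hv') hv)
  obtain ⟨N, hN⟩ : ∃ N, N = wpt X n l := ⟨_, rfl⟩
  obtain ⟨N', hN'⟩ : ∃ N', N' = wpt X n l' := ⟨_, rfl⟩
  rw [← hN] at hm e h
  rw [← hN'] at hm' h
  -- the quotient lies in the big cell
  have hz : N⁻¹ * v₁ * N ∈ Gam u {i | ¬ B.IsPos i} X := by
    have h1 := (hm.inv).conj_Gam (Ψ' := {i | ¬ B.IsPos i}) (fun i hi => hi.2) hv₁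
    rwa [_root_.inv_inv] at h1
  have hcell : N⁻¹ * N' ∈ CellPts c u B X := by
    refine ⟨_, hz, v₂ * b * b'⁻¹, mul_mem (mul_mem (Gam_le_BorelPts (Ψ := {i | B.IsPos i}) (fun _ h => h) X hv₂) hb)
      (inv_mem hb'), ?_⟩
    calc N⁻¹ * N' = N⁻¹ * v'⁻¹ * (v' * N' * b') * b'⁻¹ := by group
      _ = N⁻¹ * (v'⁻¹ * v) * N * b * b'⁻¹ := by rw [← h]; group
      _ = _ := by rw [e]; group
  obtain ⟨mu, hmp, hmn, hmu⟩ := exists_pos_hom P B
  obtain ⟨p, en₀, -, hen⟩ := exists_extend (RedSub.negRoots P B) (Fin.elim0 : Fin 0 → idx) (fun x => x.elim0)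
    fun k => k.elim0
  obtain ⟨q, ep₀, -, hep⟩ := exists_extend (RedSub.posRoots P B) (Fin.elim0 : Fin 0 → idx) (fun x => x.elim0)
    fun k => k.elim0
  generalize Fin.append (Fin.elim0 : Fin 0 → idx) en₀ = en at hen
  generalize Fin.append (Fin.elim0 : Fin 0 → idx) ep₀ = ep at hep
  obtain ⟨z, hzc⟩ := F.exists_cellC_of_mem en ep hen hep hcell
  have e1 : RedSub.posRoots P B = {i | 0 < mu (P.root i)} := Set.ext fun i => (hmp i).symm
  have e2 : RedSub.negRoots P B = {i | 0 < (-mu) (P.root i)} := Set.ext fun i => (hmn i).symm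
  rw [e1] at hep
  rw [e2] at hen
  have ho := (F.cell mu hmu _ _ _ _ hen hep hen hep).1
  have hz' : lift (z ≫ fst _ _) (lift (z ≫ snd _ _ ≫ fst _ _) (z ≫ snd _ _ ≫ snd _ _)) = z := by
    refine CartesianMonoidalCategory.hom_ext _ _ (by simp) ?_
    refine CartesianMonoidalCategory.hom_ext _ _ (by simp) (by simp)
  have key := S5509.torus_of_normalizes F en ep ho mu hmu (z ≫ fst _ _) (z ≫ snd _ _ ≫ fst _ _)
    (z ≫ snd _ _ ≫ snd _ _) fun X' ρ t => by
      obtain ⟨t₁, ht₁⟩ := ((F.wmoves_list hP hn X' l).inv.mul (F.wmoves_list hP hn X' l')).torus t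
      refine ⟨t₁, ?_⟩
      rw [hz', hzc, MonObj.comp_mul, GrpObj.comp_inv, hN, hN', comp_wpt, comp_wpt]
      exact ht₁
  rw [hz', hzc] at key
  -- an element of the torus fixes every root
  refine Equiv.ext fun i => ?_
  obtain ⟨x, hx⟩ := ((hm.inv).mul hm').root ((wperm P l').symm (wperm P l i)) (BGaNotS.gaPt (1 : Γ(X.left, ⊤)))
  rw [key] at hx
  obtain ⟨x', hx', hxu⟩ := (F.hu ((wperm P l').symm (wperm P l i))).2.2 X (z ≫ snd _ _ ≫ fst _ _)
    (BGaNotS.gaPt (1 : Γ(X.left, ⊤)))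
  rw [← hx'] at hx
  have hu : IsUnit (Red.gaFn x') := by
    rw [hxu, BGaNotS.gaFn_gaPt, _root_.mul_one, RootIntrinsic.gmFn_chi]
    exact (Group.isUnit _).map _
  have hfix := F.root_eq_of_pt hne hu hx
  rw [show ((wperm P l).symm * wperm P l') ((wperm P l').symm (wperm P l i)) = i by simp] at hfix
  exact ((Equiv.symm_apply_eq _).1 hfix)

end Groth.Agent.RootBase
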