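import Groth.Agent.RootBase.Coord
import Groth.Agent.RootSys.Cell
import Groth.Agent.DynPar.Smooth
import Groth.Agent.DynPar.Parabolic
import Groth.Agent.MTQuot.Diag
import Groth.Agent.RedR1.Cell
import Groth.Agent.FibCrit.Thickening
import Groth.Agent.ParNorm.Global
import Mathlib.AlgebraicGeometry.Morphisms.FlatMono
import Mathlib.AlgebraicGeometry.Morphisms.LocalFlatDescent

/-!
# The open cell of a cocharacter over a ring
-/

set_option autoImplicit false
set_option backward.isDefEq.respectTransparency false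
set_option linter.style.haveILetI false
set_option maxHeartbeats 1000000
set_option synthInstance.maxHeartbeats 400000

universe u

open CategoryTheory Limits MonoidalCategory CartesianMonoidalCategory MonObj AlgebraicGeometry LieS
open scoped CategoryTheory.Obj

noncomputable section

namespace Groth.Agent.RootBase

open Groth.Agent.HomDiag Groth.Agent.DynPar Groth.Agent.RootSys

section Descent

variable {S : Scheme.{u}}

/-- Smoothness is detected on geometric fibres. -/
theorem smooth_of_geomPts {A B : Over S} [LocallyOfFinitePresentation A.hom] [Flat A.hom]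
  [LocallyOfFiniteType B.hom] (f : A ⟶ B) (h : ∀ s : S, Smooth ((Over.pullback (Red.geomPt s)).map f).left) :
    Smooth f.left := by
  refine (FibCrit.LFT.smooth_of_fibres (Over.w f) fun s => ?_).1
  let j : Spec (CommRingCat.of (AlgebraicClosure (S.residueField s))) ⟶ Spec (S.residueField s) :=
    Spec.map (CommRingCat.ofHom (algebraMap (S.residueField s) (AlgebraicClosure (S.residueField s))))
  let τ := j ≫ S.fromSpecResidueField s
  let F := ((Over.pullback τ).map f).left
  haveI hF' : Smooth F := h s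
  let ψ : pullback B.hom τ ⟶ B.hom.fiber s :=
    pullback.lift (pullback.fst B.hom τ) (pullback.snd B.hom τ ≫ j) (by
      rw [Category.assoc]; exact pullback.condition)
  have hψ : IsPullback ψ (pullback.snd B.hom τ) (pullback.snd B.hom (S.fromSpecResidueField s)) j :=
    IsPullback.of_right (by
      rw [show ψ ≫ pullback.fst B.hom (S.fromSpecResidueField s) = pullback.fst B.hom τ from pullback.lift_fst _ _ _]
      exact IsPullback.of_hasPullback B.hom τ) (pullback.lift_snd _ _ _) (IsPullback.of_hasPullback _ _)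
  have hj : (@Surjective ⊓ @Flat ⊓ @QuasiCompact : MorphismProperty Scheme.{u}) j :=
    ⟨⟨inferInstance, inferInstance⟩, inferInstance⟩
  have hψp : (@Surjective ⊓ @Flat ⊓ @QuasiCompact : MorphismProperty Scheme.{u}) ψ :=
    MorphismProperty.of_isPullback hψ.flip hj
  have hF : F ≫ pullback.fst B.hom τ = pullback.fst A.hom τ ≫ f.left := by simp [F, Over.pullback]
  have sqA : IsPullback F (pullback.fst A.hom τ) (pullback.fst B.hom τ) f.left := by
    refine IsPullback.of_right ?_ hF (IsPullback.of_hasPullback B.hom τ).flip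
    rw [show F ≫ pullback.snd B.hom τ = pullback.snd A.hom τ from Over.w ((Over.pullback τ).map f),
      show f.left ≫ B.hom = A.hom from Over.w f]
    exact (IsPullback.of_hasPullback A.hom τ).flip
  let u : pullback A.hom τ ⟶ pullback f.left (B.hom.fiberι s) :=
    pullback.lift (pullback.fst A.hom τ) (F ≫ ψ) (by
      rw [Category.assoc, show ψ ≫ B.hom.fiberι s = pullback.fst B.hom τ from pullback.lift_fst _ _ _]
      exact hF.symm)
  have sqB : IsPullback F u ψ (pullback.snd f.left (B.hom.fiberι s)) := by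
    refine IsPullback.of_bot ?_ (pullback.lift_snd _ _ _).symm (IsPullback.of_hasPullback f.left (B.hom.fiberι s)).flip
    rw [show ψ ≫ B.hom.fiberι s = pullback.fst B.hom τ from pullback.lift_fst _ _ _,
      show u ≫ pullback.fst f.left (B.hom.fiberι s) = pullback.fst A.hom τ from pullback.lift_fst _ _ _]
    exact sqA
  exact MorphismProperty.of_isPullback_of_descendsAlong (P := @Smooth)
    (Q := (@Surjective ⊓ @Flat ⊓ @QuasiCompact : MorphismProperty Scheme.{u})) sqB hψp
    hF'

end Descent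

variable {R : Type u} [CommRing R] {G : Over (Spec (CommRingCat.of R))} [GrpObj G] [IsAffine G.left]
  {M : Type} [AddCommGroup M] {c : Red.DS (Spec (CommRingCat.of R)) M ⟶ G} [IsMonHom c]

/-- Contracted points with a limit in the other direction are trivial. -/
theorem eq_one_of_opp (mu : M →+ ℤ) {B : Type u} [CommRing B] {f : Spec (CommRingCat.of B) ⟶ Spec (CommRingCat.of R)}
    {g : pt B f ⟶ G} (h1 : g ∈ USub f (Red.DSmap (Spec (CommRingCat.of R)) mu ≫ c))
    (h2 : g ∈ PSub f (Red.DSmap (Spec (CommRingCat.of R)) (-mu) ≫ c)) : g = 1 := by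
  refine rp_ext (RingHom.ext fun a => ?_)
  rw [← sum_wc c a, map_sum, map_sum]
  refine Finset.sum_congr rfl fun m _ => ?_
  obtain ⟨h3, h4⟩ := (mem_USub_iff c mu gens_univ).1 h1
  rcases lt_trichotomy (mu m) 0 with h | h | h
  · rw [(mem_PSub_iff c mu gens_univ).1 h3 a (Set.mem_univ a) m h,
      rp_one_wc c a (fun e => by rw [e, map_zero] at h; omega)]
  · exact h4 a (Set.mem_univ a) m h
  · rw [(mem_PSub_iff c (-mu) gens_univ).1 h2 a (Set.mem_univ a) m (by rw [AddMonoidHom.neg_apply]; omega),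
      rp_one_wc c a (fun e => by rw [e, map_zero] at h; omega)]

/-- The product map of the cell. -/
abbrev upMap {S : Scheme.{u}} {G U P : Over S} [GrpObj G] (u : U ⟶ G) (p : P ⟶ G) : U ⊗ P ⟶ G :=
  (fst U P ≫ u) * (snd U P ≫ p)

/-- The base change of the product map. -/
theorem map_upMap {S S' : Scheme.{u}} (τ : S' ⟶ S) {G U P : Over S} [GrpObj G] (u : U ⟶ G) (p : P ⟶ G) :
    (Over.pullback τ).map (upMap u p) =
      CartesianMonoidalCategory.prodComparison (Over.pullback τ) U P ≫ upMap ((Over.pullback τ).map u) ((Over.pullback τ).map p) := by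
  rw [upMap, Functor.map_mul, Functor.map_comp, Functor.map_comp, MonObj.comp_mul, CartesianMonoidalCategory.prodComparison_fst_assoc, CartesianMonoidalCategory.prodComparison_snd_assoc]

variable [Smooth G.hom]

/-- Multiplication of the opposite contracted subgroup with the subgroup with a limit is an open immersion. -/
theorem isOpenImmersion_upMap (mu : M →+ ℤ) {U P : Over (Spec (CommRingCat.of R))} [GrpObj U] [GrpObj P]
    {u : U ⟶ G} {p : P ⟶ G} (hu : IsU (Red.DSmap (Spec (CommRingCat.of R)) (-mu) ≫ c) u)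
    (hp : IsP (Red.DSmap (Spec (CommRingCat.of R)) mu ≫ c) p) :
    IsOpenImmersion (upMap u p).left := by
  let S := Spec (CommRingCat.of R)
  haveI : IsAffineHom G.hom := isAffineHom_of_isAffine G.hom
  haveI := hu.1; haveI := hu.2.1; haveI := hp.1; haveI := hp.2.1
  haveI : Mono u := Over.mono_of_mono_left u
  haveI : Mono p := Over.mono_of_mono_left p
  obtain ⟨P', _, p', hp'⟩ := exists_isP (G := G) (Red.DSmap S (-mu) ≫ c)
  obtain ⟨Z, _, z, hz, -, -⟩ := exists_centralizer_DS (G := G) inferInstance inferInstance (Red.DSmap S (-mu) ≫ c)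
  haveI : Smooth U.hom := (smooth_isU inferInstance hp' hu hz).1
  haveI : Smooth P.hom := smooth_isP inferInstance _ hp
  haveI : Smooth (U ⊗ P).hom := by
    show Smooth (pullback.fst U.hom P.hom ≫ U.hom)
    infer_instance
  have hym : ∀ (T : Over S) (y : T ⟶ U ⊗ P), y ≫ upMap u p = (y ≫ fst U P) ≫ u * (y ≫ snd U P) ≫ p := fun T y => by
    rw [upMap, MonObj.comp_mul, Category.assoc, Category.assoc]
  haveI hmono : Mono (upMap u p) := by
    refine ⟨fun {T} a b h => hom_ext_pts a b fun B _ f y => ?_⟩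
    have h' : (y ≫ a) ≫ upMap u p = (y ≫ b) ≫ upMap u p := by rw [Category.assoc, h, Category.assoc]
    rw [hym, hym] at h'
    have e : (((y ≫ b) ≫ fst U P) ≫ u)⁻¹ * (((y ≫ a) ≫ fst U P) ≫ u) =
        (((y ≫ b) ≫ snd U P) ≫ p) * (((y ≫ a) ≫ snd U P) ≫ p)⁻¹ := by
      rw [eq_mul_inv_iff_mul_eq, _root_.mul_assoc, h']; group
    have hu1 : (((y ≫ b) ≫ fst U P) ≫ u)⁻¹ * (((y ≫ a) ≫ fst U P) ≫ u) ∈
        USub f (Red.DSmap S (-mu) ≫ c) :=
      mul_mem (inv_mem (hu.exists_fac_iff.1 ⟨_, rfl⟩)) (hu.exists_fac_iff.1 ⟨_, rfl⟩)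
    have h1 := eq_one_of_opp (-mu) hu1 (by
      rw [e, neg_neg]
      exact mul_mem (hp.exists_fac_iff.1 ⟨_, rfl⟩) (inv_mem (hp.exists_fac_iff.1 ⟨_, rfl⟩)))
    have e1 := inv_mul_eq_one.1 h1
    rw [h1] at e
    exact CartesianMonoidalCategory.hom_ext _ _ ((cancel_mono u).1 e1.symm)
      ((cancel_mono p).1 (mul_inv_eq_one.1 e.symm).symm)
  haveI : Mono (upMap u p).left := inferInstanceAs (Mono ((Over.forget S).map (upMap u p)))
  have hsm : Smooth (upMap u p).left := smooth_of_geomPts (upMap u p) fun s => by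
    let τ := Red.geomPt s
    rw [map_upMap, Over.comp_left]
    haveI : IsIso (CartesianMonoidalCategory.prodComparison (Over.pullback τ) U P).left :=
      inferInstanceAs (IsIso ((Over.forget _).map (CartesianMonoidalCategory.prodComparison (Over.pullback τ) U P)))
    let G' := Red.bc τ G
    haveI : IsAffineHom G'.hom := inferInstanceAs (IsAffineHom (pullback.snd G.hom τ))
    haveI : IsAffine G'.left := isAffine_of_isAffineHom G'.hom
    haveI : LocallyOfFiniteType G'.hom := inferInstanceAs (LocallyOfFiniteType (pullback.snd G.hom τ))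
    haveI : IsMonHom (bcHom' τ c) := isMonHom_bcHom' τ c
    have hc : Red.DSmap _ (-mu) ≫ bcHom' τ c = negC (Red.DSmap _ mu ≫ bcHom' τ c) := by
      rw [negC, ← Category.assoc, MTQuot.DSmap_comp]
      congr 2
    have hu' : IsU (Red.DSmap _ (-mu) ≫ bcHom' τ c) ((Over.pullback τ).map u) := by
      rw [← bcHom'_DSmap]; exact hu.bc τ
    have hp' : IsP (Red.DSmap _ mu ≫ bcHom' τ c) ((Over.pullback τ).map p) := by
      rw [← bcHom'_DSmap]; exact hp.bc τ
    haveI : IsMonHom (Red.DSmap (Spec (CommRingCat.of (AlgebraicClosure (S.residueField s)))) mu ≫ bcHom' τ c) :=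
      inferInstance
    haveI : IsMonHom (Red.DSmap (Spec (CommRingCat.of (AlgebraicClosure (S.residueField s)))) (-mu) ≫ bcHom' τ c) :=
      inferInstance
    obtain ⟨-, hopen, -, -⟩ := exists_cell_open (C := G') _ _ hc hu' hp'
    haveI := hopen
    infer_instance
  haveI := hsm
  haveI : Flat (upMap u p).left := inferInstance
  haveI : LocallyOfFinitePresentation (upMap u p).left := inferInstance
  exact IsOpenImmersion.of_flat_of_mono (upMap u p).left

/-- **The cell of a regular cocharacter.** -/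
theorem isOpenImmersion_cellMap [Mono c] (hself : Red.IsCentralizerOf c c) (mu : M →+ ℤ)
    (hreg : ∀ (B : Type u) [CommRing B] (f : Spec (CommRingCat.of B) ⟶ Spec (CommRingCat.of R)) (g : pt B f ⟶ G),
      g ∈ ZSub f (Red.DSmap (Spec (CommRingCat.of R)) mu ≫ c) → g ∈ ZSub f c)
    {U V : Over (Spec (CommRingCat.of R))} [GrpObj U] [GrpObj V] {u : U ⟶ G} {v : V ⟶ G}
    (hu : IsU (Red.DSmap (Spec (CommRingCat.of R)) mu ≫ c) u)
    (hv : IsU (Red.DSmap (Spec (CommRingCat.of R)) (-mu) ≫ c) v)
    {pp pm : Red.Ga (Spec (CommRingCat.of R)) ⟶ G} (ep : U ≅ Red.Ga (Spec (CommRingCat.of R)))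
    (em : V ≅ Red.Ga (Spec (CommRingCat.of R))) (hep : ep.inv ≫ u = pp) (hem : em.inv ≫ v = pm) :
    IsOpenImmersion (RedR1.cellMap c pp pm).left := by
  haveI : IsAffineHom G.hom := isAffineHom_of_isAffine G.hom
  obtain ⟨P, _, p, hp⟩ := exists_isP (G := G) (Red.DSmap (Spec (CommRingCat.of R)) mu ≫ c)
  haveI := hp.1; haveI := hp.2.1
  have hcen : Red.IsCentralizerOf (Red.DSmap (Spec (CommRingCat.of R)) mu ≫ c) c := centralizer_congr hself fun B _ f g =>
    ⟨fun hg => by
      rw [show c = Red.DSmap (Spec (CommRingCat.of R)) (AddMonoidHom.id M) ≫ c by rw [DSmap_id, Category.id_comp], mem_ZSub_iff c _ gens_univ] at hg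
      rw [mem_ZSub_iff c _ gens_univ]
      exact fun a ha m hm => hg a ha m fun h => hm (by rw [show m = 0 from h, map_zero]), hreg B f g⟩
  obtain ⟨L⟩ := exists_leviData hp hu hcen
  haveI := L.iso
  have hopen := isOpenImmersion_upMap mu hv hp
  let φ : (Red.Ga (Spec (CommRingCat.of R)) ⊗ Red.DS (Spec (CommRingCat.of R)) M) ⊗ Red.Ga (Spec (CommRingCat.of R)) ⟶ V ⊗ P :=
    lift (fst _ _ ≫ fst _ _ ≫ em.inv) (lift (fst _ _ ≫ snd _ _) (snd _ _ ≫ ep.inv) ≫ (L.l ⊗ₘ L.iu) ≫ μ)
  let ψ : V ⊗ P ⟶ (Red.Ga (Spec (CommRingCat.of R)) ⊗ Red.DS (Spec (CommRingCat.of R)) M) ⊗ Red.Ga (Spec (CommRingCat.of R)) :=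
    lift (lift (fst _ _ ≫ em.hom) (snd _ _ ≫ inv ((L.l ⊗ₘ L.iu) ≫ μ) ≫ fst _ _))
      (snd _ _ ≫ inv ((L.l ⊗ₘ L.iu) ≫ μ) ≫ snd _ _ ≫ ep.hom)
  haveI : IsIso φ := by
    refine ⟨ψ, ?_, ?_⟩
    · apply CartesianMonoidalCategory.hom_ext
      · apply CartesianMonoidalCategory.hom_ext <;> simp only [φ, ψ, Category.assoc, lift_fst, lift_snd, lift_fst_assoc, lift_snd_assoc, comp_lift_assoc, comp_lift, Category.id_comp, Category.comp_id, Iso.inv_hom_id, Iso.hom_inv_id, IsIso.hom_inv_id_assoc, IsIso.inv_hom_id_assoc, IsIso.hom_inv_id, IsIso.inv_hom_id]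
      · simp only [φ, ψ, Category.assoc, lift_fst, lift_snd, lift_fst_assoc, lift_snd_assoc, comp_lift_assoc, comp_lift, Category.id_comp, Category.comp_id, Iso.inv_hom_id, Iso.hom_inv_id, IsIso.hom_inv_id_assoc, IsIso.inv_hom_id_assoc, IsIso.hom_inv_id, IsIso.inv_hom_id]
    · apply CartesianMonoidalCategory.hom_ext
      · simp only [φ, ψ, Category.assoc, lift_fst, lift_snd, lift_fst_assoc, lift_snd_assoc, comp_lift_assoc, comp_lift, Category.id_comp, Category.comp_id, Iso.inv_hom_id, Iso.hom_inv_id, IsIso.hom_inv_id_assoc, IsIso.inv_hom_id_assoc, IsIso.hom_inv_id, IsIso.inv_hom_id]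
      · have h : ψ ≫ lift (fst _ _ ≫ snd _ _) (snd _ _ ≫ ep.inv) = snd V P ≫ inv ((L.l ⊗ₘ L.iu) ≫ μ) := by
          apply CartesianMonoidalCategory.hom_ext <;>
            simp only [ψ, Category.assoc, lift_fst, lift_snd, lift_fst_assoc, lift_snd_assoc, comp_lift, Iso.hom_inv_id, Category.comp_id]
        show (ψ ≫ φ) ≫ snd _ _ = _
        rw [Category.assoc, lift_snd, ← Category.assoc ψ, h, Category.assoc, IsIso.inv_hom_id, Category.comp_id,
          Category.id_comp]
  have hmap : φ ≫ upMap v p = RedR1.cellMap c pp pm := by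
    have h2 : RedR1.cellMap c pp pm = (fst _ _ ≫ fst _ _ ≫ pm) * (fst _ _ ≫ snd _ _ ≫ c) * (snd _ _ ≫ pp) := by
      conv_lhs => rw [← Category.id_comp (RedR1.cellMap c pp pm),
        show 𝟙 ((Red.Ga (Spec (CommRingCat.of R)) ⊗ Red.DS (Spec (CommRingCat.of R)) M) ⊗ Red.Ga (Spec (CommRingCat.of R))) = lift (lift (fst _ _ ≫ fst _ _) (fst _ _ ≫ snd _ _)) (snd _ _) by
          apply CartesianMonoidalCategory.hom_ext <;>
            [apply CartesianMonoidalCategory.hom_ext; skip] <;> simp only [lift_fst, lift_snd, lift_fst_assoc, Category.id_comp, Category.assoc],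
        RedR1.lift_cellMap]
      simp only [Category.assoc]
    rw [h2, upMap, MonObj.comp_mul, _root_.mul_assoc]
    simp only [φ, lift_fst_assoc, lift_snd_assoc, Category.assoc, hem]
    congr 1
    rw [lift_map_assoc, ← Category.assoc (lift _ _) μ p, ← Hom.mul_def, MonObj.mul_comp]
    simp only [Category.assoc, L.l_p, L.iu_p, hep]
  rw [← hmap, Over.comp_left]
  haveI : IsIso φ.left := inferInstanceAs (IsIso ((Over.forget (Spec (CommRingCat.of R))).map φ))
  haveI := hopen
  infer_instance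

end Groth.Agent.RootBase
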