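import Groth.Agent.RootBase.Dual

/-!
# The coefficients of a Chevalley system along a string
-/

set_option autoImplicit false
set_option backward.isDefEq.respectTransparency false
set_option linter.style.haveILetI false
set_option maxHeartbeats 1000000
set_option synthInstance.maxHeartbeats 400000

universe u

open CategoryTheory Limits MonoidalCategory CartesianMonoidalCategory MonObj GrpObj AlgebraicGeometry LieS
open scoped CategoryTheory.Obj

noncomputable section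

namespace Groth.Agent.RootBase

open Groth.Agent.HomDiag Groth.Agent.DynPar Groth.Agent.RootSys Groth.Agent.MTBridge

section Sign

variable {A : Type*} [CommRing A]

/-- A sign. -/
def Sgn (r : A) : Prop := ∃ k : ℤ, (k = 1 ∨ k = -1) ∧ r = (k : A)

theorem Sgn.one : Sgn (1 : A) := ⟨1, Or.inl rfl, by simp⟩

theorem Sgn.neg {r : A} (h : Sgn r) : Sgn (-r) := by
  obtain ⟨k, hk, rfl⟩ := h
  exact ⟨-k, by omega, by push_cast; rfl⟩

theorem Sgn.mul {r s : A} (h : Sgn r) (h' : Sgn s) : Sgn (r * s) := by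
  obtain ⟨k, hk, rfl⟩ := h
  obtain ⟨l, hl, rfl⟩ := h'
  exact ⟨k * l, by rcases hk with rfl | rfl <;> rcases hl with rfl | rfl <;> simp, by push_cast; rfl⟩

theorem Sgn.pow {r : A} (h : Sgn r) : ∀ n : ℕ, Sgn (r ^ n)
  | 0 => by rw [pow_zero]; exact Sgn.one
  | n + 1 => by rw [pow_succ]; exact (Sgn.pow h n).mul h

theorem Sgn.sq_eq_one {r : A} (h : Sgn r) : r * r = 1 := by
  obtain ⟨k, rfl | rfl, rfl⟩ := h <;> simp

/-- Solving for a factor of a sign. -/
theorem Sgn.exists_mul {r s t : A} (h : Sgn r) (hs : Sgn s) {n : A} (e : r * t = n * s) :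
    ∃ q, Sgn q ∧ t = n * q :=
  ⟨r * s, h.mul hs, by
    calc t = (r * r) * t := by rw [h.sq_eq_one, _root_.one_mul]
      _ = r * (r * t) := _root_.mul_assoc _ _ _
      _ = n * (r * s) := by rw [e]; ring⟩

end Sign

section Chain

variable {idx M : Type} [AddCommGroup M] [Module.Free ℤ M] [Finite idx]
  (P : RootPairing idx ℤ M (Module.Dual ℤ M))

theorem li_symm {a b : idx} (hli : ∀ x y : ℤ, x • P.root a + y • P.root b = 0 → x = 0 ∧ y = 0) :
    ∀ x y : ℤ, x • P.root b + y • P.root a = 0 → x = 0 ∧ y = 0 := fun x y h =>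
  (hli y x (by rw [add_comm]; exact h)).symm

theorem mem_shift {a b : idx} (k : ℕ) :
    P.root b + k • P.root a ∈ Set.range P.root ↔ ∃ d, P.root d = (k : ℤ) • P.root a + P.root b := by
  simp only [Set.mem_range, natCast_zsmul]
  exact exists_congr fun d => by rw [add_comm]

/-- The two ends of a string. -/
theorem exists_chain [P.IsReduced] {a b : idx}
    (hli : ∀ x y : ℤ, x • P.root a + y • P.root b = 0 → x = 0 ∧ y = 0) :
    ∃ p q : ℕ, (p : ℤ) - q = P.pairing b a ∧ p + q ≤ 3 ∧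
      (∀ k : ℕ, (∃ d, P.root d = (k : ℤ) • P.root a + P.root b) ↔ k ≤ q) ∧
      (∀ k : ℕ, (∃ d, P.root d = -(k : ℤ) • P.root a + P.root b) ↔ k ≤ p) := by
  have hlin : LinearIndependent ℤ ![P.root a, P.root b] := LinearIndependent.pair_iff.2 hli
  refine ⟨P.chainBotCoeff a b, P.chainTopCoeff a b, ?_, P.chainBotCoeff_add_chainTopCoeff_le_three, fun k => ?_,
    fun k => ?_⟩
  · rw [P.chainBotCoeff_sub_chainTopCoeff hlin, pairingIn_int]
  · rw [← mem_shift, P.root_add_nsmul_mem_range_iff_le_chainTopCoeff hlin]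
  · rw [← P.root_sub_nsmul_mem_range_iff_le_chainBotCoeff hlin, Set.mem_range]
    refine exists_congr fun d => ?_
    rw [neg_smul, natCast_zsmul, sub_eq_add_neg, add_comm]

theorem root_refl (a b : idx) : P.root (P.reflectionPerm a b) = P.root b - P.pairing b a • P.root a := by
  rw [← P.reflection_apply_root a b, P.root_reflectionPerm]

theorem root_opp (a : idx) : P.root (P.reflectionPerm a a) = -P.root a := by
  rw [root_refl, P.pairing_same]; module

/-- A multiple of a root is no root. -/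
theorem not_multiple [P.IsReduced] {d e : idx} {q : ℤ} (hq : 2 ≤ q) : P.root e ≠ q • P.root d := fun h => by
  have hp : P.pairing e d = 2 * q := by
    rw [← P.root_coroot_eq_pairing, h, _root_.map_smul, LinearMap.smul_apply, P.root_coroot_two, smul_eq_mul, mul_comm]
  have h1 := P.pairingIn_pairingIn_mem_set_of_isCrystal_of_isRed e d
  simp only [pairingIn_int, Set.mem_insert_iff, Set.mem_singleton_iff, Prod.mk.injEq, hp] at h1
  omega

/-- Roots in a plane have bounded coordinates. -/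
theorem plane_bound [P.IsReduced] {a b d : idx} {i j : ℕ}
    (hd : P.root d = (i : ℤ) • P.root a + (j : ℤ) • P.root b) :
    |2 * (i : ℤ) + j * P.pairing b a| ≤ 3 ∧ |(i : ℤ) * P.pairing a b + 2 * j| ≤ 3 ∧
      |2 * (i : ℤ) + ((j : ℤ) - ((i : ℤ) * P.pairing a b + 2 * j)) * P.pairing b a| ≤ 3 ∧
      |((i : ℤ) - (2 * (i : ℤ) + j * P.pairing b a)) * P.pairing a b + 2 * j| ≤ 3 := by
  have hb : ∀ x y : idx, |P.pairing x y| ≤ 3 := fun x y => by
    have h1 := P.pairingIn_pairingIn_mem_set_of_isCrystal_of_isRed x y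
    simp only [pairingIn_int, Set.mem_insert_iff, Set.mem_singleton_iff, Prod.mk.injEq] at h1
    rw [abs_le]
    omega
  have hlin : ∀ (e x : idx) (p q : ℤ), P.root e = p • P.root a + q • P.root b →
      P.pairing e x = p * P.pairing a x + q * P.pairing b x := fun e x p q h => by
    rw [← P.root_coroot_eq_pairing, h]
    simp [RootPairing.root_coroot_eq_pairing]
  have ea := hlin d a i j hd
  have eb := hlin d b i j hd
  rw [P.pairing_same] at ea eb
  have era : P.root (P.reflectionPerm a d) = ((i : ℤ) - P.pairing d a) • P.root a + (j : ℤ) • P.root b := by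
    rw [root_refl, hd]; module
  have erb : P.root (P.reflectionPerm b d) = (i : ℤ) • P.root a + ((j : ℤ) - P.pairing d b) • P.root b := by
    rw [root_refl, hd]; module
  have ea' := hlin _ b _ _ era
  have eb' := hlin _ a _ _ erb
  rw [P.pairing_same] at ea' eb'
  have h1 := hb d a
  have h2 := hb d b
  have h3 := hb (P.reflectionPerm b d) a
  have h4 := hb (P.reflectionPerm a d) b
  rw [eb', eb] at h3
  rw [ea', ea] at h4
  rw [ea] at h1
  rw [eb] at h2
  rw [abs_le] at h1 h2 h3 h4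
  refine ⟨abs_le.2 ?_, abs_le.2 ?_, abs_le.2 ?_, abs_le.2 ?_⟩ <;> constructor <;> nlinarith

end Chain

section Weyl

variable {S : Scheme.{u}} {G : Over S} [GrpObj G] {M : Type} [AddCommGroup M] [Module.Free ℤ M] [Module.Finite ℤ M]
  {c : Red.DS S M ⟶ G} {idx : Type} [Fintype idx] {P : RootPairing idx ℤ M (Module.Dual ℤ M)}
  {u : idx → (Red.Ga S ⟶ G)}

/-- The root homomorphisms form a Chevalley system: Weyl elements permute them up to signs. -/
def IsChevalley (P : RootPairing idx ℤ M (Module.Dual ℤ M)) (u : idx → (Red.Ga S ⟶ G)) : Prop :=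
  ∀ a : idx, ∃ s : Γ(S, ⊤), Sgn s ∧ ∀ b : idx, ∃ t : Γ(S, ⊤), Sgn t ∧
    ((eOne (𝟙_ (Over S)) ≫ u a) * (eC (𝟙_ (Over S)) s ≫ u (P.reflectionPerm a a)) * (eOne (𝟙_ (Over S)) ≫ u a)) *
        (eOne (𝟙_ (Over S)) ≫ u b) *
        ((eOne (𝟙_ (Over S)) ≫ u a) * (eC (𝟙_ (Over S)) s ≫ u (P.reflectionPerm a a)) *
          (eOne (𝟙_ (Over S)) ≫ u a))⁻¹ =
      eC (𝟙_ (Over S)) t ≫ u (P.reflectionPerm a b)

variable [P.IsReduced]

/-- A reflection gives the end of a string. -/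
theorem Frame.coef_refl (F : Frame c P.root u) (hC : IsChevalley P u) {a b : idx}
    (hli : ∀ x y : ℤ, x • P.root a + y • P.root b = 0 → x = 0 ∧ y = 0) {m : ℕ} (hm : 1 ≤ m)
    (hbot : P.root b - P.root a ∉ Set.range P.root) (hpair : P.pairing b a = -(m : ℤ)) :
    ∃ t, P.root t = (m : ℤ) • P.root a + P.root b ∧ P.root a + P.root t ∉ Set.range P.root ∧
      (∃ ε, Sgn ε ∧ IsCoef P u a b t m ε) ∧
      ∀ (d : idx) (i : ℕ) (κ κ' : Γ(S, ⊤)), 1 ≤ i → i < m → P.root d = (i : ℤ) • P.root a + P.root b →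
        IsCoef P u a b d i κ → IsCoef P u (P.reflectionPerm a a) t d (m - i) κ' →
        ∃ s, Sgn s ∧ κ = κ' * s := by
  obtain ⟨p, q, hpq, -, htop, hbot'⟩ := exists_chain P hli
  have hp : p = 0 := by
    by_contra hp
    obtain ⟨d, hd⟩ := (hbot' 1).2 (by omega)
    exact hbot ⟨d, by rw [hd]; module⟩
  let t := P.reflectionPerm a b
  have ht : P.root t = (m : ℤ) • P.root a + P.root b := by
    rw [show t = P.reflectionPerm a b from rfl, root_refl, hpair]; module
  have hta : P.root a + P.root t ∉ Set.range P.root := fun ⟨d, hd⟩ => by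
    have := (htop (m + 1)).1 ⟨d, by rw [hd, ht]; push_cast; module⟩
    omega
  obtain ⟨s, hs, hsb⟩ := hC a
  obtain ⟨ε, hε, hn⟩ := hsb b
  obtain ⟨h1, h2, -⟩ := F.coef_top hm hli (root_opp P a) ht hta s ε hn
  refine ⟨t, ht, hta, ⟨ε, hε, h1⟩, fun d i κ κ' hi him hd hκ hκ' => ⟨_, ((hs.neg).pow (m - i)).mul hε, ?_⟩⟩
  rw [h2 d i κ κ' hi him hd hκ hκ', _root_.mul_assoc]

/-- The first coefficient of a string starting at its bottom is a sign. -/
theorem Frame.coef_one (F : Frame c P.root u) (hC : IsChevalley P u) {a b d : idx}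
    (hli : ∀ x y : ℤ, x • P.root a + y • P.root b = 0 → x = 0 ∧ y = 0)
    (hbot : P.root b - P.root a ∉ Set.range P.root) (hd : P.root d = P.root a + P.root b) :
    ∃ κ, Sgn κ ∧ IsCoef P u a b d 1 κ := by
  have hab : P.pairing a b = -1 ∨ P.pairing b a = -1 := by
    obtain ⟨p, q, hpq, -, htop, hbot'⟩ := exists_chain P hli
    have hq : 1 ≤ q := (htop 1).1 ⟨d, by rw [hd, Nat.cast_one, one_smul]⟩
    have hp : p = 0 := by
      by_contra hp
      obtain ⟨e, he⟩ := (hbot' 1).2 (by omega)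
      exact hbot ⟨e, by rw [he]; module⟩
    have h1 := P.pairingIn_pairingIn_mem_set_of_isCrystal_of_isRed' (i := a) (j := b)
      (fun h => by obtain ⟨h2, -⟩ := hli 1 (-1) (by rw [h]; module); omega)
      (fun h => by obtain ⟨h2, -⟩ := hli 1 1 (by rw [h]; module); omega)
    simp only [pairingIn_int, Set.mem_insert_iff, Set.mem_singleton_iff, Prod.mk.injEq] at h1
    omega
  rcases hab with h | h
  · have hbot2 : P.root a - P.root b ∉ Set.range P.root := fun h' => hbot (by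
      rw [← neg_sub]; exact P.neg_mem_range_root_iff.2 h')
    obtain ⟨t, ht, -, ⟨ε, hε, hκ⟩, -⟩ := F.coef_refl hC (li_symm P hli) le_rfl hbot2 (by rw [h]; rfl)
    obtain rfl : t = d := P.root.injective (by rw [ht, hd, Nat.cast_one, one_smul, add_comm])
    exact ⟨-ε, hε.neg, F.coef_symm hli hd hκ⟩
  · obtain ⟨t, ht, -, ⟨ε, hε, hκ⟩, -⟩ := F.coef_refl hC hli le_rfl hbot (by rw [h]; rfl)
    obtain rfl : t = d := P.root.injective (by rw [ht, hd, Nat.cast_one, one_smul])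
    exact ⟨ε, hε, hκ⟩

/-- **The coefficients from the bottom of a string are signs.** -/
theorem Frame.coef_bottom (F : Frame c P.root u) (hC : IsChevalley P u) {a b d : idx}
    (hli : ∀ x y : ℤ, x • P.root a + y • P.root b = 0 → x = 0 ∧ y = 0)
    (hbot : P.root b - P.root a ∉ Set.range P.root) {i : ℕ} (hi : 1 ≤ i)
    (hd : P.root d = (i : ℤ) • P.root a + P.root b) : ∃ κ, Sgn κ ∧ IsCoef P u a b d i κ := by
  obtain ⟨p, q, hpq, hle, htop, hbot'⟩ := exists_chain P hli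
  have hp : p = 0 := by
    by_contra hp
    obtain ⟨e, he⟩ := (hbot' 1).2 (by omega)
    exact hbot ⟨e, by rw [he]; module⟩
  have hiq : i ≤ q := (htop i).1 ⟨d, hd⟩
  obtain ⟨t, ht, hta, ⟨ε, hε, hκt⟩, hmid⟩ := F.coef_refl hC hli (m := q) (by omega) hbot (by omega)
  obtain rfl | h1 := eq_or_lt_of_le hiq
  · obtain rfl : t = d := P.root.injective (ht.trans hd.symm)
    exact ⟨ε, hε, hκt⟩
  obtain rfl | hi1 := eq_or_lt_of_le hi
  · exact F.coef_one hC hli hbot (by rw [hd, Nat.cast_one, one_smul])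
  obtain ⟨κ, hκ⟩ := F.exists_coef hli hi hd
  have hq : q = i + 1 := by omega
  have hli' : ∀ x y : ℤ, x • P.root (P.reflectionPerm a a) + y • P.root t = 0 → x = 0 ∧ y = 0 :=
    li_neg (li_add (i := (q : ℤ)) hli one_ne_zero (by rw [ht, one_smul])) (root_opp P a)
  obtain ⟨κ', hκ'', hκ'⟩ := F.coef_one hC hli' (d := d) (by
      rw [root_opp, sub_neg_eq_add, add_comm]; exact hta)
    (by rw [root_opp, hd, ht, hq]; push_cast; module)
  obtain ⟨s, hs, rfl⟩ := hmid d i κ κ' hi h1 hd hκ (by rwa [hq, Nat.add_sub_cancel_left])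
  exact ⟨_, hκ''.mul hs, hκ⟩

/-- The last coefficient of a string of three roots. -/
theorem Frame.coef_two (F : Frame c P.root u) (hC : IsChevalley P u) {a b r d : idx}
    (hli : ∀ x y : ℤ, x • P.root a + y • P.root b = 0 → x = 0 ∧ y = 0)
    (hbot : P.root b - P.root a ∉ Set.range P.root) (hr : P.root r = P.root a + P.root b)
    (hd : P.root d = (2 : ℤ) • P.root a + P.root b) : ∃ κ, Sgn κ ∧ IsCoef P u a r d 1 (2 * κ) := by
  obtain ⟨K, hK, hKc⟩ := F.coef_one hC hli hbot hr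
  obtain ⟨κ, hκ, hκc⟩ := F.coef_bottom hC hli hbot (i := 2) one_le_two (by rw [hd]; rfl)
  have hlir := li_add (i := (1 : ℤ)) hli one_ne_zero (show P.root r = (1 : ℤ) • P.root a + (1 : ℤ) • P.root b by
    rw [hr, one_smul, one_smul])
  have hdr : P.root d = ((1 : ℕ) : ℤ) • P.root a + P.root r := by rw [hd, hr]; push_cast; module
  obtain ⟨K', hK'⟩ := F.exists_coef hlir le_rfl hdr
  have h := F.coef_comp hli (I := 2) one_le_two (by rw [hd]; rfl) hκc (fun _ => r)
    (fun q => by rw [hr, show q.val = 0 by omega]; simp)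
    (fun _ => K) (fun _ => K') (fun q => by rw [show q.val = 0 by omega]; exact hKc)
    (fun q => by rw [show q.val = 0 by omega]; exact hK')
  have h1 := congrArg (fun p => Polynomial.coeff p 1) h
  rw [show (Polynomial.X + 1 : Polynomial Γ(S, ⊤)) ^ 2 = Polynomial.X ^ 2 + Polynomial.C 2 * Polynomial.X + 1 by
    rw [map_ofNat]; ring] at h1
  simp [Polynomial.coeff_C_mul, Polynomial.coeff_X_pow, Polynomial.coeff_C, mul_add, Polynomial.coeff_one] at h1
  obtain ⟨w, hw, rfl⟩ := hK.exists_mul (t := K') (n := (2 : Γ(S, ⊤))) hκ (by linear_combination -h1)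
  exact ⟨w, hw, hK'⟩

/-- The coefficients of a string of four roots. -/
theorem Frame.coef_three (F : Frame c P.root u) (hC : IsChevalley P u) {a b r₁ r₂ d : idx}
    (hli : ∀ x y : ℤ, x • P.root a + y • P.root b = 0 → x = 0 ∧ y = 0)
    (hbot : P.root b - P.root a ∉ Set.range P.root) (hr₁ : P.root r₁ = P.root a + P.root b)
    (hr₂ : P.root r₂ = (2 : ℤ) • P.root a + P.root b) (hd : P.root d = (3 : ℤ) • P.root a + P.root b) :
    (∃ κ, Sgn κ ∧ IsCoef P u a r₂ d 1 (3 * κ)) ∧ ∃ κ, Sgn κ ∧ IsCoef P u a r₁ d 2 (3 * κ) := by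
  obtain ⟨K₁, hK₁, hK₁c⟩ := F.coef_one hC hli hbot hr₁
  obtain ⟨K₂, hK₂, hK₂c⟩ := F.coef_bottom hC hli hbot (i := 2) one_le_two (by rw [hr₂]; rfl)
  obtain ⟨κ, hκ, hκc⟩ := F.coef_bottom hC hli hbot (i := 3) (by omega) (by rw [hd]; rfl)
  obtain ⟨K₁', hK₁'⟩ := F.exists_coef (d := d) (li_add (i := (1 : ℤ)) hli one_ne_zero
    (show P.root r₁ = (1 : ℤ) • P.root a + (1 : ℤ) • P.root b by rw [hr₁, one_smul, one_smul])) (i := 2) one_le_two
    (by rw [hd, hr₁]; push_cast; module)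
  obtain ⟨K₂', hK₂'⟩ := F.exists_coef (d := d) (li_add (i := (2 : ℤ)) hli one_ne_zero
    (show P.root r₂ = (2 : ℤ) • P.root a + (1 : ℤ) • P.root b by rw [hr₂, one_smul])) le_rfl
    (by rw [hd, hr₂]; push_cast; module)
  have h := F.coef_comp hli (I := 3) (by omega) (by rw [hd]; rfl) hκc ![r₁, r₂]
    (fun q => by fin_cases q <;> simp [hr₁, hr₂])
    ![K₁, K₂] ![K₁', K₂'] (fun q => by fin_cases q <;> simpa)
    (fun q => by fin_cases q <;> simpa)
  rw [show (Polynomial.X + 1 : Polynomial Γ(S, ⊤)) ^ 3 =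
    Polynomial.X ^ 3 + Polynomial.C 3 * Polynomial.X ^ 2 + Polynomial.C 3 * Polynomial.X + 1 by
    rw [map_ofNat]; ring] at h
  have h2 := congrArg (fun p => Polynomial.coeff p 2) h
  have h1 := congrArg (fun p => Polynomial.coeff p 1) h
  simp [Polynomial.coeff_C_mul, Polynomial.coeff_X_pow, Polynomial.coeff_C, mul_add, Polynomial.coeff_one,
    Polynomial.coeff_X, Fin.sum_univ_two, _root_.mul_assoc] at h1 h2
  refine ⟨?_, ?_⟩
  · obtain ⟨w, hw, rfl⟩ := hK₂.exists_mul (t := K₂') (n := (3 : Γ(S, ⊤))) hκ (by linear_combination -h1)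
    exact ⟨w, hw, hK₂'⟩
  · obtain ⟨w, hw, rfl⟩ := hK₁.exists_mul (t := K₁') (n := (3 : Γ(S, ⊤))) hκ (by linear_combination -h2)
    exact ⟨w, hw, hK₁'⟩

end Weyl

section Setup

variable {S : Scheme.{u}} {G : Over S} [GrpObj G]

/-- A Chevalley system is one of a frame. -/
theorem chevalley_setup (D : Red.SplitRed G) (e₁ : 𝟙_ (Over S) ⟶ Red.Ga S) (he₁ : Red.gaFn e₁ = 1)
    (avc : D.idx → (Red.Gm S ⟶ D.T))
    (havc : ∀ a, avc a = Red.DSmap S (D.P.coroot a).toAddMonoidHom ≫ D.split.inv.hom.hom)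
    (v vd : D.idx → (Red.Ga S ⟶ G))
    (hv : ∀ c, Red.IsRootHom D.i (D.split.hom.hom.hom ≫ Red.chi S (D.P.root c)) (v c))
    (hvd : ∀ c, IsMonHom (vd c) ∧ ∀ (X : Over S) (x y : X ⟶ Red.Ga S), IsUnit (1 + Red.gaFn x * Red.gaFn y) →
        ∃ (x' y' : X ⟶ Red.Ga S) (z : X ⟶ Red.Gm S), Red.gmFn z = 1 + Red.gaFn x * Red.gaFn y ∧
          Red.gaFn x' * Red.gmFn z = Red.gaFn x ∧ Red.gaFn y' * Red.gmFn z = Red.gaFn y ∧
          (x ≫ v c) * (y ≫ vd c) = (y' ≫ vd c) * (z ≫ avc c ≫ D.i) * (x' ≫ v c))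
    (n : D.idx → (𝟙_ (Over S) ⟶ G)) (hn : ∀ c, n c = (e₁ ≫ v c) * (e₁ ≫ vd c)⁻¹ * (e₁ ≫ v c))
    (hSC : ∀ c b, ∃ ε : ℤ, (ε = 1 ∨ ε = -1) ∧ ∀ (X : Over S) (x y : X ⟶ Red.Ga S),
      Red.gaFn y = (ε : Γ(X.left, ⊤)) * Red.gaFn x →
        (toUnit X ≫ n c) * (x ≫ v b) * (toUnit X ≫ n c)⁻¹ = y ≫ v (D.P.reflectionPerm c b)) :
    Frame (D.split.inv.hom.hom ≫ D.i) D.P.root v ∧ IsChevalley D.P v := by
  have h1 : D.split.inv.hom.hom ≫ D.split.hom.hom.hom = 𝟙 _ := congrArg (fun z => z.hom.hom) D.split.inv_hom_id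
  have F0 := frame_of_splitRed D
  have F : Frame (D.split.inv.hom.hom ≫ D.i) D.P.root v :=
    ⟨F0.hG, F0.hc, F0.inj, F0.ne, fun a => ⟨(hv a).1, (hv a).2.1, fun X t x => by
      obtain ⟨y, hy, hy'⟩ := (hv a).2.2 X (t ≫ D.split.inv.hom.hom) x
      rw [Category.assoc] at hy
      rw [Category.assoc, reassoc_of% h1] at hy'
      exact ⟨y, hy, hy'⟩⟩, F0.hdim⟩
  let U := 𝟙_ (Over S)
  have he : e₁ = eOne U := BGaNotS.gaPt_ext (he₁.trans (BGaNotS.gaFn_gaPt _).symm)
  refine ⟨F, fun a => ?_⟩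
  haveI := (hvd a).1
  have hnX : ∀ X : Over S, toUnit X ≫ n a = (eOne X ≫ v a) * (eOne X ≫ vd a)⁻¹ * (eOne X ≫ v a) := fun X => by
    rw [hn a, he]
    simp only [U, MonObj.comp_mul, GrpObj.comp_inv, ← Category.assoc, eOne_comp]
  obtain ⟨k, hk, hka⟩ := hSC a a
  have hd := F.dual_value (a := a) (a' := D.P.reflectionPerm a a) (vd := vd a) (D.P.coroot a).toAddMonoidHom
    (D.P.root_coroot_two a |> fun h => by
      have := congrArg (fun L => L (D.P.root a) (D.P.coroot a)) D.pairing_eq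
      simp only [h, Module.Dual.eval_apply] at this
      exact this.symm)
    (fun X x y hxy => by
      obtain ⟨x', y', z, h2, h3, h4, h5⟩ := (hvd a).2 X x y hxy
      exact ⟨x', y', z, h2, h3, h4, by rw [h5, havc]; simp only [Category.assoc]⟩)
    (k : Γ(S, ⊤)) (fun X x y hy => by
      rw [← hnX]
      exact hka X x y (by rw [hy, map_intCast]))
  have hnU : n a = (eOne U ≫ v a) * (eC U (k : Γ(S, ⊤)) ≫ v (D.P.reflectionPerm a a)) * (eOne U ≫ v a) := by
    have h2 := hnX U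
    rw [toUnit_unique (toUnit U) (𝟙 U), Category.id_comp] at h2
    haveI := (F.hu (D.P.reflectionPerm a a)).1
    rw [h2, hd, ← @GrpObj.inv_comp _ _ _ _ _ _ _ _ (eC U (-(k : Γ(S, ⊤)))) (v (D.P.reflectionPerm a a)) (hv (D.P.reflectionPerm a a)).1]
    congr 3
    refine BGaNotS.gaPt_ext ?_
    rw [gaFn_inv, eC, eC, BGaNotS.gaFn_gaPt, BGaNotS.gaFn_gaPt, ← map_neg, neg_neg]
  refine ⟨(k : Γ(S, ⊤)), ⟨k, hk, rfl⟩, fun b => ?_⟩
  obtain ⟨t, ht, htb⟩ := hSC a b
  refine ⟨(t : Γ(S, ⊤)), ⟨t, ht, rfl⟩, ?_⟩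
  have h2 := htb U (eOne U) (eC U (t : Γ(S, ⊤))) (by
    rw [eC, eOne, BGaNotS.gaFn_gaPt, BGaNotS.gaFn_gaPt, map_intCast, _root_.mul_one])
  rw [toUnit_unique (toUnit U) (𝟙 U), Category.id_comp, hnU] at h2
  exact h2

end Setup

end Groth.Agent.RootBase
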