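import Groth.Agent.RootBase.Rank2
import Groth.Agent.RootBase.Gen
import Groth.Agent.RootSys.Existence

/-!
# The groups of points attached to closed sets of positive roots
-/

set_option autoImplicit false
set_option backward.isDefEq.respectTransparency false
set_option linter.style.haveILetI false
set_option maxHeartbeats 1000000
set_option synthInstance.maxHeartbeats 400000

universe u

open CategoryTheory Limits MonoidalCategory CartesianMonoidalCategory MonObj GrpObj AlgebraicGeometry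
open scoped CategoryTheory.Obj

noncomputable section

namespace Groth.Agent.RootBase

open Groth.Agent.HomDiag Groth.Agent.DynPar Groth.Agent.RootSys

section Gordan

variable {M : Type} [AddCommGroup M] [Module.Free ℤ M]

/-- Finitely many vectors without a non-trivial vanishing non-negative combination are positive for a functional. -/
theorem exists_pos_of_pointed : ∀ (n : ℕ) (v : Fin n → M),
    (∀ k : Fin n → ℕ, ∑ i, k i • v i = 0 → k = 0) → ∃ φ : M →+ ℤ, ∀ i, 0 < φ (v i)
  | 0, _, _ => ⟨0, fun i => i.elim0⟩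
  | n + 1, v, h => by
    classical
    obtain ⟨φ, hφ⟩ := exists_pos_of_pointed n (fun i => v i.succ) fun k hk => by
      have h1 := h (Fin.cons 0 k) (by
        rw [Fin.sum_univ_succ]
        simpa using hk)
      exact funext fun i => by simpa using congrFun h1 i.succ
    by_cases h0 : 0 < φ (v 0)
    · exact ⟨φ, Fin.cases h0 hφ⟩
    have hv0 : v 0 ≠ 0 := fun e => by
      have h1 := congrFun (h (Pi.single 0 1) (by simp [Fin.sum_univ_succ, e])) 0
      simp at h1
    obtain ⟨φ₀, hφ₀⟩ := DynPar.exists_hom_pos_of_ne_zero hv0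
    -- a large multiple of a functional dominates
    have big : ∀ χ : M →+ ℤ, 0 ≤ χ (v 0) → (∀ i : Fin n, 0 < χ (v i.succ)) → ∃ ξ : M →+ ℤ, ∀ i, 0 < ξ (v i) := by
      intro χ hχ0 hχ
      let N : ℤ := ∑ i : Fin n, |φ₀ (v i.succ)| + 1
      refine ⟨N • χ + φ₀, Fin.cases ?_ fun i => ?_⟩
      · show 0 < N • χ (v 0) + φ₀ (v 0)
        have : 0 ≤ N := by positivity
        rw [smul_eq_mul]
        nlinarith
      · show 0 < N • χ (v i.succ) + φ₀ (v i.succ)
        have h1 : |φ₀ (v i.succ)| ≤ ∑ i : Fin n, |φ₀ (v i.succ)| :=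
          Finset.single_le_sum (f := fun i : Fin n => |φ₀ (v i.succ)|) (fun i _ => abs_nonneg _) (Finset.mem_univ i)
        have h2 : N ≤ N * χ (v i.succ) := le_mul_of_one_le_right (by positivity) (hχ i)
        have h3 := neg_abs_le (φ₀ (v i.succ))
        rw [smul_eq_mul]
        omega
    rcases (not_lt.1 h0).lt_or_eq with h0 | h0
    swap
    · exact big φ h0.ge hφ
    let A : ℕ := (-φ (v 0)).toNat
    have hA : (A : ℤ) = -φ (v 0) := Int.toNat_of_nonneg (by omega)
    let B : Fin n → ℕ := fun i => (φ (v i.succ)).toNat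
    have hB : ∀ i, (B i : ℤ) = φ (v i.succ) := fun i => Int.toNat_of_nonneg (hφ i).le
    obtain ⟨ψ, hψ⟩ := exists_pos_of_pointed n (fun i => A • v i.succ + B i • v 0) fun k hk => by
      have h1 := h (Fin.cons (∑ i, k i * B i) fun i => k i * A) (by
        rw [Fin.sum_univ_succ]
        simp only [Fin.cons_zero, Fin.cons_succ, Finset.sum_smul, mul_smul]
        rw [← hk]
        simp only [smul_add, Finset.sum_add_distrib]
        exact add_comm _ _)
      exact funext fun i => by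
        have h2 := congrFun h1 i.succ
        simp only [Fin.cons_succ, Pi.zero_apply, mul_eq_zero] at h2
        have h3 : A ≠ 0 := fun e => by rw [e] at hA; omega
        exact h2.resolve_right h3
    refine big (ψ (v 0) • φ + (A : ℤ) • ψ) ?_ fun i => ?_
    · show 0 ≤ ψ (v 0) • φ (v 0) + (A : ℤ) • ψ (v 0)
      rw [hA, smul_eq_mul, smul_eq_mul]
      linarith
    · show 0 < ψ (v 0) • φ (v i.succ) + (A : ℤ) • ψ (v i.succ)
      have h2 := hψ i
      rw [map_add, map_nsmul, map_nsmul, nsmul_eq_mul, nsmul_eq_mul, hB] at h2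
      rw [smul_eq_mul, smul_eq_mul]
      linarith

end Gordan

section Group

variable {S : Scheme.{u}} {G : Over S} [GrpObj G] {M : Type} [AddCommGroup M] [Module.Free ℤ M] [Module.Finite ℤ M]
  {c : Red.DS S M ⟶ G} {idx : Type} [Fintype idx] {P : RootPairing idx ℤ M (Module.Dual ℤ M)}
  {u : idx → (Red.Ga S ⟶ G)}

/-- A closed set of roots without opposite roots is positive for a functional. -/
theorem exists_pos_closed {Ψ : Set idx} (hcl : RootD.IsClosedSub P Ψ) (hd : ∀ i ∈ Ψ, opp P i ∉ Ψ) :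
    ∃ mu : M →+ ℤ, ∀ a ∈ Ψ, 0 < mu (P.root a) := by
  classical
  let F := Finset.univ.filter fun a => a ∈ Ψ
  let ev : Fin F.card → idx := fun k => (F.equivFin.symm k).1
  have hev : ∀ k, ev k ∈ Ψ := fun k => (Finset.mem_filter.1 (F.equivFin.symm k).2).2
  obtain ⟨φ, hφ⟩ := exists_pos_of_pointed _ (fun k => P.root (ev k)) fun k hk => by
    by_contra hne
    refine sum_ne_zero hcl hd (s := ∑ i, Multiset.replicate (k i) (ev i)) (fun a ha => ?_) ?_ ?_
    · obtain ⟨i, -, hi⟩ := Multiset.mem_sum.mp ha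
      rw [(Multiset.mem_replicate.mp hi).2]
      exact hev i
    · intro h
      refine hne (funext fun i => ?_)
      have h2 := congrArg Multiset.card h
      simp only [Multiset.card_sum, Multiset.card_replicate, Multiset.card_zero, Finset.sum_eq_zero_iff,
        Finset.mem_univ, true_implies] at h2
      exact h2 i
    · show (Multiset.map P.root _).sum = 0
      rw [show Multiset.map P.root (∑ i, Multiset.replicate (k i) (ev i)) =
        ∑ i, (Multiset.replicate (k i) (ev i)).map P.root from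
          map_sum (Multiset.mapAddMonoidHom P.root) _ _, Multiset.sum_sum]
      simpa using hk
  exact ⟨φ, fun a ha => by
    simpa [ev] using hφ (F.equivFin ⟨a, Finset.mem_filter.2 ⟨Finset.mem_univ _, ha⟩⟩)⟩

/-- The group of points generated by the root groups of a set of roots. -/
def Gam (u : idx → (Red.Ga S ⟶ G)) (Ψ : Set idx) (X : Over S) : Subgroup (X ⟶ G) :=
  Subgroup.closure {g | ∃ a ∈ Ψ, ∃ x : X ⟶ Red.Ga S, g = x ≫ u a}

omit [Fintype idx] in
theorem mem_Gam {Ψ : Set idx} {X : Over S} {a : idx} (ha : a ∈ Ψ) (x : X ⟶ Red.Ga S) :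
    x ≫ u a ∈ Gam u Ψ X := Subgroup.subset_closure ⟨a, ha, x, rfl⟩

omit [Fintype idx] in
theorem Gam_mono {Ψ Ψ' : Set idx} (h : Ψ ⊆ Ψ') (X : Over S) : Gam u Ψ X ≤ Gam u Ψ' X :=
  Subgroup.closure_mono fun _ ⟨a, ha, x, hx⟩ => ⟨a, h ha, x, hx⟩

omit [Fintype idx] in
theorem prod_mem_Gam {Ψ : Set idx} {n : ℕ} {e : Fin n → idx} (he : ∀ k, e k ∈ Ψ) {X : Over S}
    (z : Fin n → (X ⟶ Red.Ga S)) : (List.ofFn fun k => z k ≫ u (e k)).prod ∈ Gam u Ψ X := by
  refine Subgroup.list_prod_mem _ fun g hg => ?_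
  obtain ⟨k, rfl⟩ := List.mem_ofFn.1 hg
  exact mem_Gam (he k) _

omit [Fintype idx] in
theorem comp_Gam {Ψ : Set idx} {X Y : Over S} (q : Y ⟶ X) {g : X ⟶ G} (hg : g ∈ Gam u Ψ X) :
    q ≫ g ∈ Gam u Ψ Y := by
  induction hg using Subgroup.closure_induction with
  | mem g hg => obtain ⟨a, ha, x, rfl⟩ := hg; rw [← Category.assoc]; exact mem_Gam ha _
  | one => rw [MonObj.comp_one]; exact one_mem _
  | mul g h _ _ hg hh => rw [MonObj.comp_mul]; exact mul_mem hg hh
  | inv g _ hg => rw [GrpObj.comp_inv]; exact inv_mem hg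

/-- The roots of a set of level at least `m`. -/
def lev (P : RootPairing idx ℤ M (Module.Dual ℤ M)) (mu : M →+ ℤ) (Ψ : Set idx) (m : ℤ) : Set idx :=
  {a | a ∈ Ψ ∧ m ≤ mu (P.root a)}

omit [Fintype idx] [Module.Free ℤ M] [Module.Finite ℤ M] in
theorem lev_subset (mu : M →+ ℤ) (Ψ : Set idx) (m : ℤ) : lev P mu Ψ m ⊆ Ψ := fun _ h => h.1

omit [Fintype idx] [Module.Free ℤ M] [Module.Finite ℤ M] in
theorem lev_mono (mu : M →+ ℤ) (Ψ : Set idx) {m k : ℤ} (h : m ≤ k) : lev P mu Ψ k ⊆ lev P mu Ψ m :=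
  fun _ hd => ⟨hd.1, h.trans hd.2⟩

omit [Fintype idx] [Module.Free ℤ M] [Module.Finite ℤ M] in
theorem subset_lev (mu : M →+ ℤ) (Ψ : Set idx) {m : ℤ} (h : ∀ a ∈ Ψ, m ≤ mu (P.root a)) : Ψ ⊆ lev P mu Ψ m :=
  fun a ha => ⟨ha, h a ha⟩

variable [Nonempty S] (F : Frame c P.root u)
include F

/-- **The commutator of two roots of a closed set lies higher.** -/
theorem Frame.word_mem {Ψ : Set idx} (hcl : RootD.IsClosedSub P Ψ) (mu : M →+ ℤ)
    (hmu : ∀ a ∈ Ψ, 0 < mu (P.root a)) {a b : idx} (ha : a ∈ Ψ) (hb : b ∈ Ψ) {X : Over S} (x y : X ⟶ Red.Ga S) :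
    word (u a) (u b) x y ∈ Gam u (lev P mu Ψ (mu (P.root a) + mu (P.root b))) X := by
  haveI := (F.hu a).1
  haveI := (F.hu b).1
  by_cases hab : a = b
  · subst hab
    have h : (x ≫ u a) * (y ≫ u a) = (y ≫ u a) * (x ≫ u a) := by
      rw [← MonObj.mul_comp, ← MonObj.mul_comp,
        show x * y = y * x from BGaNotS.gaPt_ext (by rw [BGaNotS.gaFn_mul, BGaNotS.gaFn_mul, add_comm])]
    rw [word, h, mul_inv_cancel_right, inv_mul_cancel]
    exact one_mem _
  have hli : ∀ x y : ℤ, x • P.root a + y • P.root b = 0 → x = 0 ∧ y = 0 := by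
    intro p q hpq
    by_contra hne
    have hq : q ≠ 0 := fun h => by
      rw [h, zero_smul, add_zero] at hpq
      exact hne ⟨(smul_eq_zero.1 hpq).resolve_right (P.ne_zero a), h⟩
    rcases F.dep (a := a) (b := b) (-p) q hq
      (show q • P.root b = (-p) • P.root a by rw [neg_smul]; exact eq_neg_of_add_eq_zero_right hpq) with h | h
    · exact hab (P.root.injective h).symm
    · have := hmu b hb
      rw [h, map_neg] at this
      have := hmu a ha
      omega
  obtain ⟨n, e, i, j, C, h⟩ := F.exists_formula hli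
  rw [h.eq X x y (fun k => BGaNotS.gaPt (X.hom.appTop (C k) * Red.gaFn x ^ i k * Red.gaFn y ^ j k))
    fun k => BGaNotS.gaFn_gaPt _]
  refine prod_mem_Gam (fun k => ?_) _
  obtain ⟨hi, hj, hk⟩ := h.hij k
  refine ⟨mem_of_sum hcl (s := Multiset.replicate (i k) a + Multiset.replicate (j k) b) (fun x hx => ?_) ?_, ?_⟩
  · rcases Multiset.mem_add.1 hx with hx | hx
    · rw [Multiset.eq_of_mem_replicate hx]; exact ha
    · rw [Multiset.eq_of_mem_replicate hx]; exact hb
  · rw [hk]
    simp [sumRoots]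
  · rw [hk, map_add, map_zsmul, map_zsmul, smul_eq_mul, smul_eq_mul]
    have h1 : mu (P.root a) ≤ (i k : ℤ) * mu (P.root a) :=
      le_mul_of_one_le_left (hmu a ha).le (by exact_mod_cast hi)
    have h2 : mu (P.root b) ≤ (j k : ℤ) * mu (P.root b) :=
      le_mul_of_one_le_left (hmu b hb).le (by exact_mod_cast hj)
    omega

/-- The higher levels are normal. -/
theorem Frame.conj_mem {Ψ : Set idx} (hcl : RootD.IsClosedSub P Ψ) (mu : M →+ ℤ)
    (hmu : ∀ a ∈ Ψ, 0 < mu (P.root a)) (m : ℤ) {X : Over S} {g h : X ⟶ G} (hg : g ∈ Gam u Ψ X)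
    (hh : h ∈ Gam u (lev P mu Ψ m) X) : g * h * g⁻¹ ∈ Gam u (lev P mu Ψ m) X := by
  suffices H : ∀ (a : idx), a ∈ Ψ → ∀ (x : X ⟶ Red.Ga S), ∀ h ∈ Gam u (lev P mu Ψ m) X,
      (x ≫ u a) * h * (x ≫ u a)⁻¹ ∈ Gam u (lev P mu Ψ m) X by
    refine Subgroup.closure_induction
      (p := fun g _ => ∀ h ∈ Gam u (lev P mu Ψ m) X, g * h * g⁻¹ ∈ Gam u (lev P mu Ψ m) X ∧
        g⁻¹ * h * g ∈ Gam u (lev P mu Ψ m) X) ?_ ?_ ?_ ?_ hg h hh |>.1
    · rintro _ ⟨a, ha, x, rfl⟩ h hh
      haveI := (F.hu a).1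
      refine ⟨H a ha x h hh, ?_⟩
      have := H a ha x⁻¹ h hh
      rwa [GrpObj.inv_comp, _root_.inv_inv] at this
    · intro h hh
      exact ⟨by simpa using hh, by simpa using hh⟩
    · intro g g' _ _ hg hg' h hh
      constructor
      · have := (hg _ (hg' h hh).1).1
        rwa [show g * g' * h * (g * g')⁻¹ = g * (g' * h * g'⁻¹) * g⁻¹ by group]
      · have := (hg' _ (hg h hh).2).2
        rwa [show (g * g')⁻¹ * h * (g * g') = g'⁻¹ * (g⁻¹ * h * g) * g' by group]
    · intro g _ hg h hh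
      exact ⟨by rw [_root_.inv_inv]; exact (hg h hh).2, by rw [_root_.inv_inv]; exact (hg h hh).1⟩
  intro a ha x h hh
  induction hh using Subgroup.closure_induction with
  | mem h hh =>
    obtain ⟨b, hb, y, rfl⟩ := hh
    rw [show (x ≫ u a) * (y ≫ u b) * (x ≫ u a)⁻¹ = (y ≫ u b) * word (u a) (u b) x y by
      rw [word, mul_inv_cancel_left]]
    exact mul_mem (mem_Gam hb _) (Gam_mono (lev_mono mu Ψ (m := _) (by
      have := hmu a ha
      have := hb.2
      omega)) X (F.word_mem hcl mu hmu ha hb.1 x y))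
  | one => rw [_root_.mul_one, mul_inv_cancel]; exact one_mem _
  | mul g g' _ _ hg hg' =>
    rw [show (x ≫ u a) * (g * g') * (x ≫ u a)⁻¹ =
      ((x ≫ u a) * g * (x ≫ u a)⁻¹) * ((x ≫ u a) * g' * (x ≫ u a)⁻¹) by group]
    exact mul_mem hg hg'
  | inv g _ hg =>
    rw [show (x ≫ u a) * g⁻¹ * (x ≫ u a)⁻¹ = ((x ≫ u a) * g * (x ≫ u a)⁻¹)⁻¹ by group]
    exact inv_mem hg

/-- The lowest level is central modulo the next one. -/
theorem Frame.comm_mem {Ψ : Set idx} (hcl : RootD.IsClosedSub P Ψ) (mu : M →+ ℤ)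
    (hmu : ∀ a ∈ Ψ, 0 < mu (P.root a)) (m : ℤ) {X : Over S} {g h : X ⟶ G} (hg : g ∈ Gam u Ψ X)
    (hh : h ∈ Gam u (lev P mu Ψ m) X) : h⁻¹ * g * h * g⁻¹ ∈ Gam u (lev P mu Ψ (m + 1)) X := by
  have hN : ∀ {k n : X ⟶ G}, k ∈ Gam u Ψ X → n ∈ Gam u (lev P mu Ψ (m + 1)) X →
      k * n * k⁻¹ ∈ Gam u (lev P mu Ψ (m + 1)) X := fun hk hn => F.conj_mem hcl mu hmu _ hk hn
  suffices H : ∀ (a : idx), a ∈ Ψ → ∀ (x : X ⟶ Red.Ga S), ∀ h ∈ Gam u (lev P mu Ψ m) X,
      h⁻¹ * (x ≫ u a) * h * (x ≫ u a)⁻¹ ∈ Gam u (lev P mu Ψ (m + 1)) X by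
    induction hg using Subgroup.closure_induction with
    | mem g hg => obtain ⟨a, ha, x, rfl⟩ := hg; exact H a ha x h hh
    | one => rw [_root_.mul_one, inv_mul_cancel, inv_one, _root_.mul_one]; exact one_mem _
    | mul g g' hgm _ hg hg' =>
      rw [show h⁻¹ * (g * g') * h * (g * g')⁻¹ =
        (h⁻¹ * g * h * g⁻¹) * (g * (h⁻¹ * g' * h * g'⁻¹) * g⁻¹) by group]
      exact mul_mem hg (hN hgm hg')
    | inv g hgm hg =>
      have := hN (inv_mem hgm) (inv_mem hg)
      rwa [show h⁻¹ * g⁻¹ * h * g⁻¹⁻¹ = g⁻¹ * (h⁻¹ * g * h * g⁻¹)⁻¹ * g⁻¹⁻¹ by group]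
  intro a ha x h hh
  have hsub : Gam u (lev P mu Ψ m) X ≤ Gam u Ψ X := Gam_mono (lev_subset mu Ψ m) X
  induction hh using Subgroup.closure_induction with
  | mem h hh =>
    obtain ⟨b, hb, y, rfl⟩ := hh
    rw [_root_.mul_assoc, _root_.mul_assoc, ← _root_.mul_assoc (x ≫ u a)]
    show word (u a) (u b) x y ∈ _
    exact Gam_mono (lev_mono mu Ψ (m := _) (by
      have := hmu a ha
      have := hb.2
      omega)) X (F.word_mem hcl mu hmu ha hb.1 x y)
  | one => rw [inv_one, _root_.one_mul, _root_.mul_one, mul_inv_cancel]; exact one_mem _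
  | mul g g' hgm hgm' hg hg' =>
    rw [show (g * g')⁻¹ * (x ≫ u a) * (g * g') * (x ≫ u a)⁻¹ =
      (g'⁻¹ * (g⁻¹ * (x ≫ u a) * g * (x ≫ u a)⁻¹) * g'⁻¹⁻¹) * (g'⁻¹ * (x ≫ u a) * g' * (x ≫ u a)⁻¹) by group]
    exact mul_mem (hN (inv_mem (hsub hgm')) hg) hg'
  | inv g hgm hg =>
    have := hN (hsub hgm) (inv_mem hg)
    rwa [show g⁻¹⁻¹ * (x ≫ u a) * g⁻¹ * (x ≫ u a)⁻¹ = g * (g⁻¹ * (x ≫ u a) * g * (x ≫ u a)⁻¹)⁻¹ * g⁻¹ by group]

omit F in
theorem prod_mul_of_commute {H : Type*} [Group H] : ∀ {n : ℕ} (a b : Fin n → H), (∀ k g, Commute (b k) g) →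
    (List.ofFn fun k => a k * b k).prod = (List.ofFn a).prod * (List.ofFn b).prod
  | 0, a, b, _ => by simp
  | n + 1, a, b, h => by
    rw [List.ofFn_succ, List.prod_cons, List.ofFn_succ (f := a), List.ofFn_succ (f := b), List.prod_cons,
      List.prod_cons, prod_mul_of_commute (fun k => a k.succ) (fun k => b k.succ) fun k => h k.succ]
    simp only [_root_.mul_assoc]
    congr 1
    rw [← _root_.mul_assoc, (h 0 (List.ofFn fun k => a k.succ).prod).eq, _root_.mul_assoc]

/-- **A closed set spans in any order.** -/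
theorem Frame.exists_coord {Ψ : Set idx} (hcl : RootD.IsClosedSub P Ψ) (mu : M →+ ℤ)
    (hmu : ∀ a ∈ Ψ, 0 < mu (P.root a)) {n : ℕ} (e : Fin n → idx) (he : RedSub.Enumerates Ψ e)
    {X : Over S} {g : X ⟶ G} (hg : g ∈ Gam u Ψ X) :
    ∃ z : Fin n → (X ⟶ Red.Ga S), (List.ofFn fun k => z k ≫ u (e k)).prod = g := by
  classical
  have heΨ : ∀ k, e k ∈ Ψ := fun k => he.2.subset ⟨k, rfl⟩
  have key : ∀ m : ℕ, ∃ z : Fin n → (X ⟶ Red.Ga S),
      ((List.ofFn fun k => z k ≫ u (e k)).prod)⁻¹ * g ∈ Gam u (lev P mu Ψ (m + 1)) X := by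
    intro m
    induction m with
    | zero =>
      refine ⟨fun _ => 1, ?_⟩
      rw [show (List.ofFn fun k => (1 : X ⟶ Red.Ga S) ≫ u (e k)).prod = 1 from
        List.prod_eq_one fun x hx => by
          obtain ⟨k, rfl⟩ := List.mem_ofFn.1 hx
          haveI := (F.hu (e k)).1
          exact MonObj.one_comp _, inv_one, _root_.one_mul]
      exact Gam_mono (subset_lev mu Ψ fun a ha => by have := hmu a ha; omega) X hg
    | succ m ih =>
      obtain ⟨z, hz⟩ := ih
      let Γ := Gam u Ψ X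
      let N : Subgroup Γ := (Gam u (lev P mu Ψ ((m : ℤ) + 1 + 1)) X).subgroupOf Γ
      haveI : N.Normal := ⟨fun h hh g => F.conj_mem hcl mu hmu _ g.2 hh⟩
      let π := QuotientGroup.mk' N
      have hcen : ∀ (h : Γ), (h : X ⟶ G) ∈ Gam u (lev P mu Ψ ((m : ℤ) + 1)) X → ∀ q, Commute (π h) q := by
        intro h hh q
        obtain ⟨g', rfl⟩ := QuotientGroup.mk'_surjective N q
        show π h * π g' = π g' * π h
        rw [← map_mul, ← map_mul]
        refine (QuotientGroup.mk'_eq_mk' N).2 ⟨g'⁻¹ * h⁻¹ * g' * h, ?_, by group⟩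
        have h1 := F.comm_mem hcl mu hmu _ g'.2 hh
        have h2 := F.conj_mem hcl mu hmu _ (inv_mem g'.2) h1
        rw [Subgroup.mem_subgroupOf]
        simp only [Subgroup.coe_mul, Subgroup.coe_inv]
        rwa [show (g' : X ⟶ G)⁻¹ * (h : X ⟶ G)⁻¹ * g' * h =
          (g' : X ⟶ G)⁻¹ * ((h : X ⟶ G)⁻¹ * g' * h * (g' : X ⟶ G)⁻¹) * (g' : X ⟶ G)⁻¹⁻¹ by group]
      let el : ∀ k, (X ⟶ Red.Ga S) → Γ := fun k x => ⟨x ≫ u (e k), mem_Gam (heΨ k) x⟩
      have hel : ∀ k x y, el k (x * y) = el k x * el k y := fun k x y => by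
        haveI := (F.hu (e k)).1
        exact Subtype.ext (MonObj.mul_comp x y (u (e k)))
      have hone : ∀ k, el k 1 = 1 := fun k => by
        haveI := (F.hu (e k)).1
        exact Subtype.ext (MonObj.one_comp _)
      let pr : (Fin n → (X ⟶ Red.Ga S)) → Γ := fun z => (List.ofFn fun k => el k (z k)).prod
      have hpr : ∀ z, (pr z : X ⟶ G) = (List.ofFn fun k => z k ≫ u (e k)).prod := fun z => by
        show Γ.subtype _ = _
        rw [map_list_prod, List.map_ofFn]
        rfl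
      let Sup : (Fin n → (X ⟶ Red.Ga S)) → Prop := fun x => ∀ k, x k = 1 ∨ (m : ℤ) + 1 ≤ mu (P.root (e k))
      have hpm : ∀ z x, Sup x → π (pr fun k => z k * x k) = π (pr z) * π (pr x) := by
        intro z x hx
        show π (List.ofFn fun k => el k (z k * x k)).prod = _
        simp only [pr, map_list_prod, List.map_ofFn]
        rw [show (π ∘ fun k => el k (z k * x k)) = fun k => π (el k (z k)) * π (el k (x k)) from
          funext fun k => by show π (el k (z k * x k)) = _; rw [hel, map_mul]]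
        refine prod_mul_of_commute _ _ fun k q => ?_
        rcases hx k with h | h
        · show Commute (π (el k (x k))) q
          rw [h, hone, map_one]; exact Commute.one_left q
        · exact hcen (el k (x k)) (mem_Gam (show e k ∈ lev P mu Ψ ((m : ℤ) + 1) from ⟨heΨ k, h⟩) _) q
      have hr : ∀ r (hr : r ∈ Gam u (lev P mu Ψ ((m : ℤ) + 1)) X), ∃ x, Sup x ∧
          π ⟨r, Gam_mono (lev_subset mu Ψ _) X hr⟩ = π (pr x) := by
        intro r hr
        have h0 : π (pr fun _ => 1) = 1 := by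
          show π (List.ofFn fun k => el k 1).prod = 1
          rw [List.prod_eq_one fun x hx => by obtain ⟨k, rfl⟩ := List.mem_ofFn.1 hx; exact hone k, map_one]
        induction hr using Subgroup.closure_induction with
        | mem r hr =>
          obtain ⟨b, hb, y, rfl⟩ := hr
          obtain ⟨k, rfl⟩ := he.2.symm.subset hb.1
          refine ⟨Function.update (fun _ => 1) k y, fun l => ?_, ?_⟩
          · by_cases hl : l = k
            · subst hl; exact Or.inr hb.2
            · exact Or.inl (Function.update_of_ne hl _ _)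
          · congr 1
            refine Subtype.ext ?_
            rw [hpr]
            show y ≫ u (e k) = _
            have h1 : (List.ofFn fun l => (Function.update (fun _ => (1 : X ⟶ Red.Ga S)) k y l) ≫ u (e l)) =
                List.ofFn (Function.update (fun _ => (1 : X ⟶ G)) k (y ≫ u (e k))) := by
              congr 1
              funext l
              by_cases hl : l = k
              · subst hl; rw [Function.update_self, Function.update_self]
              · haveI := (F.hu (e l)).1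
                rw [Function.update_of_ne hl, Function.update_of_ne hl]
                exact MonObj.one_comp _
            rw [h1, prod_ofFn_single _ k fun l hl => Function.update_of_ne hl _ _, Function.update_self]
        | one => exact ⟨fun _ => 1, fun k => Or.inl rfl, by rw [h0]; exact map_one π⟩
        | mul r r' hrm hrm' h1 h2 =>
          obtain ⟨x, hx, e1⟩ := h1
          obtain ⟨x', hx', e2⟩ := h2
          refine ⟨fun k => x k * x' k, fun k => ?_, ?_⟩
          · rcases hx k with h | h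
            · rcases hx' k with h' | h'
              · exact Or.inl (show x k * x' k = 1 by rw [h, h', _root_.one_mul])
              · exact Or.inr h'
            · exact Or.inr h
          · rw [hpm x x' hx', ← e1, ← e2, ← map_mul]
            rfl
        | inv r hrm h1 =>
          obtain ⟨x, hx, e1⟩ := h1
          have hx' : Sup fun k => (x k)⁻¹ := fun k => (hx k).imp_left fun h => by
            show (x k)⁻¹ = 1
            rw [h, inv_one]
          refine ⟨fun k => (x k)⁻¹, hx', ?_⟩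
          have h2 := hpm x (fun k => (x k)⁻¹) hx'
          simp only [mul_inv_cancel] at h2
          rw [h0] at h2
          rw [eq_inv_of_mul_eq_one_right h2.symm, ← e1, ← map_inv]
          rfl
      obtain ⟨x, hx, e1⟩ := hr _ hz
      refine ⟨fun k => z k * x k, ?_⟩
      have h2 : π (pr fun k => z k * x k) = π ⟨g, hg⟩ := by
        rw [hpm z x hx, ← e1, ← map_mul]
        congr 1
        refine Subtype.ext ?_
        show (pr z : X ⟶ G) * _ = g
        rw [hpr, mul_inv_cancel_left]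
      have h3 := (QuotientGroup.mk'_eq_mk' N).1 h2
      obtain ⟨w, hw, hw'⟩ := h3
      have h4 : ((List.ofFn fun k => (z k * x k) ≫ u (e k)).prod)⁻¹ * g = (w : X ⟶ G) := by
        rw [← hpr, inv_mul_eq_iff_eq_mul]
        exact (congrArg Subtype.val hw').symm
      rw [h4]
      exact_mod_cast hw
  obtain ⟨z, hz⟩ := key (∑ k, (mu (P.root (e k))).toNat + 1)
  refine ⟨z, ?_⟩
  have h0 : lev P mu Ψ (((∑ k, (mu (P.root (e k))).toNat + 1 : ℕ) : ℤ) + 1) = ∅ := by
    refine Set.eq_empty_iff_forall_notMem.2 fun a ⟨ha, hle⟩ => ?_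
    obtain ⟨k, rfl⟩ := he.2.symm.subset ha
    have h1 : (mu (P.root (e k))).toNat ≤ ∑ k, (mu (P.root (e k))).toNat :=
      Finset.single_le_sum (f := fun k => (mu (P.root (e k))).toNat) (fun _ _ => Nat.zero_le _) (Finset.mem_univ k)
    omega
  rw [h0, Gam, show {g : X ⟶ G | ∃ a ∈ (∅ : Set idx), ∃ x : X ⟶ Red.Ga S, g = x ≫ u a} = ∅ from
    Set.eq_empty_iff_forall_notMem.2 fun g ⟨a, ha, _⟩ => ha, Subgroup.closure_empty, Subgroup.mem_bot] at hz
  exact (inv_mul_eq_one.1 hz)

end Group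

end Groth.Agent.RootBase
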