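import Groth.Agent.RootBase.Level

/-!
# The linear coefficients of the commutator formulas
-/

set_option autoImplicit false
set_option backward.isDefEq.respectTransparency false
set_option linter.style.haveILetI false
set_option maxHeartbeats 1000000
set_option synthInstance.maxHeartbeats 400000

universe u

open CategoryTheory Limits MonoidalCategory CartesianMonoidalCategory MonObj GrpObj AlgebraicGeometry LieS
open scoped CategoryTheory.Obj

noncomputable section

namespace Groth.Agent.RootBase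

open Groth.Agent.HomDiag Groth.Agent.DynPar Groth.Agent.RootSys Groth.Agent.MTBridge

section Plane

variable {idx M : Type} [AddCommGroup M] [Module.Free ℤ M] [Finite idx] (P : RootPairing idx ℤ M (Module.Dual ℤ M))

theorem pairing_mul_lt_four {a b : idx}
    (hli : ∀ x y : ℤ, x • P.root a + y • P.root b = 0 → x = 0 ∧ y = 0) :
    P.pairing a b * P.pairing b a < 4 := by
  have h1 := P.coxeterWeightIn_le_four ℤ a b
  have hlin : LinearIndependent ℤ ![P.root a, P.root b] := LinearIndependent.pair_iff.2 hli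
  have h2 := (P.linearIndependent_iff_coxeterWeightIn_ne_four ℤ).1 hlin
  rw [RootPairing.coxeterWeightIn, pairingIn_int, pairingIn_int] at h1 h2
  exact lt_of_le_of_ne h1 h2

/-- The data of the plane of two independent roots. -/
theorem exists_plane {a b : idx} (hli : ∀ x y : ℤ, x • P.root a + y • P.root b = 0 → x = 0 ∧ y = 0) :
    ∃ (lam : M →+ ℤ) (N : ℤ) (L : AddSubgroup M), 0 < N ∧ lam (P.root a) = 0 ∧ lam (P.root b) = N ∧
      P.root a ∈ L ∧ P.root b ∈ L ∧ ∀ x ∈ L, ∃ z : ℤ, lam x = N * z := by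
  let lam : M →+ ℤ := ((2 : ℤ) • P.toLinearMap.flip (P.coroot b) -
    P.pairing a b • P.toLinearMap.flip (P.coroot a)).toAddMonoidHom
  have hlam : ∀ c, lam (P.root c) = 2 * P.pairing c b - P.pairing a b * P.pairing c a := fun c => by
    simp [lam, RootPairing.root_coroot_eq_pairing]
  have ha : lam (P.root a) = 0 := by rw [hlam, P.pairing_same]; ring
  have hb : lam (P.root b) = 4 - P.pairing a b * P.pairing b a := by rw [hlam, P.pairing_same]; ring
  refine ⟨lam, lam (P.root b), AddSubgroup.closure {P.root a, P.root b}, ?_, ha, rfl,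
    AddSubgroup.subset_closure (by simp), AddSubgroup.subset_closure (by simp), fun x hx => ?_⟩
  · have := pairing_mul_lt_four P hli
    omega
  · induction hx using AddSubgroup.closure_induction with
    | mem x hx =>
      rcases hx with rfl | rfl
      · exact ⟨0, by rw [ha, mul_zero]⟩
      · exact ⟨1, by rw [_root_.mul_one]⟩
    | zero => exact ⟨0, by rw [map_zero, mul_zero]⟩
    | add x y _ _ hx hy =>
      obtain ⟨z, hz⟩ := hx; obtain ⟨z', hz'⟩ := hy
      exact ⟨z + z', by rw [map_add, hz, hz', mul_add]⟩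
    | neg x _ hx =>
      obtain ⟨z, hz⟩ := hx
      exact ⟨-z, by rw [map_neg, hz, mul_neg]⟩

/-- A functional positive on two independent roots. -/
theorem exists_pos_indep [Module.Finite ℤ M] {a b : idx}
    (hli : ∀ x y : ℤ, x • P.root a + y • P.root b = 0 → x = 0 ∧ y = 0) :
    ∃ mu : M →+ ℤ, 0 < mu (P.root a) ∧ 0 < mu (P.root b) := by
  obtain ⟨lam, N, L, hN, ha, hb, -, -, -⟩ := exists_plane P hli
  let φ : M →+ ℤ := (5 : ℤ) • lam + (P.toLinearMap.flip (P.coroot a)).toAddMonoidHom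
  have hφ : ∀ c, φ (P.root c) = 5 * lam (P.root c) + P.pairing c a := fun c => by
    simp [φ, RootPairing.root_coroot_eq_pairing]
  refine ⟨φ, by rw [hφ, ha, P.pairing_same]; omega, ?_⟩
  rw [hφ, hb]
  have h := P.pairingIn_pairingIn_mem_set_of_isCrystallographic b a
  simp only [pairingIn_int, Set.mem_insert_iff, Set.mem_singleton_iff, Prod.mk.injEq] at h
  omega

end Plane

section Coef

variable {S : Scheme.{u}} {G : Over S} [GrpObj G] {M : Type} [AddCommGroup M] [Module.Free ℤ M] [Module.Finite ℤ M]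
  {c : Red.DS S M ⟶ G} {idx : Type} [Fintype idx] {P : RootPairing idx ℤ M (Module.Dual ℤ M)}
  {u : idx → (Red.Ga S ⟶ G)}

/-- The commutator formula of two roots in a given order. -/
structure Formula (P : RootPairing idx ℤ M (Module.Dual ℤ M)) (u : idx → (Red.Ga S ⟶ G)) (a b : idx) {n : ℕ}
    (e : Fin n → idx) (i j : Fin n → ℕ) (C : Fin n → Γ(S, ⊤)) : Prop where
  inj : Function.Injective e
  hij : ∀ k, 1 ≤ i k ∧ 1 ≤ j k ∧ P.root (e k) = (i k : ℤ) • P.root a + (j k : ℤ) • P.root b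
  hall : ∀ (d : idx) (p q : ℕ), 1 ≤ p → 1 ≤ q → P.root d = (p : ℤ) • P.root a + (q : ℤ) • P.root b →
    d ∈ Set.range e
  eq : ∀ (X : Over S) (x y : X ⟶ Red.Ga S) (z : Fin n → (X ⟶ Red.Ga S)),
    (∀ k, Red.gaFn (z k) = X.hom.appTop (C k) * Red.gaFn x ^ (i k) * Red.gaFn y ^ (j k)) →
      word (u a) (u b) x y = (List.ofFn fun k => z k ≫ u (e k)).prod

theorem Frame.exists_formula' (F : Frame c P.root u) {a b : idx}
    (hli : ∀ x y : ℤ, x • P.root a + y • P.root b = 0 → x = 0 ∧ y = 0) {n : ℕ} (e : Fin n → idx) (i j : Fin n → ℕ)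
    (he : Function.Injective e)
    (hij : ∀ k, 1 ≤ i k ∧ 1 ≤ j k ∧ P.root (e k) = (i k : ℤ) • P.root a + (j k : ℤ) • P.root b)
    (hall : ∀ (d : idx) (p q : ℕ), 1 ≤ p → 1 ≤ q → P.root d = (p : ℤ) • P.root a + (q : ℤ) • P.root b →
      d ∈ Set.range e) : ∃ C, Formula P u a b e i j C := by
  obtain ⟨mu, ha, hb⟩ := exists_pos_indep P hli
  obtain ⟨C, hC, -⟩ := F.exists_comm_global mu ha hb hli e i j he hij hall
  refine ⟨C, he, hij, hall, fun X x y z hz => ?_⟩
  rw [word, hC X x y z hz, inv_mul_cancel_left]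

theorem Frame.exists_formula (F : Frame c P.root u) {a b : idx}
    (hli : ∀ x y : ℤ, x • P.root a + y • P.root b = 0 → x = 0 ∧ y = 0) :
    ∃ (n : ℕ) (e : Fin n → idx) (i j : Fin n → ℕ) (C : Fin n → Γ(S, ⊤)), Formula P u a b e i j C := by
  obtain ⟨m, r, -, he⟩ := exists_extend
    {d | ∃ p q : ℕ, 1 ≤ p ∧ 1 ≤ q ∧ P.root d = (p : ℤ) • P.root a + (q : ℤ) • P.root b}
    (Fin.elim0 : Fin 0 → idx) (fun x => x.elim0) fun k => k.elim0
  have h : ∀ k, ∃ p q : ℕ, 1 ≤ p ∧ 1 ≤ q ∧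
      P.root (Fin.append (Fin.elim0 : Fin 0 → idx) r k) = (p : ℤ) • P.root a + (q : ℤ) • P.root b :=
    fun k => he.2.subset ⟨k, rfl⟩
  choose i j hi hj hij using h
  exact ⟨_, _, i, j, F.exists_formula' hli _ i j he.1 (fun k => ⟨hi k, hj k, hij k⟩)
    fun d p q hp hq hd => he.2.symm.subset ⟨p, q, hp, hq, hd⟩⟩

/-- The unit point. -/
def eOne (X : Over S) : X ⟶ Red.Ga S := BGaNotS.gaPt 1

/-- A point with a constant value. -/
def eC (X : Over S) (r : Γ(S, ⊤)) : X ⟶ Red.Ga S := BGaNotS.gaPt (X.hom.appTop r)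

theorem appTop_unit (r : Γ(S, ⊤)) : (𝟙_ (Over S)).hom.appTop r = r := by
  show (Scheme.Hom.appTop (𝟙 S)) r = r
  rw [Scheme.Hom.id_appTop]
  rfl

variable {lam : M →+ ℤ} {N : ℤ} {L : AddSubgroup M} {d : idx} {Dom : ∀ X : Over S, Submonoid (X ⟶ G)}
  {π : ∀ X : Over S, (X ⟶ G) → Γ(X.left, ⊤)}

theorem IsLevel.map_prod (h : IsLevel u P.root lam L d Dom π) {X : Over S} : ∀ {n : ℕ} (g : Fin n → (X ⟶ G)),
    (∀ k, g k ∈ Dom X) → (List.ofFn g).prod ∈ Dom X ∧ π X (List.ofFn g).prod = ∑ k, π X (g k)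
  | 0, g, _ => by
    rw [List.ofFn_zero, List.prod_nil]
    exact ⟨one_mem _, by rw [h.map_one]; rfl⟩
  | n + 1, g, hg => by
    obtain ⟨h1, h2⟩ := h.map_prod (fun k => g k.succ) fun k => hg _
    rw [List.ofFn_succ, List.prod_cons, Fin.sum_univ_succ, h.map_mul X _ _ (hg 0) h1, h2]
    exact ⟨mul_mem (hg 0) h1, rfl⟩

/-- The word of a pair of roots in a plane, and its coordinate. -/
theorem Formula.pi_word {a b : idx} {n : ℕ} {e : Fin n → idx} {i j : Fin n → ℕ} {C : Fin n → Γ(S, ⊤)}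
    (hf : Formula P u a b e i j C) (h : IsLevel u P.root lam L d Dom π) (ha : P.root a ∈ L) (hb : P.root b ∈ L)
    (hla : 0 ≤ lam (P.root a)) (hlb : 0 ≤ lam (P.root b)) (hlab : 0 < lam (P.root a) + lam (P.root b))
    {X : Over S} (x y : X ⟶ Red.Ga S) :
    word (u a) (u b) x y ∈ Dom X ∧
      (∀ k, e k = d → π X (word (u a) (u b) x y) = X.hom.appTop (C k) * Red.gaFn x ^ i k * Red.gaFn y ^ j k) ∧
      ((∀ k, e k ≠ d) → π X (word (u a) (u b) x y) = 0) := by
  classical
  let z : Fin n → (X ⟶ Red.Ga S) := fun k =>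
    BGaNotS.gaPt (X.hom.appTop (C k) * Red.gaFn x ^ i k * Red.gaFn y ^ j k)
  rw [hf.eq X x y z fun k => BGaNotS.gaFn_gaPt _]
  have hpos : ∀ k, 0 < lam (P.root (e k)) ∧ P.root (e k) ∈ L := fun k => by
    obtain ⟨hi, hj, hk⟩ := hf.hij k
    rw [hk, map_add, map_zsmul, map_zsmul, smul_eq_mul, smul_eq_mul]
    exact ⟨by nlinarith [show (1 : ℤ) ≤ i k by omega, show (1 : ℤ) ≤ j k by omega],
      add_mem (zsmul_mem ha _) (zsmul_mem hb _)⟩
  obtain ⟨h1, h2⟩ := h.map_prod (fun k => z k ≫ u (e k)) fun k => h.mem X _ _ (hpos k).1 (hpos k).2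
  refine ⟨h1, fun k hk => ?_, fun hne => ?_⟩
  · rw [h2, Finset.sum_eq_single k (fun k' _ hk' => ?_) (fun h' => absurd (Finset.mem_univ k) h'),
      h.map_gen X _ _ (hpos k).1 (hpos k).2, if_pos hk]
    · exact BGaNotS.gaFn_gaPt _
    · rw [h.map_gen X _ _ (hpos k').1 (hpos k').2, if_neg fun e' => hk' (hf.inj (e'.trans hk.symm))]
  · rw [h2]
    refine Finset.sum_eq_zero fun k _ => ?_
    rw [h.map_gen X _ _ (hpos k).1 (hpos k).2, if_neg (hne k)]

/-- `κ` is the coefficient of the root `d = i a + b` in the commutator of `a` and `b`. -/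
def IsCoef (P : RootPairing idx ℤ M (Module.Dual ℤ M)) (u : idx → (Red.Ga S ⟶ G)) (a b d : idx) (i : ℕ)
    (κ : Γ(S, ⊤)) : Prop :=
  ∀ (lam : M →+ ℤ) (N : ℤ) (L : AddSubgroup M) (Dom : ∀ X : Over S, Submonoid (X ⟶ G))
    (π : ∀ X : Over S, (X ⟶ G) → Γ(X.left, ⊤)), 0 < N → lam (P.root a) = 0 → lam (P.root b) = N →
    P.root a ∈ L → P.root b ∈ L → IsLevel u P.root lam L d Dom π →
      ∀ (X : Over S) (x y : X ⟶ Red.Ga S),
        π X (word (u a) (u b) x y) = X.hom.appTop κ * Red.gaFn x ^ i * Red.gaFn y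

theorem exponents_eq {a b : idx} (hli : ∀ x y : ℤ, x • P.root a + y • P.root b = 0 → x = 0 ∧ y = 0) {d : idx}
    {i i' j j' : ℕ} (h : P.root d = (i : ℤ) • P.root a + (j : ℤ) • P.root b)
    (h' : P.root d = (i' : ℤ) • P.root a + (j' : ℤ) • P.root b) : i = i' ∧ j = j' := by
  obtain ⟨h1, h2⟩ := hli ((i : ℤ) - i') ((j : ℤ) - j') (by
    linear_combination (norm := module) h' - h)
  omega

theorem Formula.isCoef {a b : idx} {n : ℕ} {e : Fin n → idx} {i j : Fin n → ℕ} {C : Fin n → Γ(S, ⊤)}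
    (hf : Formula P u a b e i j C) (k : Fin n) (hj : j k = 1) : IsCoef P u a b (e k) (i k) (C k) := by
  intro lam N L Dom π hN ha hb haL hbL h X x y
  rw [(hf.pi_word h haL hbL ha.ge (by omega) (by omega) x y).2.1 k rfl, hj, pow_one]

/-- The coefficient exists. -/
theorem Frame.exists_coef (F : Frame c P.root u) {a b d : idx}
    (hli : ∀ x y : ℤ, x • P.root a + y • P.root b = 0 → x = 0 ∧ y = 0) {i : ℕ} (hi : 1 ≤ i)
    (hd : P.root d = (i : ℤ) • P.root a + P.root b) : ∃ κ, IsCoef P u a b d i κ := by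
  obtain ⟨n, e, i', j', C, hf⟩ := F.exists_formula hli
  obtain ⟨k, rfl⟩ := hf.hall d i 1 hi le_rfl (by rw [Nat.cast_one, one_smul]; exact hd)
  obtain ⟨h1, h2⟩ := exponents_eq hli (hf.hij k).2.2
    (show P.root (e k) = (i : ℤ) • P.root a + ((1 : ℕ) : ℤ) • P.root b by rw [Nat.cast_one, one_smul]; exact hd)
  exact ⟨C k, h1 ▸ hf.isCoef k h2⟩

/-- A coefficient of a formula. -/
theorem Frame.coef_eq (F : Frame c P.root u) {a b : idx}
    (hli : ∀ x y : ℤ, x • P.root a + y • P.root b = 0 → x = 0 ∧ y = 0) {d : idx} {i : ℕ} {κ κ' : Γ(S, ⊤)}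
    (hd : P.root d = (i : ℤ) • P.root a + P.root b) (h : IsCoef P u a b d i κ) (h' : IsCoef P u a b d i κ') :
    κ = κ' := by
  obtain ⟨lam, N, L, hN, ha, hb, haL, hbL, hL⟩ := exists_plane P hli
  obtain ⟨Dom, π, hl⟩ := F.exists_level lam N hN L hL d (by rw [hd]; exact add_mem (zsmul_mem haL _) hbL)
    (by rw [hd, map_add, map_zsmul, ha, hb, smul_zero, zero_add])
  have e1 := h lam N L Dom π hN ha hb haL hbL hl (𝟙_ _) (eOne _) (eOne _)
  rw [h' lam N L Dom π hN ha hb haL hbL hl (𝟙_ _) (eOne _) (eOne _)] at e1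
  simp only [eOne, BGaNotS.gaFn_gaPt, one_pow, _root_.mul_one, appTop_unit] at e1
  exact e1.symm

/-- A linear coefficient for the first root of a formula. -/
theorem Formula.coef_swap (F : Frame c P.root u) {a b : idx}
    (hli : ∀ x y : ℤ, x • P.root a + y • P.root b = 0 → x = 0 ∧ y = 0) {n : ℕ} {e : Fin n → idx}
    {i j : Fin n → ℕ} {C : Fin n → Γ(S, ⊤)} (hf : Formula P u a b e i j C) (k : Fin n) (hi : i k = 1)
    {κ : Γ(S, ⊤)} (h : IsCoef P u b a (e k) (j k) κ) : C k = (-1) ^ j k * κ := by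
  have hli' : ∀ x y : ℤ, x • P.root b + y • P.root a = 0 → x = 0 ∧ y = 0 := fun x y hxy =>
    (hli y x (by rw [add_comm]; exact hxy)).symm
  have hd : P.root (e k) = (j k : ℤ) • P.root b + P.root a := by
    rw [(hf.hij k).2.2, hi, Nat.cast_one, one_smul, add_comm]
  obtain ⟨lam, N, L, hN, hb, ha, hbL, haL, hL⟩ := exists_plane P hli'
  obtain ⟨Dom, π, hl⟩ := F.exists_level lam N hN L hL (e k) (by rw [hd]; exact add_mem (zsmul_mem hbL _) haL)
    (by rw [hd, map_add, map_zsmul, hb, ha, smul_zero, zero_add])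
  obtain ⟨n', e', i', j', C', hf'⟩ := F.exists_formula hli'
  let U := 𝟙_ (Over S)
  obtain ⟨h1, h2, -⟩ := hf.pi_word hl haL hbL (by omega) hb.ge (by omega) (eOne U) (eOne U)
  obtain ⟨h1', -, -⟩ := hf'.pi_word hl hbL haL hb.ge (by omega) (by omega) (eC U (-1)) (eC U (-1))
  have hneg : eC U (-1) = (eOne U)⁻¹ := by
    refine eq_inv_of_mul_eq_one_left (BGaNotS.gaPt_ext ?_)
    rw [BGaNotS.gaFn_mul, BGaNotS.gaFn_one, eC, eOne, BGaNotS.gaFn_gaPt, BGaNotS.gaFn_gaPt, appTop_unit]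
    exact neg_add_cancel (1 : Γ(S, ⊤))
  have hw : word (u a) (u b) (eOne U) (eOne U) * word (u b) (u a) (eC U (-1)) (eC U (-1)) = 1 := by
    haveI := (F.hu a).1; haveI := (F.hu b).1
    simp only [word, hneg, GrpObj.inv_comp, _root_.inv_inv]
    group
  have e1 := hl.map_mul U _ _ h1 h1'
  rw [hw, hl.map_one, h2 k rfl, h lam N L Dom π hN hb ha hbL haL hl] at e1
  simp only [eC, eOne, BGaNotS.gaFn_gaPt, one_pow, _root_.mul_one, U, appTop_unit] at e1
  linear_combination -e1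

/-- The symmetry of the first coefficient. -/
theorem Frame.coef_symm (F : Frame c P.root u) {a b d : idx}
    (hli : ∀ x y : ℤ, x • P.root a + y • P.root b = 0 → x = 0 ∧ y = 0) (hd : P.root d = P.root a + P.root b)
    {κ : Γ(S, ⊤)} (h : IsCoef P u b a d 1 κ) : IsCoef P u a b d 1 (-κ) := by
  obtain ⟨n, e, i, j, C, hf⟩ := F.exists_formula hli
  have hd' : P.root d = ((1 : ℕ) : ℤ) • P.root a + ((1 : ℕ) : ℤ) • P.root b := by
    rw [Nat.cast_one, one_smul, one_smul]; exact hd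
  obtain ⟨k, rfl⟩ := hf.hall d 1 1 le_rfl le_rfl hd'
  obtain ⟨hi, hj⟩ := exponents_eq hli (hf.hij k).2.2 hd'
  have h1 := Formula.coef_swap F hli hf k hi (by rwa [hj])
  rw [hj, pow_one, neg_one_mul] at h1
  rw [← h1]
  exact hi ▸ hf.isCoef k hj

/-- The lowest coordinate of a conjugate. -/
theorem Frame.pi_conj (F : Frame c P.root u) {a b : idx}
    (hli : ∀ x y : ℤ, x • P.root a + y • P.root b = 0 → x = 0 ∧ y = 0) (hN : 0 < N) (ha : lam (P.root a) = 0)
    (hb : 0 < lam (P.root b)) (haL : P.root a ∈ L) (hbL : P.root b ∈ L) (hd : lam (P.root d) = N)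
    (hbz : ∃ z : ℤ, lam (P.root b) = N * z)
    (h : IsLevel u P.root lam L d Dom π) {X : Over S} (x y : X ⟶ Red.Ga S) :
    (x ≫ u a) * (y ≫ u b) * (x ≫ u a)⁻¹ ∈ Dom X ∧
    (∀ (i : ℕ) (κ : Γ(S, ⊤)), 1 ≤ i → P.root d = (i : ℤ) • P.root a + P.root b → IsCoef P u a b d i κ →
      π X ((x ≫ u a) * (y ≫ u b) * (x ≫ u a)⁻¹) = X.hom.appTop κ * Red.gaFn x ^ i * Red.gaFn y) ∧
    (b = d → π X ((x ≫ u a) * (y ≫ u b) * (x ≫ u a)⁻¹) = Red.gaFn y) ∧
    ((∀ i : ℕ, P.root d ≠ (i : ℤ) • P.root a + P.root b) →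
      π X ((x ≫ u a) * (y ≫ u b) * (x ≫ u a)⁻¹) = 0) := by
  classical
  obtain ⟨n, e, i, j, C, hf⟩ := F.exists_formula hli
  obtain ⟨h1, h2, h3⟩ := hf.pi_word h haL hbL ha.ge hb.le (by omega) x y
  have hy := h.mem X b y hb hbL
  have heq : (x ≫ u a) * (y ≫ u b) * (x ≫ u a)⁻¹ = (y ≫ u b) * word (u a) (u b) x y := by
    rw [word, mul_inv_cancel_left]
  rw [heq, h.map_mul X _ _ hy h1, h.map_gen X b y hb hbL]
  have hlev : ∀ k, e k = d → (j k : ℤ) * lam (P.root b) = N := fun k hk => by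
    have := congrArg lam (hf.hij k).2.2
    rw [hk, hd, map_add, map_zsmul, map_zsmul, ha, smul_eq_mul, smul_eq_mul, mul_zero, zero_add] at this
    exact this.symm
  have hbN : ∀ k, e k = d → j k = 1 := fun k hk => by
    obtain ⟨z, hz⟩ := hbz
    have h1 := hlev k hk
    have hj := (hf.hij k).2.1
    have hz1 : 1 ≤ z := by nlinarith
    rw [hz] at h1
    have : (j k : ℤ) ≤ 1 := by nlinarith [mul_le_mul_of_nonneg_left hz1 (show (0 : ℤ) ≤ (j k : ℤ) * N by positivity)]
    omega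
  refine ⟨mul_mem hy h1, fun i' κ hi' hd' hκ => ?_, fun hbd => ?_, fun hne => ?_⟩
  · have hbd : b ≠ d := fun hbd => by
      subst hbd
      obtain ⟨h4, -⟩ := hli (i' : ℤ) 0 (by rw [zero_smul, add_zero]; exact (add_eq_right (b := P.root b)).1 hd'.symm)
      omega
    have hlb : lam (P.root b) = N := by
      rw [← hd, hd', map_add, map_zsmul, ha, smul_zero, zero_add]
    rw [if_neg hbd, zero_add, hκ lam N L Dom π hN ha hlb haL hbL h]
  · rw [if_pos hbd, h3 fun k hk => ?_, add_zero]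
    have hj := hbN k hk
    obtain ⟨hi, -, hk'⟩ := hf.hij k
    rw [hk, ← hbd, hj, Nat.cast_one, one_smul] at hk'
    obtain ⟨h4, -⟩ := hli (i k : ℤ) 0 (by rw [zero_smul, add_zero]; exact (add_eq_right (b := P.root b)).1 hk'.symm)
    omega
  · rw [if_neg fun hbd => hne 0 (by rw [hbd, Nat.cast_zero, zero_smul, zero_add]), zero_add, h3 fun k hk => ?_]
    have hj := hbN k hk
    refine hne (i k) ?_
    rw [← hk, (hf.hij k).2.2, hj, Nat.cast_one, one_smul]

/-- Conjugates respect products. -/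
theorem conj_ofFn_prod {X : Over S} (g : X ⟶ G) {n : ℕ} (f : Fin n → (X ⟶ G)) :
    g * (List.ofFn f).prod * g⁻¹ = (List.ofFn fun k => g * f k * g⁻¹).prod := by
  show MulAut.conj g (List.ofFn f).prod = _
  rw [map_list_prod, List.map_ofFn]
  rfl

/-- A polynomial vanishing on all points is zero. -/
theorem eq_zero_of_eval (p : Polynomial Γ(S, ⊤))
    (h : ∀ (X : Over S) (x : X ⟶ Red.Ga S), p.eval₂ X.hom.appTop.hom (Red.gaFn x) = 0) : p = 0 := by
  refine Polynomial.ext fun k => ?_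
  rw [Polynomial.coeff_zero]
  have key : BGaNotS.gaPt (W := 𝟙_ (Over S)) (p.coeff k) = 1 := hom_ext_charts _ _ fun i B _ φ q => by
    let A : CommRingCat.{u} := S.affineOpenCover.X i
    let j : Spec (CommRingCat.of A) ⟶ S := S.affineOpenCover.f i
    let X : Over S := pt (Polynomial A) (Spec.map (CommRingCat.ofHom (Polynomial.C : (A : Type u) →+* _)) ≫ j)
    let x : X ⟶ Red.Ga S := BGaNotS.gaPt ((Scheme.ΓSpecIso (CommRingCat.of (Polynomial A))).inv Polynomial.X)
    let res : Γ(S, ⊤) →+* (A : Type u) := (Scheme.ΓSpecIso A).hom.hom.comp j.appTop.hom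
    have hres : (Scheme.ΓSpecIso (CommRingCat.of (Polynomial A))).hom.hom.comp X.hom.appTop.hom =
        Polynomial.C.comp res := by
      refine RingHom.ext fun r => ?_
      show (Scheme.ΓSpecIso (CommRingCat.of (Polynomial A))).hom
        ((Spec.map (CommRingCat.ofHom (Polynomial.C : (A : Type u) →+* _)) ≫ j).appTop r) = _
      rw [Scheme.Hom.comp_appTop, CommRingCat.comp_apply]
      exact ConcreteCategory.congr_hom (Scheme.ΓSpecIso_naturality (CommRingCat.ofHom (Polynomial.C : (A : Type u) →+* _)))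
        (j.appTop r)
    have h1 := congrArg (Scheme.ΓSpecIso (CommRingCat.of (Polynomial A))).hom.hom (h X x)
    rw [Polynomial.hom_eval₂, map_zero, hres, show (Scheme.ΓSpecIso (CommRingCat.of (Polynomial A))).hom.hom (Red.gaFn x) =
      Polynomial.X by
        show (Scheme.ΓSpecIso (CommRingCat.of (Polynomial A))).hom (Red.gaFn x) = _
        rw [show Red.gaFn x = _ from BGaNotS.gaFn_gaPt _]
        exact ConcreteCategory.congr_hom (Scheme.ΓSpecIso (CommRingCat.of (Polynomial A))).inv_hom_id _] at h1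
    change Polynomial.map res p = 0 at h1
    have h2 : res (p.coeff k) = 0 := by rw [← Polynomial.coeff_map, h1, Polynomial.coeff_zero]
    refine BGaNotS.gaPt_ext ((ConcreteCategory.bijective_of_isIso (Scheme.ΓSpecIso (CommRingCat.of B)).hom).1 ?_)
    rw [MonObj.comp_one, BGaNotS.gaFn_one, map_zero, BGaNotS.gaFn_comp, BGaNotS.gaFn_gaPt]
    have hq : q.left = Spec.map (CommRingCat.ofHom φ) ≫ j := by
      have := Over.w q
      exact (Category.comp_id _).symm.trans this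
    rw [hq, Scheme.Hom.comp_appTop, CommRingCat.comp_apply]
    refine (ConcreteCategory.congr_hom (Scheme.ΓSpecIso_naturality (CommRingCat.ofHom φ)) (j.appTop (p.coeff k))).trans ?_
    show φ (res (p.coeff k)) = 0
    rw [h2, map_zero]
  have e := congrArg Red.gaFn key
  rw [BGaNotS.gaFn_gaPt, BGaNotS.gaFn_one] at e
  exact e

end Coef

end Groth.Agent.RootBase
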