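import Groth.Agent.RootBase.Comb
import Groth.Agent.RootBase.Borel

/-!
# The commutator of two root subgroups
-/

set_option autoImplicit false
set_option backward.isDefEq.respectTransparency false
set_option linter.style.haveILetI false
set_option maxHeartbeats 1000000
set_option synthInstance.maxHeartbeats 400000

universe u

open CategoryTheory Limits MonoidalCategory CartesianMonoidalCategory MonObj GrpObj AlgebraicGeometry LieS
open scoped CategoryTheory.Obj

noncomputable section

namespace Groth.Agent.RootBase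

open Groth.Agent.HomDiag Groth.Agent.DynPar Groth.Agent.RootSys Groth.Agent.MTBridge

section General

variable {S : Scheme.{u}} {G : Over S} [GrpObj G]

/-- The product map at a point is the product of the factors. -/
theorem comp_prodMap_eq : ∀ {m : ℕ} (w : Fin m → (Red.Ga S ⟶ G)) {X : Over S}
    (y : X ⟶ RedSub.pow (Red.Ga S) m),
    y ≫ RedSub.prodMap (Red.Ga S) m w = (List.ofFn fun k => (y ≫ proj S m k) ≫ w k).prod
  | 0, w, X, y => by
    rw [show RedSub.prodMap (Red.Ga S) 0 w = 1 from rfl, MonObj.comp_one, List.ofFn_zero, List.prod_nil]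
  | m + 1, w, X, y => by
    rw [prodMap_succ, comp_prodMap_eq, List.ofFn_succ, List.prod_cons]
    simp only [proj_snd]

/-- A list of points of the additive group as a point of the power. -/
theorem exists_pow_prod {m : ℕ} (w : Fin m → (Red.Ga S ⟶ G)) {X : Over S} (z : Fin m → (X ⟶ Red.Ga S)) :
    ∃ y : X ⟶ RedSub.pow (Red.Ga S) m, (∀ k, y ≫ proj S m k = z k) ∧
      y ≫ RedSub.prodMap (Red.Ga S) m w = (List.ofFn fun k => z k ≫ w k).prod := by
  obtain ⟨y, hy⟩ := exists_pow z
  exact ⟨y, hy, by rw [comp_prodMap_eq]; simp only [hy]⟩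

/-- An enumeration beginning with given elements. -/
theorem exists_extend {idx : Type} [Fintype idx] (P : Set idx) {n : ℕ} (e : Fin n → idx) (he : Function.Injective e)
    (hP : ∀ k, e k ∈ P) :
    ∃ (l : ℕ) (r : Fin l → idx), (∀ k, r k ∉ Set.range e) ∧ RedSub.Enumerates P (Fin.append e r) := by
  classical
  let F : Finset idx := Finset.univ.filter fun a => a ∈ P ∧ a ∉ Set.range e
  refine ⟨F.card, fun k => (F.equivFin.symm k).1, fun k => (Finset.mem_filter.1 (F.equivFin.symm k).2).2.2, ?_, ?_⟩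
  · intro x y h
    induction x using Fin.addCases with
    | left x =>
      induction y using Fin.addCases with
      | left y => rw [Fin.append_left, Fin.append_left] at h; rw [he h]
      | right y =>
        rw [Fin.append_left, Fin.append_right] at h
        exact absurd ⟨x, h⟩ (Finset.mem_filter.1 (F.equivFin.symm y).2).2.2
    | right x =>
      induction y using Fin.addCases with
      | left y =>
        rw [Fin.append_left, Fin.append_right] at h
        exact absurd ⟨y, h.symm⟩ (Finset.mem_filter.1 (F.equivFin.symm x).2).2.2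
      | right y =>
        rw [Fin.append_right, Fin.append_right] at h
        rw [F.equivFin.symm.injective (Subtype.ext h)]
  · ext a
    constructor
    · rintro ⟨k, rfl⟩
      induction k using Fin.addCases with
      | left k => rw [Fin.append_left]; exact hP k
      | right k => rw [Fin.append_right]; exact (Finset.mem_filter.1 (F.equivFin.symm k).2).2.1
    · intro ha
      by_cases h : a ∈ Set.range e
      · obtain ⟨k, rfl⟩ := h
        exact ⟨Fin.castAdd _ k, Fin.append_left _ _ _⟩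
      · refine ⟨Fin.natAdd _ (F.equivFin ⟨a, Finset.mem_filter.2 ⟨Finset.mem_univ a, ha, h⟩⟩), ?_⟩
        rw [Fin.append_right, Equiv.symm_apply_apply]

theorem ofFn_split {α : Type*} {n l : ℕ} (f : Fin (n + l) → α) :
    List.ofFn f = List.ofFn (fun k => f (Fin.castAdd l k)) ++ List.ofFn (fun k => f (Fin.natAdd n k)) := by
  conv_lhs => rw [← Fin.append_castAdd_natAdd (f := f), List.ofFn_fin_append]

/-- Trivial coordinates do not change the product. -/
theorem prod_append_one {idx : Type} (v : idx → (Red.Ga S ⟶ G)) (hv : ∀ a, IsMonHom (v a)) {n l : ℕ}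
    (e : Fin n → idx) (r : Fin l → idx) {X : Over S} (w : Fin n → (X ⟶ Red.Ga S)) :
    (List.ofFn fun k => Fin.append w (fun _ => 1) k ≫ v (Fin.append e r k)).prod =
      (List.ofFn fun k => w k ≫ v (e k)).prod := by
  rw [ofFn_split, List.prod_append]
  simp only [Fin.append_left, Fin.append_right]
  conv_rhs => rw [← _root_.mul_one (List.ofFn fun k => w k ≫ v (e k)).prod]
  congr 1
  refine List.prod_eq_one fun g hg => ?_
  obtain ⟨k, rfl⟩ := List.mem_ofFn.1 hg
  haveI := hv (r k)
  exact MonObj.one_comp _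

/-- The word of a commutator. -/
def word {X : Over S} (va vb : Red.Ga S ⟶ G) (x y : X ⟶ Red.Ga S) : X ⟶ G :=
  (y ≫ vb)⁻¹ * ((x ≫ va) * (y ≫ vb) * (x ≫ va)⁻¹)

theorem comp_word {X Y : Over S} (q : Y ⟶ X) (va vb : Red.Ga S ⟶ G) (x y : X ⟶ Red.Ga S) :
    q ≫ word va vb x y = word va vb (q ≫ x) (q ≫ y) := by
  simp only [word, MonObj.comp_mul, GrpObj.comp_inv, Category.assoc]

end General

section GlobalU

variable {S : Scheme.{u}} {G : Over S} [GrpObj G] {M : Type} [AddCommGroup M] [Module.Free ℤ M] [Module.Finite ℤ M]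
  {c : Red.DS S M ⟶ G} {idx : Type} [Fintype idx] {root : idx → M} {u : idx → (Red.Ga S ⟶ G)}

/-- **The contracted subgroup is the product of the positive root subgroups**, over any base. -/
theorem Frame.exists_iso_isU (F : Frame c root u) (mu : M →+ ℤ) {m : ℕ} (e : Fin m → idx)
    (he : RedSub.Enumerates {a | 0 < mu (root a)} e) {U : Over S} [GrpObj U] {uU : U ⟶ G}
    (hU : IsU (Red.DSmap S mu ≫ c) uU) :
    ∃ φ : RedSub.pow (Red.Ga S) m ≅ U, φ.hom ≫ uU = RedSub.prodMap (Red.Ga S) m (fun l => u (e l)) := by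
  haveI := F.hG.1
  haveI := F.hG.2.1
  haveI := F.hc.1
  haveI := hU.2.1
  have hpos : ∀ l, 0 < mu (root (e l)) := fun l => he.2.subset ⟨l, rfl⟩
  obtain ⟨φ, hφ⟩ := hU.exists_le (RedSub.prodMap (Red.Ga S) m fun l => u (e l)) fun B _ f y =>
    prodMap_mem_USub_global mu f (fun l => F.hu (e l)) hpos y
  let 𝒱 := S.affineOpenCover.openCover
  have key : ∀ i, IsIso ((Over.pullback (𝒱.f i)).map φ) := by
    intro i
    let A : CommRingCat.{u} := S.affineOpenCover.X i
    let j : Spec (CommRingCat.of A) ⟶ S := 𝒱.f i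
    have F' := F.bc j
    haveI : IsMonHom (bcHom' j c) := isMonHom_bcHom' j c
    haveI := F'.hG.1
    haveI : IsAffine (Red.bc j G).left := isAffine_of_isAffineHom (Red.bc j G).hom
    have hU' : IsU (Red.DSmap _ mu ≫ bcHom' j c) ((Over.pullback j).map uU) := by
      rw [← bcHom'_DSmap]; exact hU.bc j
    haveI := hU'.2.1
    haveI : Mono ((Over.pullback j).map uU) := Over.mono_of_mono_left _
    obtain ⟨zm, hzm⟩ := F'.isIso_prod mu e he hU'
    obtain ⟨κ, hκ, hκw⟩ := exists_powBC j (G := G) m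
    haveI := hκ
    have h : inv κ ≫ zm.hom = (Over.pullback j).map φ := by
      rw [← cancel_mono ((Over.pullback j).map uU), ← Functor.map_comp, hφ, Category.assoc, hzm,
        IsIso.inv_comp_eq, hκw]
    show IsIso ((Over.pullback j).map φ)
    rw [← h]
    infer_instance
  haveI : IsIso φ.left := IsZariskiLocalAtTarget.of_openCover (P := MorphismProperty.isomorphisms Scheme)
    (𝒱.pullback₁ U.hom) fun i => by
      have sq := MTImage.isPullback_map φ (𝒱.f i)
      haveI : IsIso ((Over.forget _).map ((Over.pullback (𝒱.f i)).map φ)) := by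
        haveI := key i; infer_instance
      haveI : IsIso ((Over.pullback (𝒱.f i)).map φ).left :=
        ‹IsIso ((Over.forget _).map ((Over.pullback (𝒱.f i)).map φ))›
      show IsIso (pullback.snd φ.left (pullback.fst U.hom (𝒱.f i)))
      rw [← sq.isoPullback_inv_snd]
      infer_instance
  haveI : IsIso ((Over.forget _).map φ) := ‹IsIso φ.left›
  haveI : IsIso φ := isIso_of_reflects_iso φ (Over.forget _)
  exact ⟨asIso φ, hφ⟩

/-- Products of distinct positive root subgroups have unique coordinates. -/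
theorem Frame.prod_inj (F : Frame c root u) (mu : M →+ ℤ) {n : ℕ} (e : Fin n → idx) (he : Function.Injective e)
    (hpos : ∀ k, 0 < mu (root (e k))) {X : Over S} (z z' : Fin n → (X ⟶ Red.Ga S))
    (h : (List.ofFn fun k => z k ≫ u (e k)).prod = (List.ofFn fun k => z' k ≫ u (e k)).prod) : z = z' := by
  haveI := F.hG.1
  haveI := F.hG.2.1
  haveI := F.hc.1
  obtain ⟨l, r, -, hr⟩ := exists_extend {a | 0 < mu (root a)} e he hpos
  obtain ⟨U, _, uU, hU⟩ := exists_isU (G := G) (Red.DSmap S mu ≫ c)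
  obtain ⟨φ, hφ⟩ := F.exists_iso_isU mu _ hr hU
  haveI := hU.2.1
  haveI : Mono uU := Over.mono_of_mono_left _
  have hsplit : ∀ (w : Fin n → (X ⟶ Red.Ga S)),
      ∃ y : X ⟶ RedSub.pow (Red.Ga S) (n + l), (∀ k, y ≫ proj S _ (Fin.castAdd l k) = w k) ∧
        y ≫ φ.hom ≫ uU = (List.ofFn fun k => w k ≫ u (e k)).prod := by
    intro w
    obtain ⟨y, hy, hy'⟩ := exists_pow_prod (fun k => u (Fin.append e r k)) (Fin.append w fun _ => 1)
    refine ⟨y, fun k => by rw [hy, Fin.append_left], ?_⟩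
    rw [hφ, hy', prod_append_one u (fun a => (F.hu a).1)]
  obtain ⟨y, hy, hy'⟩ := hsplit z
  obtain ⟨y', hy2, hy2'⟩ := hsplit z'
  have e1 : y = y' := by
    rw [← cancel_mono (φ.hom ≫ uU)]
    exact hy'.trans (h.trans hy2'.symm)
  funext k
  rw [← hy, e1, hy2]

end GlobalU

section Affine

variable {R : Type u} [CommRing R] {G : Over (Spec (CommRingCat.of R))} [GrpObj G] [IsAffine G.left]
  {M : Type} [AddCommGroup M] [Module.Free ℤ M] [Module.Finite ℤ M]
  {c : Red.DS (Spec (CommRingCat.of R)) M ⟶ G} [IsMonHom c] {idx : Type} [Fintype idx] {root : idx → M}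
  {u : idx → (Red.Ga (Spec (CommRingCat.of R)) ⟶ G)}

omit [IsAffine G.left] [Module.Free ℤ M] [Module.Finite ℤ M] [Fintype idx] [IsMonHom c] in
/-- The torus acts on the word of a commutator. -/
theorem conj_word {a b : idx} (ha : Red.IsRootHom c (Red.chi _ (root a)) (u a))
    (hb : Red.IsRootHom c (Red.chi _ (root b)) (u b))
    {B : Type u} [CommRing B] {f : Spec (CommRingCat.of B) ⟶ Spec (CommRingCat.of R)}
    (g : pt B f ⟶ Red.DS (Spec (CommRingCat.of R)) M) (x y : pt B f ⟶ Red.Ga (Spec (CommRingCat.of R))) :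
    (g ≫ c) * word (u a) (u b) x y * (g ≫ c)⁻¹ =
      word (u a) (u b) (gp f (chv g (Multiplicative.ofAdd (root a)) * gv x))
        (gp f (chv g (Multiplicative.ofAdd (root b)) * gv y)) := by
  rw [word, word, ← rootHom_conj_gp ha, ← rootHom_conj_gp hb]
  group

/-- **The commutator of two positive root subgroups.** -/
theorem Frame.exists_comm (F : Frame c root u) (mu : M →+ ℤ) {a b : idx} (ha : 0 < mu (root a))
    (hb : 0 < mu (root b)) (hli : ∀ x y : ℤ, x • root a + y • root b = 0 → x = 0 ∧ y = 0)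
    {n : ℕ} (e : Fin n → idx) (i j : Fin n → ℕ) (he : Function.Injective e)
    (hij : ∀ k, 1 ≤ i k ∧ 1 ≤ j k ∧ root (e k) = (i k : ℤ) • root a + (j k : ℤ) • root b)
    (hall : ∀ (d : idx) (p q : ℕ), 1 ≤ p → 1 ≤ q → root d = (p : ℤ) • root a + (q : ℤ) • root b → d ∈ Set.range e) :
    ∃ C : Fin n → R, ∀ {B : Type u} [CommRing B] (φ : R →+* B)
      (x y : pt B (Spec.map (CommRingCat.ofHom φ)) ⟶ Red.Ga (Spec (CommRingCat.of R))),
      word (u a) (u b) x y =
        (List.ofFn fun k => gp (Spec.map (CommRingCat.ofHom φ)) (φ (C k) * gv x ^ i k * gv y ^ j k) ≫ u (e k)).prod := by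
  classical
  let S := Spec (CommRingCat.of R)
  haveI := F.hG.1
  haveI := F.hG.2.1
  have hpose : ∀ k, 0 < mu (root (e k)) := fun k => by
    obtain ⟨hi, hj, h⟩ := hij k
    rw [h, map_add, map_zsmul, map_zsmul, smul_eq_mul, smul_eq_mul]
    have h1 : (1 : ℤ) ≤ i k := by omega
    have h2 : (1 : ℤ) ≤ j k := by omega
    nlinarith
  obtain ⟨l, r, hr0, hr⟩ := exists_extend {a | 0 < mu (root a)} e he hpose
  let e' := Fin.append e r
  obtain ⟨U, _, uU, hU⟩ := exists_isU (G := G) (Red.DSmap S mu ≫ c)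
  obtain ⟨zU, hzU⟩ := F.isIso_prod mu e' hr hU
  haveI := hU.2.1
  haveI : Mono uU := Over.mono_of_mono_left _
  haveI : Mono (RedSub.prodMap (Red.Ga S) (n + l) fun k => u (e' k)) := by rw [← hzU]; infer_instance
  -- the universal commutator
  let B₀ := MvPolynomial (Fin 2) R
  let f₀ : Spec (CommRingCat.of B₀) ⟶ S := Spec.map (CommRingCat.ofHom MvPolynomial.C)
  let xg := gp f₀ (MvPolynomial.X 0 : B₀)
  let yg := gp f₀ (MvPolynomial.X 1 : B₀)
  have hmem : word (u a) (u b) xg yg ∈ USub f₀ (Red.DSmap S mu ≫ c) := by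
    have h1 := rootHom_mem_USub' (F.hu a) mu ha xg
    have h2 := rootHom_mem_USub' (F.hu b) mu hb yg
    exact mul_mem (inv_mem h2) (mul_mem (mul_mem h1 h2) (inv_mem h1))
  obtain ⟨z₀, hz₀⟩ := hU.exists_fac_iff.2 hmem
  let y₀ := z₀ ≫ zU.inv
  have hy₀ : y₀ ≫ RedSub.prodMap (Red.Ga S) (n + l) (fun k => u (e' k)) = word (u a) (u b) xg yg := by
    rw [← hzU, Category.assoc, Iso.inv_hom_id_assoc, hz₀]
  let P : Fin (n + l) → B₀ := fun k => gv (y₀ ≫ proj S _ k)
  -- the homogeneity
  let r₂ : Fin 2 → M := ![root a, root b]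
  have hP : ∀ k, scaleHom r₂ (P k) = AddMonoidAlgebra.single (root (e' k)) (P k) := by
    intro k
    have hθ : Spec.map (CommRingCat.ofHom (scaleHom (R := R) r₂)) ≫ f₀ = fL f₀ M := by
      show _ ≫ Spec.map _ = Spec.map _ ≫ Spec.map _
      rw [← Spec.map_comp, ← Spec.map_comp, ← CommRingCat.ofHom_comp, ← CommRingCat.ofHom_comp]
      congr 2
      ext a : 1
      exact MvPolynomial.eval₂Hom_C _ _ _
    obtain ⟨y₁, hy₁⟩ := exists_pow fun k => gp (fL f₀ M) (AddMonoidAlgebra.single (root (e' k)) (P k))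
    have e1 := prodMap_conj (f := fL f₀ M) (fun k => F.hu (e' k)) (xu f₀ M) (qc M f₀ ≫ y₀) y₁ fun k => by
      rw [hy₁, gv_gp, Category.assoc, qc, gv_qm, chv_xu]
      show _ = AddMonoidAlgebra.single _ 1 * AddMonoidAlgebra.single 0 _
      rw [AddMonoidAlgebra.single_mul_single, add_zero, _root_.one_mul]
      rfl
    have e2 : qm (scaleHom (R := R) r₂) hθ ≫ word (u a) (u b) xg yg =
        (xu f₀ M ≫ c) * (qc M f₀ ≫ word (u a) (u b) xg yg) * (xu f₀ M ≫ c)⁻¹ := by
      rw [comp_word, comp_word, conj_word (F.hu a) (F.hu b)]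
      refine congrArg₂ (word (u a) (u b)) (gv_inj ?_) (gv_inj ?_)
      · rw [gv_qm, gv_gp, gv_gp, qc, gv_qm, gv_gp, chv_xu, scaleHom, MvPolynomial.eval₂Hom_X']
        show _ = AddMonoidAlgebra.single _ 1 * AddMonoidAlgebra.single 0 _
        rw [AddMonoidAlgebra.single_mul_single, add_zero, _root_.one_mul]
        rfl
      · rw [gv_qm, gv_gp, gv_gp, qc, gv_qm, gv_gp, chv_xu, scaleHom, MvPolynomial.eval₂Hom_X']
        show _ = AddMonoidAlgebra.single _ 1 * AddMonoidAlgebra.single 0 _
        rw [AddMonoidAlgebra.single_mul_single, add_zero, _root_.one_mul]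
        rfl
    have e3 : qm (scaleHom (R := R) r₂) hθ ≫ y₀ = y₁ := by
      rw [← cancel_mono (RedSub.prodMap (Red.Ga S) (n + l) fun k => u (e' k)), Category.assoc, hy₀, e2, ← hy₀,
        ← e1]
      simp only [y₀, Category.assoc]
      rfl
    have e4 : gv ((qm (scaleHom (R := R) r₂) hθ ≫ y₀) ≫ proj S _ k) = gv (y₁ ≫ proj S _ k) := by rw [e3]
    rw [Category.assoc, gv_qm, hy₁, gv_gp] at e4
    exact e4
  -- a point of the commutator
  have hnat : ∀ {B : Type u} [CommRing B] (φ : R →+* B)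
      (x y : pt B (Spec.map (CommRingCat.ofHom φ)) ⟶ Red.Ga S),
      ∃ w : pt B (Spec.map (CommRingCat.ofHom φ)) ⟶ RedSub.pow (Red.Ga S) (n + l),
        (∀ k, gv (w ≫ proj S _ k) = MvPolynomial.eval₂Hom φ ![gv x, gv y] (P k)) ∧
        w ≫ RedSub.prodMap (Red.Ga S) (n + l) (fun k => u (e' k)) = word (u a) (u b) x y := by
    intro B _ φ x y
    let h : B₀ →+* B := MvPolynomial.eval₂Hom φ ![gv x, gv y]
    have hh : Spec.map (CommRingCat.ofHom h) ≫ f₀ = Spec.map (CommRingCat.ofHom φ) := by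
      rw [← Spec.map_comp, ← CommRingCat.ofHom_comp]
      congr 2
      ext a : 1
      exact MvPolynomial.eval₂Hom_C _ _ _
    refine ⟨qm h hh ≫ y₀, fun k => by rw [Category.assoc, gv_qm], ?_⟩
    rw [Category.assoc, hy₀, comp_word]
    refine congrArg₂ (word (u a) (u b)) (gv_inj ?_) (gv_inj ?_) <;>
      (rw [gv_qm, gv_gp]; exact MvPolynomial.eval₂Hom_X' _ _ _)
  -- the monomials
  have hsupp : ∀ k, ∀ q ∈ (P k).support, q 0 • root a + q 1 • root b = root (e' k) := fun k q hq => by
    have h := support_weight r₂ (hP k) hq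
    rwa [Fin.sum_univ_two] at h
  have hone : ∀ (k : Fin (n + l)) (q q' : Fin 2 →₀ ℕ), q ∈ (P k).support →
      q' 0 • root a + q' 1 • root b = root (e' k) → q = q' := by
    intro k q q' hq hq'
    have h := hsupp k q hq
    rw [← hq'] at h
    obtain ⟨h1, h2⟩ := hli ((q 0 : ℤ) - q' 0) ((q 1 : ℤ) - q' 1) (by
      linear_combination (norm := module) h)
    ext t
    fin_cases t
    · show q 0 = q' 0
      omega
    · show q 1 = q' 1
      omega
  have hedge : ∀ (k : Fin (n + l)) (q : Fin 2 →₀ ℕ), q ∈ (P k).support → 1 ≤ q 0 ∧ 1 ≤ q 1 := by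
    intro k q hq
    have hmono : P k = MvPolynomial.monomial q (MvPolynomial.coeff q (P k)) := by
      have hs : (P k).support = {q} := Finset.eq_singleton_iff_unique_mem.2
        ⟨hq, fun q' hq' => hone k q' q hq' (hsupp k q hq)⟩
      conv_lhs => rw [(P k).as_sum, hs, Finset.sum_singleton]
    by_contra hcon
    let f₁ : Spec (CommRingCat.of (Polynomial R)) ⟶ S := Spec.map (CommRingCat.ofHom Polynomial.C)
    -- restrict to an axis
    have key : ∀ x y : pt (Polynomial R) f₁ ⟶ Red.Ga S, (x = 1 ∨ y = 1) →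
        MvPolynomial.eval₂Hom (Polynomial.C : R →+* Polynomial R) ![gv x, gv y] (P k) = 0 := by
      intro x y hxy
      obtain ⟨w, hw, hw'⟩ := hnat (Polynomial.C : R →+* Polynomial R) x y
      have h1 : word (u a) (u b) x y = 1 := by
        haveI := (F.hu a).1; haveI := (F.hu b).1
        rcases hxy with rfl | rfl <;> simp [word, MonObj.one_comp]
      obtain ⟨w1, hw1⟩ := exists_pow fun _ : Fin (n + l) => (1 : pt (Polynomial R) f₁ ⟶ Red.Ga S)
      have h2 : w = w1 := by
        rw [← cancel_mono (RedSub.prodMap (Red.Ga S) (n + l) fun k => u (e' k))]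
        refine hw'.trans (h1.trans ?_)
        symm
        exact prodMap_eq_one (fun k => F.hu (e' k)) w1 fun k => by rw [hw1, gv_one]
      rw [← hw, h2, hw1, gv_one]
    have hX : ∀ e : ℕ, Polynomial.C (MvPolynomial.coeff q (P k)) * Polynomial.X ^ e = 0 → False := fun e h => by
      have := congrArg (fun p => Polynomial.coeff p e) h
      simp only [Polynomial.coeff_C_mul_X_pow, if_true, Polynomial.coeff_zero] at this
      exact MvPolynomial.mem_support_iff.1 hq this
    by_cases h0 : q 1 = 0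
    · have := key (gp f₁ Polynomial.X) 1 (Or.inr rfl)
      rw [hmono, MvPolynomial.eval₂Hom_monomial, Finsupp.prod_fintype _ _ (fun _ => pow_zero _),
        Fin.prod_univ_two] at this
      simp only [Matrix.cons_val_zero, Matrix.cons_val_one, gv_gp, gv_one, h0, pow_zero, _root_.mul_one] at this
      exact hX _ this
    · have h1 : q 0 = 0 := by omega
      have := key 1 (gp f₁ Polynomial.X) (Or.inl rfl)
      rw [hmono, MvPolynomial.eval₂Hom_monomial, Finsupp.prod_fintype _ _ (fun _ => pow_zero _),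
        Fin.prod_univ_two] at this
      simp only [Matrix.cons_val_zero, Matrix.cons_val_one, gv_gp, gv_one, h1, pow_zero, _root_.one_mul] at this
      exact hX _ this
  let qk : Fin n → (Fin 2 →₀ ℕ) := fun k => Finsupp.equivFunOnFinite.symm ![i k, j k]
  refine ⟨fun k => MvPolynomial.coeff (qk k) (P (Fin.castAdd l k)), fun {B} _ φ x y => ?_⟩
  obtain ⟨w, hw, hw'⟩ := hnat φ x y
  rw [← hw', comp_prodMap_eq, ofFn_split fun k => (w ≫ proj S (n + l) k) ≫ u (e' k), List.prod_append]
  have h2 : (List.ofFn fun k : Fin l => (w ≫ proj S (n + l) (Fin.natAdd n k)) ≫ u (e' (Fin.natAdd n k))).prod = 1 := by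
    refine List.prod_eq_one fun g hg => ?_
    obtain ⟨k, rfl⟩ := List.mem_ofFn.1 hg
    haveI := (F.hu (e' (Fin.natAdd n k))).1
    have h0 : P (Fin.natAdd n k) = 0 := by
      rw [← MvPolynomial.support_eq_empty, Finset.eq_empty_iff_forall_notMem]
      intro q hq
      obtain ⟨hq0, hq1⟩ := hedge _ q hq
      have h := hsupp _ q hq
      simp only [e', Fin.append_right, ← natCast_zsmul] at h
      exact hr0 k (hall (r k) (q 0) (q 1) hq0 hq1 h.symm)
    rw [show w ≫ proj S (n + l) (Fin.natAdd n k) = 1 from gv_inj (by rw [hw, h0, map_zero, gv_one]),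
      MonObj.one_comp]
  rw [h2, _root_.mul_one]
  refine congrArg List.prod (List.ofFn_inj.2 (funext fun k => ?_))
  simp only [e', Fin.append_left]
  congr 1
  refine gv_inj ?_
  rw [gv_gp, hw]
  have hmono : P (Fin.castAdd l k) = MvPolynomial.monomial (qk k) (MvPolynomial.coeff (qk k) (P (Fin.castAdd l k))) := by
    refine MvPolynomial.ext _ _ fun q => ?_
    rw [MvPolynomial.coeff_monomial]
    split_ifs with hq
    · rw [hq]
    · by_contra hne
      refine hq (hone _ q (qk k) (MvPolynomial.mem_support_iff.2 hne) ?_).symm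
      simp [e', qk, Fin.append_left, (hij k).2.2, natCast_zsmul]
  conv_lhs => rw [hmono]
  rw [MvPolynomial.eval₂Hom_monomial, Finsupp.prod_fintype _ _ (fun _ => pow_zero _), Fin.prod_univ_two]
  simp [qk]
  ring

end Affine

section Global

variable {S : Scheme.{u}} {G : Over S} [GrpObj G] {M : Type} [AddCommGroup M] [Module.Free ℤ M] [Module.Finite ℤ M]
  {c : Red.DS S M ⟶ G} {idx : Type} [Fintype idx] {root : idx → M} {u : idx → (Red.Ga S ⟶ G)}

omit [GrpObj G] in
/-- Morphisms over the base are equal when equal at the points over the charts. -/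
theorem hom_ext_charts {X : Over S} (g₁ g₂ : X ⟶ G)
    (h : ∀ (i : S.affineOpenCover.I₀) (B : Type u) [CommRing B] (φ : (S.affineOpenCover.X i : Type u) →+* B)
      (q : pt B (Spec.map (CommRingCat.ofHom φ) ≫ S.affineOpenCover.f i) ⟶ X), q ≫ g₁ = q ≫ g₂) : g₁ = g₂ := by
  refine Over.OverMorphism.ext (Scheme.Cover.hom_ext (S.affineOpenCover.openCover.pullback₁ X.hom) _ _ fun i => ?_)
  refine Scheme.Cover.hom_ext (pullback X.hom (S.affineOpenCover.f i)).affineOpenCover.openCover _ _ fun k => ?_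
  let B : CommRingCat.{u} := (pullback X.hom (S.affineOpenCover.f i)).affineOpenCover.X k
  let p : Spec B ⟶ pullback X.hom (S.affineOpenCover.f i) :=
    (pullback X.hom (S.affineOpenCover.f i)).affineOpenCover.f k
  let φ : (S.affineOpenCover.X i : CommRingCat.{u}) ⟶ B := Spec.preimage (p ≫ pullback.snd _ _)
  let q : pt (B : Type u) (Spec.map (CommRingCat.ofHom φ.hom) ≫ S.affineOpenCover.f i) ⟶ X :=
    Over.homMk (p ≫ pullback.fst _ _) (by
      show (p ≫ pullback.fst X.hom (S.affineOpenCover.f i)) ≫ X.hom = Spec.map φ ≫ _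
      rw [Spec.map_preimage, Category.assoc, Category.assoc, pullback.condition])
  have e : q.left ≫ g₁.left = q.left ≫ g₂.left := by rw [← Over.comp_left, ← Over.comp_left, h i B φ.hom q]
  simp only [← Category.assoc]
  exact e

omit [GrpObj G] in
/-- The points of the additive group over a chart. -/
theorem exists_down_ga [GrpObj G] {S' : Scheme.{u}} (j : S' ⟶ S) {B : Type u} [CommRing B]
    {fa : Spec (CommRingCat.of B) ⟶ S'} {fb : Spec (CommRingCat.of B) ⟶ S} (e : fa ≫ j = fb)
    (x : pt B fb ⟶ Red.Ga S) :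
    ∃ x' : pt B fa ⟶ Red.Ga S', Red.gaFn x' = Red.gaFn x ∧
      ∀ v : Red.Ga S ⟶ G, down j e (x ≫ v) = x' ≫ bcGa j v := by
  let y : (Over.map j).obj (pt B fa) ⟶ Red.Ga S := upId' j e ≫ x
  let x' : pt B fa ⟶ Red.Ga S' := BGaNotS.gaPt (W := pt B fa) (Red.gaFn y :)
  have h0 : Red.gaFn x' = Red.gaFn x := by
    rw [BGaNotS.gaFn_gaPt, BGaNotS.gaFn_comp]
    show (Scheme.Hom.appTop (𝟙 _)) _ = _
    rw [Scheme.Hom.id_appTop]
    rfl
  have hx : (Over.map j).map x' ≫ gaPush j = y := BGaNotS.gaPt_ext (by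
    rw [gaFn_gaPush]
    exact BGaNotS.gaFn_gaPt _)
  refine ⟨x', h0, fun v => ?_⟩
  rw [bcGa_eq, hx, down]
  simp only [y, Category.assoc]

/-- **The commutator formula** over any base. -/
theorem Frame.exists_comm_global (F : Frame c root u) (mu : M →+ ℤ) {a b : idx} (ha : 0 < mu (root a))
    (hb : 0 < mu (root b)) (hli : ∀ x y : ℤ, x • root a + y • root b = 0 → x = 0 ∧ y = 0)
    {n : ℕ} (e : Fin n → idx) (i j : Fin n → ℕ) (he : Function.Injective e)
    (hij : ∀ k, 1 ≤ i k ∧ 1 ≤ j k ∧ root (e k) = (i k : ℤ) • root a + (j k : ℤ) • root b)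
    (hall : ∀ (d : idx) (p q : ℕ), 1 ≤ p → 1 ≤ q → root d = (p : ℤ) • root a + (q : ℤ) • root b → d ∈ Set.range e) :
    ∃! C : Fin n → Γ(S, ⊤), ∀ (X : Over S) (x y : X ⟶ Red.Ga S) (z : Fin n → (X ⟶ Red.Ga S)),
      (∀ k, Red.gaFn (z k) = X.hom.appTop (C k) * Red.gaFn x ^ (i k) * Red.gaFn y ^ (j k)) →
        (x ≫ u a) * (y ≫ u b) * (x ≫ u a)⁻¹ = (y ≫ u b) * (List.ofFn fun k => z k ≫ u (e k)).prod := by
  haveI := F.hG.1
  haveI := F.hG.2.1
  haveI := F.hc.1
  have hpose : ∀ k, 0 < mu (root (e k)) := fun k => by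
    obtain ⟨hi, hj, h⟩ := hij k
    rw [h, map_add, map_zsmul, map_zsmul, smul_eq_mul, smul_eq_mul]
    have h1 : (1 : ℤ) ≤ i k := by omega
    have h2 : (1 : ℤ) ≤ j k := by omega
    nlinarith
  -- the coefficients
  obtain ⟨l, r, hr0, hr⟩ := exists_extend {a | 0 < mu (root a)} e he hpose
  obtain ⟨U, _, uU, hU⟩ := exists_isU (G := G) (Red.DSmap S mu ≫ c)
  obtain ⟨φU, hφU⟩ := F.exists_iso_isU mu _ hr hU
  let e₁ : 𝟙_ (Over S) ⟶ Red.Ga S := BGaNotS.gaPt 1
  obtain ⟨z₁, hz₁⟩ := hU.exists_le (word (u a) (u b) e₁ e₁) fun B _ f q => by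
    rw [comp_word]
    have h1 := rootHom_mem_USub_global (F.hu a) mu ha f (q ≫ e₁)
    have h2 := rootHom_mem_USub_global (F.hu b) mu hb f (q ≫ e₁)
    exact mul_mem (inv_mem h2) (mul_mem (mul_mem h1 h2) (inv_mem h1))
  let w₁ := z₁ ≫ φU.inv
  have hw₁ : w₁ ≫ RedSub.prodMap (Red.Ga S) (n + l) (fun k => u (Fin.append e r k)) = word (u a) (u b) e₁ e₁ := by
    rw [← hφU, Category.assoc, Iso.inv_hom_id_assoc, hz₁]
  let C : Fin n → Γ(S, ⊤) := fun k => Red.gaFn (w₁ ≫ proj S _ (Fin.castAdd l k))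
  refine ⟨C, fun X x y z hz => ?_, fun C' hC' => ?_⟩
  · suffices h : word (u a) (u b) x y = (List.ofFn fun k => z k ≫ u (e k)).prod by
      rw [← h, word, mul_inv_cancel_left]
    refine hom_ext_charts _ _ fun t B _ φ q => ?_
    let A : CommRingCat.{u} := S.affineOpenCover.X t
    let jt : Spec (CommRingCat.of A) ⟶ S := S.affineOpenCover.f t
    have F' := F.bc jt
    haveI : IsMonHom (bcHom' jt c) := isMonHom_bcHom' jt c
    haveI := F'.hG.1
    haveI : IsAffine (Red.bc jt G).left := isAffine_of_isAffineHom (Red.bc jt G).hom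
    obtain ⟨C', hC'⟩ := F'.exists_comm mu ha hb hli e i j he hij hall
    let fa : Spec (CommRingCat.of B) ⟶ Spec (CommRingCat.of A) := Spec.map (CommRingCat.ofHom φ)
    have hdown : ∀ {B : Type u} [CommRing B] (φ : (A : Type u) →+* B)
        (x y : pt B (Spec.map (CommRingCat.ofHom φ) ≫ jt) ⟶ Red.Ga S),
        down jt rfl (word (u a) (u b) x y) =
          (List.ofFn fun k => gp (Spec.map (CommRingCat.ofHom φ))
            (φ (C' k) * (Scheme.ΓSpecIso (CommRingCat.of B)).hom (Red.gaFn x) ^ i k *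
              (Scheme.ΓSpecIso (CommRingCat.of B)).hom (Red.gaFn y) ^ j k) ≫ bcGa jt (u (e k))).prod := by
      intro B _ φ x y
      obtain ⟨x', hx', hx''⟩ := exists_down_ga (G := G) jt (rfl : Spec.map (CommRingCat.ofHom φ) ≫ jt = _) x
      obtain ⟨y', hy', hy''⟩ := exists_down_ga (G := G) jt (rfl : Spec.map (CommRingCat.ofHom φ) ≫ jt = _) y
      have hinv : ∀ g, down jt (rfl : Spec.map (CommRingCat.ofHom φ) ≫ jt = _) (g⁻¹ : _ ⟶ G) =
          (down jt rfl g)⁻¹ := fun g => map_inv (upEquiv jt rfl (G := G)) g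
      have h := hC' φ x' y'
      simp only [gv, hx', hy'] at h
      rw [← h, word, word, down_mul, down_mul, down_mul, hinv, hinv, hx'', hy'']
    -- the coefficient on the chart
    have hC : ∀ k, C' k = (Scheme.ΓSpecIso A).hom (jt.appTop (C k)) := by
      let φ₀ : (A : Type u) →+* (A : Type u) := RingHom.id _
      let o : pt (A : Type u) (Spec.map (CommRingCat.ofHom φ₀) ≫ jt) ⟶ 𝟙_ (Over S) := toUnit _
      have ho : o.left = Spec.map (CommRingCat.ofHom φ₀) ≫ jt := by
        have := Over.w o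
        exact (Category.comp_id _).symm.trans this
      have h1 := hdown φ₀ (o ≫ e₁) (o ≫ e₁)
      rw [← comp_word, ← hw₁, comp_prodMap_eq] at h1
      simp only [e₁, BGaNotS.gaFn_comp, BGaNotS.gaFn_gaPt, map_one, one_pow, _root_.mul_one, φ₀, RingHom.id_apply] at h1
      have hch : ∀ k : Fin (n + l), ∃ z' : pt (A : Type u) (Spec.map (CommRingCat.ofHom φ₀)) ⟶ Red.Ga (Spec A),
          Red.gaFn z' = Red.gaFn (o ≫ (w₁ ≫ proj S (n + l) k)) ∧
          down jt rfl (o ≫ ((w₁ ≫ proj S (n + l) k) ≫ u (Fin.append e r k))) =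
            z' ≫ bcGa jt (u (Fin.append e r k)) := fun k => by
        obtain ⟨z', hz', hz''⟩ := exists_down_ga (G := G) jt (rfl : Spec.map (CommRingCat.ofHom φ₀) ≫ jt = _)
          (o ≫ (w₁ ≫ proj S (n + l) k))
        exact ⟨z', hz', by rw [← hz'']; simp only [Category.assoc]⟩
      choose z' hz' hz'' using hch
      rw [show down jt rfl (o ≫ (List.ofFn fun k => (w₁ ≫ proj S (n + l) k) ≫ u (Fin.append e r k)).prod) =
          (List.ofFn fun k => z' k ≫ bcGa jt (u (Fin.append e r k))).prod by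
        let Φ : (𝟙_ (Over S) ⟶ G) →* (pt (A : Type u) (Spec.map (CommRingCat.ofHom φ₀)) ⟶ Red.bc jt G) :=
          MonoidHom.mk' (fun g => down jt rfl (o ≫ g)) fun g g' => by rw [MonObj.comp_mul, down_mul]
        show Φ _ = _
        rw [map_list_prod, List.map_ofFn]
        exact congrArg List.prod (List.ofFn_inj.2 (funext fun k => hz'' k))] at h1
      have h2 := (prod_append_one (fun a => bcGa jt (u a)) (fun a => (F'.hu a).1) e r
        fun k => gp (Spec.map (CommRingCat.ofHom φ₀)) (C' k)).symm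
      have h3 := F'.prod_inj mu _ hr.1 (fun k => hr.2.subset ⟨k, rfl⟩) _ _ (h1.trans h2)
      intro k
      have h4 := congrFun h3 (Fin.castAdd l k)
      rw [Fin.append_left] at h4
      have h5 := congrArg Red.gaFn h4
      rw [hz', gp, BGaNotS.gaFn_gaPt, BGaNotS.gaFn_comp] at h5
      have h6 := congrArg (Scheme.ΓSpecIso A).hom h5
      rw [ho] at h6
      simp only [φ₀, CommRingCat.ofHom_id, Spec.map_id, Category.id_comp] at h6
      exact ((h6.trans (ConcreteCategory.congr_hom (Scheme.ΓSpecIso A).inv_hom_id (C' k)))).symm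
    refine (upEquiv jt (rfl : fa ≫ jt = _) (G := G)).injective ?_
    show down jt rfl (q ≫ word (u a) (u b) x y) = down jt rfl (q ≫ (List.ofFn fun k => z k ≫ u (e k)).prod)
    rw [comp_word, hdown φ]
    let Φ : (X ⟶ G) →* (pt B fa ⟶ Red.bc jt G) :=
      MonoidHom.mk' (fun g => down jt rfl (q ≫ g)) fun g g' => by rw [MonObj.comp_mul, down_mul]
    show _ = Φ _
    rw [map_list_prod, List.map_ofFn]
    refine congrArg List.prod (List.ofFn_inj.2 (funext fun k => ?_))
    show _ = down jt rfl (q ≫ z k ≫ u (e k))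
    obtain ⟨zk, hzk, hzk'⟩ := exists_down_ga (G := G) jt (rfl : fa ≫ jt = _) (q ≫ z k)
    rw [← Category.assoc, hzk']
    congr 1
    refine gv_inj ?_
    rw [gv_gp, gv, hzk, BGaNotS.gaFn_comp q (z k), hz, map_mul, map_mul, map_pow, map_pow, map_mul, map_mul, map_pow, map_pow,
      BGaNotS.gaFn_comp q x, BGaNotS.gaFn_comp q y, hC]
    congr 2
    rw [← CommRingCat.comp_apply (X.hom.appTop), ← Scheme.Hom.comp_appTop, Over.w q]
    show _ = (Scheme.ΓSpecIso (CommRingCat.of B)).hom ((Spec.map (CommRingCat.ofHom φ) ≫ jt).appTop (C k))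
    rw [Scheme.Hom.comp_appTop, CommRingCat.comp_apply]
    exact (ConcreteCategory.congr_hom (Scheme.ΓSpecIso_naturality (CommRingCat.ofHom φ)) (jt.appTop (C k))).symm
  · -- uniqueness
    let zC : (Fin n → Γ(S, ⊤)) → Fin n → (𝟙_ (Over S) ⟶ Red.Ga S) := fun D k => BGaNotS.gaPt (D k)
    have h1 := hC' (𝟙_ (Over S)) e₁ e₁ (zC C') fun k => by
      simp only [zC, e₁, BGaNotS.gaFn_gaPt, one_pow, _root_.mul_one]
      show C' k = (Scheme.Hom.appTop (𝟙 S)) (C' k)
      rw [Scheme.Hom.id_appTop]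
      rfl
    have h2 : word (u a) (u b) e₁ e₁ = (List.ofFn fun k => zC C' k ≫ u (e k)).prod := by
      rw [word, h1, inv_mul_cancel_left]
    rw [← hw₁, comp_prodMap_eq] at h2
    have h3 := (prod_append_one u (fun a => (F.hu a).1) e r (zC C')).symm
    have h4 := F.prod_inj mu _ hr.1 (fun k => hr.2.subset ⟨k, rfl⟩) _ _ (h2.trans h3)
    funext k
    have h5 := congrFun h4 (Fin.castAdd l k)
    rw [Fin.append_left] at h5
    exact (BGaNotS.gaFn_gaPt (W := 𝟙_ (Over S)) (C' k)).symm.trans (congrArg Red.gaFn h5).symm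

end Global

end Groth.Agent.RootBase
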