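import Groth.Agent.RootBase.ChevSys
import Groth.Agent.RootBase.Closed
import Groth.Agent.RootSys.Weyl
import Groth.Agent.S5457

/-!
# Commutators of an abstract Chevalley system
-/

set_option autoImplicit false
set_option backward.isDefEq.respectTransparency false
set_option linter.style.haveILetI false
set_option maxHeartbeats 1000000
set_option synthInstance.maxHeartbeats 400000

universe u

open CategoryTheory Limits MonoidalCategory CartesianMonoidalCategory MonObj GrpObj AlgebraicGeometry LieS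
open scoped CategoryTheory.Obj

noncomputable section

namespace Groth.Agent.RootBase

open Groth.Agent.HomDiag Groth.Agent.DynPar Groth.Agent.RootSys Groth.Agent.MTBridge

variable {S : Scheme.{u}} {G : Over S} [GrpObj G] {M : Type} [AddCommGroup M]
  {c : Red.DS S M ⟶ G} {idx : Type} {P : RootPairing idx ℤ M (Module.Dual ℤ M)}
  {u v : idx → (Red.Ga S ⟶ G)} {w : idx → (𝟙_ (Over S) ⟶ G)}

/-- The roots which are positive combinations of two roots. -/
def mid (P : RootPairing idx ℤ M (Module.Dual ℤ M)) (r s : idx) : Set idx :=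
  {d | ∃ p q : ℕ, 1 ≤ p ∧ 1 ≤ q ∧ P.root d = (p : ℤ) • P.root r + (q : ℤ) • P.root s}

/-- The commutator of two root groups lies between them. -/
def Compat (P : RootPairing idx ℤ M (Module.Dual ℤ M)) (v : idx → (Red.Ga S ⟶ G)) (r s : idx) : Prop :=
  ∀ (X : Over S) (x y : X ⟶ Red.Ga S), word (v r) (v s) x y ∈ Gam v (mid P r s) X

theorem mid_symm (r s : idx) : mid P r s = mid P s r := by
  ext d
  constructor <;> rintro ⟨p, q, hp, hq, e⟩ <;> exact ⟨q, p, hq, hp, by rw [e, add_comm]⟩

theorem word_swap {va vb : Red.Ga S ⟶ G} [IsMonHom va] [IsMonHom vb] {X : Over S} (x y : X ⟶ Red.Ga S) :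
    word vb va y x = (word va vb x⁻¹ y⁻¹)⁻¹ := by
  simp only [word, GrpObj.inv_comp]; group

theorem Compat.symm {r s : idx} [IsMonHom (v r)] [IsMonHom (v s)] (h : Compat P v r s) : Compat P v s r :=
  fun X y x => by
    rw [word_swap, mid_symm]
    exact inv_mem (h X x⁻¹ y⁻¹)

theorem word_eq_one_of_commute {va vb : Red.Ga S ⟶ G} {X : Over S} (x y : X ⟶ Red.Ga S)
    (h : (x ≫ va) * (y ≫ vb) = (y ≫ vb) * (x ≫ va)) : word va vb x y = 1 := by
  rw [word, h]; group

theorem Compat.of_commute {r s : idx}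
    (h : ∀ (X : Over S) (x y : X ⟶ Red.Ga S), (x ≫ v r) * (y ≫ v s) = (y ≫ v s) * (x ≫ v r)) : Compat P v r s :=
  fun X x y => by rw [word_eq_one_of_commute x y (h X x y)]; exact one_mem _

theorem SMove.unit_cj {N : 𝟙_ (Over S) ⟶ G} {V V' : Red.Ga S ⟶ G} (h : SMove N V V') : SMove 1 (cj N V) V' := by
  obtain ⟨t, ht, e⟩ := h
  exact ⟨t, ht, fun X x => by rw [one_cj, comp_cj, e]⟩

theorem SMove.eq_scl {V V' : Red.Ga S ⟶ G} (h : SMove 1 V V') :
    ∃ t : Γ(S, ⊤), Sgn t ∧ ∀ (X : Over S) (x : X ⟶ Red.Ga S), x ≫ V = scl t x ≫ V' ∧ x ≫ V' = scl t x ≫ V := by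
  obtain ⟨t, ht, e⟩ := h
  refine ⟨t, ht, fun X x => ⟨by rw [← e, one_cj], ?_⟩⟩
  have h1 := e X (scl t x)
  rw [one_cj, scl_scl, ht.sq_eq_one, scl_one] at h1
  exact h1.symm

/-- A commutator formula in root homomorphisms equal up to sign to those of the system. -/
theorem Compat.of_smove {r s : idx} {V W : Red.Ga S ⟶ G} (hr : SMove 1 V (v r)) (hs : SMove 1 W (v s))
    (h : ∀ (X : Over S) (x y : X ⟶ Red.Ga S), word V W x y ∈ Gam v (mid P r s) X) : Compat P v r s := fun X x y => by
  obtain ⟨t, -, e⟩ := hr.eq_scl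
  obtain ⟨t', -, e'⟩ := hs.eq_scl
  have := h X (scl t x) (scl t' y)
  rw [word, ← (e X x).2, ← (e' X y).2] at this
  exact this

theorem mem_Gam_smove {Ψ : Set idx} {d : idx} (hd : d ∈ Ψ) {V : Red.Ga S ⟶ G} (h : SMove 1 V (v d)) {X : Over S}
    (z : X ⟶ Red.Ga S) : z ≫ V ∈ Gam v Ψ X := by
  obtain ⟨t, -, e⟩ := h.eq_scl
  rw [(e X z).1]
  exact Subgroup.subset_closure ⟨d, hd, _, rfl⟩

variable [Module.Free ℤ M] [Module.Finite ℤ M] [Fintype idx] [P.IsReduced] {B : P.Base}

/-- A family of root homomorphisms obtained from the simple ones by the Weyl elements. -/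
structure ChevData (c : Red.DS S M ⟶ G) (P : RootPairing idx ℤ M (Module.Dual ℤ M)) (B : P.Base)
    (u : idx → (Red.Ga S ⟶ G)) (w : idx → (𝟙_ (Over S) ⟶ G)) (v : idx → (Red.Ga S ⟶ G)) : Prop
    extends WeylCore c P B u w where
  simple : ∀ a ∈ B.support, v a = u a
  form : ∀ r, ∃ (l : List idx) (a : idx), (∀ x ∈ l, x ∈ B.support) ∧ a ∈ B.support ∧
    (l.map (RootPairing.Equiv.reflection P)).prod • a = r ∧ v r = cj (l.map w).prod (u a)
  move : ∀ a ∈ B.support, ∀ r, SMove (w a) (v r) (v (P.reflectionPerm a r))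

theorem WeylCore.exists_chevData (H : WeylCore c P B u w) : ∃ v, ChevData c P B u w v := by
  choose l a hl ha hr hs using exists_word_conj B
  refine ⟨fun r => cj ((l r).map w).prod (u (a r)), ⟨H, fun b hb => ?_, fun r => ⟨l r, a r, hl r, ha r, hr r, rfl⟩,
    fun b hb r => ?_⟩⟩
  · obtain ⟨h1, h2⟩ := hs b hb
    beta_reduce
    rw [h1, h2, List.map_nil, List.prod_nil, one_cj]
  · have h := H.smove_conj (l := []) (lb := l r) (l' := l (P.reflectionPerm b r)) (a := b) (by simp) (hl r)
      (hl _) hb (ha r) (ha (P.reflectionPerm b r)) (by rw [hr, hr, List.map_nil, List.prod_nil, one_smul])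
    simpa using h

/-- Three distinct simple roots are independent. -/
theorem li_three {a b e : idx} (ha : a ∈ B.support) (hb : b ∈ B.support) (he : e ∈ B.support) (hab : a ≠ b)
    (hae : a ≠ e) (hbe : b ≠ e) (x y z : ℤ) (h : x • P.root a + y • P.root b + z • P.root e = 0) :
    x = 0 ∧ y = 0 ∧ z = 0 := by
  have hmem3 : ∀ k : Fin 3, ![a, b, e] k ∈ B.support := fun k => by
    fin_cases k; exacts [ha, hb, he]
  have hinj : Function.Injective (![a, b, e] : Fin 3 → idx) := fun k l hkl => by
    fin_cases k <;> fin_cases l <;>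
      first
        | rfl
        | exact absurd hkl hab
        | exact absurd hkl hab.symm
        | exact absurd hkl hae
        | exact absurd hkl hae.symm
        | exact absurd hkl hbe
        | exact absurd hkl hbe.symm
  have hl := Fintype.linearIndependent_iff.1
    ((B.linearIndepOn_root : LinearIndependent ℤ fun a : B.support => P.root a).comp
      (fun k => (⟨![a, b, e] k, hmem3 k⟩ : B.support)) fun k l hkl => hinj (congrArg Subtype.val hkl)) ![x, y, z]
    (by simpa [Fin.sum_univ_three] using h)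
  exact ⟨hl 0, hl 1, hl 2⟩

namespace ChevData

variable (D : ChevData c P B u w v)
include D

theorem hv (r : idx) : Red.IsRootHom c (Red.chi S (P.root r)) (v r) := by
  obtain ⟨l, a, hl, ha, rfl, e⟩ := D.form r
  rw [e]
  exact D.toWeylCore.rootHom_word (D.weyl a ha).hua l hl

theorem smove_word' : ∀ (l : List idx), (∀ x ∈ l, x ∈ B.support) → ∀ r,
    SMove (l.map w).prod (v r) (v ((l.map (RootPairing.Equiv.reflection P)).prod • r))
  | [], _, r => by simpa using SMove.one (v r)
  | a :: l, hl, r => by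
    rw [List.map_cons, List.prod_cons, List.map_cons, List.prod_cons, mul_smul]
    exact (smove_word' l (fun x hx => hl x (List.mem_cons_of_mem _ hx)) r).comp
      (D.move a (hl a List.mem_cons_self) _)

theorem compat_symm {r s : idx} (h : Compat P v r s) : Compat P v s r := by
  haveI := (D.hv r).1; haveI := (D.hv s).1
  exact h.symm

/-- Weyl elements transport the commutators. -/
theorem compat_word {l : List idx} (hl : ∀ x ∈ l, x ∈ B.support) {r s : idx} (h : Compat P v r s) :
    Compat P v ((l.map (RootPairing.Equiv.reflection P)).prod • r)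
      ((l.map (RootPairing.Equiv.reflection P)).prod • s) := by
  intro X x y
  let g := (l.map (RootPairing.Equiv.reflection P)).prod
  obtain ⟨t, ht, e⟩ := D.smove_word' l hl r
  obtain ⟨t', ht', e'⟩ := D.smove_word' l hl s
  have key : ∀ z ∈ Gam v (mid P r s) X, cj (l.map w).prod z ∈ Gam v (mid P (g • r) (g • s)) X := fun z hz => by
    induction hz using Subgroup.closure_induction with
    | mem z hz =>
      obtain ⟨d, ⟨p, q, hp, hq, hd⟩, z, rfl⟩ := hz
      obtain ⟨t'', -, e''⟩ := D.smove_word' l hl d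
      rw [e'']
      refine Subgroup.subset_closure ⟨_, ⟨p, q, hp, hq, ?_⟩, _, rfl⟩
      rw [groot_smul, hd, smul_add, smul_comm g, smul_comm g, groot_smul, groot_smul]
    | one => rw [cj_one]; exact one_mem _
    | mul a b _ _ ha hb => rw [cj_mul]; exact mul_mem ha hb
    | inv a _ ha => rw [cj_inv]; exact inv_mem ha
  have h1 := key _ (h X (scl t x) (scl t' y))
  rw [word, cj_mul, cj_mul, cj_mul, cj_inv, cj_inv, e, e', scl_scl, scl_scl, ht.sq_eq_one, ht'.sq_eq_one,
    scl_one, scl_one] at h1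
  exact h1

/-- **All commutators from those in the planes of two simple roots.** -/
theorem compat_of_base (base : ∀ a ∈ B.support, ∀ b ∈ B.support, a ≠ b → ∀ r s : idx,
      (∃ p q : ℕ, P.root r = (p : ℤ) • P.root a + (q : ℤ) • P.root b) →
      (∃ p q : ℕ, P.root s = (p : ℤ) • P.root a + (q : ℤ) • P.root b) →
      (∀ x y : ℤ, x • P.root r + y • P.root s = 0 → x = 0 ∧ y = 0) → Compat P v r s)
    (r s : idx) (hli : ∀ x y : ℤ, x • P.root r + y • P.root s = 0 → x = 0 ∧ y = 0) : Compat P v r s := by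
  classical
  let p := P.pairing s r
  let q := P.pairing r s
  let D' := 4 - p * q
  have hD : 0 < D' := by have := pairing_mul_lt_four P hli; simp only [D', p, q]; linarith
  let φr : M →+ ℤ := (P.coroot r).toAddMonoidHom
  let φs : M →+ ℤ := (P.coroot s).toAddMonoidHom
  let π : M →+ M := AddMonoidHom.mk'
    (fun x => D' • x - (2 * φr x - p * φs x) • P.root r - (2 * φs x - q * φr x) • P.root s)
    (fun x y => by simp only [map_add, smul_add, mul_add]; module)
  have hπ : ∀ x, D' • x = π x + (2 * φr x - p * φs x) • P.root r + (2 * φs x - q * φr x) • P.root s := fun x => by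
    simp only [π, AddMonoidHom.mk'_apply]; module
  have hπr : π (P.root r) = 0 := by
    simp only [π, AddMonoidHom.mk'_apply, φr, φs, LinearMap.toAddMonoidHom_coe, D.cor, P.pairing_same, D', p, q]
    module
  have hπs : π (P.root s) = 0 := by
    simp only [π, AddMonoidHom.mk'_apply, φr, φs, LinearMap.toAddMonoidHom_coe, D.cor, P.pairing_same, D', p, q]
    module
  obtain ⟨θ, hθ⟩ := DynPar.exists_hom_ne_zero (Finset.univ.image fun e => π (P.root e))
  let lam : M →+ ℤ := θ.comp π
  obtain ⟨μ₀, h₀r, h₀s⟩ := exists_pos_indep P hli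
  obtain ⟨μ₁, hne₁, hpos₁⟩ := exists_hom_perturb (fun e => P.root e) (fun e => P.ne_zero e) μ₀
  let N : ℤ := 1 + ∑ e, |μ₁ (P.root e)|
  have hN : ∀ e, |μ₁ (P.root e)| < N := fun e => by
    have := Finset.single_le_sum (fun d _ => abs_nonneg (μ₁ (P.root d))) (Finset.mem_univ e)
    omega
  let mm : M →+ ℤ := N • lam + μ₁
  have hmm : ∀ e, mm (P.root e) = N * lam (P.root e) + μ₁ (P.root e) := fun e => by
    show N • lam (P.root e) + _ = _
    rw [smul_eq_mul]
  have hsgn : ∀ e, 0 < mm (P.root e) → 0 ≤ lam (P.root e) := fun e he => by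
    by_contra hc
    have h2 := abs_lt.1 (hN e)
    rw [hmm] at he
    nlinarith
  have hreg : ∀ e, mm (P.root e) ≠ 0 := fun e he => by
    rw [hmm] at he
    by_cases h0 : lam (P.root e) = 0
    · rw [h0, mul_zero, zero_add] at he; exact hne₁ e he
    · have h2 := abs_lt.1 (hN e)
      rcases lt_or_gt_of_ne h0 with h | h <;> nlinarith
  obtain ⟨μB, hB, -, hBne⟩ := exists_pos_hom P B
  obtain ⟨g, hg, himg⟩ := RootSys.exists_image_eq
    (S5457.result P μB fun i => ((hBne i).lt_or_gt).symm) (S5457.result P mm fun i => ((hreg i).lt_or_gt).symm)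
  have hlam0 : lam (P.root r) = 0 ∧ lam (P.root s) = 0 := ⟨by show θ _ = 0; rw [hπr, map_zero],
    by show θ _ = 0; rw [hπs, map_zero]⟩
  have hposB : ∀ e, 0 < mm (P.root e) → g⁻¹ • e ∈ RedSub.posRoots P B := fun e he => by
    obtain ⟨i, hi, hie⟩ := himg.symm.subset he
    have : g⁻¹ • e = i := by rw [← hie, inv_smul_smul]
    rw [this]; exact (hB i).1 hi
  let K : Set idx := {a | a ∈ B.support ∧ lam (g • P.root a) = 0}
  have hsimp : ∀ a ∈ B.support, 0 ≤ lam (g • P.root a) := fun a ha => by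
    rw [← groot_smul]
    exact hsgn _ (himg.subset ⟨a, (hB a).2 (AddSubmonoid.subset_closure ⟨a, ha, rfl⟩), rfl⟩)
  have hcl : ∀ x ∈ AddSubmonoid.closure (P.root '' (B.support : Set idx)),
      0 ≤ lam (g • x) ∧ (lam (g • x) = 0 → x ∈ AddSubmonoid.closure (P.root '' K)) := fun x hx => by
    induction hx using AddSubmonoid.closure_induction with
    | mem x hx =>
      obtain ⟨a, ha, rfl⟩ := hx
      exact ⟨hsimp a ha, fun h => AddSubmonoid.subset_closure ⟨a, ⟨ha, h⟩, rfl⟩⟩
    | zero => exact ⟨by rw [smul_zero, map_zero], fun _ => zero_mem _⟩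
    | add x y _ _ hx hy =>
      rw [smul_add, map_add]
      exact ⟨by omega, fun h => add_mem (hx.2 (by omega)) (hy.2 (by omega))⟩
  let r' := g⁻¹ • r
  let s' := g⁻¹ • s
  have hmem : ∀ e, lam (P.root e) = 0 → 0 < mm (P.root e) →
      P.root (g⁻¹ • e) ∈ AddSubmonoid.closure (P.root '' K) := fun e h0 he =>
    (hcl _ (hposB e he)).2 (by rw [← groot_smul, smul_inv_smul, h0])
  have hr' : P.root r' ∈ AddSubmonoid.closure (P.root '' K) :=
    hmem r hlam0.1 (by rw [hmm, hlam0.1, mul_zero, zero_add]; exact hpos₁ r h₀r)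
  have hs' : P.root s' ∈ AddSubmonoid.closure (P.root '' K) :=
    hmem s hlam0.2 (by rw [hmm, hlam0.2, mul_zero, zero_add]; exact hpos₁ s h₀s)
  have hli' : ∀ x y : ℤ, x • P.root r' + y • P.root s' = 0 → x = 0 ∧ y = 0 := fun x y h => hli x y (by
    have h1 := congrArg (g • ·) h
    simp only [smul_add, smul_zero, smul_comm g, ← groot_smul, r', s', smul_inv_smul] at h1
    exact h1)
  -- elements of `K` lie in the plane
  have hplane : ∀ a ∈ K, ∃ A A' : ℤ, D' • P.root a = A • P.root r' + A' • P.root s' := fun a ha => by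
    have h0 : π (g • P.root a) = 0 := by
      by_contra h
      rw [← groot_smul] at h
      exact hθ _ (Finset.mem_image_of_mem _ (Finset.mem_univ _)) h (by
        have := ha.2; rw [← groot_smul] at this; exact this)
    refine ⟨2 * φr (g • P.root a) - p * φs (g • P.root a), 2 * φs (g • P.root a) - q * φr (g • P.root a), ?_⟩
    have h1 := congrArg (g⁻¹ • ·) (hπ (g • P.root a))
    rw [h0, zero_add] at h1
    simp only [smul_add, smul_comm g⁻¹, inv_smul_smul] at h1
    simp only [← groot_smul g⁻¹] at h1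
    exact h1
  obtain ⟨a, ha, b, hb, hab⟩ : ∃ a ∈ K, ∃ b ∈ K, a ≠ b := by
    by_contra h
    push Not at h
    rcases K.eq_empty_or_nonempty with hK | ⟨a, ha⟩
    · rw [hK, Set.image_empty, AddSubmonoid.closure_empty, AddSubmonoid.mem_bot] at hr'
      exact P.ne_zero r' hr'
    · rw [show K = {a} from Set.eq_singleton_iff_unique_mem.2 ⟨ha, fun b hb => (h a ha b hb).symm⟩,
        Set.image_singleton, AddSubmonoid.mem_closure_singleton] at hr' hs'
      obtain ⟨m, hm⟩ := hr'
      obtain ⟨n, hn⟩ := hs'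
      obtain ⟨h1, h2⟩ := hli' (n : ℤ) (-(m : ℤ)) (by
        rw [← hm, ← hn, ← natCast_zsmul, ← natCast_zsmul]; module)
      exact P.ne_zero r' (by rw [← hm, show m = 0 by omega, zero_smul])
  have hK : ∀ e ∈ K, e = a ∨ e = b := by
    intro e he
    by_contra hne
    push Not at hne
    obtain ⟨A₁, B₁, e₁⟩ := hplane a ha
    obtain ⟨A₂, B₂, e₂⟩ := hplane b hb
    obtain ⟨A₃, B₃, e₃⟩ := hplane e he
    have li3 := li_three ha.1 hb.1 he.1 hab hne.1.symm hne.2.symm
    obtain ⟨h1, h2, h3⟩ := li3 ((A₂ * B₃ - A₃ * B₂) * D') ((A₃ * B₁ - A₁ * B₃) * D') ((A₁ * B₂ - A₂ * B₁) * D') (by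
      rw [mul_smul, mul_smul, mul_smul, e₁, e₂, e₃]; module)
    have h4 : A₁ * B₂ - A₂ * B₁ = 0 := (mul_eq_zero.1 h3).resolve_right hD.ne'
    obtain ⟨-, h6, -⟩ := li3 (A₂ * D') (-(A₁ * D')) 0 (by
      rw [neg_smul, mul_smul, mul_smul, e₁, e₂]
      have : A₁ * B₂ = A₂ * B₁ := by linarith
      linear_combination (norm := module) (-(1 : ℤ)) • (this • P.root s'))
    have hA : A₁ = 0 := (mul_eq_zero.1 (neg_eq_zero.1 h6)).resolve_right hD.ne'
    obtain ⟨-, h7, -⟩ := li3 (B₂ * D') (-(B₁ * D')) 0 (by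
      rw [neg_smul, mul_smul, mul_smul, e₁, e₂]
      have : A₁ * B₂ = A₂ * B₁ := by linarith
      linear_combination (norm := module) this • P.root r')
    have hB' : B₁ = 0 := (mul_eq_zero.1 (neg_eq_zero.1 h7)).resolve_right hD.ne'
    rw [hA, hB', zero_smul, zero_smul, add_zero] at e₁
    exact P.ne_zero a ((smul_eq_zero.1 e₁).resolve_left hD.ne')
  have hcomb : ∀ x ∈ AddSubmonoid.closure (P.root '' K), ∃ p q : ℕ, x = (p : ℤ) • P.root a + (q : ℤ) • P.root b :=
    fun x hx => by
      induction hx using AddSubmonoid.closure_induction with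
      | mem x hx =>
        obtain ⟨e, he, rfl⟩ := hx
        rcases hK e he with rfl | rfl
        exacts [⟨1, 0, by simp⟩, ⟨0, 1, by simp⟩]
      | zero => exact ⟨0, 0, by simp⟩
      | add x y _ _ hx hy =>
        obtain ⟨p, q, rfl⟩ := hx
        obtain ⟨p', q', rfl⟩ := hy
        exact ⟨p + p', q + q', by push_cast; module⟩
  obtain ⟨l, hl, hgl⟩ := (baseReflData B).exists_word (base_closure_eq B ▸ hg)
  have h := D.compat_word hl (base a ha.1 b hb.1 hab r' s' (hcomb _ hr') (hcomb _ hs') hli')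
  rwa [hgl, smul_inv_smul, smul_inv_smul] at h

end ChevData

end Groth.Agent.RootBase
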