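import Groth.Agent.RootSys.RootGa
import Groth.Agent.DynPar.Reduce

/-!
# A contracted subgroup with a weight coordinate is a root group, over a ring
-/

set_option autoImplicit false
set_option backward.isDefEq.respectTransparency false
set_option linter.style.haveILetI false
set_option maxHeartbeats 1000000
set_option synthInstance.maxHeartbeats 400000

universe u

open CategoryTheory Limits MonoidalCategory CartesianMonoidalCategory MonObj AlgebraicGeometry LieS
open scoped CategoryTheory.Obj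

noncomputable section

namespace Groth.Agent.RootBase

open Groth.Agent.HomDiag Groth.Agent.DynPar Groth.Agent.RootSys
open Groth.Agent.DynPar.Der (dv uB pl sG)

variable {R : Type u} [CommRing R] {G U : Over (Spec (CommRingCat.of R))} {B : Type u} [CommRing B]
  {f : Spec (CommRingCat.of B) ⟶ Spec (CommRingCat.of R)}

theorem rp_comp (z : pt B f ⟶ U) (p : U ⟶ G) : rp (z ≫ p) = (rp z).comp p.left.appTop.hom := RingHom.ext fun a => by
  show (Scheme.ΓSpecIso (CommRingCat.of B)).hom ((z ≫ p).left.appTop a) = _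
  rw [Over.comp_left, Scheme.Hom.comp_appTop]
  rfl

variable [GrpObj G] [IsAffine G.left] {M : Type} [AddCommGroup M] {c : Red.DS (Spec (CommRingCat.of R)) M ⟶ G}
  [IsMonHom c]

/-- Conjugation by the torus multiplies a weight component by the character. -/
theorem rp_conj_wc (g : pt B f ⟶ Red.DS (Spec (CommRingCat.of R)) M) (x : pt B f ⟶ G) (a : Γ(G.left, ⊤)) (m : M) :
    rp ((g ≫ c) * x * (g ≫ c)⁻¹) (wc c a m) = chv g (Multiplicative.ofAdd m) * rp x (wc c a m) := by
  obtain ⟨θ, hθ, h1, h2⟩ := exists_qm_xu f M (RingHom.id B)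
    (show Spec.map (CommRingCat.ofHom (RingHom.id B)) ≫ f = f by rw [CommRingCat.ofHom_id, Spec.map_id, Category.id_comp]) g
  have e : qm θ hθ ≫ orb f (Red.DSmap _ (AddMonoidHom.id M) ≫ c) x = (g ≫ c) * x * (g ≫ c)⁻¹ := by
    rw [orb_apply, MonObj.comp_mul, MonObj.comp_mul, GrpObj.comp_inv, ← Category.assoc (qm θ hθ) (xu f M),
      h1, ← Category.assoc (qm θ hθ) (qc M f), h2, qm_id, Category.id_comp, DSmap_id, Category.id_comp]
  have hb : θ (AddMonoidAlgebra.single 0 (rp x (wc c a m))) = rp x (wc c a m) := by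
    have h3 := congr(rp ($h2 ≫ x) (wc c a m))
    rw [qm_id, Category.id_comp, Category.assoc, rp_qm, qc, rp_qm, RingHom.comp_apply, RingHom.comp_apply] at h3
    exact h3
  have hg : θ (AddMonoidAlgebra.single m 1) = chv g (Multiplicative.ofAdd m) := by
    rw [← h1, chv_qm, chv_xu]
    rfl
  rw [← e, rp_qm, RingHom.comp_apply, rp_orb_wc, ← hg]
  conv_rhs => rw [← hb, ← map_mul, AddMonoidAlgebra.single_mul_single, add_zero, _root_.one_mul]
  rfl

/-- Contracted points are stable under the torus. -/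
theorem conj_mem_USub (mu : M →+ ℤ) (g : pt B f ⟶ Red.DS (Spec (CommRingCat.of R)) M) {x : pt B f ⟶ G}
    (hx : x ∈ USub f (Red.DSmap (Spec (CommRingCat.of R)) mu ≫ c)) :
    (g ≫ c) * x * (g ≫ c)⁻¹ ∈ USub f (Red.DSmap (Spec (CommRingCat.of R)) mu ≫ c) := by
  obtain ⟨h1, h2⟩ := (mem_USub_iff c mu gens_univ).1 hx
  refine (mem_USub_iff c mu gens_univ).2 ⟨(mem_PSub_iff c mu gens_univ).2 fun a ha m hm => ?_, fun a ha m hm => ?_⟩
  · rw [rp_conj_wc, (mem_PSub_iff c mu gens_univ).1 h1 a ha m hm, mul_zero]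
  · rw [rp_conj_wc, h2 a ha m hm]
    by_cases h0 : m = 0
    · subst h0
      rw [ofAdd_zero, map_one, _root_.one_mul]
    · rw [rp_one_wc c a h0, mul_zero]

theorem exists_conj_fac {mu : M →+ ℤ} [GrpObj U] {u : U ⟶ G}
    (hu : IsU (Red.DSmap (Spec (CommRingCat.of R)) mu ≫ c) u)
    (X : Over (Spec (CommRingCat.of R))) (s : X ⟶ Red.DS (Spec (CommRingCat.of R)) M) (x : X ⟶ U) :
    ∃ x' : X ⟶ U, (s ≫ c) * (x ≫ u) * (s ≫ c)⁻¹ = x' ≫ u := by
  obtain ⟨x', hx'⟩ := hu.exists_le ((s ≫ c) * (x ≫ u) * (s ≫ c)⁻¹) fun B _ f y => by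
    rw [MonObj.comp_mul, MonObj.comp_mul, GrpObj.comp_inv, ← Category.assoc y s, ← Category.assoc y x]
    exact conj_mem_USub mu _ (hu.exists_fac_iff.1 ⟨_, rfl⟩)
  exact ⟨x', hx'.symm⟩

omit [GrpObj G] [IsAffine G.left] in
theorem gaFn_coord (z : pt B f ⟶ U) (t : Γ(U.left, ⊤)) :
    Red.gaFn (z ≫ BGaNotS.gaPt t) = (Scheme.ΓSpecIso (CommRingCat.of B)).inv (rp z t) := by
  rw [BGaNotS.gaFn_comp, BGaNotS.gaFn_gaPt]
  exact (ConcreteCategory.congr_hom (Scheme.ΓSpecIso (CommRingCat.of B)).hom_inv_id _).symm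

section Iso

variable {t : Γ(U.left, ⊤)} [hiso : IsIso (BGaNotS.gaPt t : U ⟶ Red.Ga (Spec (CommRingCat.of R)))]
include hiso

omit [GrpObj G] [IsAffine G.left] in
theorem pt_ext_coord {z z' : pt B f ⟶ U} (h : rp z t = rp z' t) : z = z' := by
  rw [← cancel_mono (BGaNotS.gaPt t : U ⟶ Red.Ga (Spec (CommRingCat.of R)))]
  exact BGaNotS.gaPt_ext (by rw [gaFn_coord, gaFn_coord, h])

omit [GrpObj G] [IsAffine G.left] in
theorem exists_pt_coord {B : Type u} [CommRing B] (f : Spec (CommRingCat.of B) ⟶ Spec (CommRingCat.of R)) (b : B) :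
    ∃ z : pt B f ⟶ U, rp z t = b := by
  let z : pt B f ⟶ U :=
    BGaNotS.gaPt ((Scheme.ΓSpecIso (CommRingCat.of B)).inv b) ≫ inv (BGaNotS.gaPt t : U ⟶ Red.Ga _)
  refine ⟨z, (ConcreteCategory.bijective_of_isIso (Scheme.ΓSpecIso (CommRingCat.of B)).inv).1 ?_⟩
  rw [← gaFn_coord, Category.assoc, IsIso.inv_hom_id, Category.comp_id, BGaNotS.gaFn_gaPt]

variable [GrpObj U] {u : U ⟶ G} {d : M} {a₀ : Γ(G.left, ⊤)}

omit hiso in
/-- The torus multiplies the coordinate by the character. -/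
theorem rp_conj (ha : u.left.appTop (wc c a₀ d) = t) {B : Type u} [CommRing B]
    {f : Spec (CommRingCat.of B) ⟶ Spec (CommRingCat.of R)} (g : pt B f ⟶ Red.DS (Spec (CommRingCat.of R)) M)
    (z z' : pt B f ⟶ U) (hz : (g ≫ c) * (z ≫ u) * (g ≫ c)⁻¹ = z' ≫ u) :
    rp z' t = chv g (Multiplicative.ofAdd d) * rp z t := by
  have hu : ∀ w : pt B f ⟶ U, rp (w ≫ u) (wc c a₀ d) = rp w t := fun w => by
    rw [rp_comp, RingHom.comp_apply, ← ha]
  rw [← hu z', ← hz, rp_conj_wc, hu]

/-- The coordinate is additive. -/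
theorem rp_mul_coord [IsMonHom u] [Module.Free ℤ M] (hd : d ≠ 0) (ha : u.left.appTop (wc c a₀ d) = t)
    (hn : ∀ (X : Over (Spec (CommRingCat.of R))) (s : X ⟶ Red.DS (Spec (CommRingCat.of R)) M)
      (x : X ⟶ U), ∃ x' : X ⟶ U, (s ≫ c) * (x ≫ u) * (s ≫ c)⁻¹ = x' ≫ u) [Mono u]
    {B : Type u} [CommRing B] {f : Spec (CommRingCat.of B) ⟶ Spec (CommRingCat.of R)} (x y : pt B f ⟶ U) :
    rp (x * y) t = rp x t + rp y t := by
  have hone : ∀ {B : Type u} [CommRing B] (f : Spec (CommRingCat.of B) ⟶ Spec (CommRingCat.of R)),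
      rp (1 : pt B f ⟶ U) t = 0 := fun f => by
    rw [← ha, ← RingHom.comp_apply, ← rp_comp, MonObj.one_comp, rp_one_wc c a₀ hd]
  classical
  obtain ⟨ψ, rfl⟩ := Spec.map_surjective f
  let fQ : Spec (CommRingCat.of (MvPolynomial (Fin 2) R)) ⟶ Spec (CommRingCat.of R) := Spec.map (CommRingCat.ofHom MvPolynomial.C)
  obtain ⟨X, hX⟩ := exists_pt_coord (U := U) (t := t) fQ (MvPolynomial.X 0)
  obtain ⟨Y, hY⟩ := exists_pt_coord (U := U) (t := t) fQ (MvPolynomial.X 1)
  set p : (MvPolynomial (Fin 2) R) := rp (X * Y) t with hp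
  -- scaling
  let θ : (MvPolynomial (Fin 2) R) →+* AddMonoidAlgebra (MvPolynomial (Fin 2) R) M := MvPolynomial.eval₂Hom ((cC (MvPolynomial (Fin 2) R) M).comp MvPolynomial.C)
    fun i => AddMonoidAlgebra.single d (MvPolynomial.X i)
  have hθ : Spec.map (CommRingCat.ofHom θ) ≫ fQ = fL fQ M := by
    show _ ≫ Spec.map _ = Spec.map _ ≫ Spec.map _
    rw [← Spec.map_comp, ← Spec.map_comp, ← CommRingCat.ofHom_comp, ← CommRingCat.ofHom_comp]
    congr 2
    ext r : 1
    simp [θ]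
  let g : pt (AddMonoidAlgebra (MvPolynomial (Fin 2) R) M) (fL fQ M) ⟶ Red.DS _ M := xu fQ M
  have hg : chv g (Multiplicative.ofAdd d) = AddMonoidAlgebra.single d 1 := chv_xu fQ M _
  obtain ⟨X', hX'⟩ := hn _ g (qc M fQ ≫ X)
  obtain ⟨Y', hY'⟩ := hn _ g (qc M fQ ≫ Y)
  obtain ⟨P', hP'⟩ := hn _ g (qc M fQ ≫ (X * Y))
  have hmul : P' = X' * Y' := by
    rw [← cancel_mono u, ← hP', MonObj.comp_mul (qc M fQ), MonObj.mul_comp, MonObj.mul_comp, ← hX', ← hY']
    group
  have hval : ∀ (Z : pt (MvPolynomial (Fin 2) R) fQ ⟶ U) (Z' : pt (AddMonoidAlgebra (MvPolynomial (Fin 2) R) M) (fL fQ M) ⟶ U),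
      (g ≫ c) * ((qc M fQ ≫ Z) ≫ u) * (g ≫ c)⁻¹ = Z' ≫ u → rp Z' t = AddMonoidAlgebra.single d (rp Z t) :=
    fun Z Z' h => by
      rw [rp_conj ha g _ Z' h, hg, qc, rp_qm, RingHom.comp_apply]
      show _ * AddMonoidAlgebra.single 0 _ = _
      rw [AddMonoidAlgebra.single_mul_single, add_zero, _root_.one_mul]
  have hX2 : qm θ hθ ≫ X = X' := pt_ext_coord (t := t) (by
    rw [rp_qm, RingHom.comp_apply, hX, hval X X' hX', hX]; simp [θ])
  have hY2 : qm θ hθ ≫ Y = Y' := pt_ext_coord (t := t) (by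
    rw [rp_qm, RingHom.comp_apply, hY, hval Y Y' hY', hY]; simp [θ])
  have hθp : θ p = AddMonoidAlgebra.single d p := by
    rw [hp, ← hval (X * Y) P' hP', hmul, ← hX2, ← hY2, ← MonObj.comp_mul, rp_qm, RingHom.comp_apply]
  -- only linear terms
  have hdeg : ∀ s : Fin 2 →₀ ℕ, s 0 + s 1 ≠ 1 → MvPolynomial.coeff s p = 0 := fun s hs => by
    have hmon : ∀ q : Fin 2 →₀ ℕ, ∀ r : R, θ (MvPolynomial.monomial q r) =
        AddMonoidAlgebra.single ((q 0 + q 1) • d) (MvPolynomial.monomial q r) := fun q r => by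
      have hq : MvPolynomial.monomial q r = MvPolynomial.C r * MvPolynomial.X 0 ^ q 0 * MvPolynomial.X 1 ^ q 1 := by
        rw [MvPolynomial.monomial_eq, Finsupp.prod_fintype _ _ (fun _ => pow_zero _), Fin.prod_univ_two, _root_.mul_assoc]
      rw [hq]
      simp only [θ, map_mul, map_pow, MvPolynomial.eval₂Hom_C, MvPolynomial.eval₂Hom_X', RingHom.comp_apply]
      show AddMonoidAlgebra.single 0 _ * _ * _ = _
      rw [AddMonoidAlgebra.single_pow, AddMonoidAlgebra.single_pow, AddMonoidAlgebra.single_mul_single,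
        AddMonoidAlgebra.single_mul_single, zero_add, ← add_smul]
    have h1 := congr(($hθp).coeff ((s 0 + s 1) • d))
    have hne : (s 0 + s 1) • d ≠ d := fun h => by
      have h' : (((s 0 + s 1 : ℕ) : ℤ) - 1) • d = 0 := by rw [sub_smul, natCast_zsmul, one_smul, h, sub_self]
      have := (smul_eq_zero.1 h').resolve_right hd
      omega
    rw [AddMonoidAlgebra.coeff_single, Finsupp.single_eq_of_ne hne] at h1
    have h2 := congrArg (MvPolynomial.coeff s) h1
    conv_lhs at h2 => rw [p.as_sum, map_sum]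
    rw [AddMonoidAlgebra.coeff_sum, Finsupp.finsetSum_apply, MvPolynomial.coeff_sum, MvPolynomial.coeff_zero] at h2
    by_contra hcs
    rw [Finset.sum_eq_single s (fun q _ hq => by
        rw [hmon, AddMonoidAlgebra.coeff_single, Finsupp.single_apply]
        split_ifs
        · rw [MvPolynomial.coeff_monomial, if_neg hq]
        · exact MvPolynomial.coeff_zero _)
      (fun h => absurd (MvPolynomial.notMem_support_iff.1 h) hcs),
      hmon, AddMonoidAlgebra.coeff_single, Finsupp.single_eq_same, MvPolynomial.coeff_monomial, if_pos rfl] at h2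
    exact hcs h2
  -- the coefficients
  have hspec : ∀ (a b : R), MvPolynomial.eval ![a, b] p = MvPolynomial.coeff (Finsupp.single 0 1) p * a +
      MvPolynomial.coeff (Finsupp.single 1 1) p * b := fun a b => by
    have he : p = MvPolynomial.C (MvPolynomial.coeff (Finsupp.single 0 1) p) * MvPolynomial.X 0 +
        MvPolynomial.C (MvPolynomial.coeff (Finsupp.single 1 1) p) * MvPolynomial.X 1 := by
      refine MvPolynomial.ext _ _ fun s => ?_
      rw [MvPolynomial.coeff_add, MvPolynomial.coeff_C_mul, MvPolynomial.coeff_C_mul, MvPolynomial.coeff_X,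
        MvPolynomial.coeff_X]
      by_cases hs : s 0 + s 1 = 1
      · rcases Nat.add_eq_one_iff.1 hs with ⟨h0, h1⟩ | ⟨h0, h1⟩
        · obtain rfl : s = Finsupp.single 1 1 := by ext i; fin_cases i <;> simp [h0, h1]
          rw [if_neg, if_pos rfl, mul_zero, zero_add, _root_.mul_one]
          intro h; simpa using DFunLike.congr_fun h 0
        · obtain rfl : s = Finsupp.single 0 1 := by ext i; fin_cases i <;> simp [h0, h1]
          rw [if_pos rfl, if_neg, mul_zero, add_zero, _root_.mul_one]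
          intro h; simpa using DFunLike.congr_fun h 1
      · rw [hdeg s hs, if_neg, if_neg, mul_zero, mul_zero, add_zero] <;> rintro rfl <;> simp at hs
    conv_lhs => rw [he]
    simp
  have hev : ∀ (a b : R) (h : Spec.map (CommRingCat.ofHom (MvPolynomial.eval ![a, b])) ≫ fQ =
      Spec.map (CommRingCat.ofHom (RingHom.id R))), rp (qm _ h ≫ X) t = a ∧ rp (qm _ h ≫ Y) t = b := fun a b h => by
    constructor <;> simp [rp_qm, hX, hY]
  have hsp : ∀ (a b : R), Spec.map (CommRingCat.ofHom (MvPolynomial.eval ![a, b])) ≫ fQ =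
      Spec.map (CommRingCat.ofHom (RingHom.id R)) := fun a b => by
    show _ ≫ Spec.map _ = _
    rw [← Spec.map_comp, ← CommRingCat.ofHom_comp]
    congr 2
    ext r
    simp
  have ha1 : MvPolynomial.coeff (Finsupp.single 0 1) p = 1 := by
    have h := hspec 1 0
    rw [mul_zero, add_zero, _root_.mul_one] at h
    rw [← h, hp, ← RingHom.comp_apply, ← rp_qm _ (hsp 1 0), MonObj.comp_mul]
    have hy0 : qm _ (hsp 1 0) ≫ Y = 1 := pt_ext_coord (t := t) (by rw [(hev 1 0 _).2, hone])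
    rw [hy0, _root_.mul_one, (hev 1 0 _).1]
  have hb1 : MvPolynomial.coeff (Finsupp.single 1 1) p = 1 := by
    have h := hspec 0 1
    rw [mul_zero, zero_add, _root_.mul_one] at h
    rw [← h, hp, ← RingHom.comp_apply, ← rp_qm _ (hsp 0 1), MonObj.comp_mul]
    have hx0 : qm _ (hsp 0 1) ≫ X = 1 := pt_ext_coord (t := t) (by rw [(hev 0 1 _).1, hone])
    rw [hx0, _root_.one_mul, (hev 0 1 _).2]
  -- general points
  let φ : (MvPolynomial (Fin 2) R) →+* B := MvPolynomial.eval₂Hom ψ.hom ![rp x t, rp y t]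
  have hφ : Spec.map (CommRingCat.ofHom φ) ≫ fQ = Spec.map ψ := by
    show _ ≫ Spec.map _ = _
    rw [← Spec.map_comp, ← CommRingCat.ofHom_comp]
    congr 1
    ext r
    simp [φ]
  have hx : qm φ hφ ≫ X = x := pt_ext_coord (t := t) (by rw [rp_qm, RingHom.comp_apply, hX]; simp [φ])
  have hy : qm φ hφ ≫ Y = y := pt_ext_coord (t := t) (by rw [rp_qm, RingHom.comp_apply, hY]; simp [φ])
  have hp2 : p = MvPolynomial.X 0 + MvPolynomial.X 1 := by
    refine MvPolynomial.ext _ _ fun s => ?_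
    rw [MvPolynomial.coeff_add, MvPolynomial.coeff_X, MvPolynomial.coeff_X]
    by_cases hs : s 0 + s 1 = 1
    · rcases Nat.add_eq_one_iff.1 hs with ⟨h0, h1⟩ | ⟨h0, h1⟩
      · obtain rfl : s = Finsupp.single 1 1 := by ext i; fin_cases i <;> simp [h0, h1]
        rw [hb1, if_neg, if_pos rfl, zero_add]
        intro h; simpa using DFunLike.congr_fun h 0
      · obtain rfl : s = Finsupp.single 0 1 := by ext i; fin_cases i <;> simp [h0, h1]
        rw [ha1, if_pos rfl, if_neg, add_zero]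
        intro h; simpa using DFunLike.congr_fun h 1
    · rw [hdeg s hs, if_neg, if_neg, add_zero] <;> rintro rfl <;> simp at hs
  conv_lhs => rw [← hx, ← hy, ← MonObj.comp_mul, rp_qm, RingHom.comp_apply, ← hp, hp2]
  simp [φ]

end Iso

/-- **The root homomorphism** of a contracted subgroup with a weight coordinate. -/
theorem exists_isRootHom [Module.Free ℤ M] [GrpObj U] {u : U ⟶ G} {mu : M →+ ℤ}
    (hu : IsU (Red.DSmap (Spec (CommRingCat.of R)) mu ≫ c) u) {d : M} (hd : d ≠ 0) {y : Γ(G.left, ⊤)}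
    (hy : wc c y d = y)
    (hiso : IsIso (BGaNotS.gaPt (u.left.appTop y) : U ⟶ Red.Ga (Spec (CommRingCat.of R)))) :
    ∃ w : Red.Ga (Spec (CommRingCat.of R)) ⟶ G, Red.IsRootHom c (Red.chi _ d) w ∧
      ∃ e : U ≅ Red.Ga (Spec (CommRingCat.of R)), IsMonHom e.hom ∧ e.inv ≫ u = w := by
  let S := Spec (CommRingCat.of R)
  set t := u.left.appTop y with ht
  haveI := hiso
  have ha : u.left.appTop (wc c y d) = t := by rw [hy]
  haveI := hu.1; haveI := hu.2.1
  haveI : Mono u := Over.mono_of_mono_left u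
  have hn := exists_conj_fac hu
  let h : U ⟶ Red.Ga S := BGaNotS.gaPt t
  haveI : IsMonHom h := isMonHom_of_mul h fun X a b => by
    have hh : (fst U U * snd U U) ≫ h = (fst U U ≫ h) * (snd U U ≫ h) := by
      refine hom_ext_pts _ _ fun B _ f z => BGaNotS.gaPt_ext ?_
      rw [MonObj.comp_mul z (fst U U ≫ h), BGaNotS.gaFn_mul, ← Category.assoc, ← Category.assoc, ← Category.assoc,
        gaFn_coord, gaFn_coord, gaFn_coord, MonObj.comp_mul, rp_mul_coord hd ha hn, map_add]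
    have h2 := congr(lift a b ≫ $hh)
    simp only [MonObj.comp_mul, MonObj.mul_comp, ← Category.assoc, lift_fst, lift_snd] at h2
    exact h2
  let e : U ≅ Red.Ga S := asIso h
  haveI : IsMonHom e.hom := ‹IsMonHom h›
  haveI : Mono e.hom := ⟨fun a b hab => by simpa using congrArg (· ≫ e.inv) hab⟩
  haveI : IsMonHom e.inv := MTSplit.isMonHom_of_comp_mono e.inv e.hom (𝟙 _) e.inv_hom_id
  haveI : IsIso e.inv := e.symm.isIso_hom
  haveI : IsIso e.inv.left := inferInstanceAs (IsIso ((Over.forget _).map e.inv))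
  refine ⟨e.inv ≫ u, ⟨inferInstance, by rw [Over.comp_left]; infer_instance, fun X s x => ?_⟩, e, inferInstance, rfl⟩
  refine ⟨BGaNotS.gaPt (Red.gmFn (s ≫ Red.chi S d) * Red.gaFn x), ?_, BGaNotS.gaFn_gaPt _⟩
  obtain ⟨x', hx'⟩ := hn X s (x ≫ e.inv)
  have hx'' : x' ≫ h = BGaNotS.gaPt (Red.gmFn (s ≫ Red.chi S d) * Red.gaFn x) := by
    refine hom_ext_pts _ _ fun B _ f z => BGaNotS.gaPt_ext ?_
    have h1 := rp_conj ha (z ≫ s) ((z ≫ x) ≫ e.inv) (z ≫ x') (by
      have h2 := congrArg (z ≫ ·) hx'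
      simp only [MonObj.comp_mul, GrpObj.comp_inv, Category.assoc] at h2 ⊢
      exact h2)
    have hv : Red.gaFn (z ≫ x) = (Scheme.ΓSpecIso (CommRingCat.of B)).inv (rp ((z ≫ x) ≫ e.inv) t) := by
      rw [← gaFn_coord]
      exact congrArg Red.gaFn (by rw [Category.assoc]; exact ((congrArg ((z ≫ x) ≫ ·) e.inv_hom_id).trans (Category.comp_id _)).symm)
    have hch : (Scheme.ΓSpecIso (CommRingCat.of B)).inv (chv (z ≫ s) (Multiplicative.ofAdd d)) =
        z.left.appTop (Red.gmFn (s ≫ Red.chi S d)) := by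
      rw [RootIntrinsic.gmFn_chi, ← ch_comp]
      exact ConcreteCategory.congr_hom (Scheme.ΓSpecIso (CommRingCat.of B)).hom_inv_id _
    rw [← Category.assoc, gaFn_coord, h1, map_mul, hch, ← hv, BGaNotS.gaFn_comp z, BGaNotS.gaFn_comp z,
      BGaNotS.gaFn_gaPt, map_mul]
  rw [← hx'', Category.assoc, show h ≫ e.inv ≫ u = u from by rw [← Category.assoc, show h ≫ e.inv = 𝟙 U from e.hom_inv_id, Category.id_comp], ← hx', Category.assoc x]

end Groth.Agent.RootBase
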