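import Groth.Agent.RootBase.Closed

/-!
# Coordinates in a positive set of roots with given commutators
-/

set_option autoImplicit false
set_option backward.isDefEq.respectTransparency false
set_option linter.style.haveILetI false
set_option maxHeartbeats 1000000
set_option synthInstance.maxHeartbeats 400000

universe u

open CategoryTheory Limits MonoidalCategory CartesianMonoidalCategory MonObj GrpObj AlgebraicGeometry
open scoped CategoryTheory.Obj

noncomputable section

namespace Groth.Agent.RootBase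

open Groth.Agent.HomDiag Groth.Agent.DynPar Groth.Agent.RootSys

variable {S : Scheme.{u}} {G : Over S} [GrpObj G] {M : Type} [AddCommGroup M]
  {idx : Type} [Fintype idx] {P : RootPairing idx ℤ M (Module.Dual ℤ M)}
  {u : idx → (Red.Ga S ⟶ G)}

/-- A positive set of roots whose commutators climb. -/
structure LevSys (P : RootPairing idx ℤ M (Module.Dual ℤ M)) (u : idx → (Red.Ga S ⟶ G)) (Ψ : Set idx)
    (mu : M →+ ℤ) : Prop where
  hom : ∀ a ∈ Ψ, IsMonHom (u a)
  pos : ∀ a ∈ Ψ, 0 < mu (P.root a)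
  word_mem : ∀ {a b : idx}, a ∈ Ψ → b ∈ Ψ → ∀ {X : Over S} (x y : X ⟶ Red.Ga S),
    word (u a) (u b) x y ∈ Gam u (lev P mu Ψ (mu (P.root a) + mu (P.root b))) X

/-- The higher levels are normal. -/
theorem LevSys.conj_mem {Ψ : Set idx} {mu : M →+ ℤ} (L : LevSys P u Ψ mu) (m : ℤ) {X : Over S} {g h : X ⟶ G} (hg : g ∈ Gam u Ψ X)
    (hh : h ∈ Gam u (lev P mu Ψ m) X) : g * h * g⁻¹ ∈ Gam u (lev P mu Ψ m) X := by
  suffices H : ∀ (a : idx), a ∈ Ψ → ∀ (x : X ⟶ Red.Ga S), ∀ h ∈ Gam u (lev P mu Ψ m) X,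
      (x ≫ u a) * h * (x ≫ u a)⁻¹ ∈ Gam u (lev P mu Ψ m) X by
    refine Subgroup.closure_induction
      (p := fun g _ => ∀ h ∈ Gam u (lev P mu Ψ m) X, g * h * g⁻¹ ∈ Gam u (lev P mu Ψ m) X ∧
        g⁻¹ * h * g ∈ Gam u (lev P mu Ψ m) X) ?_ ?_ ?_ ?_ hg h hh |>.1
    · rintro _ ⟨a, ha, x, rfl⟩ h hh
      haveI := (L.hom a ‹_›)
      refine ⟨H a ha x h hh, ?_⟩
      have := H a ha x⁻¹ h hh
      rwa [GrpObj.inv_comp, _root_.inv_inv] at this
    · intro h hh
      exact ⟨by simpa using hh, by simpa using hh⟩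
    · intro g g' _ _ hg hg' h hh
      constructor
      · have := (hg _ (hg' h hh).1).1
        rwa [show g * g' * h * (g * g')⁻¹ = g * (g' * h * g'⁻¹) * g⁻¹ by group]
      · have := (hg' _ (hg h hh).2).2
        rwa [show (g * g')⁻¹ * h * (g * g') = g'⁻¹ * (g⁻¹ * h * g) * g' by group]
    · intro g _ hg h hh
      exact ⟨by rw [_root_.inv_inv]; exact (hg h hh).2, by rw [_root_.inv_inv]; exact (hg h hh).1⟩
  intro a ha x h hh
  induction hh using Subgroup.closure_induction with
  | mem h hh =>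
    obtain ⟨b, hb, y, rfl⟩ := hh
    rw [show (x ≫ u a) * (y ≫ u b) * (x ≫ u a)⁻¹ = (y ≫ u b) * word (u a) (u b) x y by
      rw [word, mul_inv_cancel_left]]
    exact mul_mem (mem_Gam hb _) (Gam_mono (lev_mono mu Ψ (m := _) (by
      have := L.pos a ha
      have := hb.2
      omega)) X (L.word_mem ha hb.1 x y))
  | one => rw [_root_.mul_one, mul_inv_cancel]; exact one_mem _
  | mul g g' _ _ hg hg' =>
    rw [show (x ≫ u a) * (g * g') * (x ≫ u a)⁻¹ =
      ((x ≫ u a) * g * (x ≫ u a)⁻¹) * ((x ≫ u a) * g' * (x ≫ u a)⁻¹) by group]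
    exact mul_mem hg hg'
  | inv g _ hg =>
    rw [show (x ≫ u a) * g⁻¹ * (x ≫ u a)⁻¹ = ((x ≫ u a) * g * (x ≫ u a)⁻¹)⁻¹ by group]
    exact inv_mem hg

/-- The lowest level is central modulo the next one. -/
theorem LevSys.comm_mem {Ψ : Set idx} {mu : M →+ ℤ} (L : LevSys P u Ψ mu) (m : ℤ) {X : Over S} {g h : X ⟶ G} (hg : g ∈ Gam u Ψ X)
    (hh : h ∈ Gam u (lev P mu Ψ m) X) : h⁻¹ * g * h * g⁻¹ ∈ Gam u (lev P mu Ψ (m + 1)) X := by
  have hN : ∀ {k n : X ⟶ G}, k ∈ Gam u Ψ X → n ∈ Gam u (lev P mu Ψ (m + 1)) X →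
      k * n * k⁻¹ ∈ Gam u (lev P mu Ψ (m + 1)) X := fun hk hn => L.conj_mem _ hk hn
  suffices H : ∀ (a : idx), a ∈ Ψ → ∀ (x : X ⟶ Red.Ga S), ∀ h ∈ Gam u (lev P mu Ψ m) X,
      h⁻¹ * (x ≫ u a) * h * (x ≫ u a)⁻¹ ∈ Gam u (lev P mu Ψ (m + 1)) X by
    induction hg using Subgroup.closure_induction with
    | mem g hg => obtain ⟨a, ha, x, rfl⟩ := hg; exact H a ha x h hh
    | one => rw [_root_.mul_one, inv_mul_cancel, inv_one, _root_.mul_one]; exact one_mem _
    | mul g g' hgm _ hg hg' =>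
      rw [show h⁻¹ * (g * g') * h * (g * g')⁻¹ =
        (h⁻¹ * g * h * g⁻¹) * (g * (h⁻¹ * g' * h * g'⁻¹) * g⁻¹) by group]
      exact mul_mem hg (hN hgm hg')
    | inv g hgm hg =>
      have := hN (inv_mem hgm) (inv_mem hg)
      rwa [show h⁻¹ * g⁻¹ * h * g⁻¹⁻¹ = g⁻¹ * (h⁻¹ * g * h * g⁻¹)⁻¹ * g⁻¹⁻¹ by group]
  intro a ha x h hh
  have hsub : Gam u (lev P mu Ψ m) X ≤ Gam u Ψ X := Gam_mono (lev_subset mu Ψ m) X
  induction hh using Subgroup.closure_induction with
  | mem h hh =>
    obtain ⟨b, hb, y, rfl⟩ := hh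
    rw [_root_.mul_assoc, _root_.mul_assoc, ← _root_.mul_assoc (x ≫ u a)]
    show word (u a) (u b) x y ∈ _
    exact Gam_mono (lev_mono mu Ψ (m := _) (by
      have := L.pos a ha
      have := hb.2
      omega)) X (L.word_mem ha hb.1 x y)
  | one => rw [inv_one, _root_.one_mul, _root_.mul_one, mul_inv_cancel]; exact one_mem _
  | mul g g' hgm hgm' hg hg' =>
    rw [show (g * g')⁻¹ * (x ≫ u a) * (g * g') * (x ≫ u a)⁻¹ =
      (g'⁻¹ * (g⁻¹ * (x ≫ u a) * g * (x ≫ u a)⁻¹) * g'⁻¹⁻¹) * (g'⁻¹ * (x ≫ u a) * g' * (x ≫ u a)⁻¹) by group]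
    exact mul_mem (hN (inv_mem (hsub hgm')) hg) hg'
  | inv g hgm hg =>
    have := hN (hsub hgm) (inv_mem hg)
    rwa [show g⁻¹⁻¹ * (x ≫ u a) * g⁻¹ * (x ≫ u a)⁻¹ = g * (g⁻¹ * (x ≫ u a) * g * (x ≫ u a)⁻¹)⁻¹ * g⁻¹ by group]

/-- **A closed set spans in any order.** -/
theorem LevSys.exists_coord {Ψ : Set idx} {mu : M →+ ℤ} (L : LevSys P u Ψ mu) {n : ℕ} (e : Fin n → idx) (he : RedSub.Enumerates Ψ e)
    {X : Over S} {g : X ⟶ G} (hg : g ∈ Gam u Ψ X) :
    ∃ z : Fin n → (X ⟶ Red.Ga S), (List.ofFn fun k => z k ≫ u (e k)).prod = g := by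
  classical
  have heΨ : ∀ k, e k ∈ Ψ := fun k => he.2.subset ⟨k, rfl⟩
  have key : ∀ m : ℕ, ∃ z : Fin n → (X ⟶ Red.Ga S),
      ((List.ofFn fun k => z k ≫ u (e k)).prod)⁻¹ * g ∈ Gam u (lev P mu Ψ (m + 1)) X := by
    intro m
    induction m with
    | zero =>
      refine ⟨fun _ => 1, ?_⟩
      rw [show (List.ofFn fun k => (1 : X ⟶ Red.Ga S) ≫ u (e k)).prod = 1 from
        List.prod_eq_one fun x hx => by
          obtain ⟨k, rfl⟩ := List.mem_ofFn.1 hx
          haveI := (L.hom _ (heΨ k))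
          exact MonObj.one_comp _, inv_one, _root_.one_mul]
      exact Gam_mono (subset_lev mu Ψ fun a ha => by have := L.pos a ha; omega) X hg
    | succ m ih =>
      obtain ⟨z, hz⟩ := ih
      let Γ := Gam u Ψ X
      let N : Subgroup Γ := (Gam u (lev P mu Ψ ((m : ℤ) + 1 + 1)) X).subgroupOf Γ
      haveI : N.Normal := ⟨fun h hh g => L.conj_mem _ g.2 hh⟩
      let π := QuotientGroup.mk' N
      have hcen : ∀ (h : Γ), (h : X ⟶ G) ∈ Gam u (lev P mu Ψ ((m : ℤ) + 1)) X → ∀ q, Commute (π h) q := by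
        intro h hh q
        obtain ⟨g', rfl⟩ := QuotientGroup.mk'_surjective N q
        show π h * π g' = π g' * π h
        rw [← map_mul, ← map_mul]
        refine (QuotientGroup.mk'_eq_mk' N).2 ⟨g'⁻¹ * h⁻¹ * g' * h, ?_, by group⟩
        have h1 := L.comm_mem _ g'.2 hh
        have h2 := L.conj_mem _ (inv_mem g'.2) h1
        rw [Subgroup.mem_subgroupOf]
        simp only [Subgroup.coe_mul, Subgroup.coe_inv]
        rwa [show (g' : X ⟶ G)⁻¹ * (h : X ⟶ G)⁻¹ * g' * h =
          (g' : X ⟶ G)⁻¹ * ((h : X ⟶ G)⁻¹ * g' * h * (g' : X ⟶ G)⁻¹) * (g' : X ⟶ G)⁻¹⁻¹ by group]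
      let el : ∀ k, (X ⟶ Red.Ga S) → Γ := fun k x => ⟨x ≫ u (e k), mem_Gam (heΨ k) x⟩
      have hel : ∀ k x y, el k (x * y) = el k x * el k y := fun k x y => by
        haveI := (L.hom _ (heΨ k))
        exact Subtype.ext (MonObj.mul_comp x y (u (e k)))
      have hone : ∀ k, el k 1 = 1 := fun k => by
        haveI := (L.hom _ (heΨ k))
        exact Subtype.ext (MonObj.one_comp _)
      let pr : (Fin n → (X ⟶ Red.Ga S)) → Γ := fun z => (List.ofFn fun k => el k (z k)).prod
      have hpr : ∀ z, (pr z : X ⟶ G) = (List.ofFn fun k => z k ≫ u (e k)).prod := fun z => by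
        show Γ.subtype _ = _
        rw [map_list_prod, List.map_ofFn]
        rfl
      let Sup : (Fin n → (X ⟶ Red.Ga S)) → Prop := fun x => ∀ k, x k = 1 ∨ (m : ℤ) + 1 ≤ mu (P.root (e k))
      have hpm : ∀ z x, Sup x → π (pr fun k => z k * x k) = π (pr z) * π (pr x) := by
        intro z x hx
        show π (List.ofFn fun k => el k (z k * x k)).prod = _
        simp only [pr, map_list_prod, List.map_ofFn]
        rw [show (π ∘ fun k => el k (z k * x k)) = fun k => π (el k (z k)) * π (el k (x k)) from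
          funext fun k => by show π (el k (z k * x k)) = _; rw [hel, map_mul]]
        refine prod_mul_of_commute _ _ fun k q => ?_
        rcases hx k with h | h
        · show Commute (π (el k (x k))) q
          rw [h, hone, map_one]; exact Commute.one_left q
        · exact hcen (el k (x k)) (mem_Gam (show e k ∈ lev P mu Ψ ((m : ℤ) + 1) from ⟨heΨ k, h⟩) _) q
      have hr : ∀ r (hr : r ∈ Gam u (lev P mu Ψ ((m : ℤ) + 1)) X), ∃ x, Sup x ∧
          π ⟨r, Gam_mono (lev_subset mu Ψ _) X hr⟩ = π (pr x) := by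
        intro r hr
        have h0 : π (pr fun _ => 1) = 1 := by
          show π (List.ofFn fun k => el k 1).prod = 1
          rw [List.prod_eq_one fun x hx => by obtain ⟨k, rfl⟩ := List.mem_ofFn.1 hx; exact hone k, map_one]
        induction hr using Subgroup.closure_induction with
        | mem r hr =>
          obtain ⟨b, hb, y, rfl⟩ := hr
          obtain ⟨k, rfl⟩ := he.2.symm.subset hb.1
          refine ⟨Function.update (fun _ => 1) k y, fun l => ?_, ?_⟩
          · by_cases hl : l = k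
            · subst hl; exact Or.inr hb.2
            · exact Or.inl (Function.update_of_ne hl _ _)
          · congr 1
            refine Subtype.ext ?_
            rw [hpr]
            show y ≫ u (e k) = _
            have h1 : (List.ofFn fun l => (Function.update (fun _ => (1 : X ⟶ Red.Ga S)) k y l) ≫ u (e l)) =
                List.ofFn (Function.update (fun _ => (1 : X ⟶ G)) k (y ≫ u (e k))) := by
              congr 1
              funext l
              by_cases hl : l = k
              · subst hl; rw [Function.update_self, Function.update_self]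
              · haveI := (L.hom _ (heΨ l))
                rw [Function.update_of_ne hl, Function.update_of_ne hl]
                exact MonObj.one_comp _
            rw [h1, prod_ofFn_single _ k fun l hl => Function.update_of_ne hl _ _, Function.update_self]
        | one => exact ⟨fun _ => 1, fun k => Or.inl rfl, by rw [h0]; exact map_one π⟩
        | mul r r' hrm hrm' h1 h2 =>
          obtain ⟨x, hx, e1⟩ := h1
          obtain ⟨x', hx', e2⟩ := h2
          refine ⟨fun k => x k * x' k, fun k => ?_, ?_⟩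
          · rcases hx k with h | h
            · rcases hx' k with h' | h'
              · exact Or.inl (show x k * x' k = 1 by rw [h, h', _root_.one_mul])
              · exact Or.inr h'
            · exact Or.inr h
          · rw [hpm x x' hx', ← e1, ← e2, ← map_mul]
            rfl
        | inv r hrm h1 =>
          obtain ⟨x, hx, e1⟩ := h1
          have hx' : Sup fun k => (x k)⁻¹ := fun k => (hx k).imp_left fun h => by
            show (x k)⁻¹ = 1
            rw [h, inv_one]
          refine ⟨fun k => (x k)⁻¹, hx', ?_⟩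
          have h2 := hpm x (fun k => (x k)⁻¹) hx'
          simp only [mul_inv_cancel] at h2
          rw [h0] at h2
          rw [eq_inv_of_mul_eq_one_right h2.symm, ← e1, ← map_inv]
          rfl
      obtain ⟨x, hx, e1⟩ := hr _ hz
      refine ⟨fun k => z k * x k, ?_⟩
      have h2 : π (pr fun k => z k * x k) = π ⟨g, hg⟩ := by
        rw [hpm z x hx, ← e1, ← map_mul]
        congr 1
        refine Subtype.ext ?_
        show (pr z : X ⟶ G) * _ = g
        rw [hpr, mul_inv_cancel_left]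
      have h3 := (QuotientGroup.mk'_eq_mk' N).1 h2
      obtain ⟨w, hw, hw'⟩ := h3
      have h4 : ((List.ofFn fun k => (z k * x k) ≫ u (e k)).prod)⁻¹ * g = (w : X ⟶ G) := by
        rw [← hpr, inv_mul_eq_iff_eq_mul]
        exact (congrArg Subtype.val hw').symm
      rw [h4]
      exact_mod_cast hw
  obtain ⟨z, hz⟩ := key (∑ k, (mu (P.root (e k))).toNat + 1)
  refine ⟨z, ?_⟩
  have h0 : lev P mu Ψ (((∑ k, (mu (P.root (e k))).toNat + 1 : ℕ) : ℤ) + 1) = ∅ := by
    refine Set.eq_empty_iff_forall_notMem.2 fun a ⟨ha, hle⟩ => ?_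
    obtain ⟨k, rfl⟩ := he.2.symm.subset ha
    have h1 : (mu (P.root (e k))).toNat ≤ ∑ k, (mu (P.root (e k))).toNat :=
      Finset.single_le_sum (f := fun k => (mu (P.root (e k))).toNat) (fun _ _ => Nat.zero_le _) (Finset.mem_univ k)
    omega
  rw [h0, Gam, show {g : X ⟶ G | ∃ a ∈ (∅ : Set idx), ∃ x : X ⟶ Red.Ga S, g = x ≫ u a} = ∅ from
    Set.eq_empty_iff_forall_notMem.2 fun g ⟨a, ha, _⟩ => ha, Subgroup.closure_empty, Subgroup.mem_bot] at hz
  exact (inv_mul_eq_one.1 hz)

end Groth.Agent.RootBase
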