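import Groth.Agent.RootBase.SymMain
import Groth.Agent.RootBase.LeviComb
import Groth.Agent.RootBase.ParabStd
import Groth.Agent.Chev.SolvTorus
import Groth.Agent.Chev.CentralMT
import Groth.Agent.Chev.CharQuot
import Groth.Agent.RootIntrinsic.Weyl
import Groth.Agent.RedCartan.Global
import Groth.Agent.S5523
import Groth.Agent.S5550

/-!
# The maximal central torus of a subgroup of type (R) with symmetric roots
-/

set_option autoImplicit false
set_option backward.isDefEq.respectTransparency false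
set_option linter.style.haveILetI false
set_option maxHeartbeats 2000000
set_option synthInstance.maxHeartbeats 400000

universe u

open CategoryTheory Limits MonoidalCategory CartesianMonoidalCategory MonObj GrpObj AlgebraicGeometry
open scoped CategoryTheory.Obj

noncomputable section

namespace Groth.Agent.RootBase

open Groth.Agent.HomDiag Groth.Agent.MTBridge
open Groth.Agent.DynPar (bcHom' ej ejPt isMonHom_ej isIso_ej DSmap_ej isMonHom_map')

/-- The projection of a lattice killing exactly the saturation of a sublattice. -/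
theorem exists_sat_proj {M : Type} [AddCommGroup M] [Module.Finite ℤ M] (N : Submodule ℤ M) :
    ∃ (r : ℕ) (π : M →+ (Fin r → ℤ)), Function.Surjective π ∧ ∀ m, π m = 0 ↔ ∃ n : ℤ, n ≠ 0 ∧ n • m ∈ N := by
  let Q := (M ⧸ N) ⧸ Submodule.torsion ℤ (M ⧸ N)
  let φ := (Module.finBasis ℤ Q).equivFun.toAddEquiv
  let p := ((Submodule.torsion ℤ (M ⧸ N)).mkQ ∘ₗ N.mkQ).toAddMonoidHom
  refine ⟨_, φ.toAddMonoidHom.comp p,
    φ.surjective.comp ((Submodule.mkQ_surjective _).comp (Submodule.mkQ_surjective _)), fun m => ?_⟩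
  rw [AddMonoidHom.comp_apply]
  refine φ.map_eq_zero_iff.trans ?_
  show (Submodule.torsion ℤ _).mkQ (N.mkQ m) = 0 ↔ _
  rw [Submodule.mkQ_apply, Submodule.Quotient.mk_eq_zero, Submodule.mem_torsion_iff]
  constructor
  · rintro ⟨n, hn⟩
    refine ⟨(n : ℤ), nonZeroDivisors.ne_zero n.2, ?_⟩
    rw [← Submodule.Quotient.mk_eq_zero, Submodule.Quotient.mk_smul]
    exact hn
  · rintro ⟨n, hn, hm⟩
    exact ⟨⟨n, mem_nonZeroDivisors_of_ne_zero hn⟩, by
      rwa [Submonoid.smul_def, Submodule.mkQ_apply, ← Submodule.Quotient.mk_smul, Submodule.Quotient.mk_eq_zero]⟩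

variable {S : Scheme.{u}} [ConnectedSpace S] {G H : Over S} [GrpObj G] [GrpObj H]

/-- The centraliser of a subtorus of the torus and its roots. -/
theorem centralizer_roots (D : Red.SplitRed G) {r : ℕ}
    (π : (letI := D.acgM; D.M →+ (Fin r → ℤ))) (hπs : Function.Surjective π) :
    letI := D.grpT
    letI := D.acgM
    ∃ (Z : Over S) (_ : GrpObj Z) (z : Z ⟶ G) (tZ : D.T ⟶ Z),
      Red.IsCentralizerOf (Red.DSmap S π ≫ D.split.inv.hom.hom ≫ D.i) z ∧ RedSub.IsTypeR z ∧ tZ ≫ z = D.i ∧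
      ∀ a, (∃ v : Red.Ga S ⟶ Z, v ≫ z = D.u a) ↔ π (D.P.root a) = 0 := by
  letI := D.grpT
  letI := D.acgM
  letI := D.fintypeIdx
  letI := D.finiteM
  letI := D.freeM
  obtain ⟨c, hc, F⟩ : ∃ c : Red.DS S D.M ⟶ G, D.split.inv.hom.hom ≫ D.i = c ∧ Frame c D.P.root D.u :=
    ⟨_, rfl, frame_of_splitRed D⟩
  rw [hc]
  haveI := F.hc.1; haveI := F.hc.2.1
  haveI : IsMonHom (Red.DSmap S π) := MTQuot.isMonHom_DSmap π
  haveI : Mono (Red.DSmap S π) := LieWeight.mono_DSmap π hπs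
  haveI : Mono (Red.DSmap S π ≫ c) := mono_comp _ _
  obtain ⟨Z, _, z, hz, hzR, -⟩ := S5550.result D.reductive (Red.DSmap S π ≫ c) (MTCentre.isTorus_DS_scheme S _)
  obtain ⟨tZ, htZ⟩ := (hz.2.2 _ D.i).2 fun X x d => by
    have he : D.split.hom.hom.hom ≫ c = D.i := by
      rw [← hc, ← Category.assoc, show D.split.hom.hom.hom ≫ D.split.inv.hom.hom = 𝟙 _ from
        congrArg (fun f => f.hom.hom) D.split.hom_inv_id, Category.id_comp]
    rw [← he, ← Category.assoc x, ← Category.assoc d, ← MonObj.mul_comp, ← MonObj.mul_comp,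
      show (x ≫ D.split.hom.hom.hom) * (d ≫ Red.DSmap S π) = (d ≫ Red.DSmap S π) * (x ≫ D.split.hom.hom.hom) from
        ch_ext fun m => by rw [ch_mul, ch_mul, mul_comm]]
  refine ⟨Z, inferInstance, z, tZ, hz, hzR, htZ, fun a => ⟨?_, fun h0 => ?_⟩⟩
  · rintro ⟨v, hv⟩
    obtain ⟨s⟩ : Nonempty S := inferInstance
    obtain ⟨x, w, hxw, hx⟩ := inFib_of_fac_split D z ⟨v, hv⟩ s
    refine weight_eq_zero_of_comm (F.hu a) π x hx fun d => ?_
    have h1 := (hz.2.2 _ (x ≫ D.u a)).1 ⟨x ≫ v, by rw [Category.assoc, hv]⟩ _ (𝟙 _) d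
    rwa [Category.id_comp] at h1
  · refine (hz.2.2 _ (D.u a)).2 fun X x d => ?_
    obtain ⟨y, hy, hy'⟩ := (F.hu a).2.2 X (d ≫ Red.DSmap S π) x
    have hyx : y = x := BGaNotS.gaPt_ext (by
      rw [hy', RootIntrinsic.gmFn_chi, ch_DSmap, toAdd_ofAdd, h0, ofAdd_zero, map_one, _root_.one_mul])
    rw [hyx, Category.assoc] at hy
    exact (eq_mul_inv_iff_mul_eq.1 hy).symm ▸ rfl

/-- **The torus killed by the roots is the largest torus of the centre.** -/
theorem central_data (D : Red.SplitRed G) (h : H ⟶ G) (hH : RedSub.IsTypeR h) (t : D.T ⟶ H) (ht : t ≫ h = D.i)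
    (R' : Set D.idx) (hR' : ∀ a : D.idx, (∃ v : Red.Ga S ⟶ H, v ≫ h = D.u a) ↔ a ∈ R') {r : ℕ}
    (π : (letI := D.acgM; D.M →+ (Fin r → ℤ))) (hπs : Function.Surjective π)
    (hπ0 : letI := D.acgM; ∀ m, π m = 0 ↔ ∃ n : ℤ, n ≠ 0 ∧ n • m ∈ Submodule.span ℤ (D.P.root '' R'))
    {ZH : Over S} [GrpObj ZH] (jH : ZH ⟶ H) (hZ : Red.IsCentre jH) :
    letI := D.grpT
    letI := D.acgM
    ∃ qZ : Red.DS S (Fin r → ℤ) ⟶ ZH, IsMonHom qZ ∧ Mono qZ ∧
      qZ ≫ jH ≫ h = Red.DSmap S π ≫ D.split.inv.hom.hom ≫ D.i ∧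
      ∀ (s : S) (T' : Over (Spec (CommRingCat.of (AlgebraicClosure (S.residueField s))))) [GrpObj T']
        (j : T' ⟶ Red.geomFibre s ZH) [IsMonHom j], Red.IsTorus T' →
        ∃ g : T' ⟶ Red.geomFibre s (Red.DS S (Fin r → ℤ)), g ≫ (Over.pullback (Red.geomPt s)).map qZ = j := by
  letI := D.grpT
  letI := D.acgM
  letI := D.fintypeIdx
  letI := D.finiteM
  letI := D.freeM
  obtain ⟨c, hc, F⟩ : ∃ c : Red.DS S D.M ⟶ G, D.split.inv.hom.hom ≫ D.i = c ∧ Frame c D.P.root D.u :=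
    ⟨_, rfl, frame_of_splitRed D⟩
  obtain ⟨Z, _, z, tZ, hz, hzR, htZ, hroots⟩ := centralizer_roots D π hπs
  rw [hc] at hz
  rw [hc]
  obtain ⟨⟨i1, i2⟩, -, -, -, -⟩ := id hH
  haveI := i1; haveI := i2
  haveI : Mono h := Over.mono_of_mono_left h
  haveI := F.hc.1; haveI := F.hc.2.1
  have hhom : D.split.hom.hom.hom ≫ c = D.i := by
    rw [← hc, ← Category.assoc, show D.split.hom.hom.hom ≫ D.split.inv.hom.hom = 𝟙 _ from
      congrArg (fun f => f.hom.hom) D.split.hom_inv_id, Category.id_comp]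
  obtain ⟨cH, hcH⟩ : ∃ cH : Red.DS S D.M ⟶ H, cH ≫ h = c :=
    ⟨D.split.inv.hom.hom ≫ t, by rw [Category.assoc, ht, hc]⟩
  haveI := hZ.1; haveI := hZ.2.1
  haveI : Mono (jH ≫ h) := mono_comp _ _
  -- the subgroup centralises the torus
  obtain ⟨f, hf⟩ := (S5523.result D h hH t ht R' hR' z hzR tZ htZ {a | π (D.P.root a) = 0} hroots).2 fun a ha =>
    (hπ0 _).2 ⟨1, one_ne_zero, by rw [one_smul]; exact Submodule.subset_span ⟨a, ha, rfl⟩⟩
  obtain ⟨qZ, hqZ⟩ := (hZ.2.2 _ (Red.DSmap S π ≫ cH)).2 fun X x y => by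
    rw [← cancel_mono h]
    simp only [MonObj.mul_comp, Category.assoc, Category.comp_id, hcH]
    have h1 := (hz.2.2 _ (y ≫ h)).1 ⟨y ≫ f, by rw [Category.assoc, hf]⟩ X (𝟙 X) x
    rw [Category.id_comp] at h1
    simpa only [Category.assoc] using h1.symm
  have hq : qZ ≫ jH ≫ h = Red.DSmap S π ≫ c := by rw [reassoc_of% hqZ, hcH]
  haveI : IsMonHom (Red.DSmap S π) := MTQuot.isMonHom_DSmap π
  haveI : Mono (Red.DSmap S π) := LieWeight.mono_DSmap π hπs
  haveI : Mono (Red.DSmap S π ≫ c) := mono_comp _ _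
  haveI : IsMonHom qZ := MTSplit.isMonHom_of_comp_mono qZ (jH ≫ h) _ hq
  haveI : Mono qZ := by
    haveI : Mono (qZ ≫ (jH ≫ h)) := by rw [hq]; infer_instance
    exact mono_of_mono qZ (jH ≫ h)
  -- the centre lies in the torus
  have hcomm : ∀ (X : Over S) (p : X ⟶ ZH) (y : X ⟶ H), (p ≫ jH) * y = y * (p ≫ jH) := fun X p y => by
    have h1 := (hZ.2.2 X (p ≫ jH)).1 ⟨p, rfl⟩ X (𝟙 X) y
    simpa only [Category.id_comp, Category.comp_id] using h1
  obtain ⟨w', hw'⟩ := ((RedCartan.centralizer_self_of_isReductive D.reductive D.i D.maximalTorus).2.2 ZH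
    (jH ≫ h)).2 fun X x y => by
      rw [← ht]
      simp only [← Category.assoc, ← MonObj.mul_comp]
      rw [hcomm X x (y ≫ t)]
  obtain ⟨w, hw⟩ : ∃ w : ZH ⟶ Red.DS S D.M, w ≫ c = jH ≫ h :=
    ⟨w' ≫ D.split.hom.hom.hom, by rw [Category.assoc, hhom, hw']⟩
  haveI : IsMonHom w := MTSplit.isMonHom_of_comp_mono w c _ hw
  haveI : Mono w := by
    haveI : Mono (w ≫ c) := by rw [hw]; infer_instance
    exact mono_of_mono w c
  have hqw : qZ ≫ w = Red.DSmap S π := by rw [← cancel_mono c, Category.assoc, hw, hq]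
  have hkill : ∀ a ∈ R', w ≫ Red.DSmap S (zmultiplesHom D.M (D.P.root a)) =
      w ≫ Red.DSmap S (0 : ℤ →+ D.M) := by
    intro a ha
    obtain ⟨v, hv⟩ := (hR' a).2 ha
    obtain ⟨x, hx⟩ : ∃ x : ZH ⟶ Red.Ga S, Red.gaFn x = 1 := ⟨BGaNotS.gaPt 1, BGaNotS.gaFn_gaPt _⟩
    obtain ⟨y, hy, hy'⟩ := (F.hu a).2.2 ZH w x
    haveI := (F.hu a).2.1
    haveI : Mono (D.u a) := Over.mono_of_mono_left _
    have e : y = x := by
      rw [← cancel_mono (D.u a), hy, hw, ← hv, ← Category.assoc x, ← MonObj.mul_comp, ← GrpObj.inv_comp,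
        ← MonObj.mul_comp, show jH * (x ≫ v) = (x ≫ v) * jH by
          simpa only [Category.id_comp] using hcomm ZH (𝟙 _) (x ≫ v), mul_inv_cancel_right]
    rw [e, hx, _root_.mul_one, RootIntrinsic.gmFn_chi] at hy'
    refine ch_ext fun n => ?_
    rw [ch_DSmap, ch_DSmap, AddMonoidHom.zero_apply, ofAdd_zero, map_one]
    obtain ⟨n, rfl⟩ : ∃ k : ℤ, Multiplicative.ofAdd k = n := ⟨n.toAdd, rfl⟩
    show ch w (Multiplicative.ofAdd (n • D.P.root a)) = 1
    have h1 : (ch w).comp (AddMonoidHom.toMultiplicative (zmultiplesHom D.M (D.P.root a))) = 1 :=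
      MonoidHom.ext_mint (by
        show ch w (Multiplicative.ofAdd ((1 : ℤ) • D.P.root a)) = 1
        rw [one_smul]
        exact hy'.symm)
    exact DFunLike.congr_fun h1 (Multiplicative.ofAdd n)
  refine ⟨qZ, inferInstance, inferInstance, hq, fun s T' _ j _ hT' => ?_⟩
  let τ := Red.geomPt s
  haveI : PreservesLimitsOfShape WalkingCospan (Over.pullback τ) :=
    (Adjunction.rightAdjoint_preservesLimits (Over.mapPullbackAdj τ)).preservesLimitsOfShape
  haveI := isIso_ej τ D.M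
  haveI := isIso_ej τ ℤ
  haveI : IsMonHom (ej τ D.M) := isMonHom_ej τ
  haveI : IsMonHom (asIso (ej τ D.M)).hom := isMonHom_ej τ
  haveI : IsMonHom (inv (ej τ D.M)) := inferInstanceAs (IsMonHom (asIso (ej τ D.M)).inv)
  haveI := isMonHom_map' τ w
  haveI : Mono ((Over.pullback τ).map w) := inferInstance
  haveI : IsMonHom ((Over.pullback τ).map w ≫ inv (ej τ D.M)) := inferInstance
  obtain ⟨wK, hwK⟩ : ∃ wK, wK = (Over.pullback τ).map w ≫ inv (ej τ D.M) := ⟨_, rfl⟩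
  haveI : IsMonHom wK := by rw [hwK]; infer_instance
  haveI : Mono wK := by rw [hwK]; infer_instance
  obtain ⟨m, ⟨e⟩⟩ := Chev.Borel.split_of_isTorus hT'
  haveI : AddGroup.FG D.M := Module.Finite.iff_addGroup_fg.mp inferInstance
  haveI : IsMonHom e.inv.hom.hom := inferInstance
  obtain ⟨θ, hθ⟩ := Chev.CharQuot.exists_DSmap (e.inv.hom.hom ≫ j ≫ wK)
  have hswap : ∀ φ : ℤ →+ D.M, wK ≫ Red.DSmap _ φ =
      (Over.pullback τ).map (w ≫ Red.DSmap S φ) ≫ inv (ej τ ℤ) := fun φ => by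
    rw [hwK, IsIso.eq_comp_inv, Category.assoc, Category.assoc, DSmap_ej, IsIso.inv_hom_id_assoc, Functor.map_comp]
  have hθR : ∀ a ∈ R', θ (D.P.root a) = 0 := by
    intro a ha
    have h1 : Red.DSmap _ θ ≫ Red.DSmap _ (zmultiplesHom D.M (D.P.root a)) =
        Red.DSmap _ θ ≫ Red.DSmap (Spec (CommRingCat.of (AlgebraicClosure (S.residueField s)))) (0 : ℤ →+ D.M) := by
      rw [← hθ]
      simp only [Category.assoc, hswap, hkill a ha]
    rw [RootIntrinsic.DSmap_comp_apply, RootIntrinsic.DSmap_comp_apply] at h1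
    simpa using DFunLike.congr_fun (RootIntrinsic.DSmap_injective h1) 1
  have hθπ : π.ker ≤ θ.ker := fun x hx => by
    obtain ⟨n, hn, hnx⟩ := (hπ0 x).1 hx
    have h0 : ∀ y ∈ Submodule.span ℤ (D.P.root '' R'), θ y = 0 := fun y hy => by
      induction hy using Submodule.span_induction with
      | mem y hy => obtain ⟨a, ha, rfl⟩ := hy; exact hθR a ha
      | zero => exact map_zero θ
      | add y z _ _ hy hz => rw [map_add, hy, hz, add_zero]
      | smul k y _ hy => rw [map_zsmul, hy, smul_zero]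
    have h1 := h0 _ hnx
    rw [map_zsmul, smul_eq_zero] at h1
    exact h1.resolve_left hn
  obtain ⟨ψ, hψ⟩ : ∃ ψ : (Fin r → ℤ) →+ (Fin m → ℤ), ψ.comp π = θ :=
    ⟨π.liftOfSurjective hπs ⟨θ, hθπ⟩, AddMonoidHom.liftOfRightInverse_comp π _ _ ⟨θ, hθπ⟩⟩
  refine ⟨e.hom.hom.hom ≫ Red.DSmap _ ψ ≫ ej τ (Fin r → ℤ), ?_⟩
  rw [← cancel_mono wK]
  calc _ = e.hom.hom.hom ≫ Red.DSmap _ ψ ≫ (ej τ (Fin r → ℤ) ≫ (Over.pullback τ).map (qZ ≫ w)) ≫ inv (ej τ D.M) := by
        rw [hwK]; simp only [Category.assoc, Functor.map_comp]; rfl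
    _ = e.hom.hom.hom ≫ e.inv.hom.hom ≫ j ≫ wK := by
        rw [hqw, ← DSmap_ej, Category.assoc, IsIso.hom_inv_id, Category.comp_id, RootIntrinsic.DSmap_comp_apply,
          hψ, hθ]
    _ = j ≫ wK := by
        rw [← Category.assoc e.hom.hom.hom, show e.hom.hom.hom ≫ e.inv.hom.hom = 𝟙 _ from
          congrArg (fun f => f.hom.hom) e.hom_inv_id, Category.id_comp]

/-- The torus killed by the roots is a maximal torus of the centre. -/
theorem isMaximalTorus_of_data {ZH Q : Over S} [GrpObj ZH] [GrpObj Q] (hQ : Red.IsTorus Q) (qZ : Q ⟶ ZH) [IsMonHom qZ]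
    [Mono qZ] (hfl : ∀ (s : S) (T' : Over (Spec (CommRingCat.of (AlgebraicClosure (S.residueField s))))) [GrpObj T']
        (j : T' ⟶ Red.geomFibre s ZH) [IsMonHom j], Red.IsTorus T' →
        ∃ g : T' ⟶ Red.geomFibre s (Q), g ≫ (Over.pullback (Red.geomPt s)).map qZ = j) :
    Red.IsMaximalTorus qZ := by
  refine ⟨inferInstance, inferInstance, hQ, fun s T' _ j _ _ f hT' hf => ?_⟩
  obtain ⟨g, hg⟩ := hfl s T' j hT'
  haveI : PreservesLimitsOfShape WalkingCospan (Over.pullback (Red.geomPt s)) :=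
    (Adjunction.rightAdjoint_preservesLimits (Over.mapPullbackAdj (Red.geomPt s))).preservesLimitsOfShape
  haveI : Mono ((Over.pullback (Red.geomPt s)).map qZ) := inferInstance
  exact ⟨g, by rw [← cancel_mono ((Over.pullback (Red.geomPt s)).map qZ), Category.assoc, hg, hf, Category.id_comp],
    by rw [← cancel_mono j, Category.assoc, hf, hg, Category.id_comp]⟩

/-- Every point of the torus killed by the roots comes from the maximal torus of the centre. -/
theorem exists_pt_of_maximal {ZH RH Q : Over S} [GrpObj ZH] [GrpObj RH] [GrpObj Q] (hQ : Red.IsTorus Q)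
    (qZ : Q ⟶ ZH) [IsMonHom qZ] [Mono qZ]
    (hfl : ∀ (s : S) (T' : Over (Spec (CommRingCat.of (AlgebraicClosure (S.residueField s))))) [GrpObj T']
        (j : T' ⟶ Red.geomFibre s ZH) [IsMonHom j], Red.IsTorus T' →
        ∃ g : T' ⟶ Red.geomFibre s (Q), g ≫ (Over.pullback (Red.geomPt s)).map qZ = j)
    (rH : RH ⟶ ZH) (hR : Red.IsMaximalTorus rH) (s : S) (d : GP s ⟶ Q) :
    ∃ p : GP s ⟶ RH, p ≫ rH = d ≫ qZ := by
  obtain ⟨i1, i2, hRt, hmax⟩ := hR
  haveI := i1; haveI := i2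
  let τ := Red.geomPt s
  haveI : PreservesLimitsOfShape WalkingCospan (Over.pullback τ) :=
    (Adjunction.rightAdjoint_preservesLimits (Over.mapPullbackAdj τ)).preservesLimitsOfShape
  haveI hm : IsMonHom ((Over.pullback (Red.geomPt s)).map qZ) := isMonHom_map' (Red.geomPt s) qZ
  haveI hm' : IsMonHom ((Over.pullback (Red.geomPt s)).map rH) := isMonHom_map' (Red.geomPt s) rH
  haveI hmn : Mono ((Over.pullback (Red.geomPt s)).map qZ) := inferInstance
  have hRs : Red.IsTorus (Red.geomFibre s RH) := Chev.Borel.isTorus_bc_scheme RH (Red.geomPt s) hRt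
  have hQs : Red.IsTorus (Red.geomFibre s Q) := Chev.Borel.isTorus_bc_scheme Q (Red.geomPt s) hQ
  obtain ⟨g, hg⟩ := @hfl s (Red.geomFibre s RH) _ ((Over.pullback (Red.geomPt s)).map rH) hm' hRs
  haveI : IsIso g := @hmax s (Red.geomFibre s Q) _ ((Over.pullback (Red.geomPt s)).map qZ) hm hmn g hQs hg
  let X : Over (Spec (CommRingCat.of (AlgebraicClosure (S.residueField s)))) := Over.mk (𝟙 _)
  let k : GP s ⟶ (Over.map τ).obj X := Over.homMk (𝟙 _) (by simp [X, τ, GP])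
  let k' : (Over.map τ).obj X ⟶ GP s := Over.homMk (𝟙 _) (by simp [X, τ, GP])
  have hkk : k ≫ k' = 𝟙 _ := Over.OverMorphism.ext (Category.id_comp _)
  obtain ⟨p, hp⟩ : ∃ p : (Over.map τ).obj X ⟶ RH, toBC τ p = toBC τ (k' ≫ d) ≫ inv g :=
    ⟨_, ((Over.mapPullbackAdj τ).homEquiv X RH).apply_symm_apply _⟩
  have hpq : p ≫ rH = (k' ≫ d) ≫ qZ := toBC_inj τ (by
    rw [toBC_comp, toBC_comp, hp, Category.assoc]
    congr 1
    rw [IsIso.inv_comp_eq, hg])
  exact ⟨k ≫ p, by rw [Category.assoc, hpq, Category.assoc k', reassoc_of% hkk]⟩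

end Groth.Agent.RootBase
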