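import Groth.Agent.RootBase.Strings

/-!
# The dual of a root homomorphism in a Chevalley system
-/

set_option autoImplicit false
set_option backward.isDefEq.respectTransparency false
set_option linter.style.haveILetI false
set_option maxHeartbeats 1000000
set_option synthInstance.maxHeartbeats 400000

universe u

open CategoryTheory Limits MonoidalCategory CartesianMonoidalCategory MonObj GrpObj AlgebraicGeometry LieS
open scoped CategoryTheory.Obj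

noncomputable section

namespace Groth.Agent.RootBase

open Groth.Agent.HomDiag Groth.Agent.DynPar Groth.Agent.RootSys Groth.Agent.MTBridge

variable {S : Scheme.{u}} {G : Over S} [GrpObj G] {M : Type} [AddCommGroup M]
  {c : Red.DS S M ⟶ G}

theorem gaFn_inv {X : Over S} (x : X ⟶ Red.Ga S) : Red.gaFn x⁻¹ = -Red.gaFn x := by
  refine eq_neg_of_add_eq_zero_left ?_
  rw [← BGaNotS.gaFn_mul, inv_mul_cancel, BGaNotS.gaFn_one]

theorem gmFn_mul' {X : Over S} (z w : X ⟶ Red.Gm S) : Red.gmFn (z * w) = Red.gmFn z * Red.gmFn w := by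
  rw [RootIntrinsic.gmFn_eq_ch, RootIntrinsic.gmFn_eq_ch, RootIntrinsic.gmFn_eq_ch, ch_mul]

theorem gmFn_inv' {X : Over S} (z : X ⟶ Red.Gm S) : Red.gmFn z⁻¹ * Red.gmFn z = 1 := by
  rw [← gmFn_mul', inv_mul_cancel z, RootIntrinsic.gmFn_one_eq]

theorem gmFn_inj {X : Over S} {z w : X ⟶ Red.Gm S} (h : Red.gmFn z = Red.gmFn w) : z = w := by
  refine ch_ext fun m => ?_
  obtain ⟨k, rfl⟩ : ∃ k : ℤ, Multiplicative.ofAdd k = m := ⟨m.toAdd, rfl⟩
  have e : Multiplicative.ofAdd k = (Multiplicative.ofAdd (1 : ℤ)) ^ k :=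
    Multiplicative.toAdd.injective (by simp)
  rw [RootIntrinsic.gmFn_eq_ch, RootIntrinsic.gmFn_eq_ch] at h
  obtain ⟨p, hp | hp⟩ : ∃ p : ℕ, k = p ∨ k = -(p : ℤ) := ⟨k.natAbs, k.natAbs_eq⟩
  · subst hp
    rw [e, zpow_natCast, map_pow, map_pow, h]
  · subst hp
    rw [e, zpow_neg, zpow_natCast]
    have h2 : ch z ((Multiplicative.ofAdd (1 : ℤ)) ^ p) = ch w ((Multiplicative.ofAdd (1 : ℤ)) ^ p) := by
      rw [map_pow, map_pow, h]
    have hz : ch z ((Multiplicative.ofAdd (1 : ℤ)) ^ p) * ch z ((Multiplicative.ofAdd (1 : ℤ)) ^ p)⁻¹ = 1 := by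
      rw [← map_mul, mul_inv_cancel, map_one]
    have hw : ch w ((Multiplicative.ofAdd (1 : ℤ)) ^ p) * ch w ((Multiplicative.ofAdd (1 : ℤ)) ^ p)⁻¹ = 1 := by
      rw [← map_mul, mul_inv_cancel, map_one]
    rw [← h2] at hw
    exact left_inv_eq_right_inv (by rw [_root_.mul_comm]; exact hz) hw

/-- A coroot acts on its root group through the square. -/
theorem coroot_conj {v : Red.Ga S ⟶ G} {a : M} (hv : Red.IsRootHom c (Red.chi S a) v) (cor : M →+ ℤ)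
    (hcor : cor a = 2) {X : Over S} (w : X ⟶ Red.Gm S) (x y : X ⟶ Red.Ga S)
    (hy : Red.gaFn y = Red.gmFn w ^ 2 * Red.gaFn x) :
    (w ≫ Red.DSmap S cor ≫ c) * (x ≫ v) * (w ≫ Red.DSmap S cor ≫ c)⁻¹ = y ≫ v := by
  obtain ⟨y', hy', hy''⟩ := hv.2.2 X (w ≫ Red.DSmap S cor) x
  rw [Category.assoc] at hy'
  rw [← hy']
  congr 1
  refine BGaNotS.gaPt_ext ?_
  rw [hy'', hy, RootIntrinsic.gmFn_chi, ch_DSmap, toAdd_ofAdd, hcor, RootIntrinsic.gmFn_eq_ch, ← map_pow]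
  rfl

/-- The Weyl element carries the root group to the dual one. -/
theorem weyl_conj [IsMonHom c] {v vd : Red.Ga S ⟶ G} [IsMonHom vd] {a : M}
    (hv : Red.IsRootHom c (Red.chi S a) v) (cor : M →+ ℤ) (hcor : cor a = 2)
    (hF : ∀ (X : Over S) (x y : X ⟶ Red.Ga S), IsUnit (1 + Red.gaFn x * Red.gaFn y) →
      ∃ (x' y' : X ⟶ Red.Ga S) (z : X ⟶ Red.Gm S), Red.gmFn z = 1 + Red.gaFn x * Red.gaFn y ∧
        Red.gaFn x' * Red.gmFn z = Red.gaFn x ∧ Red.gaFn y' * Red.gmFn z = Red.gaFn y ∧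
        (x ≫ v) * (y ≫ vd) = (y' ≫ vd) * (z ≫ Red.DSmap S cor ≫ c) * (x' ≫ v))
    {X : Over S} (x : X ⟶ Red.Ga S) (hx : IsUnit (1 + Red.gaFn x)) :
    ((eOne X ≫ v) * (eOne X ≫ vd)⁻¹ * (eOne X ≫ v)) * (x ≫ v) *
      ((eOne X ≫ v) * (eOne X ≫ vd)⁻¹ * (eOne X ≫ v))⁻¹ = x⁻¹ ≫ vd := by
  haveI := hv.1
  haveI : IsMonHom (Red.DSmap S cor) := MTQuot.isMonHom_DSmap _
  haveI : IsMonHom (Red.DSmap S cor ≫ c) := isMonHom_comp' (Red.DSmap S cor) c
  have h1 : Red.gaFn (eOne X) = 1 := BGaNotS.gaFn_gaPt _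
  obtain ⟨x₁, y₁, z, hz, hx₁, hy₁, e1⟩ := hF X x (eOne X) (by rwa [h1, _root_.mul_one])
  rw [h1, _root_.mul_one] at hz
  rw [h1] at hy₁
  let q : X ⟶ Red.Ga S := (eOne X)⁻¹ * y₁
  have hq : Red.gaFn q = -1 + Red.gaFn y₁ := by rw [BGaNotS.gaFn_mul, gaFn_inv, h1]
  have hqz : (1 + Red.gaFn (eOne X) * Red.gaFn q) * Red.gmFn z = 1 := by
    rw [h1, _root_.one_mul, hq]; linear_combination hy₁
  obtain ⟨x₂, y₂, w, hw, hx₂, hy₂, e2⟩ := hF X (eOne X) q (IsUnit.of_mul_eq_one _ hqz)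
  rw [h1, _root_.one_mul, hq] at hw
  rw [h1] at hx₂
  rw [hq] at hy₂
  have hwz : Red.gmFn w * Red.gmFn z = 1 := by rw [hw]; linear_combination hy₁
  have hwinv : w = z⁻¹ := gmFn_inj (by
    calc Red.gmFn w = Red.gmFn w * (Red.gmFn z⁻¹ * Red.gmFn z) := by rw [gmFn_inv', _root_.mul_one]
      _ = Red.gmFn z⁻¹ * (Red.gmFn w * Red.gmFn z) := by ring
      _ = Red.gmFn z⁻¹ := by rw [hwz, _root_.mul_one])
  -- the conjugate of the middle
  have e3 : (w ≫ Red.DSmap S cor ≫ c) * (x₂ ≫ v) * (z ≫ Red.DSmap S cor ≫ c) = (x₁⁻¹ * eOne X) ≫ v := by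
    have h := coroot_conj hv cor hcor w x₂ (x₁⁻¹ * eOne X) (by
      rw [BGaNotS.gaFn_mul, gaFn_inv, h1]
      have h2 : Red.gaFn x₁ = Red.gaFn x * Red.gmFn w := by
        calc Red.gaFn x₁ = Red.gaFn x₁ * (Red.gmFn w * Red.gmFn z) := by rw [hwz, _root_.mul_one]
          _ = (Red.gaFn x₁ * Red.gmFn z) * Red.gmFn w := by ring
          _ = Red.gaFn x * Red.gmFn w := by rw [hx₁]
      rw [h2, sq]
      linear_combination -(Red.gmFn w) * hx₂ - hwz + (Red.gmFn w) * hz)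
    have hz' : (w ≫ Red.DSmap S cor ≫ c)⁻¹ = z ≫ Red.DSmap S cor ≫ c := by
      rw [hwinv, GrpObj.inv_comp, _root_.inv_inv]
    rwa [hz'] at h
  have hy₂' : y₂ = x⁻¹ := BGaNotS.gaPt_ext (by
    rw [gaFn_inv]
    calc Red.gaFn y₂ = Red.gaFn y₂ * (Red.gmFn w * Red.gmFn z) := by rw [hwz, _root_.mul_one]
      _ = (Red.gaFn y₂ * Red.gmFn w) * Red.gmFn z := by ring
      _ = -Red.gaFn x := by rw [hy₂]; linear_combination hy₁ - hz)
  calc ((eOne X ≫ v) * (eOne X ≫ vd)⁻¹ * (eOne X ≫ v)) * (x ≫ v) *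
      ((eOne X ≫ v) * (eOne X ≫ vd)⁻¹ * (eOne X ≫ v))⁻¹
      = (eOne X ≫ v) * (eOne X ≫ vd)⁻¹ * (((eOne X * x * (eOne X)⁻¹) ≫ v) * (eOne X ≫ vd)) * (eOne X ≫ v)⁻¹ := by
        rw [MonObj.mul_comp, MonObj.mul_comp, GrpObj.inv_comp]; group
    _ = (eOne X ≫ v) * (eOne X ≫ vd)⁻¹ * ((x ≫ v) * (eOne X ≫ vd)) * (eOne X ≫ v)⁻¹ := by
        rw [show eOne X * x * (eOne X)⁻¹ = x from BGaNotS.gaPt_ext (by
          rw [BGaNotS.gaFn_mul, BGaNotS.gaFn_mul, gaFn_inv]; ring)]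
    _ = (eOne X ≫ v) * (q ≫ vd) * (z ≫ Red.DSmap S cor ≫ c) * (x₁ ≫ v) * (eOne X ≫ v)⁻¹ := by
        rw [e1, MonObj.mul_comp, GrpObj.inv_comp]; group
    _ = (y₂ ≫ vd) * ((w ≫ Red.DSmap S cor ≫ c) * (x₂ ≫ v) * (z ≫ Red.DSmap S cor ≫ c)) * (x₁ ≫ v) *
        (eOne X ≫ v)⁻¹ := by
        rw [e2]; group
    _ = (y₂ ≫ vd) * ((x₁⁻¹ * eOne X * x₁ * (eOne X)⁻¹) ≫ v) := by
        rw [e3, MonObj.mul_comp, MonObj.mul_comp, MonObj.mul_comp, MonObj.mul_comp, GrpObj.inv_comp,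
          GrpObj.inv_comp]; group
    _ = x⁻¹ ≫ vd := by
        rw [show x₁⁻¹ * eOne X * x₁ * (eOne X)⁻¹ = 1 from BGaNotS.gaPt_ext (by
          rw [BGaNotS.gaFn_mul, BGaNotS.gaFn_mul, BGaNotS.gaFn_mul, gaFn_inv, gaFn_inv, BGaNotS.gaFn_one]; ring),
          MonObj.one_comp, _root_.mul_one, hy₂']

theorem eOne_comp {X Y : Over S} (q : Y ⟶ X) : q ≫ eOne X = eOne Y :=
  BGaNotS.gaPt_ext (by rw [BGaNotS.gaFn_comp, eOne, eOne, BGaNotS.gaFn_gaPt, BGaNotS.gaFn_gaPt, map_one])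

theorem eC_comp {X Y : Over S} (q : Y ⟶ X) (r : Γ(S, ⊤)) : q ≫ eC X r = eC Y r :=
  BGaNotS.gaPt_ext (by
    rw [BGaNotS.gaFn_comp, eC, eC, BGaNotS.gaFn_gaPt, BGaNotS.gaFn_gaPt, ← CommRingCat.comp_apply,
      ← Scheme.Hom.comp_appTop, Over.w q])

variable [Module.Free ℤ M] [Module.Finite ℤ M] {idx : Type} [Fintype idx] {root : idx → M}
  {u : idx → (Red.Ga S ⟶ G)}

/-- **The dual root homomorphism of a Chevalley system.** -/
theorem Frame.dual_value (F : Frame c root u) {a a' : idx} {vd : Red.Ga S ⟶ G} [IsMonHom vd]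
    (cor : M →+ ℤ) (hcor : cor (root a) = 2)
    (hF : ∀ (X : Over S) (x y : X ⟶ Red.Ga S), IsUnit (1 + Red.gaFn x * Red.gaFn y) →
      ∃ (x' y' : X ⟶ Red.Ga S) (z : X ⟶ Red.Gm S), Red.gmFn z = 1 + Red.gaFn x * Red.gaFn y ∧
        Red.gaFn x' * Red.gmFn z = Red.gaFn x ∧ Red.gaFn y' * Red.gmFn z = Red.gaFn y ∧
        (x ≫ u a) * (y ≫ vd) = (y' ≫ vd) * (z ≫ Red.DSmap S cor ≫ c) * (x' ≫ u a))
    (ε : Γ(S, ⊤))
    (hn : ∀ (X : Over S) (x y : X ⟶ Red.Ga S), Red.gaFn y = X.hom.appTop ε * Red.gaFn x →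
      ((eOne X ≫ u a) * (eOne X ≫ vd)⁻¹ * (eOne X ≫ u a)) * (x ≫ u a) *
        ((eOne X ≫ u a) * (eOne X ≫ vd)⁻¹ * (eOne X ≫ u a))⁻¹ = y ≫ u a') :
    eOne (𝟙_ (Over S)) ≫ vd = eC (𝟙_ (Over S)) (-ε) ≫ u a' := by
  haveI := F.hc.1
  haveI := F.hG.1
  haveI := (F.hu a).1
  haveI := (F.hu a').1
  refine hom_ext_charts _ _ fun i B _ φ q => ?_
  rw [← Category.assoc, ← Category.assoc, eOne_comp, eC_comp]
  let p : Polynomial B := Polynomial.X ^ 2 + Polynomial.X + 1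
  have hpm : p.Monic := by simp only [p]; monicity!
  let B' := AdjoinRoot p
  let h : B →+* B' := AdjoinRoot.of p
  have hinj : Function.Injective h := by
    refine (injective_iff_map_eq_zero h).2 fun b hb => ?_
    have hb' : AdjoinRoot.mk p (Polynomial.C b) = 0 := hb
    rw [AdjoinRoot.mk_eq_zero] at hb'
    by_contra hne
    rcases subsingleton_or_nontrivial (Polynomial B) with hB | hB
    · exact hne (Polynomial.C_injective (Subsingleton.elim _ _))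
    haveI := Polynomial.nontrivial_iff.1 hB
    have hdeg : (Polynomial.C b).degree < p.degree := by
      have hd : p.degree = 2 := by simp only [p]; compute_degree!
      rw [hd, Polynomial.degree_C hne]
      decide
    exact hpm.not_dvd_of_degree_lt (Polynomial.C_ne_zero.2 hne) hdeg hb'
  let A : CommRingCat.{u} := S.affineOpenCover.X i
  let j : Spec (CommRingCat.of A) ⟶ S := S.affineOpenCover.f i
  let fa : Spec (CommRingCat.of B) ⟶ Spec (CommRingCat.of A) := Spec.map (CommRingCat.ofHom φ)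
  let fb : Spec (CommRingCat.of B) ⟶ S := fa ≫ j
  let X' : Over S := pt B' (Spec.map (CommRingCat.ofHom h) ≫ fb)
  let s : X' ⟶ pt B fb := qm h rfl
  -- the equation after the extension
  have main : eOne X' ≫ vd = eC X' (-ε) ≫ u a' := by
    let ω : Γ(X'.left, ⊤) := (Scheme.ΓSpecIso (CommRingCat.of B')).inv (AdjoinRoot.root p)
    have hω : ω ^ 2 + ω + 1 = 0 := by
      have h1 : AdjoinRoot.root p ^ 2 + AdjoinRoot.root p + 1 = 0 := by
        have := AdjoinRoot.eval₂_root p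
        simpa [p] using this
      have h2 := congrArg (Scheme.ΓSpecIso (CommRingCat.of B')).inv.hom h1
      rw [map_add, map_add, map_pow, map_one, map_zero] at h2
      exact h2
    let x₁ : X' ⟶ Red.Ga S := BGaNotS.gaPt ω
    let x₂ : X' ⟶ Red.Ga S := BGaNotS.gaPt (-1 - ω)
    have hu₁ : IsUnit (1 + Red.gaFn x₁) := by
      rw [BGaNotS.gaFn_gaPt]
      exact IsUnit.of_mul_eq_one (-ω) (by linear_combination -hω)
    have hu₂ : IsUnit (1 + Red.gaFn x₂) := by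
      rw [BGaNotS.gaFn_gaPt]
      exact IsUnit.of_mul_eq_one (1 + ω) (by linear_combination -hω)
    let y₁ : X' ⟶ Red.Ga S := BGaNotS.gaPt (X'.hom.appTop ε * ω)
    let y₂ : X' ⟶ Red.Ga S := BGaNotS.gaPt (X'.hom.appTop ε * (-1 - ω))
    have e₁ := (weyl_conj (F.hu a) cor hcor hF x₁ hu₁).symm.trans (hn X' x₁ y₁ (by
      rw [BGaNotS.gaFn_gaPt, BGaNotS.gaFn_gaPt]))
    have e₂ := (weyl_conj (F.hu a) cor hcor hF x₂ hu₂).symm.trans (hn X' x₂ y₂ (by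
      rw [BGaNotS.gaFn_gaPt, BGaNotS.gaFn_gaPt]))
    calc eOne X' ≫ vd = (x₁⁻¹ * x₂⁻¹) ≫ vd := by
          congr 1
          refine BGaNotS.gaPt_ext ?_
          rw [BGaNotS.gaFn_mul, gaFn_inv, gaFn_inv, eOne, BGaNotS.gaFn_gaPt, BGaNotS.gaFn_gaPt, BGaNotS.gaFn_gaPt]
          ring
      _ = (y₁ * y₂) ≫ u a' := by rw [MonObj.mul_comp, MonObj.mul_comp, e₁, e₂]
      _ = eC X' (-ε) ≫ u a' := by
          congr 1
          refine BGaNotS.gaPt_ext ?_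
          rw [BGaNotS.gaFn_mul, eC, BGaNotS.gaFn_gaPt, BGaNotS.gaFn_gaPt, BGaNotS.gaFn_gaPt, map_neg]
          ring
  -- descend
  haveI : IsAffineHom (Red.bc j G).hom := inferInstanceAs (IsAffineHom (pullback.snd G.hom j))
  haveI : IsAffine (Red.bc j G).left := isAffine_of_isAffineHom (Red.bc j G).hom
  have hdesc : ∀ g g' : pt B fb ⟶ G, s ≫ g = s ≫ g' → g = g' := fun g g' e => by
    refine (upEquiv j (rfl : fa ≫ j = fb) (G := G)).injective ?_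
    show down j rfl g = down j rfl g'
    have e' : qm h (rfl : Spec.map (CommRingCat.ofHom h) ≫ fa = _) ≫ down j (rfl : fa ≫ j = fb) g =
        qm h rfl ≫ down j rfl g' := by
      rw [← qm_down j rfl (Category.assoc _ _ _) h rfl rfl g, ← qm_down j rfl (Category.assoc _ _ _) h rfl rfl g']
      exact congrArg (down j _) e
    refine rp_ext (RingHom.ext fun v => hinj ?_)
    have e2 := congr(rp $e' v)
    rw [rp_qm, rp_qm] at e2
    exact e2
  refine hdesc _ _ ?_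
  rw [← Category.assoc, ← Category.assoc]
  show (s ≫ eOne (pt B fb)) ≫ vd = (s ≫ eC (pt B fb) (-ε)) ≫ u a'
  rw [eOne_comp, eC_comp]
  exact main

end Groth.Agent.RootBase
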