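import Groth.Agent.RootBase.Dense

/-!
# Extension of a homomorphism from an open neighbourhood of the unit
-/

set_option autoImplicit false
set_option linter.style.haveILetI false

universe u

open CategoryTheory MonoidalCategory CartesianMonoidalCategory MonObj GrpObj AlgebraicGeometry

noncomputable section

namespace Groth.Agent.RootBase

variable {S : Scheme.{u}} {G Ω H : Over S} [GrpObj G] [GrpObj H]

set_option backward.isDefEq.respectTransparency false in
/-- **A morphism which is multiplicative on an open neighbourhood of the unit of a reductive group extends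
uniquely to a homomorphism.** -/
theorem existsUnique_hom_open (hG : Red.IsReductive G) (j : Ω ⟶ G) [IsOpenImmersion j.left]
    (e : 𝟙_ (Over S) ⟶ Ω) (he : e ≫ j = 1) (φ : Ω ⟶ H)
    (hφ : ∀ (X : Over S) (x y z : X ⟶ Ω), z ≫ j = (x ≫ j) * (y ≫ j) → z ≫ φ = (x ≫ φ) * (y ≫ φ)) :
    ∃! g : G ⟶ H, IsMonHom g ∧ j ≫ g = φ := by
  haveI : Mono j := Over.mono_of_mono_left j
  -- two evaluations agree
  have cons : ∀ {X : Over S} (g : X ⟶ G) (a b a' b' : X ⟶ Ω), b ≫ j = (a ≫ j) * g → b' ≫ j = (a' ≫ j) * g →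
      (a ≫ φ)⁻¹ * (b ≫ φ) = (a' ≫ φ)⁻¹ * (b' ≫ φ) := by
    intro X g a b a' b' hb hb'
    obtain ⟨X', f, c, hf, hs, -, hd⟩ := exists_translate_open hG j e he ![(a ≫ j)⁻¹, (a' ≫ j)⁻¹, g]
    haveI := RedR1.epi_of_flat_surjective f
    have key : ∀ (a b : X ⟶ Ω) (d : X' ⟶ Ω), d ≫ j = (c ≫ j) * (f ≫ (a ≫ j)⁻¹) → b ≫ j = (a ≫ j) * g →
        ∀ w : X' ⟶ Ω, w ≫ j = (c ≫ j) * (f ≫ g) → f ≫ ((a ≫ φ)⁻¹ * (b ≫ φ)) = (c ≫ φ)⁻¹ * (w ≫ φ) := by
      intro a b d hd hb w hw
      have h1 := hφ X' d (f ≫ a) c (by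
        rw [hd, GrpObj.comp_inv, Category.assoc, inv_mul_cancel_right])
      have h2 := hφ X' d (f ≫ b) w (by
        rw [hw, hd, Category.assoc, hb, MonObj.comp_mul, GrpObj.comp_inv, ← _root_.mul_assoc, inv_mul_cancel_right])
      rw [MonObj.comp_mul, GrpObj.comp_inv, h1, h2]
      simp only [Category.assoc]
      group
    obtain ⟨d₀, hd₀⟩ := hd 0
    obtain ⟨d₁, hd₁⟩ := hd 1
    obtain ⟨w, hw⟩ := hd 2
    rw [← cancel_epi f, key a b d₀ hd₀ hb w hw, key a' b' d₁ hd₁ hb' w hw]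
  -- descent
  obtain ⟨X', f, c, hf, hs, hl, hd⟩ := exists_translate_open hG j e he ![𝟙 G]
  obtain ⟨d, hd⟩ := hd 0
  change d ≫ j = (c ≫ j) * (f ≫ 𝟙 G) at hd
  rw [Category.comp_id] at hd
  set F' := (c ≫ φ)⁻¹ * (d ≫ φ) with hF'
  have hdesc : ∀ {Z : Scheme.{u}} (a b : Z ⟶ X'.left), a ≫ f.left = b ≫ f.left → a ≫ F'.left = b ≫ F'.left := by
    intro Z a b hab
    let Z' : Over S := Over.mk (a ≫ X'.hom)
    let a' : Z' ⟶ X' := Over.homMk a
    let b' : Z' ⟶ X' := Over.homMk b (by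
      rw [← Over.w f, ← Category.assoc, ← hab, Category.assoc, Over.w f]; rfl)
    have hab' : a' ≫ f = b' ≫ f := Over.OverMorphism.ext hab
    have := cons (a' ≫ f) (a' ≫ c) (a' ≫ d) (b' ≫ c) (b' ≫ d)
      (by rw [Category.assoc, hd, MonObj.comp_mul, Category.assoc])
      (by rw [hab', Category.assoc, hd, MonObj.comp_mul, Category.assoc])
    have e' : a' ≫ F' = b' ≫ F' := by
      simpa only [hF', MonObj.comp_mul, GrpObj.comp_inv, Category.assoc] using this
    exact congrArg (fun m => m.left) e'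
  let F : G ⟶ H := Over.homMk (EffectiveEpi.desc f.left F'.left hdesc) (by
    haveI : Epi f.left := Flat.epi_of_flat_of_surjective f.left
    rw [← cancel_epi f.left, ← Category.assoc, EffectiveEpi.fac f.left F'.left hdesc, Over.w, Over.w])
  have hF : f ≫ F = F' := Over.OverMorphism.ext (EffectiveEpi.fac f.left F'.left hdesc)
  have hval : ∀ {X : Over S} (g : X ⟶ G) (a b : X ⟶ Ω), b ≫ j = (a ≫ j) * g →
      g ≫ F = (a ≫ φ)⁻¹ * (b ≫ φ) := by
    intro X g a b hb
    let q := Limits.pullback.fst g.left f.left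
    let X₂ : Over S := Over.mk (q ≫ X.hom)
    let q₁ : X₂ ⟶ X := Over.homMk q
    let q₂ : X₂ ⟶ X' := Over.homMk (Limits.pullback.snd g.left f.left) (by
      change _ ≫ X'.hom = q ≫ X.hom
      rw [← Over.w f, ← Over.w g, ← Category.assoc, ← Category.assoc, Limits.pullback.condition])
    have hq : q₁ ≫ g = q₂ ≫ f := Over.OverMorphism.ext Limits.pullback.condition
    haveI : Flat q₁.left := inferInstanceAs (Flat (Limits.pullback.fst g.left f.left))
    haveI : Surjective q₁.left := inferInstanceAs (Surjective (Limits.pullback.fst g.left f.left))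
    haveI := RedR1.epi_of_flat_surjective q₁
    have := cons (q₁ ≫ g) (q₂ ≫ c) (q₂ ≫ d) (q₁ ≫ a) (q₁ ≫ b)
      (by rw [hq, Category.assoc, hd, MonObj.comp_mul, Category.assoc])
      (by rw [Category.assoc, hb, MonObj.comp_mul, Category.assoc])
    rw [← cancel_epi q₁, ← Category.assoc, hq, Category.assoc, hF]
    simpa only [hF', MonObj.comp_mul, GrpObj.comp_inv, Category.assoc] using this
  have hone : e ≫ φ = 1 := by
    have h := hφ _ e e e (by rw [he, _root_.one_mul])
    exact left_eq_mul.1 h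
  have hcell : j ≫ F = φ := by
    rw [hval j (toUnit Ω ≫ e) (𝟙 Ω) (by rw [Category.id_comp, Category.assoc, he, MonObj.comp_one, _root_.one_mul]),
      Category.assoc, hone, MonObj.comp_one, inv_one, _root_.one_mul, Category.id_comp]
  have hmul : ∀ {X : Over S} (g h : X ⟶ G), (g * h) ≫ F = (g ≫ F) * (h ≫ F) := fun {X} g h => by
    obtain ⟨X₁, a, x, hf₁, hs₁, -, hx⟩ := exists_translate_open hG j e he ![g, g * h]
    haveI := RedR1.epi_of_flat_surjective a
    obtain ⟨v1, hv1⟩ := hx 0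
    obtain ⟨v2, hv2⟩ := hx 1
    have e1 := hval (a ≫ g) x v1 hv1
    have e2 := hval (a ≫ (g * h)) x v2 hv2
    have e3 := hval (a ≫ h) v1 v2 (by
      show v2 ≫ j = _
      rw [hv2, hv1]
      show (x ≫ j) * (a ≫ (g * h)) = (x ≫ j) * (a ≫ g) * (a ≫ h)
      rw [MonObj.comp_mul, _root_.mul_assoc])
    rw [← cancel_epi a, MonObj.comp_mul, ← Category.assoc, ← Category.assoc, ← Category.assoc, e1, e2, e3]
    group
  haveI : IsMonHom F := MTBridge.isMonHom_of_points F fun X x y => hmul x y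
  exact ⟨F, ⟨inferInstance, hcell⟩, fun g hg => by
    haveI := hg.1
    exact hom_ext_open hG j e he g F (hg.2.trans hcell.symm)⟩

end Groth.Agent.RootBase
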