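import Groth.Agent.RootBase.Coord
import Groth.Agent.RootSys.RankCell
import Groth.Agent.RootSys.Coroot

/-!
# The rank-one pieces over an algebraically closed field
-/

set_option autoImplicit false
set_option backward.isDefEq.respectTransparency false
set_option linter.style.haveILetI false
set_option maxHeartbeats 1000000
set_option synthInstance.maxHeartbeats 400000

universe u

open CategoryTheory Limits MonoidalCategory CartesianMonoidalCategory MonObj AlgebraicGeometry LieS
open scoped CategoryTheory.Obj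

noncomputable section

namespace Groth.Agent.RootBase

open Groth.Agent.HomDiag Groth.Agent.DynPar Groth.Agent.RootSys
open Groth.Agent.DynPar.Der (dv uB pl sG)

variable {k : Type u} [Field k] [IsAlgClosed k] {G : Over (Spec (CommRingCat.of k))} [GrpObj G] [IsAffine G.left]
  {M : Type} [AddCommGroup M] [Module.Free ℤ M] [Module.Finite ℤ M]

/-- The rank-one package of a given centraliser of the kernel of a weight. -/
theorem kerData_of_centralizer (hG : Red.IsReductiveOver k G) (i : Red.DS (Spec (CommRingCat.of k)) M ⟶ G) [IsMonHom i]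
    (hi : AGF.IsMaxTorus i) {M' : Type} [AddCommGroup M'] [Module.Free ℤ M'] [Module.Finite ℤ M'] (π : M →+ M')
    (hπ : Function.Surjective π) {C : Over (Spec (CommRingCat.of k))} [GrpObj C] {c : C ⟶ G}
    (hc : Red.IsCentralizerOf (Red.DSmap _ π ≫ i) c) (hcc : IsClosedImmersion c.left)
    {tC : Red.DS (Spec (CommRingCat.of k)) M ⟶ C} (htC : tC ≫ c = i) : KerData i π c tC := by
  haveI := hG.2.1; haveI := hG.2.2.1; haveI := hi.2.1
  haveI : IsAffineHom G.hom := isAffineHom_of_isAffine G.hom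
  have hself := exists_isCentralizerOf_self hG i hi
  let b := Module.finBasis ℤ M'
  let π' : M →+ (Fin (Module.finrank ℤ M') → ℤ) := b.equivFun.toAddEquiv.toAddMonoidHom.comp π
  haveI : IsClosedImmersion (Red.DSmap (Spec (CommRingCat.of k)) π').left :=
    MTPrime.isClosedImmersion_of_surjective π' (b.equivFun.surjective.comp hπ)
  haveI : Mono (Red.DSmap (Spec (CommRingCat.of k)) π') := Over.mono_of_mono_left _
  let iS := Red.DSmap (Spec (CommRingCat.of k)) π' ≫ i
  haveI : Mono iS := mono_comp _ i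
  have hSt := Chev.CharQuot.isTorus_DS (k := k) (Module.finrank ℤ M')
  haveI := hc.1; haveI := hc.2.1; haveI := hcc
  have hc' : Red.IsCentralizerOf iS c := centralizer_congr hc fun B _ f g => by
    rw [mem_ZSub_iff i π gens_univ, mem_ZSub_iff i π' gens_univ]
    refine forall₂_congr fun x _ => forall_congr' fun m => imp_congr_left ?_
    exact (map_ne_zero_iff (b.equivFun.toAddEquiv.toAddMonoidHom) b.equivFun.injective).symm
  have hCred := RedCent.isReductiveOver_centralizer hG iS hSt c hc'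
  haveI : IsMonHom tC := MTSplit.isMonHom_of_comp_mono tC c i htC
  haveI : Mono tC := by
    haveI : Mono (tC ≫ c) := by rw [htC]; infer_instance
    exact mono_of_mono tC c
  refine ⟨hc, htC, inferInstance, hcc, hCred, ?_, ?_⟩
  · refine ⟨inferInstance, inferInstance, hi.2.2.1, fun T' _ j _ _ g hT' hg => ?_⟩
    haveI : Mono (j ≫ c) := mono_comp j c
    exact hi.2.2.2 T' (j ≫ c) g hT' (by rw [← Category.assoc, hg, htC])
  · refine ⟨inferInstance, inferInstance, fun X g => ⟨fun ⟨x, hx⟩ X' a h => ?_, fun hg => ?_⟩⟩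
    · rw [← hx, ← Category.assoc, ← MonObj.mul_comp, ← MonObj.mul_comp, DS_comm]
    · obtain ⟨x, hx⟩ := (hself.2.2 X (g ≫ c)).2 fun X' a h => by
        rw [← htC, ← Category.assoc, ← Category.assoc, ← MonObj.mul_comp, ← MonObj.mul_comp, hg]
      exact ⟨x, by rw [← cancel_mono c, Category.assoc, htC, hx]⟩

/-- The nonzero weights of the centraliser of the kernel of a weight are that weight and its negative. -/
theorem kerData_wts {i : Red.DS (Spec (CommRingCat.of k)) M ⟶ G} [IsMonHom i] {M' : Type} [AddCommGroup M']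
    {π : M →+ M'} {m₁ : M} (hπker : ∀ x, π x = 0 → ∃ l : ℤ, x = l • m₁)
    {C : Over (Spec (CommRingCat.of k))} [GrpObj C] [IsAffine C.left] {c : C ⟶ G} [IsMonHom c]
    {tC : Red.DS (Spec (CommRingCat.of k)) M ⟶ C} [IsMonHom tC] (D : KerData i π c tC) {d : M} (hd : d ≠ 0)
    (hπd : π d = 0) {v₀ : Lie C k (fk k)} (hv₀ : IsWt tC v₀ d) (hv1 : v₀ ≠ 1)
    (e : M) (w : Lie C k (fk k)) (hw : IsWt tC w e) (hw1 : w ≠ 1) (he : e ≠ 0) :
    (e = d ∧ ∃ r : k, w = r • v₀) ∨ e = -d := by
  have hid : Spec.map (CommRingCat.ofHom (RingHom.id k)) ≫ fk k = 𝟙 (Spec (CommRingCat.of k)) := by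
    rw [fk, Algebra.algebraMap_self, CommRingCat.ofHom_id, Spec.map_id, Category.comp_id]
  let P : Lie C k (fk k) → Lie C k (𝟙 (Spec (CommRingCat.of k))) := pl (RingHom.id k) hid
  have hP : Function.Injective P := fun a b h => Der.dv_injective (funext fun x => by
    rw [← RingHom.id_apply (dv a x), ← RingHom.id_apply (dv b x), ← Der.dv_pl _ hid, ← Der.dv_pl _ hid]
    exact congr(dv $h x))
  have hab : ∃ a b : ℤ, b ≠ 0 ∧ b • e = a • d := by
    obtain ⟨a, ha⟩ := hπker e (D.wt_mem_ker hw hw1)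
    obtain ⟨b, hb⟩ := hπker d hπd
    exact ⟨a, b, fun h => hd (by rw [hb, h, zero_smul]), by rw [ha, hb, smul_smul, smul_smul, mul_comm]⟩
  rcases (global_rank_one D.hred tC D.hmax (IsWt.pl (c := tC) hv₀ _ hid) hd (pl_id_ne_one hid hv1)).2 e (P w)
    (IsWt.pl (c := tC) hw _ hid) (pl_id_ne_one hid hw1) he hab with ⟨rfl, r, hr⟩ | h
  · exact Or.inl ⟨rfl, r, hP (hr.trans (Der.pl_smul _ hid r v₀).symm)⟩
  · exact Or.inr h

omit [GrpObj G] [IsAffine G.left] [IsAlgClosed k] in
theorem specMap_evalC {B : Type u} [CommRing B] (φ : k →+* B) (b : B) :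
    Spec.map (CommRingCat.ofHom (Polynomial.eval₂RingHom φ b)) ≫ Spec.map (CommRingCat.ofHom (Polynomial.C : k →+* Polynomial k)) =
      Spec.map (CommRingCat.ofHom φ) := by
  rw [← Spec.map_comp, ← CommRingCat.ofHom_comp]
  congr 2
  ext r
  simp

omit [Module.Finite ℤ M] [IsAlgClosed k] in
/-- A weight function restricted to a root group is linear. -/
theorem rootHom_linear {j : Red.DS (Spec (CommRingCat.of k)) M ⟶ G} [IsMonHom j] {d : M} (hd : d ≠ 0)
    {w : Red.Ga (Spec (CommRingCat.of k)) ⟶ G} (hw : Red.IsRootHom j (Red.chi _ d) w) {y : Γ(G.left, ⊤)}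
    (hy : wc j y d = y) :
    ∃ r : k, ∀ {B : Type u} [CommRing B] (φ : k →+* B) (z : pt B (Spec.map (CommRingCat.ofHom φ)) ⟶ Red.Ga (Spec (CommRingCat.of k))),
      rp (z ≫ w) y = φ r * gval z := by
  classical
  haveI := hw.1
  let fP : Spec (CommRingCat.of (Polynomial k)) ⟶ Spec (CommRingCat.of k) := Spec.map (CommRingCat.ofHom Polynomial.C)
  let P : Polynomial k := rp (gpt fP Polynomial.X ≫ w) y
  let θ : Polynomial k →+* AddMonoidAlgebra (Polynomial k) M :=
    Polynomial.eval₂RingHom ((cC (Polynomial k) M).comp Polynomial.C) (AddMonoidAlgebra.single d Polynomial.X)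
  have hθ : Spec.map (CommRingCat.ofHom θ) ≫ fP = fL fP M := by
    show _ ≫ Spec.map _ = Spec.map _ ≫ Spec.map _
    rw [← Spec.map_comp, ← Spec.map_comp, ← CommRingCat.ofHom_comp, ← CommRingCat.ofHom_comp]
    congr 2
    ext r : 1
    simp [θ]
  have hθP : θ P = AddMonoidAlgebra.single d P := by
    have h1 : qm θ hθ ≫ gpt fP Polynomial.X ≫ w =
        (xu fP M ≫ j) * ((qc M fP ≫ gpt fP Polynomial.X) ≫ w) * (xu fP M ≫ j)⁻¹ := by
      rw [rootHom_conj hw, ← Category.assoc, qm_gpt, chv_xu, qc, gval_qm, gval_gpt]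
      congr 2
      show θ Polynomial.X = AddMonoidAlgebra.single d 1 * AddMonoidAlgebra.single 0 Polynomial.X
      rw [AddMonoidAlgebra.single_mul_single, add_zero, _root_.one_mul]
      simp [θ]
    have h2 := congr(rp $h1 y)
    rw [rp_qm, RingHom.comp_apply] at h2
    refine h2.trans ?_
    conv_lhs => rw [← hy, rp_conj_wc, hy]
    rw [chv_xu, Category.assoc, qc, rp_qm, RingHom.comp_apply]
    show AddMonoidAlgebra.single d 1 * AddMonoidAlgebra.single 0 P = _
    rw [AddMonoidAlgebra.single_mul_single, add_zero, _root_.one_mul]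
  have hθn : ∀ n (r : k), θ (Polynomial.monomial n r) = AddMonoidAlgebra.single (n • d) (Polynomial.monomial n r) := by
    intro n r
    simp only [θ, Polynomial.coe_eval₂RingHom, Polynomial.eval₂_monomial, RingHom.comp_apply]
    show AddMonoidAlgebra.single 0 _ * _ = _
    rw [AddMonoidAlgebra.single_pow, AddMonoidAlgebra.single_mul_single, zero_add, Polynomial.C_mul_X_pow_eq_monomial]
  have hcoef : ∀ n, n ≠ 1 → P.coeff n = 0 := fun n hn => by
    have hne : n • d ≠ d := fun h => by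
      have h' : ((n : ℤ) - 1) • d = 0 := by rw [sub_smul, natCast_zsmul, one_smul, h, sub_self]
      have := (smul_eq_zero.1 h').resolve_right hd
      omega
    have h1 := congr(($hθP).coeff (n • d))
    rw [AddMonoidAlgebra.coeff_single, Finsupp.single_eq_of_ne hne] at h1
    by_contra h0
    conv_lhs at h1 => rw [P.as_sum_support, map_sum]
    rw [AddMonoidAlgebra.coeff_sum, Finset.sum_apply', Finset.sum_eq_single n (fun q _ hq => by
        rw [hθn, AddMonoidAlgebra.coeff_single, Finsupp.single_eq_of_ne]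
        intro h
        have h' : ((n : ℤ) - q) • d = 0 := by rw [sub_smul, natCast_zsmul, natCast_zsmul, h, sub_self]
        have := (smul_eq_zero.1 h').resolve_right hd
        omega)
      (fun h => absurd (Polynomial.notMem_support_iff.1 h) h0), hθn, AddMonoidAlgebra.coeff_single,
      Finsupp.single_eq_same, Polynomial.monomial_eq_zero_iff] at h1
    exact h0 h1
  have hP : P = Polynomial.C (P.coeff 1) * Polynomial.X := by
    ext n
    by_cases hn : n = 1
    · simp [hn]
    · rw [hcoef n hn, Polynomial.coeff_C_mul, Polynomial.coeff_X, if_neg (Ne.symm hn), mul_zero]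
  refine ⟨P.coeff 1, fun {B} _ φ z => ?_⟩
  have hz : qm (Polynomial.eval₂RingHom φ (gval z)) (specMap_evalC φ (gval z)) ≫ gpt fP Polynomial.X = z :=
    gval_inj (by rw [gval_qm, gval_gpt]; simp)
  conv_lhs => rw [← hz, Category.assoc, rp_qm, RingHom.comp_apply]
  show Polynomial.eval₂RingHom φ (gval z) P = _
  rw [hP]
  simp

/-- A weight function pairing nontrivially with the weight line is a coordinate of the contracted subgroup. -/
theorem isIso_coord (hG : Red.IsReductive G) {j : Red.DS (Spec (CommRingCat.of k)) M ⟶ G} [IsMonHom j]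
    (hj : Red.IsMaximalTorus j) {d : M} (hd : d ≠ 0) (mu : M →+ ℤ) (hmu : 0 < mu d)
    (hwt : ∀ (e : M) (w : Lie G k (fk k)), IsWt j w e → w ≠ 1 → 0 < mu e → e = d)
    {v : Lie G k (fk k)} (hv : IsWt j v d) (hline : ∀ w : Lie G k (fk k), IsWt j w d → ∃ r : k, w = r • v)
    {y : Γ(G.left, ⊤)} (hy : wc j y d = y) (hvy : dv v y ≠ 0)
    {U : Over (Spec (CommRingCat.of k))} [GrpObj U] {u : U ⟶ G}
    (hu : IsU (Red.DSmap (Spec (CommRingCat.of k)) mu ≫ j) u) :
    IsIso (BGaNotS.gaPt (u.left.appTop y) : U ⟶ Red.Ga (Spec (CommRingCat.of k))) := by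
  let S := Spec (CommRingCat.of k)
  obtain ⟨i1, i2, i3⟩ := red_inst hG
  haveI := i2; haveI := i3
  have hv1 : v ≠ 1 := fun h => hvy (by rw [h, Der.dv_one])
  let E : Grp.mk (Red.DS S M) ≅ Grp.mk (Red.DS S M) := Iso.refl _
  have hEi : E.inv.hom.hom ≫ j = j := Category.id_comp j
  haveI : IsMonHom (E.inv.hom.hom ≫ j) := by rw [hEi]; infer_instance
  obtain ⟨w, hw'⟩ := exists_rootHom (i := j) (E := E) hG hj (a := d)
    ⟨hd, v, hv.congr_hom hEi.symm, hv1⟩
  have hw : Red.IsRootHom j (Red.chi _ d) w := by rwa [hEi] at hw'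
  haveI := hw.1; haveI := hw.2.1; haveI : Mono w := Over.mono_of_mono_left w
  have hvU : IsWt j (RootIntrinsic.vU w) d :=
    (isWt_vU E ((rootHom_split_iff j E d w).1 hw')).congr_hom hEi
  obtain ⟨s, hs⟩ := hline _ hvU
  have hs0 : s ≠ 0 := fun h => RootIntrinsic.vU_ne_one w (by
    rw [hs, h]; exact Der.dv_injective (funext fun x => by rw [Der.dv_smul, zero_mul, Der.dv_one]))
  have h2 : ∀ x : Lie G k (fk k), IsWt j x d → ∃ r : k, x = r • RootIntrinsic.vU w := fun x hx => by
    obtain ⟨r, rfl⟩ := hline x hx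
    exact ⟨r * s⁻¹, Der.dv_injective (funext fun a => by
      rw [Der.dv_smul, Der.dv_smul, hs, Der.dv_smul]
      field_simp)⟩
  haveI := hu.1; haveI := hu.2.1
  haveI : Mono u := Over.mono_of_mono_left u
  obtain ⟨z, hz⟩ := hu.exists_le w fun B _ f x => rootHom_mem_USub hw mu hmu x
  obtain ⟨x, hx⟩ := isU_rootHom hw mu hmu hwt h2 u fun B _ f g => hu.exists_fac_iff.1 ⟨g, rfl⟩
  have hxz : x ≫ z = 𝟙 U := by rw [← cancel_mono u, Category.assoc, hz, hx, Category.id_comp]
  have hzx : z ≫ x = 𝟙 _ := by rw [← cancel_mono w, Category.assoc, hx, hz, Category.id_comp]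
  haveI : IsIso z := ⟨x, hzx, hxz⟩
  obtain ⟨r, hr⟩ := rootHom_linear hd hw hy
  have hr0 : r ≠ 0 := fun h0 => hvy (by
    obtain ⟨q, hq⟩ := h2 v hv
    rw [hq, Der.dv_smul]
    refine mul_eq_zero_of_right _ ?_
    rw [← rp_vec_snd]
    have hf : Spec.map (CommRingCat.ofHom (algebraMap k (DualNumber k))) =
        fd (fk k) := by
      show _ = Spec.map _ ≫ Spec.map _
      rw [Algebra.algebraMap_self, CommRingCat.ofHom_id, Spec.map_id]
      exact (Category.comp_id _).symm
    have key : ∀ (f : Spec (CommRingCat.of (DualNumber k)) ⟶ S), f = Spec.map (CommRingCat.ofHom (algebraMap k (DualNumber k))) →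
        ∀ g : pt (DualNumber k) f ⟶ Red.Ga S, (rp (g ≫ w) y).snd = 0 := fun f hf g => by
      subst hf
      rw [hr (algebraMap k (DualNumber k)) g, h0, map_zero, zero_mul, TrivSqZeroExt.snd_zero]
    exact key _ hf.symm RootIntrinsic.eGa)
  let h : U ⟶ Red.Ga S := BGaNotS.gaPt (u.left.appTop y)
  let cst : ∀ (X : Over S), k → Γ(X.left, ⊤) := fun X a => X.hom.appTop ((Scheme.ΓSpecIso (CommRingCat.of k)).inv a)
  let g : Red.Ga S ⟶ Red.Ga S := BGaNotS.gaPt (cst _ r⁻¹ * Red.gaFn (𝟙 (Red.Ga S)))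
  have hval : ∀ {X : Over S} (x : X ⟶ Red.Ga S) (a : k),
      x.left.appTop (cst (Red.Ga S) a) = cst X a := fun {X} x a => by
    show x.left.appTop ((Red.Ga S).hom.appTop _) = X.hom.appTop _
    rw [← Over.w x, Scheme.Hom.comp_appTop]
    rfl
  have hg : ∀ {X : Over S} (x : X ⟶ Red.Ga S), Red.gaFn (x ≫ g) = cst X r⁻¹ * Red.gaFn x := fun {X} x => by
    rw [BGaNotS.gaFn_comp, BGaNotS.gaFn_gaPt, map_mul, hval, ← BGaNotS.gaFn_comp, Category.comp_id]
  have hzh : ∀ {X : Over S} (x : X ⟶ Red.Ga S), Red.gaFn ((x ≫ z) ≫ h) = cst X r * Red.gaFn x := by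
    have : z ≫ h = BGaNotS.gaPt (cst _ r * Red.gaFn (𝟙 (Red.Ga S))) := hom_ext_pts _ _ fun B _ f p => by
      obtain ⟨φ, rfl⟩ := Spec.map_surjective f
      refine BGaNotS.gaPt_ext ?_
      rw [← Category.assoc, gaFn_coord, ← RingHom.comp_apply (rp (p ≫ z)), ← rp_comp, Category.assoc, hz]
      rw [show rp (p ≫ w) y = φ.hom r * gval p from hr φ.hom p, BGaNotS.gaFn_comp, BGaNotS.gaFn_gaPt, map_mul, map_mul, hval, ← BGaNotS.gaFn_comp,
        Category.comp_id]
      congr 1
      · exact ConcreteCategory.congr_hom (Scheme.ΓSpecIso_inv_naturality (CommRingCat.ofHom φ.hom)) r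
      · exact ConcreteCategory.congr_hom (Scheme.ΓSpecIso (CommRingCat.of B)).hom_inv_id _
    intro X x
    rw [Category.assoc, this, BGaNotS.gaFn_comp, BGaNotS.gaFn_gaPt, map_mul, hval, ← BGaNotS.gaFn_comp,
      Category.comp_id]
  have hcst : ∀ (X : Over S), cst X r⁻¹ * cst X r = 1 := fun X => by
    show X.hom.appTop _ * X.hom.appTop _ = 1
    rw [← map_mul, ← map_mul, inv_mul_cancel₀ hr0, map_one, map_one]
  haveI : IsIso (z ≫ h) := ⟨g, BGaNotS.gaPt_ext (by
      rw [hg, ← Category.id_comp (z ≫ h), ← Category.assoc (𝟙 _), hzh, ← _root_.mul_assoc, hcst, _root_.one_mul]),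
    BGaNotS.gaPt_ext (by
      rw [← Category.assoc g, hzh, ← Category.id_comp g, hg, ← _root_.mul_assoc, mul_comm (cst _ r), hcst,
        _root_.one_mul])⟩
  exact IsIso.of_isIso_comp_left z h

end Groth.Agent.RootBase
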