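import Groth.Agent.RootBase.Rank2

/-!
# The relations of type G₂ of a pinning
-/

set_option autoImplicit false
set_option backward.isDefEq.respectTransparency false
set_option linter.style.haveILetI false
set_option maxHeartbeats 1000000
set_option synthInstance.maxHeartbeats 400000

universe u

open CategoryTheory Limits MonoidalCategory CartesianMonoidalCategory MonObj GrpObj AlgebraicGeometry LieS
open scoped CategoryTheory.Obj

noncomputable section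

namespace Groth.Agent.RootBase

open Groth.Agent.HomDiag Groth.Agent.DynPar Groth.Agent.RootSys Groth.Agent.MTBridge

variable {S : Scheme.{u}} {G : Over S} [GrpObj G] {M : Type} [AddCommGroup M]
  {c : Red.DS S M ⟶ G} {idx : Type} {P : RootPairing idx ℤ M (Module.Dual ℤ M)}

/-- A conjugation carrying a root group to another one with a factor. -/
def Moves (u : idx → (Red.Ga S ⟶ G)) (N : 𝟙_ (Over S) ⟶ G) (l l' : idx) (σ : Γ(S, ⊤)) : Prop :=
  ∀ (X : Over S) (x : X ⟶ Red.Ga S), cj N (x ≫ u l) = scl σ x ≫ u l'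

/-- Six positive roots of type G₂, with the action of the two Weyl elements. -/
structure G2Sys (c : Red.DS S M ⟶ G) [Fintype idx] [Module.Free ℤ M] [Module.Finite ℤ M]
    (P : RootPairing idx ℤ M (Module.Dual ℤ M)) (v : idx → (Red.Ga S ⟶ G)) (a a' b b' c₁ c₂ c₃ c₄ : idx)
    (Na Nb : 𝟙_ (Over S) ⟶ G) : Prop where
  frame : Frame c P.root v
  weylA : IsWeyl c P v a a' Na
  weylB : IsWeyl c P v b b' Nb
  li : ∀ x y : ℤ, x • P.root a + y • P.root b = 0 → x = 0 ∧ y = 0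
  r₁ : P.root c₁ = P.root a + P.root b
  r₂ : P.root c₂ = (2 : ℤ) • P.root a + P.root b
  r₃ : P.root c₃ = (3 : ℤ) • P.root a + P.root b
  r₄ : P.root c₄ = (3 : ℤ) • P.root a + (2 : ℤ) • P.root b
  only : ∀ (d : idx) (p q : ℕ), 1 ≤ p → 1 ≤ q → P.root d = (p : ℤ) • P.root a + (q : ℤ) • P.root b →
    (p = 1 ∧ q = 1) ∨ (p = 2 ∧ q = 1) ∨ (p = 3 ∧ q = 1) ∨ (p = 3 ∧ q = 2)
  a1 : Moves v Na c₁ c₂ 1
  a2 : Moves v Na c₂ c₁ (-1)
  a3 : Moves v Na c₃ b (-1)
  a4 : Moves v Na c₄ c₄ 1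
  ab : Moves v Na b c₃ 1
  b1 : Moves v Nb c₁ a (-1)
  b2 : Moves v Nb c₂ c₂ 1
  b3 : Moves v Nb c₃ c₄ 1
  b4 : Moves v Nb c₄ c₃ (-1)
  ba : Moves v Nb a c₁ 1

variable [Module.Free ℤ M] [Module.Finite ℤ M] [Fintype idx]

/-- Two roots commuting with the root groups of `a, a'` commute with its Weyl element. -/
theorem IsWeyl.fixes [P.IsReduced] {u : idx → (Red.Ga S ⟶ G)} (F : Frame c P.root u) {a a' : idx}
    {N : 𝟙_ (Over S) ⟶ G} (W : IsWeyl c P u a a' N) {d : idx} {v : Red.Ga S ⟶ G}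
    (hv : Red.IsRootHom c (Red.chi S (P.root d)) v)
    (hli : ∀ x y : ℤ, x • P.root a + y • P.root d = 0 → x = 0 ∧ y = 0)
    (hp : P.root a + P.root d ∉ Set.range P.root) (hm : P.root d - P.root a ∉ Set.range P.root)
    {X : Over S} (x : X ⟶ Red.Ga S) : cj N (x ≫ v) = x ≫ v := by
  rw [cj]
  refine mul_inv_eq_iff_eq_mul.2 ?_
  have hm' : P.root a' + P.root d ∉ Set.range P.root := by rw [W.opp, neg_add_eq_sub]; exact hm
  rw [W.eq, MonObj.comp_mul, MonObj.comp_mul, ← Category.assoc, ← Category.assoc, eOne_comp, eC_comp]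
  exact (((show Commute (eOne X ≫ u a) (x ≫ v) from F.commute_hom hv hli hp _ _).mul_left
    (F.commute_hom hv (li_neg hli W.opp) hm' _ _)).mul_left (F.commute_hom hv hli hp _ _)).eq

/-- The roots of type G₂ and their conjugates. -/
theorem exists_g2 [P.IsReduced] {u : idx → (Red.Ga S ⟶ G)} (F : Frame c P.root u) {a a' b b' : idx}
    {Na Nb : 𝟙_ (Over S) ⟶ G} (hcor : ∀ x y, P.coroot x (P.root y) = P.pairing y x)
    (Wa : IsWeyl c P u a a' Na) (Wb : IsWeyl c P u b b' Nb)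
    (hli : ∀ x y : ℤ, x • P.root a + y • P.root b = 0 → x = 0 ∧ y = 0)
    (hbot : P.root b - P.root a ∉ Set.range P.root) (hba : P.pairing b a = -3) (hab : P.pairing a b = -1) :
    ∃ (v : idx → (Red.Ga S ⟶ G)) (c₁ c₂ c₃ c₄ : idx), G2Sys c P v a a' b b' c₁ c₂ c₃ c₄ Na Nb ∧
      v a = u a ∧ v b = u b ∧ v c₁ = cj Nb (u a) ∧ v c₂ = cj Na (cj Nb (u a)) ∧ v c₃ = cj Na (u b) ∧
        v c₄ = cj Nb (cj Na (u b)) := by
  classical
  let c₁ := P.reflectionPerm b a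
  let c₂ := P.reflectionPerm a c₁
  let c₃ := P.reflectionPerm a b
  let c₄ := P.reflectionPerm b c₃
  have h₁ : P.root c₁ = P.root a + P.root b := by
    rw [show c₁ = P.reflectionPerm b a from rfl, root_refl, hab]; module
  have h₂ : P.root c₂ = (2 : ℤ) • P.root a + P.root b := by
    rw [show c₂ = P.reflectionPerm a c₁ from rfl, root_refl, pairing_root_combo (a := a) (b := b) (d := c₁) (p := 1)
      (q := 1) (by rw [h₁, one_smul, one_smul]), P.pairing_same, hba, h₁]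
    module
  have h₃ : P.root c₃ = (3 : ℤ) • P.root a + P.root b := by
    rw [show c₃ = P.reflectionPerm a b from rfl, root_refl, hba]; module
  have h₄ : P.root c₄ = (3 : ℤ) • P.root a + (2 : ℤ) • P.root b := by
    rw [show c₄ = P.reflectionPerm b c₃ from rfl, root_refl, pairing_root_combo (a := a) (b := b) (d := c₃) (p := 3)
      (q := 1) (by rw [h₃, one_smul]), P.pairing_same, hab, h₃]
    module
  have hne : ∀ (l r : idx) (p q p' q' : ℤ), p • P.root a + q • P.root b = P.root l →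
      p' • P.root a + q' • P.root b = P.root r → (p ≠ p' ∨ q ≠ q') → l ≠ r := by
    rintro l r p q p' q' h h' hpq rfl
    obtain ⟨e1, e2⟩ := hli (p - p') (q - q') (by linear_combination (norm := module) h - h')
    omega
  have e₁ : (1 : ℤ) • P.root a + (1 : ℤ) • P.root b = P.root c₁ := by rw [h₁]; module
  have e₂ : (2 : ℤ) • P.root a + (1 : ℤ) • P.root b = P.root c₂ := by rw [h₂]; module
  have e₃ : (3 : ℤ) • P.root a + (1 : ℤ) • P.root b = P.root c₃ := by rw [h₃]; module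
  have e₄ : (3 : ℤ) • P.root a + (2 : ℤ) • P.root b = P.root c₄ := h₄.symm
  have r₁ := Wb.rootHom_refl hcor Wa.hua
  have r₂ := Wa.rootHom_refl hcor r₁
  have r₃ := Wa.rootHom_refl hcor Wb.hua
  have r₄ := Wb.rootHom_refl hcor r₃
  let v := Function.update (Function.update (Function.update (Function.update u c₁ (cj Nb (u a))) c₂
    (cj Na (cj Nb (u a)))) c₃ (cj Na (u b))) c₄ (cj Nb (cj Na (u b)))
  have F' : Frame c P.root v := (((F.update c₁ r₁).update c₂ r₂).update c₃ r₃).update c₄ r₄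
  have n12 : c₁ ≠ c₂ := hne _ _ _ _ _ _ e₁ e₂ (by omega)
  have n13 : c₁ ≠ c₃ := hne _ _ _ _ _ _ e₁ e₃ (by omega)
  have n14 : c₁ ≠ c₄ := hne _ _ _ _ _ _ e₁ e₄ (by omega)
  have n23 : c₂ ≠ c₃ := hne _ _ _ _ _ _ e₂ e₃ (by omega)
  have n24 : c₂ ≠ c₄ := hne _ _ _ _ _ _ e₂ e₄ (by omega)
  have n34 : c₃ ≠ c₄ := hne _ _ _ _ _ _ e₃ e₄ (by omega)
  have v1 : v c₁ = cj Nb (u a) := by
    simp only [v, Function.update_of_ne n14, Function.update_of_ne n13, Function.update_of_ne n12, Function.update_self]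
  have v2 : v c₂ = cj Na (cj Nb (u a)) := by
    simp only [v, Function.update_of_ne n24, Function.update_of_ne n23, Function.update_self]
  have v3 : v c₃ = cj Na (u b) := by simp only [v, Function.update_of_ne n34, Function.update_self]
  have v4 : v c₄ = cj Nb (cj Na (u b)) := by simp only [v, Function.update_self]
  have vo : ∀ (l : idx) (p q : ℤ), p • P.root a + q • P.root b = P.root l → (p ≤ 0 ∨ q ≤ 0) → v l = u l :=
    fun l p q h hpq => by
      simp only [v, Function.update_of_ne (hne _ _ _ _ _ _ h e₁ (by omega)),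
        Function.update_of_ne (hne _ _ _ _ _ _ h e₂ (by omega)),
        Function.update_of_ne (hne _ _ _ _ _ _ h e₃ (by omega)),
        Function.update_of_ne (hne _ _ _ _ _ _ h e₄ (by omega))]
  have va : v a = u a := vo a 1 0 (by module) (Or.inr le_rfl)
  have vb : v b = u b := vo b 0 1 (by module) (Or.inl le_rfl)
  have va' : v a' = u a' := vo a' (-1) 0 (by rw [Wa.opp]; module) (Or.inr le_rfl)
  have vb' : v b' = u b' := vo b' 0 (-1) (by rw [Wb.opp]; module) (Or.inl le_rfl)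
  have hodd : ∀ k : ℤ, k = -3 ∨ k = -1 → (par k : Γ(S, ⊤)) = -1 := fun k hk =>
    par_odd (by rcases hk with rfl | rfl <;> decide)
  have sqa : ∀ (X : Over S) (x : X ⟶ Red.Ga S), cj Na (cj Na (x ≫ u b)) = scl (-1) x ≫ u b := fun X x => by
    rw [Wa.cj_sq Wb.hua, hcor, hba, hodd _ (Or.inl rfl)]
  have sqb : ∀ (X : Over S) (x : X ⟶ Red.Ga S), cj Nb (cj Nb (x ≫ u a)) = scl (-1) x ≫ u a := fun X x => by
    rw [Wb.cj_sq Wa.hua, hcor, hab, hodd _ (Or.inr rfl)]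
  refine ⟨v, c₁, c₂, c₃, c₄, ⟨F', Wa.congr va va', Wb.congr vb vb', hli, h₁, h₂, h₃, h₄, fun d p q hp hq hd => ?_,
    fun X x => ?_, fun X x => ?_, fun X x => ?_, fun X x => ?_, fun X x => ?_, fun X x => ?_, fun X x => ?_,
    fun X x => ?_, fun X x => ?_, fun X x => ?_⟩, va, vb, v1, v2, v3, v4⟩
  · rcases combos hli hbot (k := -3) (Or.inr (Or.inr (Or.inr rfl))) hba (by rw [hab]; rfl) hp hq hd with ⟨h5, h6⟩ | ⟨h5, -⟩
    · omega
    · omega
  · rw [v1, v2, scl_one]; simp only [comp_cj]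
  · rw [v1, v2, comp_cj, Wa.cj_sq r₁, hcor, pairing_root_combo (a := a) (b := b) (p := 1) (q := 1)
      (by rw [h₁, one_smul, one_smul]), P.pairing_same, hba, hodd _ (Or.inr (by norm_num))]
  · rw [v3, vb, comp_cj, sqa]
  · rw [v4, scl_one]
    refine Wa.fixes F r₄ (fun x y h => ?_) ?_ ?_ x
    · obtain ⟨e5, e6⟩ := hli (x + 3 * y) (2 * y) (by rw [← h, h₄]; module); omega
    · rw [show P.root a + P.root c₄ = (2 : ℤ) • P.root c₂ by rw [h₄, h₂]; module]; exact (not_two c₂).1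
    · rw [show P.root c₄ - P.root a = (2 : ℤ) • P.root c₁ by rw [h₄, h₁]; module]; exact (not_two c₁).1
  · rw [v3, vb, scl_one, comp_cj]
  · rw [v1, va, comp_cj, sqb]
  · rw [v2, scl_one]
    refine Wb.fixes F r₂ (fun x y h => ?_) ?_ ?_ x
    · obtain ⟨e5, e6⟩ := hli (2 * y) (x + y) (by rw [← h, h₂]; module); omega
    · rw [show P.root b + P.root c₂ = (2 : ℤ) • P.root c₁ by rw [h₂, h₁]; module]; exact (not_two c₁).1
    · rw [show P.root c₂ - P.root b = (2 : ℤ) • P.root a by rw [h₂]; module]; exact (not_two a).1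
  · rw [v3, v4, scl_one]; simp only [comp_cj]
  · rw [v3, v4, comp_cj, Wb.cj_sq r₃, hcor, pairing_root_combo (a := a) (b := b) (p := 3) (q := 1)
      (by rw [h₃, one_smul]), P.pairing_same, hab, hodd _ (Or.inr (by norm_num))]
  · rw [v1, va, scl_one, comp_cj]

variable {v : idx → (Red.Ga S ⟶ G)} {a a' b b' c₁ c₂ c₃ c₄ : idx} {Na Nb : 𝟙_ (Over S) ⟶ G}

/-- Distinct coordinates give distinct roots. -/
theorem G2Sys.inj_coords (H : G2Sys c P v a a' b b' c₁ c₂ c₃ c₄ Na Nb) {n : ℕ} (e : Fin n → idx)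
    (p q : Fin n → ℤ) (he : ∀ k, P.root (e k) = p k • P.root a + q k • P.root b)
    (hpq : ∀ k l, p k = p l → q k = q l → k = l) : Function.Injective e := fun k l h => by
  obtain ⟨e1, e2⟩ := H.li (p k - p l) (q k - q l) (by
    have := congrArg P.root h
    rw [he, he] at this
    linear_combination (norm := module) this)
  exact hpq k l (by omega) (by omega)

theorem G2Sys.li_combo (H : G2Sys c P v a a' b b' c₁ c₂ c₃ c₄ Na Nb) {l r : idx} (p q p' q' : ℤ)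
    (hl : P.root l = p • P.root a + q • P.root b) (hr : P.root r = p' • P.root a + q' • P.root b)
    (hdet : p * q' - q * p' ≠ 0) : ∀ x y : ℤ, x • P.root l + y • P.root r = 0 → x = 0 ∧ y = 0 := fun x y h => by
  obtain ⟨e1, e2⟩ := H.li (x * p + y * p') (x * q + y * q') (by rw [← h, hl, hr]; module)
  have hx : x * (p * q' - q * p') = 0 := by linear_combination q' * e1 - p' * e2
  have hy : y * (p * q' - q * p') = 0 := by linear_combination p * e2 - q * e1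
  exact ⟨(mul_eq_zero.1 hx).resolve_right hdet, (mul_eq_zero.1 hy).resolve_right hdet⟩

/-- Two positive roots whose sum is none commute. -/
theorem G2Sys.commute [P.IsReduced] (H : G2Sys c P v a a' b b' c₁ c₂ c₃ c₄ Na Nb) {l r : idx} (p q p' q' : ℕ)
    (hl : P.root l = (p : ℤ) • P.root a + (q : ℤ) • P.root b) (hr : P.root r = (p' : ℤ) • P.root a + (q' : ℤ) • P.root b)
    (hdet : (p : ℤ) * q' - q * p' ≠ 0) (hp : 1 ≤ p + p') (hq : 1 ≤ q + q')
    (hno : ¬ ((p + p' = 1 ∧ q + q' = 1) ∨ (p + p' = 2 ∧ q + q' = 1) ∨ (p + p' = 3 ∧ q + q' = 1) ∨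
      (p + p' = 3 ∧ q + q' = 2)))
    {X : Over S} (x y : X ⟶ Red.Ga S) : (x ≫ v l) * (y ≫ v r) = (y ≫ v r) * (x ≫ v l) :=
  H.frame.commute (H.li_combo _ _ _ _ hl hr hdet) (fun ⟨d, hd⟩ => hno (H.only d _ _ hp hq (by
    rw [hd, hl, hr]; push_cast; module))) x y

/-- The exact formulas of type G₂. -/
theorem G2Sys.formulas [P.IsReduced] (H : G2Sys c P v a a' b b' c₁ c₂ c₃ c₄ Na Nb) :
    (∃ C, Formula P v a b ![c₁, c₂, c₃, c₄] ![1, 2, 3, 3] ![1, 1, 1, 2] C ∧ C = ![-1, 1, 1, 1]) ∧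
    (∃ C, Formula P v a c₁ ![c₂, c₃, c₄] ![1, 2, 1] ![1, 1, 2] C ∧ C = ![-2, -3, 3]) ∧
    (∃ C, Formula P v a c₂ ![c₃] ![1] ![1] C ∧ C = ![3]) ∧
    (∃ C, Formula P v b c₃ ![c₄] ![1] ![1] C ∧ C = ![1]) ∧
    ∃ C, Formula P v c₁ c₂ ![c₄] ![1] ![1] C ∧ C = ![3] := by
  classical
  have F := H.frame
  have ea : P.root a = (1 : ℤ) • P.root a + (0 : ℤ) • P.root b := by module
  have eb : P.root b = (0 : ℤ) • P.root a + (1 : ℤ) • P.root b := by module
  have e₁ : P.root c₁ = (1 : ℤ) • P.root a + (1 : ℤ) • P.root b := by rw [H.r₁]; module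
  have e₂ : P.root c₂ = (2 : ℤ) • P.root a + (1 : ℤ) • P.root b := by rw [H.r₂]; module
  have e₃ : P.root c₃ = (3 : ℤ) • P.root a + (1 : ℤ) • P.root b := by rw [H.r₃]; module
  have e₄ := H.r₄
  have ea' : P.root a' = (-1 : ℤ) • P.root a + (0 : ℤ) • P.root b := by rw [H.weylA.opp]; module
  have eb' : P.root b' = (0 : ℤ) • P.root a + (-1 : ℤ) • P.root b := by rw [H.weylB.opp]; module
  have hfind : ∀ (d : idx) (p q : ℕ), 1 ≤ p → 1 ≤ q → P.root d = (p : ℤ) • P.root a + (q : ℤ) • P.root b →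
      (p = 1 ∧ q = 1 ∧ d = c₁) ∨ (p = 2 ∧ q = 1 ∧ d = c₂) ∨ (p = 3 ∧ q = 1 ∧ d = c₃) ∨ (p = 3 ∧ q = 2 ∧ d = c₄) :=
    fun d p q hp hq hd => by
      rcases H.only d p q hp hq hd with ⟨rfl, rfl⟩ | ⟨rfl, rfl⟩ | ⟨rfl, rfl⟩ | ⟨rfl, rfl⟩
      · exact Or.inl ⟨rfl, rfl, P.root.injective (hd.trans e₁.symm)⟩
      · exact Or.inr (Or.inl ⟨rfl, rfl, P.root.injective (hd.trans e₂.symm)⟩)
      · exact Or.inr (Or.inr (Or.inl ⟨rfl, rfl, P.root.injective (hd.trans e₃.symm)⟩))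
      · exact Or.inr (Or.inr (Or.inr ⟨rfl, rfl, P.root.injective (hd.trans e₄.symm)⟩))
  have hl0 := H.li
  have hl1 := H.li_combo (l := a) (r := c₁) 1 0 1 1 ea e₁ (by norm_num)
  have hl2 := H.li_combo (l := a) (r := c₂) 1 0 2 1 ea e₂ (by norm_num)
  have hl3 := H.li_combo (l := b) (r := c₃) 0 1 3 1 eb e₃ (by norm_num)
  have hl4 := H.li_combo (l := c₁) (r := c₂) 1 1 2 1 e₁ e₂ (by norm_num)
  have hl5 := H.li_combo (l := a') (r := c₃) (-1) 0 3 1 ea' e₃ (by norm_num)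
  have hl6 := H.li_combo (l := c₁) (r := b') 1 1 0 (-1) e₁ eb' (by norm_num)
  obtain ⟨C, hf⟩ := F.exists_formula' hl0 ![c₁, c₂, c₃, c₄] ![1, 2, 3, 3] ![1, 1, 1, 2]
    (H.inj_coords _ ![1, 2, 3, 3] ![1, 1, 1, 2] (fun k => by fin_cases k <;> simp [e₁, e₂, e₃, e₄]) (by decide))
    (fun k => ⟨by fin_cases k <;> simp, by fin_cases k <;> simp, by fin_cases k <;> simp [e₁, e₂, e₃, e₄]⟩)
    (fun d p q hp hq hd => by
      rcases hfind d p q hp hq hd with ⟨-, -, rfl⟩ | ⟨-, -, rfl⟩ | ⟨-, -, rfl⟩ | ⟨-, -, rfl⟩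
      exacts [⟨0, rfl⟩, ⟨1, rfl⟩, ⟨2, rfl⟩, ⟨3, rfl⟩])
  obtain ⟨C₁, hf₁⟩ := F.exists_formula' hl1 ![c₂, c₃, c₄] ![1, 2, 1] ![1, 1, 2]
    (H.inj_coords _ ![2, 3, 3] ![1, 1, 2] (fun k => by fin_cases k <;> simp [e₂, e₃, e₄]) (by decide))
    (fun k => ⟨by fin_cases k <;> simp, by fin_cases k <;> simp, by
      fin_cases k <;> simp [e₁, e₂, e₃, e₄] <;> module⟩)
    (fun d p q hp hq hd => by
      rcases hfind d (p + q) q (by omega) hq (by rw [hd, e₁]; push_cast; module) with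
        ⟨h, h', rfl⟩ | ⟨-, -, rfl⟩ | ⟨-, -, rfl⟩ | ⟨-, -, rfl⟩
      exacts [absurd h (by omega), ⟨0, rfl⟩, ⟨1, rfl⟩, ⟨2, rfl⟩])
  obtain ⟨C₂, hf₂⟩ := F.exists_formula' hl2 ![c₃] ![1] ![1] (Function.injective_of_subsingleton _)
    (fun k => ⟨by fin_cases k; simp, by fin_cases k; simp, by fin_cases k; simp [e₂, e₃]; module⟩)
    (fun d p q hp hq hd => by
      rcases hfind d (p + 2 * q) q (by omega) hq (by rw [hd, e₂]; push_cast; module) with
        ⟨h, h', rfl⟩ | ⟨h, h', rfl⟩ | ⟨h, h', rfl⟩ | ⟨h, h', rfl⟩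
      all_goals first | omega | exact ⟨0, rfl⟩)
  obtain ⟨C₃, hf₃⟩ := F.exists_formula' hl3 ![c₄] ![1] ![1] (Function.injective_of_subsingleton _)
    (fun k => ⟨by fin_cases k; simp, by fin_cases k; simp, by fin_cases k; simp [e₃, e₄]; module⟩)
    (fun d p q hp hq hd => by
      rcases hfind d (3 * q) (p + q) (by omega) (by omega) (by rw [hd, e₃]; push_cast; module) with
        ⟨h, h', rfl⟩ | ⟨h, h', rfl⟩ | ⟨h, h', rfl⟩ | ⟨h, h', rfl⟩
      all_goals first | omega | exact ⟨0, rfl⟩)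
  obtain ⟨C₄, hf₄⟩ := F.exists_formula' hl4 ![c₄] ![1] ![1] (Function.injective_of_subsingleton _)
    (fun k => ⟨by fin_cases k; simp, by fin_cases k; simp, by fin_cases k; simp [e₁, e₂, e₄]; module⟩)
    (fun d p q hp hq hd => by
      rcases hfind d (p + 2 * q) (p + q) (by omega) (by omega) (by rw [hd, e₁, e₂]; push_cast; module) with
        ⟨h, h', rfl⟩ | ⟨h, h', rfl⟩ | ⟨h, h', rfl⟩ | ⟨h, h', rfl⟩
      all_goals first | omega | exact ⟨0, rfl⟩)
  have hperm : ∀ (l r : idx) (p q : ℤ) (d : idx), P.root d = p • P.root l + q • P.root r → ∀ z : idx,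
      P.root (P.reflectionPerm z d) = p • P.root (P.reflectionPerm z l) + q • P.root (P.reflectionPerm z r) :=
    fun l r p q d hd z => by
      rw [P.root_reflectionPerm, P.root_reflectionPerm, P.root_reflectionPerm, hd, _root_.map_add,
        _root_.map_smul, _root_.map_smul]
  obtain ⟨C₅, hf₅⟩ := F.exists_formula' hl5 ![c₂, c₁, b, c₄] ![1, 2, 3, 3] ![1, 1, 1, 2]
    (H.inj_coords _ ![2, 1, 0, 3] ![1, 1, 1, 2] (fun k => by fin_cases k <;> simp [e₁, e₂, e₄]) (by decide))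
    (fun k => ⟨by fin_cases k <;> simp, by fin_cases k <;> simp, by
      fin_cases k <;> simp [e₁, e₂, e₃, e₄, ea'] <;> module⟩)
    (fun d p q hp hq hd => by
      have hba : P.pairing b a = -3 := by
        have hc := P.pairingIn_pairingIn_mem_set_of_isCrystal_of_isRed' (i := b) (j := a)
          (fun h => by obtain ⟨h5, -⟩ := H.li 1 (-1) (by rw [h]; module); omega)
          (fun h => by obtain ⟨h5, -⟩ := H.li 1 1 (by rw [h]; module); omega)
        obtain ⟨p', q', hpq, hle, htop, hbot⟩ := exists_chain P H.li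
        have h3 := (htop 3).1 ⟨c₃, H.r₃⟩
        simp only [pairingIn_int, Set.mem_insert_iff, Set.mem_singleton_iff, Prod.mk.injEq] at hc
        omega
      have hs : P.root (P.reflectionPerm a d) = (p : ℤ) • P.root a + (q : ℤ) • P.root b := by
        rw [hperm a' c₃ p q d hd a, root_refl, root_refl, pairing_root_combo ea', pairing_root_combo e₃,
          P.pairing_same, hba, ea', e₃]
        module
      have back : ∀ z, P.reflectionPerm a d = z → P.root d = P.root z - P.pairing z a • P.root a := fun z hz => by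
        rw [← root_refl, ← hz, P.reflectionPerm_self]
      rcases hfind _ p q hp hq hs with ⟨-, -, h⟩ | ⟨-, -, h⟩ | ⟨-, -, h⟩ | ⟨-, -, h⟩
      · exact ⟨0, P.root.injective (by
          rw [back _ h, pairing_root_combo e₁, P.pairing_same, hba, e₁]; simp [e₂]; module)⟩
      · exact ⟨1, P.root.injective (by
          rw [back _ h, pairing_root_combo e₂, P.pairing_same, hba, e₂]; simp [e₁]; module)⟩
      · exact ⟨2, P.root.injective (by
          rw [back _ h, pairing_root_combo e₃, P.pairing_same, hba, e₃]; simp)⟩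
      · exact ⟨3, P.root.injective (by
          rw [back _ h, pairing_root_combo e₄, P.pairing_same, hba, e₄]; simp [e₄])⟩)
  obtain ⟨C₆, hf₆⟩ := F.exists_formula' hl6 ![a, c₂, c₄, c₃] ![1, 2, 3, 3] ![1, 1, 1, 2]
    (H.inj_coords _ ![1, 2, 3, 3] ![0, 1, 2, 1] (fun k => by fin_cases k <;> simp [e₂, e₃, e₄]) (by decide))
    (fun k => ⟨by fin_cases k <;> simp, by fin_cases k <;> simp, by
      fin_cases k <;> simp [e₁, e₂, e₃, e₄, eb'] <;> module⟩)
    (fun d p q hp hq hd => by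
      have hab : P.pairing a b = -1 := by
        have hc := P.pairingIn_pairingIn_mem_set_of_isCrystal_of_isRed' (i := b) (j := a)
          (fun h => by obtain ⟨h5, -⟩ := H.li 1 (-1) (by rw [h]; module); omega)
          (fun h => by obtain ⟨h5, -⟩ := H.li 1 1 (by rw [h]; module); omega)
        obtain ⟨p', q', hpq, hle, htop, hbot⟩ := exists_chain P H.li
        have h3 := (htop 3).1 ⟨c₃, H.r₃⟩
        simp only [pairingIn_int, Set.mem_insert_iff, Set.mem_singleton_iff, Prod.mk.injEq] at hc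
        omega
      have hs : P.root (P.reflectionPerm b d) = (p : ℤ) • P.root a + (q : ℤ) • P.root b := by
        rw [hperm c₁ b' p q d hd b, root_refl, root_refl, pairing_root_combo e₁, pairing_root_combo eb',
          P.pairing_same, hab, e₁, eb']
        module
      have back : ∀ z, P.reflectionPerm b d = z → P.root d = P.root z - P.pairing z b • P.root b := fun z hz => by
        rw [← root_refl, ← hz, P.reflectionPerm_self]
      rcases hfind _ p q hp hq hs with ⟨-, -, h⟩ | ⟨-, -, h⟩ | ⟨-, -, h⟩ | ⟨-, -, h⟩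
      · exact ⟨0, P.root.injective (by rw [back _ h, pairing_root_combo e₁, P.pairing_same, hab, e₁]; simp)⟩
      · exact ⟨1, P.root.injective (by rw [back _ h, pairing_root_combo e₂, P.pairing_same, hab, e₂]; simp [e₂])⟩
      · exact ⟨2, P.root.injective (by
          rw [back _ h, pairing_root_combo e₃, P.pairing_same, hab, e₃]; simp [e₄]; module)⟩
      · exact ⟨3, P.root.injective (by
          rw [back _ h, pairing_root_combo e₄, P.pairing_same, hab, e₄]; simp [e₃]; module)⟩)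
  have ma : Moves v Na a a' (-1) := fun X x => by rw [H.weylA.pos, scl_neg_one]
  have mb : Moves v Nb b b' (-1) := fun X x => by rw [H.weylB.pos, scl_neg_one]
  have T5 := fun k => Formula.transport F hl5 hf hf₅ Na (-1) 1 ![1, -1, -1, 1] ma H.ab
    (fun l => by fin_cases l <;> [exact H.a1; exact H.a2; exact H.a3; exact H.a4]) k
  have T6 := fun k => Formula.transport F hl6 hf hf₆ Nb 1 (-1) ![-1, 1, 1, -1] H.ba mb
    (fun l => by fin_cases l <;> [exact H.b1; exact H.b2; exact H.b3; exact H.b4]) k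
  have T4 := Formula.transport F hl4 hf₂ hf₄ Nb 1 1 ![1] H.ba H.b2 (fun l => by fin_cases l; exact H.b3) 0
  simp at T4
  have hd1 : P.root c₁ = ((1 : ℕ) : ℤ) • P.root a + P.root b := by rw [e₁]; push_cast; module
  have hd2 : P.root c₂ = ((2 : ℕ) : ℤ) • P.root a + P.root b := by rw [e₂]; push_cast; module
  have hd3 : P.root c₃ = ((3 : ℕ) : ℤ) • P.root a + P.root b := by rw [e₃]; push_cast; module
  have htop : ∀ (l r : idx) (p q : ℕ), P.root l + P.root r = (p : ℤ) • P.root a + (q : ℤ) • P.root b → 1 ≤ p →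
      1 ≤ q → ¬ ((p = 1 ∧ q = 1) ∨ (p = 2 ∧ q = 1) ∨ (p = 3 ∧ q = 1) ∨ (p = 3 ∧ q = 2)) →
      P.root l + P.root r ∉ Set.range P.root := fun l r p q h hp hq hno ⟨d, hd⟩ =>
    hno (H.only d p q hp hq (hd.trans h))
  have k01 : IsCoef P v a b c₁ 1 (-1) := F.coef_symm hl0 H.r₁
    (H.weylB.coef_top F le_rfl (li_symm P hl0) (show P.root c₁ = ((1 : ℕ) : ℤ) • P.root b + P.root a by
      rw [e₁]; push_cast; module) (htop b c₁ 1 2 (by rw [e₁]; push_cast; module) le_rfl one_le_two (by omega)) 1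
      (H.ba _ _)).1
  obtain ⟨k03, kmid, -⟩ := H.weylA.coef_top F (m := 3) (by omega) hl0 hd3
    (htop a c₃ 4 1 (by rw [e₃]; push_cast; module) (by omega) le_rfl (by omega)) 1 (H.ab _ _)
  have C0 : C 0 = -1 := F.coef_eq hl0 hd1 (hf.isCoef 0 rfl) k01
  have C2 : C 2 = 1 := F.coef_eq hl0 hd3 (hf.isCoef 2 rfl) k03
  have C50 : C₅ 0 = 1 := by
    have h := T5 0
    simp [C0] at h
    exact h
  have C1 : C 1 = 1 := by
    rw [kmid c₂ 2 (C 1) (C₅ 0) one_le_two (by omega) hd2 (hf.isCoef 1 rfl) (hf₅.isCoef 0 rfl), C50, _root_.one_mul]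
  have k02 : IsCoef P v a b c₂ 2 1 := C1 ▸ hf.isCoef 1 rfl
  have k12 : IsCoef P v a c₁ c₂ 1 (C₁ 0) := hf₁.isCoef 0 rfl
  have k13 : IsCoef P v a c₁ c₃ 2 (C₁ 1) := hf₁.isCoef 1 rfl
  have k23 : IsCoef P v a c₂ c₃ 1 (C₂ 0) := hf₂.isCoef 0 rfl
  have C10 : C₁ 0 = -2 := by
    have h := congrArg (fun p => Polynomial.coeff p 1) (F.coef_comp hl0 (I := 2) one_le_two hd2 k02 (fun _ => c₁)
      (fun q => by rw [show q.val = 0 by omega]; exact hd1) (fun _ => -1) (fun _ => C₁ 0)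
      (fun q => by rw [show q.val = 0 by omega]; exact k01) (fun q => by rw [show q.val = 0 by omega]; exact k12))
    rw [show (Polynomial.X + 1 : Polynomial Γ(S, ⊤)) ^ 2 = Polynomial.X ^ 2 + Polynomial.C 2 * Polynomial.X + 1 by
      rw [map_ofNat]; ring] at h
    simp [Polynomial.coeff_X_pow, Polynomial.coeff_C, Polynomial.coeff_one] at h
    linear_combination h
  obtain ⟨C11, C20⟩ : C₁ 1 = -3 ∧ C₂ 0 = 3 := by
    have h := F.coef_comp hl0 (I := 3) (by omega) hd3 k03 ![c₁, c₂]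
      (fun q => by fin_cases q <;> simpa [hd1] using by first | exact hd1 | exact hd2)
      ![-1, 1] ![C₁ 1, C₂ 0] (fun q => by fin_cases q <;> first | exact k01 | exact k02)
      (fun q => by fin_cases q <;> first | exact k13 | exact k23)
    rw [show (Polynomial.X + 1 : Polynomial Γ(S, ⊤)) ^ 3 =
      Polynomial.X ^ 3 + Polynomial.C 3 * Polynomial.X ^ 2 + Polynomial.C 3 * Polynomial.X + 1 by
      rw [map_ofNat]; ring] at h
    have h2 := congrArg (fun p => Polynomial.coeff p 2) h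
    have h1 := congrArg (fun p => Polynomial.coeff p 1) h
    simp [Polynomial.coeff_C_mul, Polynomial.coeff_X_pow, Polynomial.coeff_C, mul_add, Polynomial.coeff_one,
      Polynomial.coeff_X, Fin.sum_univ_two] at h1 h2
    exact ⟨by linear_combination h2, by linear_combination -h1⟩
  have k3 : C₃ 0 = 1 := F.coef_eq hl3 (by rw [show (![c₄] : Fin 1 → idx) 0 = c₄ from rfl, e₃, e₄]; push_cast; module)
    (hf₃.isCoef 0 rfl) (H.weylB.coef_top F le_rfl hl3 (show P.root c₄ = ((1 : ℕ) : ℤ) • P.root b + P.root c₃ by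
      rw [e₃, e₄]; push_cast; module) (htop b c₄ 3 3 (by rw [e₄]; push_cast; module) (by omega) (by omega) (by omega))
      1 (H.b3 _ _)).1
  have C40 : C₄ 0 = 3 := by rw [T4, C20]
  -- commuting pairs
  have c31 : ∀ {X : Over S} (x y : X ⟶ Red.Ga S), (x ≫ v c₃) * (y ≫ v c₁) = (y ≫ v c₁) * (x ≫ v c₃) :=
    fun x y => H.commute 3 1 1 1 (by rw [e₃]; rfl) (by rw [e₁]; rfl) (by norm_num) (by omega) (by omega) (by omega) x y
  have c41 : ∀ {X : Over S} (x y : X ⟶ Red.Ga S), (x ≫ v c₄) * (y ≫ v c₁) = (y ≫ v c₁) * (x ≫ v c₄) :=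
    fun x y => H.commute 3 2 1 1 (by rw [e₄]; rfl) (by rw [e₁]; rfl) (by norm_num) (by omega) (by omega) (by omega) x y
  have c32 : ∀ {X : Over S} (x y : X ⟶ Red.Ga S), (x ≫ v c₃) * (y ≫ v c₂) = (y ≫ v c₂) * (x ≫ v c₃) :=
    fun x y => H.commute 3 1 2 1 (by rw [e₃]; rfl) (by rw [e₂]; rfl) (by norm_num) (by omega) (by omega) (by omega) x y
  have c42 : ∀ {X : Over S} (x y : X ⟶ Red.Ga S), (x ≫ v c₄) * (y ≫ v c₂) = (y ≫ v c₂) * (x ≫ v c₄) :=
    fun x y => H.commute 3 2 2 1 (by rw [e₄]; rfl) (by rw [e₂]; rfl) (by norm_num) (by omega) (by omega) (by omega) x y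
  have c43 : ∀ {X : Over S} (x y : X ⟶ Red.Ga S), (x ≫ v c₄) * (y ≫ v c₃) = (y ≫ v c₃) * (x ≫ v c₄) :=
    fun x y => H.commute 3 2 3 1 (by rw [e₄]; rfl) (by rw [e₃]; rfl) (by norm_num) (by omega) (by omega) (by omega) x y
  have cb1 : ∀ {X : Over S} (x y : X ⟶ Red.Ga S), (x ≫ v b) * (y ≫ v c₁) = (y ≫ v c₁) * (x ≫ v b) :=
    fun x y => H.commute 0 1 1 1 (by rw [Nat.cast_zero, Nat.cast_one]; exact eb) (by rw [e₁]; rfl) (by norm_num)
      (by omega) (by omega) (by omega) x y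
  have ca3 : ∀ {X : Over S} (x y : X ⟶ Red.Ga S), (x ≫ v a) * (y ≫ v c₃) = (y ≫ v c₃) * (x ≫ v a) :=
    fun x y => H.commute 1 0 3 1 (by rw [Nat.cast_zero, Nat.cast_one]; exact ea) (by rw [e₃]; rfl) (by norm_num)
      (by omega) (by omega) (by omega) x y
  have ca4 : ∀ {X : Over S} (x y : X ⟶ Red.Ga S), (x ≫ v a) * (y ≫ v c₄) = (y ≫ v c₄) * (x ≫ v a) :=
    fun x y => H.commute 1 0 3 2 (by rw [Nat.cast_zero, Nat.cast_one]; exact ea) (by rw [e₄]; rfl) (by norm_num)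
      (by omega) (by omega) (by omega) x y
  haveI := (F.hu a).1; haveI := (F.hu b).1; haveI := (F.hu b').1; haveI := (F.hu c₁).1; haveI := (F.hu c₂).1
  haveI := (F.hu c₃).1; haveI := (F.hu c₄).1
  let U := 𝟙_ (Over S)
  let o := eOne U
  obtain ⟨mu, hma, hmb⟩ := exists_pos_indep P H.li
  have hne5 : Function.Injective (![c₁, c₂, c₃, c₄, a] : Fin 5 → idx) :=
    H.inj_coords _ ![1, 2, 3, 3, 1] ![1, 1, 1, 2, 0] (fun k => by fin_cases k <;> simp [e₁, e₂, e₃, e₄]) (by decide)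
  have hmu5 : ∀ k, 0 < mu (P.root (![c₁, c₂, c₃, c₄, a] k)) := fun k => by
    fin_cases k <;> simp [e₁, e₂, e₃, e₄] <;> omega
  have hgo : Red.gaFn o = 1 := BGaNotS.gaFn_gaPt _
  have C3 : C 3 = 1 := by
    have T61 := T6 1; have T60 := T6 0; have T62 := T6 2; have T63 := T6 3
    simp [C0, C1, C2] at T60 T61 T62 T63
    let A : Fin 4 → (U ⟶ Red.Ga S) := ![o, o⁻¹, o⁻¹, eC U (C 3)]
    let B : Fin 4 → (U ⟶ Red.Ga S) := ![o⁻¹, o, o⁻¹, eC U (C 3)]
    have e1 := hf.eq U o o⁻¹ A fun k => by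
      fin_cases k <;> simp [A, hgo, gaFn_inv, C0, C1, C2, eC, BGaNotS.gaFn_gaPt]
    have e2 := hf₆.eq U o⁻¹ o⁻¹ B fun k => by
      fin_cases k <;> simp [B, hgo, gaFn_inv, eC, BGaNotS.gaFn_gaPt, U, appTop_unit] <;>
        first | linear_combination T60 | linear_combination T61 | linear_combination T62 | linear_combination T63 |
          linear_combination -T60 | linear_combination -T61 | linear_combination -T62 | linear_combination -T63
    simp only [A, B, word, List.ofFn_succ, List.ofFn_zero, List.prod_cons, List.prod_nil, _root_.mul_one,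
      Matrix.cons_val_zero, Matrix.cons_val_succ, GrpObj.inv_comp, _root_.inv_inv] at e1 e2
    have hinv : (eC U (-1) ≫ v b') = (o ≫ v b')⁻¹ := by
      rw [← @GrpObj.inv_comp _ _ _ _ _ _ _ _ o (v b') (F.hu b').1]
      congr 1
      exact BGaNotS.gaPt_ext (by rw [gaFn_inv, hgo]; simp [eC, BGaNotS.gaFn_gaPt])
    have hN := H.ba U o
    rw [cj_unit, H.weylB.eq, scl_one, hinv] at hN
    change ((o ≫ v b) * (o ≫ v b')⁻¹ * (o ≫ v b)) * (o ≫ v a) * ((o ≫ v b) * (o ≫ v b')⁻¹ * (o ≫ v b))⁻¹ =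
      o ≫ v c₁ at hN
    have key : (o ≫ v b) * (o ≫ v a) * (o ≫ v b)⁻¹ = (o ≫ v b') * (o ≫ v c₁) * (o ≫ v b')⁻¹ := by
      calc (o ≫ v b) * (o ≫ v a) * (o ≫ v b)⁻¹
          = (o ≫ v b') * ((o ≫ v b)⁻¹ * (((o ≫ v b) * (o ≫ v b')⁻¹ * (o ≫ v b)) * (o ≫ v a) *
              ((o ≫ v b) * (o ≫ v b')⁻¹ * (o ≫ v b))⁻¹) * (o ≫ v b)) * (o ≫ v b')⁻¹ := by group
        _ = _ := by rw [hN, _root_.mul_assoc (o ≫ v b)⁻¹, ← cb1, inv_mul_cancel_left]
    have hfin : (List.ofFn fun k : Fin 5 => ![o, o⁻¹, o⁻¹, eC U (C 3), o] k ≫ v (![c₁, c₂, c₃, c₄, a] k)).prod =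
        (List.ofFn fun k : Fin 5 => ![o, o⁻¹, (eC U (C 3))⁻¹, o, o] k ≫ v (![c₁, c₂, c₃, c₄, a] k)).prod := by
      simp only [List.ofFn_succ, List.ofFn_zero, List.prod_cons, List.prod_nil, _root_.mul_one,
        Matrix.cons_val_zero, Matrix.cons_val_succ, GrpObj.inv_comp]
      calc (o ≫ v c₁) * ((o ≫ v c₂)⁻¹ * ((o ≫ v c₃)⁻¹ * ((eC U (C 3) ≫ v c₄) * (o ≫ v a))))
          = (o ≫ v c₁) * ((o ≫ v c₂)⁻¹ * ((o ≫ v c₃)⁻¹ * (eC U (C 3) ≫ v c₄))) * (o ≫ v a) := by group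
        _ = (o ≫ v b) * (o ≫ v a) * (o ≫ v b)⁻¹ := by rw [← e1]; group
        _ = (o ≫ v c₁) * ((o ≫ v b') * ((o ≫ v c₁)⁻¹ * (o ≫ v b')⁻¹ * (o ≫ v c₁)))⁻¹ := by rw [key]; group
        _ = (o ≫ v c₁) * ((o ≫ v a)⁻¹ * ((o ≫ v c₂) * ((o ≫ v c₄)⁻¹ * (eC U (C 3) ≫ v c₃))))⁻¹ := by rw [e2]
        _ = (o ≫ v c₁) * (((eC U (C 3))⁻¹ ≫ v c₃) * (o ≫ v c₄) * ((o⁻¹ ≫ v c₂)) * (o ≫ v a)) := by
            rw [GrpObj.inv_comp, GrpObj.inv_comp]; group
        _ = _ := by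
            rw [_root_.mul_assoc (((eC U (C 3))⁻¹) ≫ v c₃) (o ≫ v c₄), c42,
              ← _root_.mul_assoc (((eC U (C 3))⁻¹) ≫ v c₃), c32, GrpObj.inv_comp, GrpObj.inv_comp]
            simp only [_root_.mul_assoc]
    have h := congrArg Red.gaFn (congrFun (F.prod_inj mu _ hne5 hmu5 _ _ hfin) 3)
    simpa [hgo, eC, BGaNotS.gaFn_gaPt, U, appTop_unit] using h
  have C12 : C₁ 2 = 3 := by
    let g : ℤ → (U ⟶ Red.Ga S) := fun n => BGaNotS.gaPt (n : Γ(U.left, ⊤))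
    let K := eC U (C₁ 2)
    have gadd : ∀ m n, g m * g n = g (m + n) := fun m n => BGaNotS.gaPt_ext (by
      simp [g, BGaNotS.gaFn_mul, BGaNotS.gaFn_gaPt])
    have conj : ∀ (r : idx) (y : U ⟶ Red.Ga S), (g 1 ≫ v a) * (y ≫ v r) * (g 1 ≫ v a)⁻¹ =
        (y ≫ v r) * word (v a) (v r) (g 1) y := fun r y => by rw [word, mul_inv_cancel_left]
    have e0 : (g 1 ≫ v a) * (g 1 ≫ v b) * (g 1 ≫ v a)⁻¹ =
        (g 1 ≫ v b) * ((g (-1) ≫ v c₁) * ((g 1 ≫ v c₂) * ((g 1 ≫ v c₃) * (g 1 ≫ v c₄)))) := by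
      rw [conj, hf.eq U (g 1) (g 1) ![g (-1), g 1, g 1, g 1] fun k => by
        fin_cases k <;> simp [g, BGaNotS.gaFn_gaPt, C0, C1, C2, C3]]
      simp [List.ofFn_succ]
    have e1 : (g 1 ≫ v a) * (g (-1) ≫ v c₁) * (g 1 ≫ v a)⁻¹ =
        (g (-1) ≫ v c₁) * ((g 2 ≫ v c₂) * ((g 3 ≫ v c₃) * (K ≫ v c₄))) := by
      rw [conj, hf₁.eq U (g 1) (g (-1)) ![g 2, g 3, K] fun k => by
        fin_cases k <;> simp [g, K, eC, BGaNotS.gaFn_gaPt, C10, C11, map_ofNat]]
      simp [List.ofFn_succ]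
    have e2 : (g 1 ≫ v a) * (g 1 ≫ v c₂) * (g 1 ≫ v a)⁻¹ = (g 1 ≫ v c₂) * (g 3 ≫ v c₃) := by
      rw [conj, hf₂.eq U (g 1) (g 1) ![g 3] fun k => by fin_cases k; simp [g, BGaNotS.gaFn_gaPt, C20, map_ofNat]]
      simp [List.ofFn_succ]
    have e3 : (g 1 ≫ v c₂) * (g (-1) ≫ v c₁) = (g (-1) ≫ v c₁) * ((g 1 ≫ v c₂) * (g 3 ≫ v c₄)) := by
      rw [exchange, hf₄.eq U (g (-1))⁻¹ (g 1) ![g 3] fun k => by
        fin_cases k; simp [g, BGaNotS.gaFn_gaPt, C40, gaFn_inv, map_ofNat]]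
      simp [List.ofFn_succ, _root_.mul_assoc]
    have hL : (g 1 ≫ v a) * ((g 1 ≫ v a) * (g 1 ≫ v b) * (g 1 ≫ v a)⁻¹) * (g 1 ≫ v a)⁻¹ =
        (g 1 ≫ v b) * ((g (-2) ≫ v c₁) * ((g 4 ≫ v c₂) * ((g 8 ≫ v c₃) * (g 8 ≫ v c₄)))) := by
      have h := hf.eq U (g 2) (g 1) ![g (-2), g 4, g 8, g 8] fun k => by
        fin_cases k <;> simp [g, BGaNotS.gaFn_gaPt, C0, C1, C2, C3] <;> norm_num
      simp [word, List.ofFn_succ] at h
      rw [← h, mul_inv_cancel_left, ← show g 1 * g 1 = g 2 from gadd 1 1, MonObj.mul_comp]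
      group
    have hR : (g 1 ≫ v a) * ((g 1 ≫ v a) * (g 1 ≫ v b) * (g 1 ≫ v a)⁻¹) * (g 1 ≫ v a)⁻¹ =
        (g 1 ≫ v b) * ((g (-2) ≫ v c₁) * ((g 4 ≫ v c₂) * ((g 8 ≫ v c₃) * ((g 5 * K) ≫ v c₄)))) := by
      have a3 : ∀ x y : U ⟶ Red.Ga S, (x ≫ v a) * (y ≫ v c₃) * (x ≫ v a)⁻¹ = y ≫ v c₃ := fun x y => by
        rw [ca3, mul_inv_cancel_right]
      have a4 : ∀ x y : U ⟶ Red.Ga S, (x ≫ v a) * (y ≫ v c₄) * (x ≫ v a)⁻¹ = y ≫ v c₄ := fun x y => by
        rw [ca4, mul_inv_cancel_right]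
      have c31' : ∀ (x y : U ⟶ Red.Ga S) (z : U ⟶ G), (x ≫ v c₃) * ((y ≫ v c₁) * z) = (y ≫ v c₁) * ((x ≫ v c₃) * z) :=
        fun x y z => by rw [← _root_.mul_assoc, c31, _root_.mul_assoc]
      have c41' : ∀ (x y : U ⟶ Red.Ga S) (z : U ⟶ G), (x ≫ v c₄) * ((y ≫ v c₁) * z) = (y ≫ v c₁) * ((x ≫ v c₄) * z) :=
        fun x y z => by rw [← _root_.mul_assoc, c41, _root_.mul_assoc]
      have c32' : ∀ (x y : U ⟶ Red.Ga S) (z : U ⟶ G), (x ≫ v c₃) * ((y ≫ v c₂) * z) = (y ≫ v c₂) * ((x ≫ v c₃) * z) :=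
        fun x y z => by rw [← _root_.mul_assoc, c32, _root_.mul_assoc]
      have c42' : ∀ (x y : U ⟶ Red.Ga S) (z : U ⟶ G), (x ≫ v c₄) * ((y ≫ v c₂) * z) = (y ≫ v c₂) * ((x ≫ v c₄) * z) :=
        fun x y z => by rw [← _root_.mul_assoc, c42, _root_.mul_assoc]
      have c43' : ∀ (x y : U ⟶ Red.Ga S) (z : U ⟶ G), (x ≫ v c₄) * ((y ≫ v c₃) * z) = (y ≫ v c₃) * ((x ≫ v c₄) * z) :=
        fun x y z => by rw [← _root_.mul_assoc, c43, _root_.mul_assoc]
      have e3' : ∀ z : U ⟶ G, (g 1 ≫ v c₂) * ((g (-1) ≫ v c₁) * z) =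
          (g (-1) ≫ v c₁) * ((g 1 ≫ v c₂) * ((g 3 ≫ v c₄) * z)) := fun z => by
        rw [← _root_.mul_assoc, e3]; simp only [_root_.mul_assoc]
      calc (g 1 ≫ v a) * ((g 1 ≫ v a) * (g 1 ≫ v b) * (g 1 ≫ v a)⁻¹) * (g 1 ≫ v a)⁻¹
          = ((g 1 ≫ v a) * (g 1 ≫ v b) * (g 1 ≫ v a)⁻¹) * (((g 1 ≫ v a) * (g (-1) ≫ v c₁) * (g 1 ≫ v a)⁻¹) *
            (((g 1 ≫ v a) * (g 1 ≫ v c₂) * (g 1 ≫ v a)⁻¹) * (((g 1 ≫ v a) * (g 1 ≫ v c₃) * (g 1 ≫ v a)⁻¹) *
              ((g 1 ≫ v a) * (g 1 ≫ v c₄) * (g 1 ≫ v a)⁻¹)))) := by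
            conv_lhs => rw [e0]
            group
        _ = _ := by
            rw [e0, e1, e2, a3, a4]
            simp only [_root_.mul_assoc, c31', c41', c32', c42', c43', c31, c41, c32, c42, c43, e3']
            rw [← show g 1 * (g 2 * g 1) = g 4 by rw [gadd, gadd]; norm_num,
              ← show g 1 * (g 3 * (g 3 * g 1)) = g 8 by rw [gadd, gadd, gadd]; norm_num,
              ← show g (-1) * g (-1) = g (-2) by rw [gadd]; norm_num,
              show g 5 * K = g 3 * (g 1 * (K * g 1)) from BGaNotS.gaPt_ext (by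
                simp [g, BGaNotS.gaFn_mul, BGaNotS.gaFn_gaPt]; ring)]
            simp only [MonObj.mul_comp, _root_.mul_assoc, c31', c41', c32', c42', c43', c31, c41, c32, c42, c43]
    have hfin : (List.ofFn fun k : Fin 5 => ![g (-2), g 4, g 8, g 8, g 0] k ≫ v (![c₁, c₂, c₃, c₄, a] k)).prod =
        (List.ofFn fun k : Fin 5 => ![g (-2), g 4, g 8, g 5 * K, g 0] k ≫ v (![c₁, c₂, c₃, c₄, a] k)).prod := by
      have h := hL.symm.trans hR
      have h' := congrArg (fun z => (g 1 ≫ v b)⁻¹ * z * (g 0 ≫ v a)) h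
      simp only [inv_mul_cancel_left, _root_.mul_assoc] at h'
      simpa [List.ofFn_succ, _root_.mul_assoc] using h'
    have h := congrArg Red.gaFn (congrFun (F.prod_inj mu _ hne5 hmu5 _ _ hfin) 3)
    simp [g, K, eC, BGaNotS.gaFn_gaPt, BGaNotS.gaFn_mul, U, appTop_unit] at h
    linear_combination -h
  refine ⟨⟨C, hf, ?_⟩, ⟨C₁, hf₁, ?_⟩, ⟨C₂, hf₂, ?_⟩, ⟨C₃, hf₃, ?_⟩, ⟨C₄, hf₄, ?_⟩⟩ <;> funext k <;> fin_cases k
  exacts [C0, C1, C2, C3, C10, C11, C12, C20, k3, C40]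

end Groth.Agent.RootBase
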