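import Groth.Agent.RootBase.Coord
import Groth.Agent.RootSys.Bridge

/-!
# Weight components of restricted functions
-/

set_option autoImplicit false
set_option backward.isDefEq.respectTransparency false
set_option linter.style.haveILetI false
set_option maxHeartbeats 1000000
set_option synthInstance.maxHeartbeats 400000

universe u

open CategoryTheory Limits MonoidalCategory CartesianMonoidalCategory MonObj AlgebraicGeometry LieS
open scoped CategoryTheory.Obj

noncomputable section

namespace Groth.Agent.RootBase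

open Groth.Agent.HomDiag Groth.Agent.DynPar Groth.Agent.RootSys
open Groth.Agent.DynPar.Der (dv uB pl sG)

variable {R : Type u} [CommRing R] {G H : Over (Spec (CommRingCat.of R))} [GrpObj G] [GrpObj H] [IsAffine G.left]
  [IsAffine H.left] {M : Type} [AddCommGroup M] {c : Red.DS (Spec (CommRingCat.of R)) M ⟶ G} [IsMonHom c]
  {c' : Red.DS (Spec (CommRingCat.of R)) M ⟶ H} [IsMonHom c'] (φ : G ⟶ H) [IsMonHom φ]

/-- Restriction commutes with weight components. -/
theorem appTop_wc (hc : c ≫ φ = c') (x : Γ(H.left, ⊤)) (m : M) :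
    φ.left.appTop (wc c' x m) = wc c (φ.left.appTop x) m := by
  let g : pt Γ(G.left, ⊤) (G.left.isoSpec.inv ≫ G.hom) ⟶ G := Over.homMk G.left.isoSpec.inv rfl
  have hg : rp g = RingHom.id _ := by
    rw [← rep_left_eq_rp]
    refine Der.rep_eq ?_
    rw [CommRingCat.ofHom_id, Spec.map_id, Category.id_comp]
    rfl
  subst hc
  have h1 := RootSys.coeff_rp_orb (c ≫ φ) (g ≫ φ) x m
  rw [orb_comp, rp_comp, RingHom.comp_apply, RootSys.coeff_rp_orb, hg, RingHom.id_apply, rp_comp, RingHom.comp_apply,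
    hg, RingHom.id_apply] at h1
  exact h1.symm

omit [IsMonHom c] [IsMonHom c'] in
/-- Derivatives of image vectors. -/
theorem dv_map {B : Type u} [CommRing B] {f : Spec (CommRingCat.of B) ⟶ Spec (CommRingCat.of R)} (v : Lie G B f)
    (x : Γ(H.left, ⊤)) : dv (LieS.map B f φ v) x = dv v (φ.left.appTop x) := by
  rw [← rp_vec_snd, ← rp_vec_snd]
  exact congrArg TrivSqZeroExt.snd (congr($(rp_comp (v.1 : pt (DualNumber B) (fd f) ⟶ G) φ) x))

omit [IsAffine G.left] in
/-- Weight vectors of a weight killed by `π` lie in the centraliser of the kernel torus. -/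
theorem exists_lie_lift {M' : Type} [AddCommGroup M'] (π : M →+ M') {C : Over (Spec (CommRingCat.of R))} [GrpObj C]
    [IsAffine C.left] {z : C ⟶ H} [IsMonHom z] [Mono z]
    (hz : Red.IsCentralizerOf (Red.DSmap _ π ≫ c') z) {tC : Red.DS (Spec (CommRingCat.of R)) M ⟶ C} [IsMonHom tC]
    (htC : tC ≫ z = c') {B : Type u} [CommRing B] {f : Spec (CommRingCat.of B) ⟶ Spec (CommRingCat.of R)}
    {v : Lie H B f} {d : M} (hv : IsWt c' v d) (hd : π d = 0) :
    ∃ v₀ : Lie C B f, IsWt tC v₀ d ∧ LieS.map B f z v₀ = v := by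
  haveI : IsAffine (Spec (CommRingCat.of R)) := inferInstance
  have h0 : IsWt (Red.DSmap _ π ≫ c') v 0 := by rw [← hd]; exact hv.DSmap π
  obtain ⟨y, hy⟩ := exists_centralizer_lift hz ((mem_ZSub_iff_isWt_zero _ v).2 h0)
  let y' : dpt B f ⟶ C := y
  have hy' : y' ≫ z = v.1 := hy
  have hmem : y' ∈ Lie C B f := by
    rw [mem_Lie_iff, ← cancel_mono z, Category.assoc, hy', (mem_Lie_iff H B f v.1).1 v.2, MonObj.one_comp]
  refine ⟨⟨y', hmem⟩, ?_, Subtype.ext hy'⟩
  refine IsWt.of_map (c := tC) (φ := z) htC ?_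
  rwa [show LieS.map B f z ⟨y', hmem⟩ = v from Subtype.ext hy']

end Groth.Agent.RootBase
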