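import Groth.Agent.RootBase.Fibre
import Groth.Agent.RootBase.Restrict
import Groth.Agent.RootSys.GaBC
import Groth.Agent.RedCartan.Global
import Groth.Agent.DynPar.EtaleBorel
import Groth.Agent.ParNorm.Global
import Groth.Agent.MTBridge.Centralizer

/-!
# From geometric fibres to the base
-/

set_option autoImplicit false
set_option backward.isDefEq.respectTransparency false
set_option linter.style.haveILetI false
set_option maxHeartbeats 1000000
set_option synthInstance.maxHeartbeats 400000

universe u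

open CategoryTheory Limits MonoidalCategory CartesianMonoidalCategory MonObj AlgebraicGeometry LieS
open scoped CategoryTheory.Obj

noncomputable section

namespace Groth.Agent.RootBase

open Groth.Agent.HomDiag Groth.Agent.DynPar Groth.Agent.RootSys
open Groth.Agent.DynPar.Der (dv uB pl sG)

section GaFibre

variable {S S' : Scheme.{u}} (j : S' ⟶ S)

/-- A coordinate after a change of base. -/
theorem map_gaPt {U : Over S} (t : Γ(U.left, ⊤)) :
    BGaNotS.gaPt (W := Red.bc j U) ((pullback.fst U.hom j).appTop t) ≫ gaBC j =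
      (Over.pullback j).map (BGaNotS.gaPt t : U ⟶ Red.Ga S) := by
  rw [comp_gaBC]
  apply ((Over.mapPullbackAdj j).homEquiv _ _).symm.injective
  rw [show ∀ a, ((Over.mapPullbackAdj j).homEquiv _ _).symm (MTBridge.toBC j a) = a from
      fun a => Equiv.symm_apply_apply _ a,
    show (Over.pullback j).map (BGaNotS.gaPt t : U ⟶ Red.Ga S) =
      𝟙 ((Over.pullback j).obj U) ≫ (Over.pullback j).map (BGaNotS.gaPt t : U ⟶ Red.Ga S) from (Category.id_comp _).symm,
    (Over.mapPullbackAdj j).homEquiv_naturality_right_symm]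
  refine BGaNotS.gaPt_ext ?_
  rw [gaFn_gaPush, BGaNotS.gaFn_gaPt, BGaNotS.gaFn_comp, BGaNotS.gaFn_gaPt]
  congr 2

end GaFibre

variable {R : Type u} [CommRing R] {G : Over (Spec (CommRingCat.of R))} [GrpObj G]
  {M : Type} [AddCommGroup M]

/-- The algebraically closed field of a point. -/
abbrev Kbar (s : Spec (CommRingCat.of R)) : Type u := AlgebraicClosure ((Spec (CommRingCat.of R)).residueField s)

/-- The map to the algebraically closed field of a point. -/
def psi (s : Spec (CommRingCat.of R)) : R →+* Kbar s := (Spec.preimage (Red.geomPt s)).hom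

theorem specMap_psi (s : Spec (CommRingCat.of R)) :
    Spec.map (CommRingCat.ofHom (psi s)) ≫ 𝟙 (Spec (CommRingCat.of R)) = fk (Kbar s) ≫ Red.geomPt s := by
  rw [Category.comp_id, fk, Algebra.algebraMap_self, CommRingCat.ofHom_id, Spec.map_id, Category.id_comp]
  exact Spec.map_preimage _

/-- A tangent vector at a geometric point. -/
def vAt (s : Spec (CommRingCat.of R)) [IsAffine G.left] (v : Lie G R (𝟙 (Spec (CommRingCat.of R)))) :
    Lie (Red.bc (Red.geomPt s) G) (Kbar s) (fk (Kbar s)) :=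
  lieDown (Red.geomPt s) rfl (pl (psi s) (specMap_psi s) v)

variable [IsAffine G.left] (s : Spec (CommRingCat.of R)) [IsAffine (Red.bc (Red.geomPt s) G).left]

theorem dv_vAt (v : Lie G R (𝟙 (Spec (CommRingCat.of R)))) (x : Γ(G.left, ⊤)) :
    dv (vAt s v) (bcFun (Red.geomPt s) x) = psi s (dv v x) := by
  rw [vAt, dv_lieDown, Der.dv_pl]

theorem isWt_vAt [LocallyOfFiniteType G.hom] {c : Red.DS (Spec (CommRingCat.of R)) M ⟶ G} [IsMonHom c] {d : M}
    {v : Lie G R (𝟙 (Spec (CommRingCat.of R)))} (hv : IsWt c v d) : IsWt (bcHom' (Red.geomPt s) c) (vAt s v) d :=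
  (isWt_lieDown_iff (Red.geomPt s) c rfl _ d).2 (hv.pl _ _)

theorem vAt_ne_one {v : Lie G R (𝟙 (Spec (CommRingCat.of R)))} {y : Γ(G.left, ⊤)} (h : dv v y = 1) :
    vAt s v ≠ 1 := fun e => by
  have h1 := dv_vAt s v y
  rw [e, Der.dv_one, h, map_one] at h1
  exact zero_ne_one h1

omit [IsAffine G.left] [IsAffine (Red.bc (Red.geomPt s) G).left] in
/-- A maximal torus is maximal on geometric fibres, in diagonalisable form. -/
theorem isMaxTorus_fibre {c : Red.DS (Spec (CommRingCat.of R)) M ⟶ G} [IsMonHom c] (hc : Red.IsMaximalTorus c) :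
    AGF.IsMaxTorus (bcHom' (Red.geomPt s) c) := by
  let τ := Red.geomPt s
  haveI := hc.2.1
  haveI : IsMonHom (bcHom' τ c) := isMonHom_bcHom' τ c
  haveI := isIso_ej τ M
  haveI : PreservesLimitsOfShape WalkingCospan (Over.pullback τ) :=
    (Adjunction.rightAdjoint_preservesLimits (Over.mapPullbackAdj τ)).preservesLimitsOfShape
  haveI : Mono ((Over.pullback τ).map c) := inferInstance
  haveI : Mono (bcHom' τ c) := mono_comp _ _
  let e : Red.DS _ M ≅ Red.bc τ (Red.DS (Spec (CommRingCat.of R)) M) := asIso (ej τ M)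
  haveI : IsMonHom e.hom := inferInstanceAs (IsMonHom (ej τ M))
  haveI : IsMonHom e.symm.hom := inferInstanceAs (IsMonHom e.inv)
  refine ⟨inferInstance, inferInstance,
    Chev.Borel.isTorus_of_iso e.symm (Chev.Borel.isTorus_bc_scheme _ τ hc.2.2.1), fun T' _ w _ _ g hT' hg => ?_⟩
  have := hc.2.2.2 s T' w (inv (ej τ M) ≫ g) hT' (by
    rw [Category.assoc, hg]; show _ ≫ ej τ M ≫ _ = _; rw [IsIso.inv_hom_id_assoc])
  haveI := this
  exact IsIso.of_isIso_comp_left (inv (ej τ M)) g

variable [Module.Free ℤ M] [Module.Finite ℤ M] [Smooth G.hom]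

omit s in
/-- **A weight function pairing to one with a weight vector is a coordinate of the contracted subgroup.** -/
theorem isIso_coord_base (hG : Red.IsReductive G) {c : Red.DS (Spec (CommRingCat.of R)) M ⟶ G} [IsMonHom c]
    (hc : Red.IsMaximalTorus c) {d : M} (hd : d ≠ 0) (mu : M →+ ℤ) (hmu : 0 < mu d)
    {v : Lie G R (𝟙 (Spec (CommRingCat.of R)))} (hv : IsWt c v d) {y : Γ(G.left, ⊤)} (hy : wc c y d = y)
    (hvy : dv v y = 1)
    (hwts : ∀ (s : Spec (CommRingCat.of R)) [IsAffine (Red.bc (Red.geomPt s) G).left] (e : M)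
      (w : Lie (Red.bc (Red.geomPt s) G) (Kbar s) (fk (Kbar s))), IsWt (bcHom' (Red.geomPt s) c) w e → w ≠ 1 → e ≠ 0 →
        (e = d ∧ ∃ r : Kbar s, w = r • vAt s v) ∨ e = -d)
    {U : Over (Spec (CommRingCat.of R))} [GrpObj U] {u : U ⟶ G}
    (hu : IsU (Red.DSmap (Spec (CommRingCat.of R)) mu ≫ c) u) :
    IsIso (BGaNotS.gaPt (u.left.appTop y) : U ⟶ Red.Ga (Spec (CommRingCat.of R))) := by
  let S := Spec (CommRingCat.of R)
  haveI := hu.1; haveI := hu.2.1
  haveI : IsAffineHom G.hom := isAffineHom_of_isAffine G.hom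
  obtain ⟨P, _, p, hp⟩ := exists_isP (G := G) (Red.DSmap S mu ≫ c)
  obtain ⟨Z, _, z, hz, -, -⟩ := exists_centralizer_DS (G := G) inferInstance inferInstance (Red.DSmap S mu ≫ c)
  haveI : Smooth U.hom := (smooth_isU inferInstance hp hu hz).1
  haveI : IsAffine Red.GaZ.{u}.left := isAffine_Spec _
  haveI : LocallyOfFiniteType (Red.Ga S).hom := by
    rw [← Over.w (RedR1.gaIso S).inv]
    haveI : IsIso (RedR1.gaIso S).inv.left := inferInstanceAs (IsIso ((Over.forget _).map (RedR1.gaIso S).inv))
    show LocallyOfFiniteType (_ ≫ (𝔸(PUnit.{u + 1}; S) ↘ S))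
    infer_instance
  refine ParNorm.isIso_of_geomPts _ fun s => ?_
  let τ := Red.geomPt s
  let G' := Red.bc τ G
  haveI : IsAffineHom G'.hom := inferInstanceAs (IsAffineHom (pullback.snd G.hom τ))
  haveI : IsAffine G'.left := isAffine_of_isAffineHom G'.hom
  haveI : IsMonHom (bcHom' τ c) := isMonHom_bcHom' τ c
  have hG' : Red.IsReductive G' := isReductive_bc τ hG
  have hT' := Chev.Borel.isMaximalTorus_of_isMaxTorus _ (isMaxTorus_fibre s hc)
  have hy' : wc (bcHom' τ c) (bcFun τ y) d = bcFun τ y := by rw [bcFun_wc, hy]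
  have hu' : IsU (Red.DSmap _ mu ≫ bcHom' τ c) ((Over.pullback τ).map u) := by
    rw [← bcHom'_DSmap]; exact hu.bc τ
  have hneg : d ≠ -d := fun h => hd (by
    have h2 : (2 : ℤ) • d = 0 := by rw [two_zsmul]; nth_rw 1 [h]; rw [neg_add_cancel]
    exact (smul_eq_zero.1 h2).resolve_left two_ne_zero)
  haveI := isIso_coord (k := Kbar s) hG' hT' hd mu hmu (fun e w hw hw1 he => by
      have he0 : e ≠ 0 := fun h => by rw [h, map_zero] at he; omega
      rcases hwts s e w hw hw1 he0 with ⟨rfl, -⟩ | rfl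
      · rfl
      · rw [map_neg] at he; omega)
    (isWt_vAt s hv) (fun w hw => by
      by_cases hw1 : w = 1
      · exact ⟨0, Der.dv_injective (funext fun x => by rw [hw1, Der.dv_smul, Der.dv_one, zero_mul])⟩
      rcases hwts s d w hw hw1 hd with ⟨-, h⟩ | h
      · exact h
      · exact absurd h hneg)
    hy' (by rw [dv_vAt, hvy, map_one]; exact one_ne_zero) hu'
  haveI := isIso_gaBC τ
  rw [← map_gaPt τ (u.left.appTop y)]
  have he : (pullback.fst U.hom τ).appTop (u.left.appTop y) = ((Over.pullback τ).map u).left.appTop (bcFun τ y) := by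
    show (pullback.fst U.hom τ).appTop (u.left.appTop y) =
      ((Over.pullback τ).map u).left.appTop ((pullback.fst G.hom τ).appTop y)
    have h : pullback.fst U.hom τ ≫ u.left = ((Over.pullback τ).map u).left ≫ pullback.fst G.hom τ := by
      simp [Over.pullback]
    have h2 := congr($(congrArg Scheme.Hom.appTop h) y)
    simp only [Scheme.Hom.comp_appTop, CommRingCat.comp_apply] at h2
    exact h2
  rw [he]
  infer_instance

end Groth.Agent.RootBase
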