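import Groth.Agent.RootBase.Main
import Mathlib.RingTheory.PrincipalIdealDomain

/-!
# Splittings over a connected principal base
-/

set_option autoImplicit false
set_option backward.isDefEq.respectTransparency false
set_option linter.style.haveILetI false
set_option maxHeartbeats 1000000
set_option synthInstance.maxHeartbeats 400000

universe u

open CategoryTheory Limits MonoidalCategory CartesianMonoidalCategory MonObj AlgebraicGeometry LieS
open scoped CategoryTheory.Obj

noncomputable section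

namespace Groth.Agent.RootBase

open Groth.Agent.HomDiag Groth.Agent.DynPar Groth.Agent.RootSys
open Groth.Agent.DynPar.Der (dv uB pl sG)

/-- A bilinear function over a principal ideal ring whose values lie in no maximal ideal takes a unit value. -/
theorem exists_unit_value {R : Type u} [CommRing R] [IsPrincipalIdealRing R] {V A : Type*} [Nonempty V] [Nonempty A]
    (B : V → A → R) (hl : ∀ (a b : R) (v w : V), ∃ x, ∀ z, B x z = a * B v z + b * B w z)
    (hr : ∀ (a b : R) (y z : A), ∃ x, ∀ v, B v x = a * B v y + b * B v z)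
    (htop : ∀ m : Ideal R, m.IsMaximal → ∃ v y, B v y ∉ m) : ∃ v y, IsUnit (B v y) := by
  obtain ⟨I, hI, hmax⟩ := set_has_maximal_iff_noetherian.2 (inferInstance : IsNoetherian R R)
    {I : Ideal R | ∃ v y, I = Ideal.span {B v y}} (⟨_, Classical.arbitrary V, Classical.arbitrary A, rfl⟩)
  obtain ⟨v, y, rfl⟩ := hI
  have right : ∀ w, Ideal.span {B w y} = Ideal.span {B v y} → ∀ z, B w z ∈ Ideal.span {B v y} := fun w hw z => by
    obtain ⟨t, ht⟩ := (IsPrincipalIdealRing.principal (Ideal.span {B w y, B w z})).principal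
    obtain ⟨a, b, hab⟩ := Ideal.mem_span_pair.1 (show t ∈ Ideal.span {B w y, B w z} by
      rw [ht]; exact Submodule.mem_span_singleton_self t)
    obtain ⟨x, hx⟩ := hr a b y z
    have hle : Ideal.span {B w y, B w z} = Ideal.span {B w x} := by
      rw [hx w, hab]; exact ht
    have h1 : Ideal.span {B w y} ≤ Ideal.span {B w x} := hle ▸ Ideal.span_mono (by simp)
    rw [hw] at h1
    rw [eq_of_le_of_not_lt h1 (hmax _ ⟨w, x, rfl⟩), ← hle]
    exact Ideal.subset_span (by simp)
  have left : ∀ w, B w y ∈ Ideal.span {B v y} := fun w => by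
    obtain ⟨t, ht⟩ := (IsPrincipalIdealRing.principal (Ideal.span {B v y, B w y})).principal
    obtain ⟨a, b, hab⟩ := Ideal.mem_span_pair.1 (show t ∈ Ideal.span {B v y, B w y} by
      rw [ht]; exact Submodule.mem_span_singleton_self t)
    obtain ⟨x, hx⟩ := hl a b v w
    have hle : Ideal.span {B v y, B w y} = Ideal.span {B x y} := by
      rw [hx y, hab]; exact ht
    have h1 : Ideal.span {B v y} ≤ Ideal.span {B x y} := hle ▸ Ideal.span_mono (by simp)
    rw [eq_of_le_of_not_lt h1 (hmax _ ⟨x, y, rfl⟩), ← hle]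
    exact Ideal.subset_span (by simp)
  have all : ∀ w z, B w z ∈ Ideal.span {B v y} := fun w z => by
    obtain ⟨r, hrw⟩ := Ideal.mem_span_singleton'.1 (left w)
    obtain ⟨x, hx⟩ := hl (1 - r) 1 v w
    have hxy : B x y = B v y := by rw [hx, ← hrw]; ring
    have h1 := right x (by rw [hxy]) z
    rw [hx] at h1
    have h2 := (Ideal.add_mem_iff_right _ (Ideal.mul_mem_left _ (1 - r) (right v rfl z))).1 h1
    rwa [_root_.one_mul] at h2
  refine ⟨v, y, ?_⟩
  by_contra hu
  obtain ⟨m, hm, hle⟩ := Ideal.exists_le_maximal (Ideal.span {B v y}) fun h => hu (Ideal.span_singleton_eq_top.1 h)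
  obtain ⟨w, z, hwz⟩ := htop m hm
  exact hwz (hle (all w z))

variable {R : Type u} [CommRing R] {G : Over (Spec (CommRingCat.of R))} [GrpObj G] {M : Type} [AddCommGroup M]
  [IsAffine G.left] [Smooth G.hom]

/-- The weights occurring at a point. -/
def fibRoots (hG : Red.IsReductive G) (c : Red.DS (Spec (CommRingCat.of R)) M ⟶ G) [IsMonHom c]
    (p : Spec (CommRingCat.of R)) : Set M :=
  haveI : IsAffine (Red.bc (Red.geomPt p) G).left := (hG.2.2 p).1
  haveI : IsMonHom (bcHom' (Red.geomPt p) c) := isMonHom_bcHom' _ c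
  {d | IsSplitRoot (bcHom' (Red.geomPt p) c) d}

theorem exists_spread_pt (hG : Red.IsReductive G) (c : Red.DS (Spec (CommRingCat.of R)) M ⟶ G) [IsMonHom c]
    {p : Spec (CommRingCat.of R)} {d : M} (hd : d ∈ fibRoots hG c p) :
    ∃ (v : Lie G R (𝟙 (Spec (CommRingCat.of R)))) (y : Γ(G.left, ⊤)), IsWt c v d ∧ wc c y d = y ∧
      dv v y ∉ p.asIdeal := by
  let τ := Red.geomPt p
  haveI : IsAffine (Red.bc τ G).left := (hG.2.2 p).1
  haveI : IsMonHom (bcHom' τ c) := isMonHom_bcHom' τ c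
  haveI : LocallyOfFiniteType (Red.bc τ G).hom := inferInstanceAs (LocallyOfFiniteType (pullback.snd G.hom τ))
  obtain ⟨-, w₁, hw₁, hw₁1⟩ := hd
  obtain ⟨w₂, rfl⟩ := lieDown_surjective τ (rfl : fk (Kbar p) ≫ τ = _) w₁
  rw [isWt_lieDown_iff] at hw₁
  obtain ⟨v, y, h1, h2, h3⟩ := exists_spread' c _ hw₁ (fun h => hw₁1 (by rw [h, map_one]))
  refine ⟨v, y, h1, h2, ?_⟩
  have hpt : (fk (Kbar p) ≫ τ) (IsLocalRing.closedPoint (Kbar p)) = p := by
    rw [Scheme.Hom.comp_apply, fk, Algebra.algebraMap_self, CommRingCat.ofHom_id, Spec.map_id]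
    show τ (IsLocalRing.closedPoint (Kbar p)) = p
    rw [MTImage.geomPt_closedPoint]
  exact hpt ▸ h3 _

theorem mem_fibRoots (hG : Red.IsReductive G) (c : Red.DS (Spec (CommRingCat.of R)) M ⟶ G) [IsMonHom c]
    {p : Spec (CommRingCat.of R)} {d : M} (hd : d ≠ 0) {v : Lie G R (𝟙 (Spec (CommRingCat.of R)))}
    {y : Γ(G.left, ⊤)} (hv : IsWt c v d) (hvy : dv v y ∉ p.asIdeal) : d ∈ fibRoots hG c p := by
  haveI : IsAffine (Red.bc (Red.geomPt p) G).left := (hG.2.2 p).1
  haveI : IsMonHom (bcHom' (Red.geomPt p) c) := isMonHom_bcHom' _ c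
  exact ⟨hd, vAt p v, isWt_vAt p hv, fun h => hvy (by rw [mem_asIdeal_psi, ← dv_vAt, h, Der.dv_one])⟩

variable [Module.Free ℤ M] [Module.Finite ℤ M]

theorem isLocallyConstant_fibRoots (hG : Red.IsReductive G) (c : Red.DS (Spec (CommRingCat.of R)) M ⟶ G) [IsMonHom c]
    (hc : Red.IsMaximalTorus c) : IsLocallyConstant (fibRoots hG c) := by
  classical
  refine (IsLocallyConstant.iff_exists_open _).2 fun p => ?_
  have hfin : ∀ x, (fibRoots hG c x).Finite ∧ topologicalKrullDim ↥(Red.geomFibre x G).left =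
      ((Module.finrank ℤ M + Nat.card (fibRoots hG c x) : ℕ) : WithBot ℕ∞) := fun x => by
    let τ := Red.geomPt x
    haveI : IsAffine (Red.bc τ G).left := (hG.2.2 x).1
    haveI : IsMonHom (bcHom' τ c) := isMonHom_bcHom' τ c
    haveI : LocallyOfFiniteType (Red.bc τ G).hom := inferInstanceAs (LocallyOfFiniteType (pullback.snd G.hom τ))
    obtain ⟨_, P, -, -, -, -, hdim⟩ := exists_datum (isReductive_bc τ hG) (bcHom' τ c)
      (Chev.Borel.isMaximalTorus_of_isMaxTorus _ (isMaxTorus_fibre x hc))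
    refine ⟨finite_isSplitRoot (bcHom' τ c), hdim.trans ?_⟩
    rw [show Nat.card (fibRoots hG c x) = Nat.card (Roots (bcHom' τ c)) from rfl, Nat.card_eq_fintype_card]
  choose v y hv hy hvy using fun d : (hfin p).1.toFinset => exists_spread_pt hG c ((hfin p).1.mem_toFinset.1 d.2)
  let f : R := ∏ d : (hfin p).1.toFinset, dv (v d) (y d)
  obtain ⟨W, hW, hpW, hWd⟩ := (IsLocallyConstant.iff_exists_open _).1 (GrpDim.isLocallyConstant_dim (G := G)) p
  refine ⟨W ∩ {x : Spec (CommRingCat.of R) | f ∉ x.asIdeal}, hW.inter (PrimeSpectrum.basicOpen f).2,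
    ⟨hpW, fun h => ?_⟩, fun x hx => ?_⟩
  · obtain ⟨d, -, hd⟩ := (Ideal.IsPrime.prod_mem_iff).1 h
    exact hvy d hd
  · have hsub : fibRoots hG c p ⊆ fibRoots hG c x := fun d hd => by
      refine mem_fibRoots hG c ?_ (hv ⟨d, (hfin p).1.mem_toFinset.2 hd⟩) (y := y ⟨d, (hfin p).1.mem_toFinset.2 hd⟩) fun h => hx.2 ?_
      · haveI : IsAffine (Red.bc (Red.geomPt p) G).left := (hG.2.2 p).1
        exact hd.1
      · exact Ideal.mem_of_dvd _ (Finset.dvd_prod_of_mem (fun d : (hfin p).1.toFinset => dv (v d) (y d))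
          (Finset.mem_univ _)) h
    refine (Set.eq_of_subset_of_ncard_le hsub (le_of_eq ?_) (hfin x).1).symm
    have h1 := (hfin x).2
    have h2 := (hfin p).2
    rw [MTImage.dim_geomFibre] at h1 h2
    rw [hWd x hx.1, h2] at h1
    rw [← Nat.card_coe_set_eq, ← Nat.card_coe_set_eq]
    have h3 : Module.finrank ℤ M + Nat.card (fibRoots hG c p) = Module.finrank ℤ M + Nat.card (fibRoots hG c x) := by
      exact_mod_cast h1
    omega

omit [Module.Free ℤ M] [Module.Finite ℤ M] in
/-- Vectors over a principal base. -/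
theorem hasVectors_of_principal [IsPrincipalIdealRing R] (hG : Red.IsReductive G)
    (c : Red.DS (Spec (CommRingCat.of R)) M ⟶ G) [IsMonHom c] {d : M} (hd : ∀ p, d ∈ fibRoots hG c p) :
    HasVectors c d := by
  classical
  let V := {v : Lie G R (𝟙 (Spec (CommRingCat.of R))) // IsWt c v d}
  haveI : Nonempty V := ⟨⟨1, isWt_one _⟩⟩
  have hε : ∀ r, uB G (𝟙 (Spec (CommRingCat.of R))) (sG G r) = r := fun r => by
    have h := Der.uB_sG (G := G) (𝟙 (Spec (CommRingCat.of R)))
    exact congr($(Spec.map_injective (h.trans (Spec.map_id _).symm)).hom r)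
  obtain ⟨v, z, hu⟩ := exists_unit_value (fun (v : V) (z : Γ(G.left, ⊤)) => dv v.1 z)
    (fun a b v w => ⟨⟨a • v.1 * b • w.1, (v.2.smul a).mul (w.2.smul b)⟩, fun z => by
      rw [Der.dv_mul, Der.dv_smul, Der.dv_smul]⟩)
    (fun a b y z => ⟨sG G a * y + sG G b * z, fun v => by
      rw [Der.dv_add, Der.dv_leibniz, Der.dv_leibniz, Der.dv_sG, Der.dv_sG, hε, hε, zero_mul, zero_mul, add_zero,
        add_zero]⟩)
    fun m hm => by
      obtain ⟨v, y, h1, -, h3⟩ := exists_spread_pt hG c (hd ⟨m, hm.isPrime⟩)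
      exact ⟨⟨v, h1⟩, y, h3⟩
  refine ⟨(↑hu.unit⁻¹ : R) • v.1, wc c z d, v.2.smul _, ?_, ?_⟩
  · rw [wc_wc c z d d, if_pos rfl]
  · rw [Der.dv_smul, v.2.dv_wc_self]
    exact hu.val_inv_mul

/-- **A maximal split torus over a connected principal base gives a splitting.** -/
theorem exists_splitOn_principal [IsPrincipalIdealRing R] [PreconnectedSpace ↥(Spec (CommRingCat.of R))] [Nontrivial R]
    (hG : Red.IsReductive G) {c : Red.DS (Spec (CommRingCat.of R)) M ⟶ G} [IsMonHom c] (hc : Red.IsMaximalTorus c) :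
    SplitOn c Set.univ := by
  classical
  let S := Spec (CommRingCat.of R)
  obtain ⟨p⟩ : Nonempty S := inferInstanceAs (Nonempty (PrimeSpectrum R))
  have hroots : ∀ x, fibRoots hG c x = fibRoots hG c p := fun x =>
    (isLocallyConstant_fibRoots hG c hc).apply_eq_of_preconnectedSpace x p
  let τ := Red.geomPt p
  haveI : IsAffine (Red.bc τ G).left := (hG.2.2 p).1
  haveI : IsMonHom (bcHom' τ c) := isMonHom_bcHom' τ c
  have hGK : Red.IsReductive (Red.bc τ G) := isReductive_bc τ hG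
  have hTK := Chev.Borel.isMaximalTorus_of_isMaxTorus _ (isMaxTorus_fibre p hc)
  obtain ⟨_, P, hP, hroot, hcor, hneg, hdim⟩ := exists_datum hGK (bcHom' τ c) hTK
  have hvec : ∀ d, IsSplitRoot (bcHom' τ c) d → HasVectors c d := fun d hd =>
    hasVectors_of_principal hG c fun x => by rw [hroots]; exact hd
  choose v y hv hy hvy using fun a : Roots (bcHom' τ c) => hvec a.1 a.2
  have hpair : ∀ a : Roots (bcHom' τ c), Nonempty (Pair c a.1) := fun a => by
    obtain ⟨v', y', h1, h2, h3⟩ := hvec (-a.1) (hneg a.1 a.2)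
    exact exists_pair hG hc a.2.1 (hv a) (hy a) (hvy a) h1 h2 h3
  let Q := fun a => (hpair a).some
  haveI : AddGroup.FG M := Module.Finite.iff_addGroup_fg.1 inferInstance
  have hloc : ∀ a (x : S), ∃ (U : S.Opens) (θ : M →+ ℤ), x ∈ U ∧ ∀ (X : Over S), Set.range X.hom ⊆ U →
      ∀ z : X ⟶ Red.Gm S, z ≫ (Q a).av = z ≫ Red.DSmap _ θ := by
    intro a x
    haveI := (Q a).hav
    obtain ⟨T', v, hvo, hp, θ, hθ⟩ := exists_locally_DSmap (T := 𝟙_ (Over S))
      (φ := fst (Red.Gm S) (𝟙_ (Over S)) ≫ (Q a).av) (fun X g₁ g₂ t => by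
        simp only [lift_fst_assoc, MonObj.mul_comp]) x
    haveI := hvo
    refine ⟨v.left.opensRange, θ, hp, fun X hX z => ?_⟩
    have hr : Set.range X.hom ⊆ Set.range v.left := hX
    let l : X ⟶ T' := Over.homMk (IsOpenImmersion.lift v.left X.hom hr) (by
      rw [← Over.w v, ← Category.assoc, IsOpenImmersion.lift_fac]
      exact Category.comp_id _)
    have h := congr(lift z l ≫ $hθ)
    simp only [lift_whiskerLeft_assoc, lift_fst_assoc] at h
    exact h
  choose U θ hpU hθ using hloc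
  have hconst : ∀ a x, θ a x = θ a p := fun a x => by
    refine IsLocallyConstant.apply_eq_of_preconnectedSpace ((IsLocallyConstant.iff_exists_open _).2 fun x =>
      ⟨U a x, (U a x).2, hpU a x, fun x' hx' => ?_⟩) x p
    haveI : IsAffine (Red.bc (Red.geomPt x') G).left := (hG.2.2 x').1
    haveI : IsMonHom (bcHom' (Red.geomPt x') c) := isMonHom_bcHom' _ c
    refine isCorootOf_unique' (isReductive_bc _ hG) (Chev.Borel.isMaximalTorus_of_isMaxTorus _ (isMaxTorus_fibre x' hc))
      (isCorootOf_pair (Q a) x' fun X hX z => hθ a x' X (hX.trans (Set.singleton_subset_iff.2 (hpU a x'))) z).1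
      (isCorootOf_pair (Q a) x' fun X hX z => hθ a x X (hX.trans (Set.singleton_subset_iff.2 hx')) z).1
  have hθeq : ∀ a, θ a p = (P.coroot a : M →ₗ[ℤ] ℤ).toAddMonoidHom := fun a => by
    refine isCorootOf_unique' hGK hTK (isCorootOf_pair (Q a) p fun X hX z => hθ a p X ?_ z).1 (hcor a)
    exact hX.trans (Set.singleton_subset_iff.2 (hpU a p))
  have hglob : ∀ a, (Q a).av = Red.DSmap S (θ a p) := fun a => by
    refine Over.OverMorphism.ext ?_
    let W : (Red.Gm S).left.Opens → Prop := fun V => ∃ x, V = (Red.Gm S).hom ⁻¹ᵁ U a x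
    refine Scheme.Cover.hom_ext ((Red.Gm S).left.openCoverOfIsOpenCover (fun x : S => (Red.Gm S).hom ⁻¹ᵁ U a x)
      (TopologicalSpace.IsOpenCover.mk (eq_top_iff.2 fun z _ => TopologicalSpace.Opens.mem_iSup.2 ⟨(Red.Gm S).hom z, hpU a _⟩))) _ _
      fun x => ?_
    let X : Over S := Over.mk (((Red.Gm S).hom ⁻¹ᵁ U a x).ι ≫ (Red.Gm S).hom)
    let z : X ⟶ Red.Gm S := Over.homMk ((Red.Gm S).hom ⁻¹ᵁ U a x).ι rfl
    have h := congrArg Over.Hom.left (hθ a x X (by
      rintro _ ⟨q, rfl⟩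
      exact q.2) z)
    rw [hconst a x] at h
    exact h
  refine ⟨_, inferInstance, P, fun a => (Q a).u, hP, fun a => by rw [hroot]; exact (Q a).hu, fun a => ⟨(Q a).n, fun X _ t => ?_⟩,
    fun x _ => ?_⟩
  · rw [(Q a).hn, hglob a, conj_eq_refl]
    congr 3
    refine AddMonoidHom.ext fun m => ?_
    show refl' a.1 (θ a p) m = P.reflection a m
    rw [RootPairing.reflection_apply, refl'_apply, hθeq a, hroot]
    show _ = m - P.toLinearMap m (P.coroot a) • a.1
    rw [hP]
    rfl
  · haveI : IsAffine (Red.bc (Red.geomPt x) G).left := (hG.2.2 x).1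
    haveI : IsMonHom (bcHom' (Red.geomPt x) c) := isMonHom_bcHom' _ c
    obtain ⟨_, P', -, -, -, -, hdim'⟩ := exists_datum (isReductive_bc _ hG) (bcHom' (Red.geomPt x) c)
      (Chev.Borel.isMaximalTorus_of_isMaxTorus _ (isMaxTorus_fibre x hc))
    refine hdim'.trans ?_
    congr 2
    rw [← Nat.card_eq_fintype_card, ← Nat.card_eq_fintype_card]
    exact congrArg (fun s : Set M => Nat.card s) (hroots x)

end Groth.Agent.RootBase
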