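import Groth.Agent.RootBase.Braid

/-!
# Two simple roots of a pinning
-/

set_option autoImplicit false
set_option backward.isDefEq.respectTransparency false
set_option linter.style.haveILetI false
set_option maxHeartbeats 1000000
set_option synthInstance.maxHeartbeats 400000

universe u

open CategoryTheory Limits MonoidalCategory CartesianMonoidalCategory MonObj GrpObj AlgebraicGeometry LieS
open scoped CategoryTheory.Obj

noncomputable section

namespace Groth.Agent.RootBase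

open Groth.Agent.HomDiag Groth.Agent.DynPar Groth.Agent.RootSys Groth.Agent.MTBridge

variable {S : Scheme.{u}} {G : Over S} [GrpObj G] {M : Type} [AddCommGroup M]
  {c : Red.DS S M ⟶ G} {idx : Type} {P : RootPairing idx ℤ M (Module.Dual ℤ M)} {u : idx → (Red.Ga S ⟶ G)}

/-- Twice a root is no root. -/
theorem not_two [Module.Free ℤ M] [Finite idx] [P.IsReduced] (e : idx) :
    (2 : ℤ) • P.root e ∉ Set.range P.root ∧ -((2 : ℤ) • P.root e) ∉ Set.range P.root :=
  ⟨fun ⟨d, hd⟩ => not_multiple P le_rfl hd, fun ⟨d, hd⟩ => by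
    obtain ⟨d', hd'⟩ := P.neg_mem_range_root_iff.2 ⟨d, hd⟩
    rw [neg_neg] at hd'
    exact not_multiple P le_rfl hd'⟩

theorem IsWeyl.pairing_symm {a a' b b' : idx} {Na Nb : 𝟙_ (Over S) ⟶ G}
    (hcor : ∀ x y, P.coroot x (P.root y) = P.pairing y x)
    (Wa : IsWeyl c P u a a' Na) (Wb : IsWeyl c P u b b' Nb) : P.pairing b' a' = P.pairing b a := by
  rw [← hcor, ← hcor, Wa.hcor, Wb.opp, _root_.map_neg, neg_neg]

theorem IsWeyl.pairing_opp {a a' b b' : idx} {Na Nb : 𝟙_ (Over S) ⟶ G}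
    (hcor : ∀ x y, P.coroot x (P.root y) = P.pairing y x)
    (_ : IsWeyl c P u a a' Na) (Wb : IsWeyl c P u b b' Nb) : P.coroot a (P.root b') = -P.pairing b a := by
  rw [← hcor, Wb.opp, _root_.map_neg]

/-- A Weyl element moves the root group of another root to one of the reflected root. -/
theorem IsWeyl.rootHom_refl [Module.Free ℤ M] [Finite idx] {a a' : idx} {N : 𝟙_ (Over S) ⟶ G}
    (hcor : ∀ x y, P.coroot x (P.root y) = P.pairing y x) (W : IsWeyl c P u a a' N) {v : Red.Ga S ⟶ G} {l : idx}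
    (hv : Red.IsRootHom c (Red.chi S (P.root l)) v) :
    Red.IsRootHom c (Red.chi S (P.root (P.reflectionPerm a l))) (cj N v) :=
  W.rootHom' hv (by rw [root_refl, hcor])

variable [Module.Free ℤ M] [Module.Finite ℤ M] [Fintype idx] [P.IsReduced]

/-- The end of a string reached by a Weyl element. -/
theorem IsWeyl.coef_top (F : Frame c P.root u) {a a' : idx} {N : 𝟙_ (Over S) ⟶ G} (W : IsWeyl c P u a a' N)
    {b t : idx} {m : ℕ} (hm : 1 ≤ m) (hli : ∀ x y : ℤ, x • P.root a + y • P.root b = 0 → x = 0 ∧ y = 0)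
    (ht : P.root t = (m : ℤ) • P.root a + P.root b) (hta : P.root a + P.root t ∉ Set.range P.root) (ε : Γ(S, ⊤))
    (h : cj N (eOne (𝟙_ (Over S)) ≫ u b) = scl ε (eOne (𝟙_ (Over S))) ≫ u t) :
    IsCoef P u a b t m ε ∧
    (∀ (d : idx) (i : ℕ) (κ κ' : Γ(S, ⊤)), 1 ≤ i → i < m → P.root d = (i : ℤ) • P.root a + P.root b →
      IsCoef P u a b d i κ → IsCoef P u a' t d (m - i) κ' → κ = κ' * ε) ∧
    ∀ κ' : Γ(S, ⊤), IsCoef P u a' t b m κ' → κ' * ε = 1 := by
  have hε : scl ε (eOne (𝟙_ (Over S))) = eC _ ε := BGaNotS.gaPt_ext (by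
    rw [gaFn_scl, eC, eOne, BGaNotS.gaFn_gaPt, BGaNotS.gaFn_gaPt, _root_.mul_one])
  obtain ⟨h1, h2, h3⟩ := F.coef_top hm hli W.opp ht hta (-1) ε (by rw [← W.eq, ← cj_unit, h, hε])
  exact ⟨h1, fun d i κ κ' hi him hd hκ hκ' => by simpa using h2 d i κ κ' hi him hd hκ hκ',
    fun κ' hκ' => by simpa using h3 κ' hκ'⟩

/-- A root homomorphism commutes with the root groups whose sum with it is no root. -/
theorem Frame.commute_hom (F : Frame c P.root u) {l d : idx} {v : Red.Ga S ⟶ G}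
    (hv : Red.IsRootHom c (Red.chi S (P.root d)) v)
    (hli : ∀ x y : ℤ, x • P.root l + y • P.root d = 0 → x = 0 ∧ y = 0)
    (h : P.root l + P.root d ∉ Set.range P.root) {X : Over S} (x y : X ⟶ Red.Ga S) :
    (x ≫ u l) * (y ≫ v) = (y ≫ v) * (x ≫ u l) := by
  classical
  have hld : l ≠ d := fun e => by
    obtain ⟨h1, -⟩ := hli 1 (-1) (by rw [e]; module); omega
  have := (F.update d hv).commute hli h x y
  rwa [Function.update_self, Function.update_of_ne hld] at this

variable {a a' b b' : idx} {Na Nb : 𝟙_ (Over S) ⟶ G}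

/-- Orthogonal simple roots. -/
theorem IsWeyl.commute_a1a1 (F : Frame c P.root u) (Wa : IsWeyl c P u a a' Na) (Wb : IsWeyl c P u b b' Nb)
    (hli : ∀ x y : ℤ, x • P.root a + y • P.root b = 0 → x = 0 ∧ y = 0)
    (hm : P.root b - P.root a ∉ Set.range P.root) (hp : P.root a + P.root b ∉ Set.range P.root) :
    Na * Nb = Nb * Na := by
  have hm' : P.root a - P.root b ∉ Set.range P.root := fun h => hm (by
    rw [← neg_sub]; exact P.neg_mem_range_root_iff.2 h)
  have hp' : -(P.root a + P.root b) ∉ Set.range P.root := fun h => hp (P.neg_mem_range_root_iff.1 h)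
  have hc : ∀ l ∈ ({b, b'} : Set idx), ∀ y : 𝟙_ (Over S) ⟶ Red.Ga S,
      (y ≫ u l) * Na = Na * (y ≫ u l) := fun l hl y => by
    refine (Wa.commute_of (y ≫ u l) fun x => ?_).symm
    rcases hl with rfl | rfl
    · exact ⟨F.commute hli hp x y, F.commute (li_neg hli Wa.opp)
        (by rw [Wa.opp, neg_add_eq_sub]; exact hm) x y⟩
    · exact ⟨F.commute (li_symm P (li_neg (li_symm P hli) Wb.opp))
          (by rw [Wb.opp, ← sub_eq_add_neg]; exact hm') x y,
        F.commute (li_neg (li_symm P (li_neg (li_symm P hli) Wb.opp)) Wa.opp)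
          (by rw [Wa.opp, Wb.opp, ← neg_add]; exact hp') x y⟩
  exact (Wb.commute_of Na fun y => ⟨hc b (Set.mem_insert _ _) y, hc b' (Set.mem_insert_of_mem _ rfl) y⟩).symm

/-- A Weyl element commutes with a conjugate Weyl element of an orthogonal root. -/
theorem IsWeyl.commute_orth (F : Frame c P.root u) (Wb : IsWeyl c P u b b' Nb) {r r' d d' : idx}
    {K g : 𝟙_ (Over S) ⟶ G} (W : IsWeyl c P u r r' K)
    (hv : Red.IsRootHom c (Red.chi S (P.root d)) (cj g (u r)))
    (hv' : Red.IsRootHom c (Red.chi S (P.root d')) (cj g (u r')))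
    (hd : P.root d' = -P.root d) (hli : ∀ x y : ℤ, x • P.root b + y • P.root d = 0 → x = 0 ∧ y = 0)
    (hp : P.root b + P.root d ∉ Set.range P.root) (hm : P.root d - P.root b ∉ Set.range P.root) :
    Nb * (g * K * g⁻¹) = g * K * g⁻¹ * Nb := by
  have hli' : ∀ x y : ℤ, x • P.root b + y • P.root d' = 0 → x = 0 ∧ y = 0 :=
    li_symm P (li_neg (li_symm P hli) hd)
  have hp1 : P.root b' + P.root d ∉ Set.range P.root := by rw [Wb.opp, neg_add_eq_sub]; exact hm
  have hp2 : P.root b + P.root d' ∉ Set.range P.root := by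
    rw [hd, ← sub_eq_add_neg, ← neg_sub]; exact fun h => hm (P.neg_mem_range_root_iff.1 h)
  have hp3 : P.root b' + P.root d' ∉ Set.range P.root := by
    rw [Wb.opp, hd, ← neg_add]; exact fun h => hp (P.neg_mem_range_root_iff.1 h)
  refine Wb.commute_of _ fun y => ?_
  rw [← cj_unit, W.cj_self g, ← comp_cj, ← comp_cj]
  have hcm : ∀ l, (∀ x y : ℤ, x • P.root l + y • P.root d = 0 → x = 0 ∧ y = 0) →
      (∀ x y : ℤ, x • P.root l + y • P.root d' = 0 → x = 0 ∧ y = 0) →
      P.root l + P.root d ∉ Set.range P.root → P.root l + P.root d' ∉ Set.range P.root →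
      (y ≫ u l) * ((eOne _ ≫ cj g (u r)) * (eC _ (-1) ≫ cj g (u r')) * (eOne _ ≫ cj g (u r))) =
        ((eOne _ ≫ cj g (u r)) * (eC _ (-1) ≫ cj g (u r')) * (eOne _ ≫ cj g (u r))) * (y ≫ u l) :=
    fun l h1 h2 h3 h4 =>
      (((show Commute (y ≫ u l) (eOne _ ≫ cj g (u r)) from F.commute_hom hv h1 h3 y _).mul_right
        (F.commute_hom hv' h2 h4 y _)).mul_right (F.commute_hom hv h1 h3 y _)).eq
  exact ⟨hcm b hli hli' hp hp2, hcm b' (li_neg hli Wb.opp) (li_neg hli' Wb.opp) hp1 hp3⟩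

variable (hcor : ∀ x y, P.coroot x (P.root y) = P.pairing y x)
include hcor

/-- The first formula of a pair of type A₂, and the exchange of the two conjugates. -/
theorem a2_core (F : Frame c P.root u) (Wa : IsWeyl c P u a a' Na) (Wb : IsWeyl c P u b b' Nb)
    (hli : ∀ x y : ℤ, x • P.root a + y • P.root b = 0 → x = 0 ∧ y = 0)
    (hbot : P.root b - P.root a ∉ Set.range P.root) (hba : P.pairing b a = -1) (hab : P.pairing a b = -1) :
    (∀ (X : Over S) (x : X ⟶ Red.Ga S), cj Na (x ≫ u b) = cj Nb (x⁻¹ ≫ u a)) ∧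
      ∀ (X : Over S) (x y xy : X ⟶ Red.Ga S), Red.gaFn xy = Red.gaFn x * Red.gaFn y →
        (y ≫ u b) * (x ≫ u a) = (x ≫ u a) * (y ≫ u b) * cj Nb (xy ≫ u a) := by
  classical
  let t := P.reflectionPerm b a
  have ht : P.root t = P.root a + P.root b := by rw [show t = P.reflectionPerm b a from rfl, root_refl, hab]; module
  have hne : ∀ (l : idx) (p q : ℤ), p • P.root a + q • P.root b = P.root l → (p ≠ 1 ∨ q ≠ 1) → l ≠ t := by
    rintro l p q h hpq rfl
    obtain ⟨h1, h2⟩ := hli (p - 1) (q - 1) (by linear_combination (norm := module) h + ht)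
    omega
  have na : a ≠ t := hne a 1 0 (by module) (Or.inr (by omega))
  have nb : b ≠ t := hne b 0 1 (by module) (Or.inl (by omega))
  have na' : a' ≠ t := hne a' (-1) 0 (by rw [Wa.opp]; module) (Or.inr (by omega))
  have nb' : b' ≠ t := hne b' 0 (-1) (by rw [Wb.opp]; module) (Or.inl (by omega))
  have hnot : ∀ p q : ℕ, 1 ≤ p → 1 ≤ q → (p, q) ≠ (1, 1) → ∀ d, P.root d ≠ (p : ℤ) • P.root a + (q : ℤ) • P.root b :=
    fun p q hp hq hpq d hd => by
      rcases combos hli hbot (k := -1) (Or.inr (Or.inl rfl)) hba (by rw [hab]; rfl) hp hq hd with ⟨h1, h2⟩ | ⟨-, h⟩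
      · exact hpq (by simp; omega)
      · omega
  have hta : P.root a + P.root t ∉ Set.range P.root := fun ⟨d, hd⟩ =>
    hnot 2 1 one_le_two le_rfl (by decide) d (by rw [hd, ht]; push_cast; module)
  have htb : P.root b + P.root t ∉ Set.range P.root := fun ⟨d, hd⟩ =>
    hnot 1 2 le_rfl one_le_two (by decide) d (by rw [hd, ht]; push_cast; module)
  have key : ∀ v : Red.Ga S ⟶ G, Red.IsRootHom c (Red.chi S (P.root t)) v →
      ∃ C : Γ(S, ⊤), IsCoef P (Function.update u t v) a b t 1 C ∧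
        ∀ (X : Over S) (x y z : X ⟶ Red.Ga S), Red.gaFn z = X.hom.appTop C * Red.gaFn x * Red.gaFn y →
          word (u a) (u b) x y = z ≫ v := fun v hv => by
    obtain ⟨C, hf⟩ := (F.update t hv).exists_formula' hli ![t] ![1] ![1] (Function.injective_of_subsingleton _)
      (fun k => ⟨by fin_cases k; simp, by fin_cases k; simp, by fin_cases k; simp [ht]⟩)
      (fun d p q hp hq hd => by
        by_cases h : (p, q) = (1, 1)
        · obtain ⟨rfl, rfl⟩ := Prod.mk.inj h
          exact ⟨0, P.root.injective (by simp [hd, ht])⟩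
        · exact absurd hd (hnot p q hp hq h d))
    refine ⟨C 0, hf.isCoef 0 rfl, fun X x y z hz => ?_⟩
    have h := hf.eq X x y ![z] fun k => by fin_cases k; simpa using hz
    simpa [Function.update_of_ne na, Function.update_of_ne nb] using h
  have hv₁ : Red.IsRootHom c (Red.chi S (P.root t)) (cj Nb (u a)) := Wb.rootHom_refl hcor Wa.hua
  have hv₂ : Red.IsRootHom c (Red.chi S (P.root t)) (cj Na (u b)) :=
    Wa.rootHom' Wb.hua (by rw [ht, hcor, hba]; module)
  obtain ⟨C₁, hC₁, hw₁⟩ := key _ hv₁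
  obtain ⟨C₂, hC₂, hw₂⟩ := key _ hv₂
  have e₁ : C₁ = -1 := by
    have W := Wb.congr (u' := Function.update u t (cj Nb (u a))) (Function.update_of_ne nb _ _)
      (Function.update_of_ne nb' _ _)
    obtain ⟨h1, -, -⟩ := W.coef_top (F.update t hv₁) le_rfl (li_symm P hli)
      (show P.root t = ((1 : ℕ) : ℤ) • P.root b + P.root a by rw [ht]; push_cast; module) htb 1
      (by rw [Function.update_of_ne na, Function.update_self, comp_cj, scl_one])
    exact (F.update t hv₁).coef_eq hli (by rw [ht, Nat.cast_one, one_smul]) hC₁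
      ((F.update t hv₁).coef_symm hli ht h1)
  have e₂ : C₂ = 1 := by
    have W := Wa.congr (u' := Function.update u t (cj Na (u b))) (Function.update_of_ne na _ _)
      (Function.update_of_ne na' _ _)
    obtain ⟨h1, -, -⟩ := W.coef_top (F.update t hv₂) le_rfl hli
      (show P.root t = ((1 : ℕ) : ℤ) • P.root a + P.root b by rw [ht]; push_cast; module) hta 1
      (by rw [Function.update_of_ne nb, Function.update_self, comp_cj, scl_one])
    exact (F.update t hv₂).coef_eq hli (by rw [ht, Nat.cast_one, one_smul]) hC₂ h1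
  subst e₁ e₂
  refine ⟨fun X x => ?_, fun X x y xy hxy => ?_⟩
  · have h₁ := hw₁ X (eOne X) x x⁻¹ (by rw [gaFn_inv, eOne, BGaNotS.gaFn_gaPt, map_neg, map_one]; ring)
    have h₂ := hw₂ X (eOne X) x x (by rw [eOne, BGaNotS.gaFn_gaPt, map_one]; ring)
    rw [h₁, comp_cj, comp_cj] at h₂
    exact h₂.symm
  · haveI := (F.hu a).1
    rw [exchange, hw₁ X x⁻¹ y xy (by rw [hxy, gaFn_inv, map_neg, map_one]; ring), comp_cj]

/-- The braid relation of type A₂. -/
theorem a2_braid (F : Frame c P.root u) (Wa : IsWeyl c P u a a' Na) (Wb : IsWeyl c P u b b' Nb)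
    (hli : ∀ x y : ℤ, x • P.root a + y • P.root b = 0 → x = 0 ∧ y = 0)
    (hbot : P.root b - P.root a ∉ Set.range P.root) (hba : P.pairing b a = -1) (hab : P.pairing a b = -1) :
    Na * Nb * Na⁻¹ = Nb * Na⁻¹ * Nb⁻¹ := by
  have h1 := (a2_core hcor F Wa Wb hli hbot hba hab).1
  have h2 := (a2_core hcor F Wa.symm Wb.symm (li_symm P (li_neg (li_symm P (li_neg hli Wa.opp)) Wb.opp))
    (by rw [Wa.opp, Wb.opp, neg_sub_neg]; exact fun h => hbot (by rw [← neg_sub]; exact P.neg_mem_range_root_iff.2 h))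
    (by rw [Wa.pairing_symm hcor Wb, hba]) (by rw [Wb.pairing_symm hcor Wa, hab])).1
  have hodd : ¬ Even (1 : ℤ) := by decide
  have h3 : ∀ (X : Over S) (x : X ⟶ Red.Ga S), cj Na (x ≫ u b') = cj Nb (x⁻¹ ≫ u a') := fun X x => by
    have e7 := Wa.cj_sq Wb.hua' x
    rw [Wa.pairing_opp hcor Wb, hba, neg_neg, par_odd hodd, scl_neg_one] at e7
    have e8 := congrArg (cj Na⁻¹) e7
    rw [cj_inv_cj, h2, ga_inv_inv] at e8
    have e9 := Wb.cj_sq Wa.hua' x⁻¹
    rw [Wb.pairing_opp hcor Wa, hab, neg_neg, par_odd hodd, scl_neg_one, ga_inv_inv] at e9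
    have e10 := congrArg (cj Nb⁻¹) e9
    rw [cj_inv_cj] at e10
    rw [e8, e10]
  have hca : cj Na Nb = cj Nb ((eC _ (-1) ≫ u a) * (eOne _ ≫ u a') * (eC _ (-1) ≫ u a)) := by
    have hC : (eOne (𝟙_ (Over S)))⁻¹ = eC _ (-1) := BGaNotS.gaPt_ext (by
      rw [gaFn_inv, eC, eOne, BGaNotS.gaFn_gaPt, BGaNotS.gaFn_gaPt, map_neg, map_one])
    rw [Wb.cj_self, h1, h3, cj_mul, cj_mul, ← hC, ga_inv_inv]
  have hinv : Na⁻¹ = (eC _ (-1) ≫ u a) * (eOne _ ≫ u a') * (eC _ (-1) ≫ u a) := by
    haveI := Wa.hua.1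
    haveI := Wa.hua'.1
    have hC : eC (𝟙_ (Over S)) (-1) = (eOne _)⁻¹ := BGaNotS.gaPt_ext (by
      rw [gaFn_inv, eC, eOne, BGaNotS.gaFn_gaPt, BGaNotS.gaFn_gaPt, map_neg, map_one])
    rw [Wa.eq, hC, GrpObj.inv_comp, GrpObj.inv_comp]; group
  rw [← hinv, cj_unit, cj_unit] at hca
  exact hca

/-- The braid relation of type B₂, before squaring. -/
theorem b2_orth (F : Frame c P.root u) (Wa : IsWeyl c P u a a' Na) (Wb : IsWeyl c P u b b' Nb)
    (hli : ∀ x y : ℤ, x • P.root a + y • P.root b = 0 → x = 0 ∧ y = 0)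
    (hba : P.pairing b a = -2) (hab : P.pairing a b = -1) :
    Nb * (Na * Nb * Na⁻¹) = Na * Nb * Na⁻¹ * Nb := by
  let t := P.reflectionPerm b a
  have ht : P.root t = P.root a + P.root b := by rw [show t = P.reflectionPerm b a from rfl, root_refl, hab]; module
  have hd : P.root (P.reflectionPerm a b) = (2 : ℤ) • P.root a + P.root b := by rw [root_refl, hba]; module
  refine Wb.commute_orth F Wb (Wa.rootHom_refl hcor Wb.hua) (Wa.rootHom_refl hcor Wb.hua') ?_
    (fun x y h => ?_) ?_ ?_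
  · rw [root_refl, root_refl, Wb.opp, ← hcor, ← hcor, Wb.opp, _root_.map_neg]; module
  · obtain ⟨h1, h2⟩ := hli (2 * y) (x + y) (by rw [← h, hd]; module)
    omega
  · rw [show P.root b + P.root (P.reflectionPerm a b) = (2 : ℤ) • P.root t by rw [hd, ht]; module]
    exact (not_two t).1
  · rw [show P.root (P.reflectionPerm a b) - P.root b = (2 : ℤ) • P.root a by rw [hd]; module]
    exact (not_two a).1

/-- The braid relation of type G₂, before squaring. -/
theorem g2_orth (F : Frame c P.root u) (Wa : IsWeyl c P u a a' Na) (Wb : IsWeyl c P u b b' Nb)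
    (hli : ∀ x y : ℤ, x • P.root a + y • P.root b = 0 → x = 0 ∧ y = 0)
    (hba : P.pairing b a = -3) (hab : P.pairing a b = -1) :
    Nb * (Na * Nb * Na * (Na * Nb)⁻¹) = Na * Nb * Na * (Na * Nb)⁻¹ * Nb := by
  let t := P.reflectionPerm b a
  have ht : P.root t = P.root a + P.root b := by rw [show t = P.reflectionPerm b a from rfl, root_refl, hab]; module
  let d := P.reflectionPerm a t
  have hd : P.root d = (2 : ℤ) • P.root a + P.root b := by
    rw [show d = P.reflectionPerm a t from rfl, root_refl, pairing_root_combo (a := a) (b := b) (d := t) (p := 1) (q := 1)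
      (by rw [ht, one_smul, one_smul]), P.pairing_same, hba, ht]
    module
  have h1 := Wa.rootHom_refl hcor (Wb.rootHom_refl hcor Wa.hua)
  have h2 := Wa.rootHom_refl hcor (Wb.rootHom_refl hcor Wa.hua')
  have hsplit : ∀ v : Red.Ga S ⟶ G, cj Na (cj Nb v) = cj (Na * Nb) v := fun v => cj_cj _ _ _
  rw [hsplit] at h1 h2
  refine Wb.commute_orth F Wa h1 h2 ?_ (fun x y h => ?_) ?_ ?_
  · have e : ∀ l, P.root (P.reflectionPerm a (P.reflectionPerm b l)) =
        P.root l - P.coroot b (P.root l) • P.root b -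
          P.coroot a (P.root l - P.coroot b (P.root l) • P.root b) • P.root a := fun l => by
      rw [root_refl, ← hcor, root_refl, ← hcor]
    rw [e, e, Wa.opp]
    simp only [_root_.map_neg, _root_.map_sub, _root_.map_smul, smul_eq_mul]
    module
  · obtain ⟨h3, h4⟩ := hli (2 * y) (x + y) (by rw [← h, hd]; module)
    omega
  · rw [show P.root b + P.root d = (2 : ℤ) • P.root t by rw [hd, ht]; module]
    exact (not_two t).1
  · rw [show P.root d - P.root b = (2 : ℤ) • P.root a by rw [hd]; module]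
    exact (not_two a).1

omit hcor in
/-- The data of two simple roots of a pinning. -/
theorem pinned_pair (D : Red.Pinning G) (e₁ : 𝟙_ (Over S) ⟶ Red.Ga S) (he₁ : Red.gaFn e₁ = 1)
    (avc : D.idx → (Red.Gm S ⟶ D.T))
    (havc : ∀ a, avc a = Red.DSmap S (D.P.coroot a).toAddMonoidHom ≫ D.split.inv.hom.hom)
    (hpair : ∀ a ∈ D.base.support, ∀ (X : Over S) (x y : X ⟶ Red.Ga S), IsUnit (1 + Red.gaFn x * Red.gaFn y) →
        ∃ (x' y' : X ⟶ Red.Ga S) (z : X ⟶ Red.Gm S), Red.gmFn z = 1 + Red.gaFn x * Red.gaFn y ∧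
          Red.gaFn x' * Red.gmFn z = Red.gaFn x ∧ Red.gaFn y' * Red.gmFn z = Red.gaFn y ∧
          (x ≫ D.u a) * (y ≫ D.u (D.P.reflectionPerm a a)) =
            (y' ≫ D.u (D.P.reflectionPerm a a)) * (z ≫ avc a ≫ D.i) * (x' ≫ D.u a))
    (w : D.idx → (𝟙_ (Over S) ⟶ G))
    (hw : ∀ a, w a = (e₁ ≫ D.u a) * (e₁ ≫ D.u (D.P.reflectionPerm a a))⁻¹ * (e₁ ≫ D.u a))
    (a b : D.idx) (ha : a ∈ D.base.support) (hb : b ∈ D.base.support) (hne : a ≠ b) :
    letI := D.grpT
    letI := D.acgM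
    letI := D.fintypeIdx
    letI := D.finiteM
    letI := D.freeM
    Frame (D.split.inv.hom.hom ≫ D.i) D.P.root D.u ∧ (∀ x y, D.P.coroot x (D.P.root y) = D.P.pairing y x) ∧
      IsWeyl (D.split.inv.hom.hom ≫ D.i) D.P D.u a (D.P.reflectionPerm a a) (w a) ∧
      IsWeyl (D.split.inv.hom.hom ≫ D.i) D.P D.u b (D.P.reflectionPerm b b) (w b) ∧
      (∀ x y : ℤ, x • D.P.root a + y • D.P.root b = 0 → x = 0 ∧ y = 0) ∧
      D.P.root b - D.P.root a ∉ Set.range D.P.root ∧ D.P.root a - D.P.root b ∉ Set.range D.P.root ∧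
      ∀ (m : 𝟙_ (Over S) ⟶ Red.Gm S), Red.gmFn m = -1 → ∀ x ∈ D.base.support, m ≫ avc x ≫ D.i = w x * w x := by
  letI := D.grpT
  letI := D.acgM
  letI := D.fintypeIdx
  letI := D.finiteM
  letI := D.freeM
  obtain ⟨F, hW⟩ := pinned_weyl D e₁ he₁ avc havc hpair w hw
  obtain ⟨h1, h2, h3⟩ := simple_pair D.base ha hb hne
  refine ⟨F, coroot_apply_root D.pairing_eq, hW a ha, hW b hb, h1, h2, h3, fun m hm x hx => ?_⟩
  rw [(hW x hx).sq, cpt, havc, show m = gmNeg from gmFn_inj (hm.trans (by rw [gmNeg, GmPts.gmFn_ptOfUnit]; rfl))]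
  simp only [Category.assoc]

end Groth.Agent.RootBase
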