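import Groth.Agent.RootBase.Gen
import Groth.Agent.RootBase.Rank2
import Groth.Agent.R1F.Main
import Groth.Agent.RedR1.Invert
import Groth.Agent.RedR1.Build
import Groth.Agent.RedR1.Recover
import Groth.Agent.S8446
import Groth.Agent.S8451
import Groth.Agent.S5509

/-!
# The rank-one subgroup of a root of a frame
-/

set_option autoImplicit false
set_option backward.isDefEq.respectTransparency false
set_option linter.style.haveILetI false
set_option maxHeartbeats 1000000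
set_option synthInstance.maxHeartbeats 400000

universe u

open CategoryTheory Limits MonoidalCategory CartesianMonoidalCategory MonObj GrpObj AlgebraicGeometry
open scoped CategoryTheory.Obj

noncomputable section

namespace Groth.Agent.RootBase

open Groth.Agent.HomDiag Groth.Agent.DynPar

variable {S : Scheme.{u}} {M : Type} [AddCommGroup M] [Module.Free ℤ M]

/-- A nonzero character is nontrivial on every geometric fibre. -/
theorem chi_ne_one {d : M} (hd : d ≠ 0) (s : S) :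
    (Over.pullback (Red.geomPt s)).map (Red.chi S d) ≠ 1 := by
  intro h
  obtain ⟨θ, hθ⟩ := DynPar.exists_hom_pos_of_ne_zero hd
  let τ := Red.geomPt s
  let X : Over S := Over.mk τ
  obtain ⟨X', q, z, hq, hz⟩ := exists_unit_cover X (k := θ d) hθ.ne'
  haveI := hq
  -- the value of the character is one
  have h1 : (z ≫ Red.DSmap S θ) ≫ Red.chi S d = 1 := by
    have hcond : (z ≫ Red.DSmap S θ).left ≫ (Red.DS S M).hom = q.left ≫ τ := (Over.w _).trans (Over.w q).symm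
    let x' : Over.mk q.left ⟶ (Over.pullback τ).obj (Red.DS S M) :=
      Over.homMk (pullback.lift (z ≫ Red.DSmap S θ).left q.left hcond) (pullback.lift_snd _ _ _)
    have e : ∀ f : Red.DS S M ⟶ Red.Gm S, (x' ≫ (Over.pullback τ).map f).left ≫ pullback.fst _ _ =
        ((z ≫ Red.DSmap S θ) ≫ f).left := fun f => by
      simp [x', Over.pullback]
    have e1 := e (Red.chi S d)
    rw [h, ← Functor.map_one (Over.pullback τ), e] at e1
    refine Over.OverMorphism.ext ?_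
    rw [← e1, MonObj.comp_one]
  have h2 : ch z (Multiplicative.ofAdd (θ d)) = 1 := by
    have := congrArg Red.gmFn h1
    rwa [RootIntrinsic.gmFn_one_eq, Category.assoc, ← Category.assoc z, RootIntrinsic.gmFn_chi, ch_DSmap,
      toAdd_ofAdd] at this
  rw [h2, sub_self] at hz
  have h0 : Subsingleton Γ(X'.left, ⊤) := isUnit_zero_iff.1 hz |> fun e => subsingleton_of_zero_eq_one e
  have h3 : (BGaNotS.gaPt (1 : Γ(X.left, ⊤)) : X ⟶ Red.Ga S) = 1 :=
    (cancel_epi q).1 (BGaNotS.gaPt_ext (Subsingleton.elim _ _))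
  have h4 := congrArg Red.gaFn h3
  rw [BGaNotS.gaFn_gaPt, BGaNotS.gaFn_one] at h4
  have h5 := congrArg (Scheme.ΓSpecIso (CommRingCat.of (AlgebraicClosure (S.residueField s)))).hom h4
  rw [map_one, map_zero] at h5
  exact one_ne_zero h5

variable {G : Over S} [GrpObj G] {c : Red.DS S M ⟶ G} {idx : Type} [Fintype idx] [Module.Finite ℤ M]
  {root : idx → M} {u : idx → (Red.Ga S ⟶ G)}

/-- The centraliser of the kernel torus of a root, with its cell. -/
structure RankOne (c : Red.DS S M ⟶ G) (α : M) (v v' : Red.Ga S ⟶ G) {Ω : Over S} (j : Ω ⟶ G)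
    (Z : Over S) [GrpObj Z] where
  z : Z ⟶ G
  tC : Red.DS S M ⟶ Z
  pp : Red.Ga S ⟶ Z
  pm : Red.Ga S ⟶ Z
  hz : IsMonHom z
  hmono : Mono z
  htC : IsMonHom tC
  hpp : IsMonHom pp
  hpm : IsMonHom pm
  hppMono : Mono pp
  hpmMono : Mono pm
  tz : tC ≫ z = c
  ppz : pp ≫ z = v
  pmz : pm ≫ z = v'
  hZ : Red.IsReductive Z
  hTZ : Red.IsMaximalTorus tC
  hP : RedR1.NormP tC (Red.chi S α) pp
  hM : RedR1.NormM tC (Red.chi S α) pm
  hΩ : IsOpenImmersion (RedR1.cellMap tC pp pm).left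
  mem : ∀ {X : Over S} (g : X ⟶ Z), RedR1.InCell tC pp pm g ↔ ∃ x, x ≫ j = g ≫ z
  lift_root : ∀ (m : M) (w : Red.Ga S ⟶ G), Red.IsRootHom c (Red.chi S m) w → (m = α ∨ m = -α) → ∃ g, g ≫ z = w
  lift_refl : ∀ (N : 𝟙_ (Over S) ⟶ G) (φ : M →+ ℤ),
    (∀ (X : Over S) (t : X ⟶ Red.DS S M), cj N (t ≫ c) = refl α φ t ≫ c) → ∃ n, n ≫ z = N

attribute [instance] RankOne.hz RankOne.hmono RankOne.htC RankOne.hpp RankOne.hpm RankOne.hppMono RankOne.hpmMono
  RankOne.hΩ

set_option maxHeartbeats 2000000 in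
/-- **The rank-one subgroup of a pair of opposite roots.** -/
theorem Frame.exists_rankOne [Nonempty S] (F : Frame c root u) {a a' : idx} (hopp : root a' = -root a)
    (mu : M →+ ℤ) (hmu : ∀ b, mu (root b) ≠ 0) (ha : 0 < mu (root a)) {p q : ℕ} (en : Fin p → idx)
    (ep : Fin q → idx) (hn : RedSub.Enumerates {b | 0 < (-mu) (root b)} en)
    (hp : RedSub.Enumerates {b | 0 < mu (root b)} ep) :
    ∃ (Z : Over S) (_ : GrpObj Z),
      Nonempty (RankOne c (root a) (u a) (u a') (cellC c (fun l => u (en l)) (fun l => u (ep l))) Z) := by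
  classical
  haveI := F.hc.1
  haveI := F.hG.1
  haveI := F.hG.2.1
  haveI : Mono c := F.hc.2.1
  obtain ⟨M', _, _, _, π₀, m₁, hπs, hm₁, -, hπa, hker⟩ := DynPar.exists_line (root a) (F.ne a)
  let e := (Module.finBasis ℤ M').equivFun.toAddEquiv
  let π : M →+ (Fin (Module.finrank ℤ M') → ℤ) := e.toAddMonoidHom.comp π₀
  have hπsurj : Function.Surjective π := e.surjective.comp hπs
  have hπa' : π (root a) = 0 := by show e (π₀ (root a)) = 0; rw [hπa, map_zero]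
  have hπo : π (root a') = 0 := by rw [hopp, map_neg, hπa', neg_zero]
  have hπne : ∀ b, b ≠ a → b ≠ a' → π (root b) ≠ 0 := fun b hba hba' h => by
    obtain ⟨l, hl⟩ := hker (root b) (e.injective (h.trans e.map_zero.symm))
    obtain ⟨k, hk⟩ := hker (root a) hπa
    have hk0 : k ≠ 0 := fun h0 => F.ne a (by rw [hk, h0, zero_smul])
    rcases F.dep (a := a) (b := b) l k hk0 (by rw [hl, hk, smul_smul, smul_smul, mul_comm]) with h | h
    · exact hba (F.inj h)
    · exact hba' (F.inj (h.trans hopp.symm))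
  haveI : IsMonHom (Red.DSmap S π) := MTQuot.isMonHom_DSmap π
  haveI : Mono (Red.DSmap S π) := LieWeight.mono_DSmap π hπsurj
  let iT : Red.DS S (Fin (Module.finrank ℤ M') → ℤ) ⟶ G := Red.DSmap S π ≫ c
  haveI : IsMonHom iT := inferInstance
  haveI : Mono iT := mono_comp _ _
  obtain ⟨Z, _, z, hz, hzc, hZs⟩ := DynPar.exists_centralizer_DS (G := G) inferInstance inferInstance iT
  haveI := hz.1; haveI := hz.2.1; haveI := hzc; haveI := hZs
  have hZ : Red.IsReductive Z := by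
    refine ⟨by rw [← Over.w z]; infer_instance, hZs, fun s => ?_⟩
    let τ := Red.geomPt s
    haveI : Limits.PreservesLimitsOfShape Limits.WalkingCospan (Over.pullback τ) :=
      (Adjunction.rightAdjoint_preservesLimits (Over.mapPullbackAdj τ)).preservesLimitsOfShape
    obtain ⟨hGa, hGs, hGc, -⟩ := id (F.hG.2.2 s)
    haveI : IsAffine (Red.bc τ G).left := hGa
    haveI : Smooth (Red.geomFibre s G).hom := hGs
    haveI : ConnectedSpace (Red.bc τ G).left := hGc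
    exact RedCent.isReductiveOver_centralizer (F.hG.2.2 s) ((Over.pullback τ).map iT)
      (Chev.Borel.isTorus_bc_scheme _ τ (MTCentre.isTorus_DS_scheme S _)) ((Over.pullback τ).map z)
      (Chev.CentBC.isCentralizerOf_bc τ iT z hz)
  -- the lifts
  have hlift : ∀ {Y : Over S} (f : Y ⟶ G), (∀ (X : Over S) (x : X ⟶ Y) (h : X ⟶ _),
      Commute (x ≫ f) (h ≫ iT)) → ∃ g, g ≫ z = f := fun f h => (hz.2.2 _ f).2 h
  obtain ⟨tC, htC⟩ := hlift c fun X x h => by
    show (x ≫ c) * (h ≫ Red.DSmap S π ≫ c) = (h ≫ Red.DSmap S π ≫ c) * (x ≫ c)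
    rw [← Category.assoc h, ← MonObj.mul_comp, ← MonObj.mul_comp,
      show x * (h ≫ Red.DSmap S π) = (h ≫ Red.DSmap S π) * x from ch_ext fun m => by rw [ch_mul, ch_mul, mul_comm]]
  haveI : IsMonHom tC := MTSplit.isMonHom_of_comp_mono tC z c htC
  haveI : Mono tC := by
    haveI : Mono (tC ≫ z) := by rw [htC]; infer_instance
    exact mono_of_mono tC z
  have hrootGen : ∀ (m : M) (w : Red.Ga S ⟶ G), Red.IsRootHom c (Red.chi S m) w → π m = 0 →
      ∃ g, g ≫ z = w := fun m w hw hm => hlift w fun X x h => by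
    obtain ⟨y, hy, hy'⟩ := hw.2.2 X (h ≫ Red.DSmap S π) x
    have hyx : y = x := BGaNotS.gaPt_ext (by
      rw [hy', RootIntrinsic.gmFn_chi, ch_DSmap, toAdd_ofAdd, hm, ofAdd_zero, map_one, _root_.one_mul])
    rw [hyx] at hy
    show (x ≫ w) * (h ≫ Red.DSmap S π ≫ c) = (h ≫ Red.DSmap S π ≫ c) * (x ≫ w)
    rw [← Category.assoc h]
    exact eq_mul_inv_iff_mul_eq.1 hy
  have hroot : ∀ b, π (root b) = 0 → ∃ g, g ≫ z = u b := fun b hb => hrootGen _ _ (F.hu b) hb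
  obtain ⟨pp, hpp⟩ := hroot a hπa'
  obtain ⟨pm, hpm⟩ := hroot a' hπo
  haveI := (F.hu a).1
  haveI := (F.hu a').1
  haveI := (F.hu a).2.1
  haveI := (F.hu a').2.1
  haveI : IsMonHom pp := MTSplit.isMonHom_of_comp_mono pp z (u a) hpp
  haveI : IsMonHom pm := MTSplit.isMonHom_of_comp_mono pm z (u a') hpm
  haveI : Mono pp := by
    haveI : Mono (u a) := Over.mono_of_mono_left _
    haveI : Mono (pp ≫ z) := by rw [hpp]; infer_instance
    exact mono_of_mono pp z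
  haveI : Mono pm := by
    haveI : Mono (u a') := Over.mono_of_mono_left _
    haveI : Mono (pm ≫ z) := by rw [hpm]; infer_instance
    exact mono_of_mono pm z
  have hchi : ∀ {X : Over S} (t : X ⟶ Red.DS S M),
      Red.gmFn (t ≫ Red.chi S (root a')) * Red.gmFn (t ≫ Red.chi S (root a)) = 1 := fun t => by
    rw [RootIntrinsic.gmFn_chi, RootIntrinsic.gmFn_chi, ← map_mul, ← ofAdd_add, hopp, neg_add_cancel, ofAdd_zero,
      map_one]
  have hP : RedR1.NormP tC (Red.chi S (root a)) pp := fun X t x => by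
    obtain ⟨y, hy, hy'⟩ := (F.hu a).2.2 X t x
    exact ⟨y, (cancel_mono z).1 (by
      rw [MonObj.mul_comp, MonObj.mul_comp, GrpObj.inv_comp]
      simp only [Category.assoc, hpp, htC]
      exact hy), hy'⟩
  have hM : RedR1.NormM tC (Red.chi S (root a)) pm := fun X t x => by
    obtain ⟨y, hy, hy'⟩ := (F.hu a').2.2 X t x
    refine ⟨y, (cancel_mono z).1 (by
      rw [MonObj.mul_comp, MonObj.mul_comp, GrpObj.inv_comp]
      simp only [Category.assoc, hpm, htC]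
      exact hy), ?_⟩
    rw [hy', _root_.mul_comm (Red.gmFn _), _root_.mul_assoc, hchi t, _root_.mul_one]
  -- coordinates in the cell
  obtain ⟨la, hla⟩ : ∃ l, ep l = a := hp.2.symm.subset ha
  obtain ⟨la', hla'⟩ : ∃ l, en l = a' := hn.2.symm.subset (show 0 < (-mu) (root a') by
    rw [AddMonoidHom.neg_apply, hopp, map_neg, neg_neg]; exact ha)
  obtain ⟨ho, -⟩ := F.cell mu hmu en en ep ep hn hp hn hp
  haveI := ho
  let j := cellC c (fun l => u (en l)) (fun l => u (ep l))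
  haveI : Mono j := Over.mono_of_mono_left _
  have hplus : ∀ l, π (root (ep l)) = 0 → l = la := fun l h => hp.1 (by
    rw [hla]
    by_contra hne
    refine hπne _ hne (fun h' => ?_) h
    have h1 : 0 < mu (root (ep l)) := hp.2.subset ⟨l, rfl⟩
    rw [h', hopp, map_neg] at h1
    omega)
  have hminus : ∀ l, π (root (en l)) = 0 → l = la' := fun l h => hn.1 (by
    rw [hla']
    by_contra hne
    refine hπne _ (fun h' => ?_) hne h
    have h1 : 0 < (-mu) (root (en l)) := hn.2.subset ⟨l, rfl⟩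
    rw [h', AddMonoidHom.neg_apply] at h1
    omega)
  have hemb : ∀ {X : Over S} (y : X ⟶ Red.Ga S) (t : X ⟶ Red.DS S M) (x : X ⟶ Red.Ga S),
      ∃ w : X ⟶ RedSub.pow (Red.Ga S) p ⊗ (Red.DS S M ⊗ RedSub.pow (Red.Ga S) q),
        w ≫ j = ((y ≫ pm) * (t ≫ tC) * (x ≫ pp)) ≫ z ∧ w ≫ fst _ _ ≫ proj S p la' = y ∧
          w ≫ snd _ _ ≫ fst _ _ = t ∧ w ≫ snd _ _ ≫ snd _ _ ≫ proj S q la = x := by
    intro X y t x
    obtain ⟨Y, hY, hY'⟩ := exists_pow_prod (fun l => u (en l))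
      (Function.update (fun _ => (1 : X ⟶ Red.Ga S)) la' y)
    obtain ⟨W, hW, hW'⟩ := exists_pow_prod (fun l => u (ep l))
      (Function.update (fun _ => (1 : X ⟶ Red.Ga S)) la x)
    refine ⟨lift Y (lift t W), ?_, ?_, ?_, ?_⟩
    · rw [comp_cellC, hY', hW', prod_ofFn_single _ la' (fun k hk => by
          haveI := (F.hu (en k)).1
          rw [Function.update_of_ne hk]; exact MonObj.one_comp _), prod_ofFn_single _ la (fun k hk => by
          haveI := (F.hu (ep k)).1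
          rw [Function.update_of_ne hk]; exact MonObj.one_comp _),
        Function.update_self, Function.update_self, hla, hla', MonObj.mul_comp, MonObj.mul_comp]
      simp only [Category.assoc, hpp, hpm, htC, _root_.mul_assoc]
    · simp [hY]
    · simp
    · simp [hW]
  have mem : ∀ {X : Over S} (g : X ⟶ Z), RedR1.InCell tC pp pm g ↔ ∃ x, x ≫ j = g ≫ z := by
    intro X g
    refine ⟨fun ⟨y, t, x, hg⟩ => ?_, fun ⟨w, hw⟩ => ?_⟩
    · obtain ⟨w, hw, -⟩ := hemb y t x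
      exact ⟨w, by rw [hw, hg]⟩
    obtain ⟨θ, hθ⟩ := DynPar.exists_hom_ne_zero (Finset.univ.image fun b => π (root b))
    have hθ' : ∀ b, π (root b) ≠ 0 → θ (π (root b)) ≠ 0 := fun b hb =>
      hθ _ (Finset.mem_image_of_mem _ (Finset.mem_univ b)) hb
    let y := w ≫ fst _ _
    let t := w ≫ snd _ _ ≫ fst _ _
    let y' := w ≫ snd _ _ ≫ snd _ _
    have hw' : lift y (lift t y') = w := by
      refine CartesianMonoidalCategory.hom_ext _ _ (by simp [y]) ?_
      refine CartesianMonoidalCategory.hom_ext _ _ (by simp [t]) (by simp [y'])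
    obtain ⟨hz0, hz1⟩ := F.eq_one_of_commute en ep ho y t y' (θ.comp π) fun X' ρ r => by
      rw [hw']
      show Commute (ρ ≫ w ≫ j) _
      rw [hw]
      have h := (hz.2.2 X (g ≫ z)).1 ⟨g, rfl⟩ X' ρ (r ≫ Red.DSmap S θ)
      have e : (r ≫ Red.DSmap S (θ.comp π)) ≫ c = (r ≫ Red.DSmap S θ) ≫ iT := by
        rw [show r ≫ Red.DSmap S (θ.comp π) = (r ≫ Red.DSmap S θ) ≫ Red.DSmap S π from ch_ext fun m => by
          rw [ch_DSmap, ch_DSmap, ch_DSmap, toAdd_ofAdd]; rfl]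
        simp only [iT, Category.assoc]
      rw [e]
      exact h
    refine ⟨y ≫ proj S p la', t, y' ≫ proj S q la, (cancel_mono z).1 ?_⟩
    rw [← hw, ← hw', comp_cellC, comp_prodMap_eq, comp_prodMap_eq,
      prod_ofFn_single _ la' (fun k hk => by
        haveI := (F.hu (en k)).1
        rw [hz0 k (hθ' _ fun h => hk (hminus k h))]; exact MonObj.one_comp _),
      prod_ofFn_single _ la (fun k hk => by
        haveI := (F.hu (ep k)).1
        rw [hz1 k (hθ' _ fun h => hk (hplus k h))]; exact MonObj.one_comp _),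
      MonObj.mul_comp, MonObj.mul_comp, hla, hla']
    simp only [Category.assoc, hpp, hpm, htC, _root_.mul_assoc]
  -- the cell is an open immersion
  have hopen : IsOpenImmersion (RedR1.cellMap tC pp pm).left := by
    let U : Z.left.Opens := z.left ⁻¹ᵁ j.left.opensRange
    let Ω : Over S := Over.mk (U.ι ≫ Z.hom)
    let i : Ω ⟶ Z := Over.homMk U.ι
    haveI : IsOpenImmersion i.left := inferInstanceAs (IsOpenImmersion U.ι)
    haveI : Mono i := Over.mono_of_mono_left i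
    have hrange : Set.range i.left = (z.left : Z.left → G.left) ⁻¹' Set.range j.left := Scheme.Opens.range_ι U
    have hsub : ∀ {X : Over S} (g : X ⟶ Z), (∃ x, x ≫ j = g ≫ z) ↔ ∃ o, o ≫ i = g := fun g => by
      rw [exists_fac_iff_range, exists_fac_iff_range, hrange, Over.comp_left]
      constructor
      · rintro h _ ⟨r, rfl⟩; exact h ⟨r, rfl⟩
      · rintro h _ ⟨r, rfl⟩; exact h ⟨r, rfl⟩
    obtain ⟨k, hk⟩ : ∃ o, o ≫ i = RedR1.cellMap tC pp pm := (hsub _).1 ((mem _).1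
      ⟨fst _ _ ≫ fst _ _, fst _ _ ≫ snd _ _, snd _ _, by
        rw [← RedR1.lift_cellMap]
        conv_lhs => rw [← Category.id_comp (RedR1.cellMap tC pp pm)]
        congr 1
        ext <;> simp⟩)
    obtain ⟨y, t, x, hi⟩ := (mem i).2 ((hsub i).2 ⟨𝟙 _, Category.id_comp i⟩)
    have h1 : lift (lift y t) x ≫ k = 𝟙 Ω := (cancel_mono i).1 (by
      rw [Category.assoc, hk, RedR1.lift_cellMap, ← hi, Category.id_comp])
    have huniq : ∀ {X : Over S} (y y' : X ⟶ Red.Ga S) (t t' : X ⟶ Red.DS S M) (x x' : X ⟶ Red.Ga S),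
        (y ≫ pm) * (t ≫ tC) * (x ≫ pp) = (y' ≫ pm) * (t' ≫ tC) * (x' ≫ pp) → y = y' ∧ t = t' ∧ x = x' := by
      intro X y y' t t' x x' h
      obtain ⟨w, hw, e1, e2, e3⟩ := hemb y t x
      obtain ⟨w', hw', e1', e2', e3'⟩ := hemb y' t' x'
      obtain rfl : w = w' := (cancel_mono j).1 (by rw [hw, hw', h])
      exact ⟨e1.symm.trans e1', e2.symm.trans e2', e3.symm.trans e3'⟩
    have h2 : k ≫ lift (lift y t) x = 𝟙 _ := by
      have e' : lift (lift (fst _ _ ≫ fst _ _) (fst _ _ ≫ snd _ _)) (snd (Red.Ga S ⊗ Red.DS S M) (Red.Ga S)) =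
          𝟙 _ := by ext <;> simp
      have e : lift (lift (fst _ _ ≫ fst _ _) (fst _ _ ≫ snd _ _)) (snd (Red.Ga S ⊗ Red.DS S M) (Red.Ga S)) ≫
          RedR1.cellMap tC pp pm = lift (lift (k ≫ y) (k ≫ t)) (k ≫ x) ≫ RedR1.cellMap tC pp pm := by
        rw [e', Category.id_comp, ← comp_lift, ← comp_lift, Category.assoc, RedR1.lift_cellMap, ← hi, hk]
      rw [RedR1.lift_cellMap, RedR1.lift_cellMap] at e
      obtain ⟨a1, a2, a3⟩ := huniq _ _ _ _ _ _ e
      rw [comp_lift, comp_lift, ← a1, ← a2, ← a3, e']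
    haveI : IsIso k.left := ⟨(lift (lift y t) x).left, by rw [← Over.comp_left, h2]; rfl,
      by rw [← Over.comp_left, h1]; rfl⟩
    rw [← hk, Over.comp_left]
    infer_instance
  haveI := hopen
  refine ⟨Z, inferInstance, ⟨⟨z, tC, pp, pm, inferInstance, inferInstance, inferInstance, inferInstance,
    inferInstance, inferInstance, inferInstance, htC, hpp, hpm, hZ, ⟨inferInstance, inferInstance,
      F.hc.2.2.1, fun s T' _ w _ _ g hT' hg => ?_⟩, hP, hM, hopen, mem,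
      fun m w hw hm => hrootGen m w hw ?_, fun N φ hN => ?_⟩⟩⟩
  · let τ := Red.geomPt s
    haveI : Limits.PreservesLimitsOfShape Limits.WalkingCospan (Over.pullback τ) :=
      (Adjunction.rightAdjoint_preservesLimits (Over.mapPullbackAdj τ)).preservesLimitsOfShape
    haveI : Mono ((Over.pullback τ).map z) := inferInstance
    haveI : Mono (w ≫ (Over.pullback τ).map z) := mono_comp _ _
    haveI : IsMonHom ((Over.pullback τ).map z) := inferInstance
    refine F.hc.2.2.2 s T' (w ≫ (Over.pullback τ).map z) g hT' ?_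
    rw [← Category.assoc, hg, ← Functor.map_comp, htC]
  · rcases hm with rfl | rfl
    · exact hπa'
    · rw [map_neg, hπa', neg_zero]
  · refine hlift N fun X x h => ?_
    have h1 := hN X (h ≫ Red.DSmap S π)
    rw [show refl (root a) φ (h ≫ Red.DSmap S π) = h ≫ Red.DSmap S π from ch_ext fun m => by
      obtain ⟨m, rfl⟩ : ∃ k : M, Multiplicative.ofAdd k = m := ⟨m.toAdd, rfl⟩
      rw [ch_refl, ch_DSmap, ch_DSmap, toAdd_ofAdd, toAdd_ofAdd, map_sub, map_zsmul, hπa', smul_zero, sub_zero]] at h1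
    rw [show x = toUnit X from toUnit_unique _ _]
    simp only [cj, Category.assoc] at h1
    exact mul_inv_eq_iff_eq_mul.1 h1

theorem comp_scl {X Y : Over S} (q : Y ⟶ X) (r : Γ(S, ⊤)) (x : X ⟶ Red.Ga S) :
    q ≫ scl r x = scl r (q ≫ x) :=
  BGaNotS.gaPt_ext (by
    rw [BGaNotS.gaFn_comp, gaFn_scl, gaFn_scl, map_mul, BGaNotS.gaFn_comp, ← CommRingCat.comp_apply,
      ← Scheme.Hom.comp_appTop, Over.w q])

/-- Points of the multiplicative group carried by an automorphism-scaled cell. -/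
theorem isOpenImmersion_cell_scl {Z : Over S} [GrpObj Z] (i : Red.DS S M ⟶ Z) (pp pm : Red.Ga S ⟶ Z)
    [IsOpenImmersion (RedR1.cellMap i pp pm).left] {r r' : Γ(S, ⊤)} (h : r * r' = 1) :
    IsOpenImmersion (RedR1.cellMap i pp (scl r (𝟙 (Red.Ga S)) ≫ pm)).left := by
  have hh : ∀ r r' : Γ(S, ⊤), r * r' = 1 → scl r (𝟙 (Red.Ga S)) ≫ scl r' (𝟙 (Red.Ga S)) = 𝟙 (Red.Ga S) := fun r r' h =>
    BGaNotS.gaPt_ext (by
      rw [comp_scl, Category.comp_id, gaFn_scl, gaFn_scl, ← _root_.mul_assoc, ← map_mul, _root_.mul_comm r', h,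
        map_one, _root_.one_mul])
  let e : Red.Ga S ≅ Red.Ga S := ⟨scl r (𝟙 _), scl r' (𝟙 _), hh r r' h, hh r' r (by rw [_root_.mul_comm, h])⟩
  let E : (Red.Ga S ⊗ Red.DS S M) ⊗ Red.Ga S ≅ (Red.Ga S ⊗ Red.DS S M) ⊗ Red.Ga S :=
    MonoidalCategory.tensorIso (MonoidalCategory.tensorIso e (Iso.refl _)) (Iso.refl _)
  have hE : RedR1.cellMap i pp (scl r (𝟙 (Red.Ga S)) ≫ pm) = E.hom ≫ RedR1.cellMap i pp pm := by
    simp only [RedR1.cellMap, E, e, MonoidalCategory.tensorIso_hom, Iso.refl_hom,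
      ← MonoidalCategory.tensorHom_comp_tensorHom_assoc, Category.id_comp,
      MonoidalCategory.tensorHom_comp_tensorHom_assoc, MonoidalCategory.tensorHom_comp_tensorHom]
  haveI : IsIso E.hom.left := ((Over.forget _).mapIso E).isIso_hom
  rw [hE, Over.comp_left]
  infer_instance

section Dual

theorem gi1 {H : Type*} [Group H] (a b : H) : a⁻¹⁻¹ * (a⁻¹ * b) = b := by group

theorem gi2 {H : Type*} [Group H] {a b c : H} (h : a⁻¹ * b = c⁻¹ * b) : a = c :=
  inv_injective (mul_right_cancel h)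

theorem gi3 {H : Type*} [Group H] (z : H) : (z * z)⁻¹ * z = z⁻¹ := by group

theorem gi5 {H : Type*} [Group H] {a b : H} (h : a * b = 1) : a = b⁻¹ := eq_inv_of_mul_eq_one_left h

theorem gi6 {H : Type*} [Group H] {z w : H} (h : z * z * w = z) : w = z⁻¹ := by
  refine gi5 (mul_left_cancel (a := z) ?_)
  rw [_root_.mul_one]
  calc z * (w * z) = z⁻¹ * (z * z * w) * z := by group
    _ = z := by rw [h]; group

theorem gi7 {H : Type*} [Group H] (a t : H) : a * (a⁻¹ * t) = t := mul_inv_cancel_left a t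

theorem gz {H : Type*} [Group H] (a : H) : a ^ (1 : ℤ) = a := zpow_one a

theorem ds_cancel {X : Over S} {a b t : X ⟶ Red.DS S M} (h : a⁻¹ * t = b⁻¹ * t) : a = b := by
  refine ch_ext fun m => ?_
  have h' := congrArg (fun w => ch w m) h
  simp only [ch_mul] at h'
  linear_combination (-ch a m) * ch_inv_mul b m + ch b m * ch_inv_mul a m -
    ch a m * ch b m * (ch b⁻¹ m - ch a⁻¹ m) * ch_inv_mul t m - ch a m * ch b m * ch t⁻¹ m * h'

theorem ds_eq_one {X : Over S} {a t : X ⟶ Red.DS S M} (h : t = a⁻¹ * t) : a = 1 := by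
  refine ch_ext fun m => ?_
  have h' := congrArg (fun w => ch w m) h
  simp only [ch_mul] at h'
  rw [ch_one]
  linear_combination (ch a m * ch t⁻¹ m) * h' - ch a m * ch_inv_mul t m +
    (ch t⁻¹ m * ch t m) * ch_inv_mul a m + ch_inv_mul t m

theorem gi4 {H : Type*} [Group H] {a t : H} (h : t = a⁻¹ * t) : a = 1 :=
  inv_eq_one.1 (right_eq_mul.1 h)

variable [Nonempty S] {a a' : idx} {p q : ℕ} {en : Fin p → idx} {ep : Fin q → idx} {Z : Over S} [GrpObj Z]

/-- Points of the cell normalising the torus lie in it. -/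
theorem RankOne.torus_of_normalizes (F : Frame c root u)
    (ho : IsOpenImmersion (cellC c (fun l => u (en l)) (fun l => u (ep l))).left)
    (mu : M →+ ℤ) (hmu : ∀ b, mu (root b) ≠ 0)
    (R : RankOne c (root a) (u a) (u a') (cellC c (fun l => u (en l)) (fun l => u (ep l))) Z)
    {X : Over S} (g : X ⟶ Z) (hg : RedR1.InCell R.tC R.pp R.pm g)
    (h : ∀ (X' : Over S) (ρ : X' ⟶ X) (t : X' ⟶ Red.DS S M), ∃ t₁ : X' ⟶ Red.DS S M,
      (ρ ≫ g) * (t ≫ R.tC) * (ρ ≫ g)⁻¹ = t₁ ≫ R.tC) : ∃ t : X ⟶ Red.DS S M, t ≫ R.tC = g := by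
  haveI := F.hc.1
  obtain ⟨w, hw⟩ := (R.mem g).1 hg
  have hw' : lift (w ≫ fst _ _) (lift (w ≫ snd _ _ ≫ fst _ _) (w ≫ snd _ _ ≫ snd _ _)) = w := by
    refine CartesianMonoidalCategory.hom_ext _ _ (by simp) ?_
    refine CartesianMonoidalCategory.hom_ext _ _ (by simp) (by simp)
  have key := S5509.torus_of_normalizes F en ep ho mu hmu (w ≫ fst _ _) (w ≫ snd _ _ ≫ fst _ _)
    (w ≫ snd _ _ ≫ snd _ _) fun X' ρ t => by
      obtain ⟨t₁, ht₁⟩ := h X' ρ t
      refine ⟨t₁, ?_⟩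
      have h' := congrArg (· ≫ R.z) ht₁
      simp only [MonObj.mul_comp, GrpObj.inv_comp, Category.assoc, R.tz] at h'
      rw [hw', hw]
      exact h'
  rw [hw', hw] at key
  exact ⟨w ≫ snd _ _ ≫ fst _ _, (cancel_mono R.z).1 (by rw [Category.assoc, R.tz, key])⟩

set_option maxHeartbeats 4000000 in
/-- **The dual root homomorphism with the coroot of the reflection.** -/
theorem RankOne.exists_dual (F : Frame c root u)
    (ho : IsOpenImmersion (cellC c (fun l => u (en l)) (fun l => u (ep l))).left)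
    (mu : M →+ ℤ) (hmu : ∀ b, mu (root b) ≠ 0)
    (R : RankOne c (root a) (u a) (u a') (cellC c (fun l => u (en l)) (fun l => u (ep l))) Z)
    (φ : M →+ ℤ) (hφ : φ (root a) = 2) (N : 𝟙_ (Over S) ⟶ G)
    (hN : ∀ (X : Over S) (t : X ⟶ Red.DS S M), cj N (t ≫ c) = refl (root a) φ t ≫ c)
    (hopp : root a' = -root a) :
    ∃ d : Red.Ga S ⟶ G, Red.IsRootHom c (Red.chi S (root a')) d ∧
      ∀ (X : Over S) (x y : X ⟶ Red.Ga S), IsUnit (1 + Red.gaFn x * Red.gaFn y) →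
        ∃ (x' y' : X ⟶ Red.Ga S) (z : X ⟶ Red.Gm S), Red.gmFn z = 1 + Red.gaFn x * Red.gaFn y ∧
          Red.gaFn x' * Red.gmFn z = Red.gaFn x ∧ Red.gaFn y' * Red.gmFn z = Red.gaFn y ∧
          (x ≫ u a) * (y ≫ d) = (y' ≫ d) * (z ≫ Red.DSmap S φ ≫ c) * (x' ≫ u a) := by
  haveI := F.hc.1
  let α := root a
  haveI : IsMonHom (Red.chi S α) := MTQuot.isMonHom_DSmap _
  haveI : IsMonHom (Red.DSmap S φ) := MTQuot.isMonHom_DSmap _
  haveI : Mono R.tC := R.hTZ.2.1
  have hα : ∀ s : S, (Over.pullback (Red.geomPt s)).map (Red.chi S α) ≠ 1 := chi_ne_one (F.ne a)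
  have hT := R.hTZ.2.2.1
  let D : R1F.Setup Z (Red.DS S M) := ⟨R.tC, Red.chi S α, R.pp, R.pm, inferInstance, inferInstance, inferInstance,
    inferInstance, inferInstance, inferInstance, hT, hα, R.hP, R.hM, R.hΩ⟩
  have hnc : D.NC := fun s => S8446.result S Z (Red.DS S M) R.tC R.hZ R.hTZ (Red.chi S α) hα R.pp R.pm R.hP R.hM
    R.hΩ s
  obtain ⟨⟨a₀, av⟩, ⟨hav, hsq, hrel⟩, -⟩ := R1F.Setup.main (D := D) hnc
  haveI : IsMonHom av := hav
  let A₀ : (Γ(S, ⊤))ˣ := GmPts.unitOfPt a₀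
  have hA : ∀ X : Over S, Red.gmFn (toUnit X ≫ a₀) = X.hom.appTop (A₀ : Γ(S, ⊤)) := fun X => by
    rw [GmPts.gmFn_comp]; rfl
  let σ : Red.Ga S ⟶ Red.Ga S := scl (↑A₀⁻¹ : Γ(S, ⊤)) (𝟙 _)
  have hσ : ∀ {X : Over S} (x : X ⟶ Red.Ga S), x ≫ σ = scl (↑A₀⁻¹ : Γ(S, ⊤)) x := fun x => by
    rw [comp_scl, Category.comp_id]
  haveI : IsMonHom σ := HomDiag.isMonHom_of_mul σ fun X x y => BGaNotS.gaPt_ext (by
    rw [hσ, hσ, hσ, BGaNotS.gaFn_mul, gaFn_scl, gaFn_scl, gaFn_scl, BGaNotS.gaFn_mul, _root_.mul_add])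
  let σ' : Red.Ga S ⟶ Red.Ga S := scl (A₀ : Γ(S, ⊤)) (𝟙 _)
  have hσσ : σ ≫ σ' = 𝟙 _ ∧ σ' ≫ σ = 𝟙 _ := by
    constructor <;> refine BGaNotS.gaPt_ext ?_ <;>
      rw [comp_scl, Category.comp_id, gaFn_scl, gaFn_scl, ← _root_.mul_assoc, ← map_mul]
    · rw [Units.mul_inv, map_one, _root_.one_mul]
    · rw [Units.inv_mul, map_one, _root_.one_mul]
  haveI : IsIso σ := ⟨σ', hσσ.1, hσσ.2⟩
  haveI : IsIso σ.left := ((Over.forget _).mapIso (asIso σ)).isIso_hom
  haveI := isOpenImmersion_cell_scl R.tC R.pp R.pm (Units.inv_mul A₀)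
  haveI : IsOpenImmersion (RedR1.cellMap R.tC R.pp (σ ≫ R.pm)).left :=
    isOpenImmersion_cell_scl R.tC R.pp R.pm (Units.inv_mul A₀)
  have hMσ : RedR1.NormM R.tC (Red.chi S α) (σ ≫ R.pm) := fun X t y => by
    obtain ⟨y', hy, hy'⟩ := R.hM X t (y ≫ σ)
    refine ⟨y' ≫ σ', ?_, ?_⟩
    · rw [Category.assoc, ← Category.assoc σ', hσσ.2, Category.id_comp, hy, Category.assoc]
    · rw [comp_scl, Category.comp_id, gaFn_scl, _root_.mul_assoc, hy', hσ, gaFn_scl, ← _root_.mul_assoc, ← map_mul,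
        Units.mul_inv, map_one, _root_.one_mul]
  have s : RedR1.Sys R.tC (Red.chi S α) R.pp (σ ≫ R.pm) av :=
    ⟨inferInstance, inferInstance, inferInstance, inferInstance, inferInstance, hsq, R.hP, hMσ, fun X x y h => by
      have e : Red.gmFn (toUnit X ≫ a₀) * Red.gaFn x * Red.gaFn (y ≫ σ) = Red.gaFn x * Red.gaFn y := by
        rw [hσ, gaFn_scl, hA]
        calc X.hom.appTop (A₀ : Γ(S, ⊤)) * Red.gaFn x * (X.hom.appTop (↑A₀⁻¹ : Γ(S, ⊤)) * Red.gaFn y)
            = X.hom.appTop (A₀ : Γ(S, ⊤)) * X.hom.appTop (↑A₀⁻¹ : Γ(S, ⊤)) * (Red.gaFn x * Red.gaFn y) := by ring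
          _ = _ := by rw [← map_mul, Units.mul_inv, map_one, _root_.one_mul]
      obtain ⟨x', y', z, hz, hx, hy, hr⟩ := (hrel X x (y ≫ σ)).2 (by rw [e]; exact h)
      refine ⟨x', y' ≫ σ', z, by rw [hz, e], hx, ?_, ?_⟩
      · rw [comp_scl, Category.comp_id, gaFn_scl, _root_.mul_assoc, hy, hσ, gaFn_scl, ← _root_.mul_assoc, ← map_mul,
          Units.mul_inv, map_one, _root_.one_mul]
      · rw [Category.assoc, ← Category.assoc σ', hσσ.2, Category.id_comp, ← Category.assoc y, hr]⟩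
  -- identify the coroot
  obtain ⟨n, hn⟩ := R.lift_refl N φ hN
  have hconj : ∀ (X : Over S) (t : X ⟶ Red.DS S M),
      (toUnit X ≫ n) * (t ≫ R.tC) * (toUnit X ≫ n)⁻¹ = refl α φ t ≫ R.tC := fun X t => (cancel_mono R.z).1 (by
    simp only [MonObj.mul_comp, GrpObj.inv_comp, Category.assoc, hn, R.tz]
    exact hN X t)
  -- the action of the Weyl element
  let r : ∀ {X : Over S}, (X ⟶ Red.DS S M) → (X ⟶ Red.DS S M) := fun t => ((t ≫ Red.chi S α) ≫ av)⁻¹ * t
  have hw : ∀ (X : Over S) (t : X ⟶ Red.DS S M),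
      (s.calc' X).w 1 * (t ≫ R.tC) * ((s.calc' X).w 1)⁻¹ = r t ≫ R.tC := fun X t => by
    have h := s.torus_mul_w_conj hT (1 : X ⟶ Red.DS S M) t 1
    rw [MonObj.one_comp, _root_.one_mul] at h
    rw [h, MonObj.mul_comp, GrpObj.inv_comp]
    simp only [Category.assoc]
  have hr2 : ∀ {X : Over S} (t : X ⟶ Red.DS S M), r (r t) = t := fun {X} t => by
    have q : Red.gmFn (((t ≫ Red.chi S α) ≫ av) ≫ Red.chi S α) =
        Red.gmFn (t ≫ Red.chi S α) * Red.gmFn (t ≫ Red.chi S α) := by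
      rw [Category.assoc _ av, hsq, MonObj.comp_pow, Category.comp_id, pow_two, gmFn_mul']
    have h2 : Red.gmFn (r t ≫ Red.chi S α) * Red.gmFn (t ≫ Red.chi S α) = 1 := by
      show Red.gmFn ((((t ≫ Red.chi S α) ≫ av)⁻¹ * t) ≫ Red.chi S α) * _ = 1
      rw [MonObj.mul_comp, gmFn_mul', _root_.mul_assoc, ← q, ← gmFn_mul', ← MonObj.mul_comp,
        show ((t ≫ Red.chi S α) ≫ av)⁻¹ * ((t ≫ Red.chi S α) ≫ av) = 1 from
          ch_ext fun m => by rw [ch_mul, ch_inv_mul, ch_one], MonObj.one_comp, RootIntrinsic.gmFn_one_eq]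
    have e : r t ≫ Red.chi S α = (t ≫ Red.chi S α)⁻¹ := gmFn_inj (left_inv_eq_right_inv h2
      (by rw [_root_.mul_comm]; exact gmFn_inv' _))
    show ((r t ≫ Red.chi S α) ≫ av)⁻¹ * (((t ≫ Red.chi S α) ≫ av)⁻¹ * t) = t
    rw [e]
    refine ch_ext fun m => ?_
    rw [ch_mul, ch_mul]
    have k1 := ch_inv_mul ((t ≫ Red.chi S α)⁻¹ ≫ av) m
    have k2 := ch_inv_mul ((t ≫ Red.chi S α) ≫ av) m
    have k3 : ch ((t ≫ Red.chi S α)⁻¹ ≫ av) m * ch ((t ≫ Red.chi S α) ≫ av) m = 1 := by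
      rw [← ch_mul, ← MonObj.mul_comp, show (t ≫ Red.chi S α)⁻¹ * (t ≫ Red.chi S α) = 1 from
        gmFn_inj (by rw [gmFn_mul', gmFn_inv', RootIntrinsic.gmFn_one_eq]), MonObj.one_comp, ch_one]
    linear_combination (ch t m * (ch ((t ≫ Red.chi S α) ≫ av)⁻¹ m * ch ((t ≫ Red.chi S α) ≫ av) m)) * k1 +
      ch t m * k2 -
      (ch t m * (ch ((t ≫ Red.chi S α)⁻¹ ≫ av)⁻¹ m * ch ((t ≫ Red.chi S α) ≫ av)⁻¹ m)) * k3
  have hcm : ∀ {X : Over S} (a b : X ⟶ Red.DS S M),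
      (a ≫ R.tC) * (b ≫ R.tC) * (a ≫ R.tC)⁻¹ = b ≫ R.tC := fun a b => by
    rw [← MonObj.mul_comp a b, RedR1.mul_comm_torus hT, MonObj.mul_comp]
    exact mul_inv_cancel_right _ _
  let g : 𝟙_ (Over S) ⟶ Z := ((s.calc' _).w 1)⁻¹ * n
  have hgX : ∀ X : Over S, toUnit X ≫ g = ((s.calc' X).w 1)⁻¹ * (toUnit X ≫ n) := fun X => by
    show toUnit X ≫ (_ * _) = _
    rw [MonObj.comp_mul, GrpObj.comp_inv, s.comp_w, map_one]
  have hgconj : ∀ (X : Over S) (t : X ⟶ Red.DS S M),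
      (toUnit X ≫ g) * (t ≫ R.tC) * (toUnit X ≫ g)⁻¹ = r (refl α φ t) ≫ R.tC := fun X t => by
    have h := hw X (r (refl α φ t))
    rw [hr2, ← hconj] at h
    rw [hgX]
    calc ((s.calc' X).w 1)⁻¹ * (toUnit X ≫ n) * (t ≫ R.tC) * (((s.calc' X).w 1)⁻¹ * (toUnit X ≫ n))⁻¹
        = ((s.calc' X).w 1)⁻¹ * ((toUnit X ≫ n) * (t ≫ R.tC) * (toUnit X ≫ n)⁻¹) * (s.calc' X).w 1 := by group
      _ = _ := by rw [← h]; group
  have hchiφ : ∀ {X : Over S} (v : X ⟶ Red.Gm S),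
      (v ≫ Red.DSmap S φ) ≫ Red.chi S α = v * v := fun v => gmFn_inj (by
    rw [RootIntrinsic.gmFn_chi, ch_DSmap, toAdd_ofAdd, hφ, gmFn_mul', RootIntrinsic.gmFn_eq_ch, ← map_mul]
    rfl)
  have hcell : RedR1.InCell R.tC R.pp R.pm g := by
    have hcs : RedR1.InCell R.tC R.pp (σ ≫ R.pm) g := by
      rw [RedR1.inCell_iff]
      rintro _ ⟨pt, rfl⟩
      obtain ⟨X', f, hf, ⟨zz⟩, hv, hg⟩ := s.inCell_or R.hZ n pt
      have hfu : f = toUnit X' := toUnit_unique _ _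
      rcases hg with hg | hg
      · exfalso
        obtain ⟨y, t, x, hyt⟩ := hg
        obtain ⟨τ, hτ⟩ := R.torus_of_normalizes F ho mu hmu (f ≫ n)
          ⟨y ≫ σ, t, x, by rw [hyt, Category.assoc]⟩ fun X'' ρ t' => ⟨refl α φ t', by
            rw [← Category.assoc, hfu, toUnit_unique (ρ ≫ toUnit X') (toUnit X''), hconj]⟩
        obtain ⟨v, hv⟩ := hv 4 (by norm_num)
        let t₀ : X' ⟶ Red.DS S M := GmPts.ptOfUnit v ≫ Red.DSmap S φ
        have h1 := hconj X' t₀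
        rw [← hfu, ← hτ, hcm] at h1
        have h2 := congrArg (· ≫ Red.chi S α) (ds_eq_one ((cancel_mono R.tC).1 h1))
        have h3 : (t₀ ≫ Red.chi S α ≫ Red.DSmap S φ) ≫ Red.chi S α =
            (GmPts.ptOfUnit v * GmPts.ptOfUnit v) * (GmPts.ptOfUnit v * GmPts.ptOfUnit v) := by
          rw [← Category.assoc t₀ (Red.chi S α), show t₀ ≫ Red.chi S α = GmPts.ptOfUnit v * GmPts.ptOfUnit v from
            hchiφ _, hchiφ]
        simp only [MonObj.one_comp] at h2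
        refine hv ?_
        have h4 : Red.gmFn ((GmPts.ptOfUnit v * GmPts.ptOfUnit v) * (GmPts.ptOfUnit v * GmPts.ptOfUnit v)) = 1 := by
          rw [← h3, h2, RootIntrinsic.gmFn_one_eq]
        rw [gmFn_mul', gmFn_mul', GmPts.gmFn_ptOfUnit] at h4
        rw [← h4]
        push_cast
        ring
      · have h5 : f ≫ g = ((s.calc' X').w 1)⁻¹ * (f ≫ n) := by rw [hfu]; exact hgX X'
        rw [← h5, RedR1.inCell_iff, Over.comp_left] at hg
        have h6 := hg ⟨zz, rfl⟩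
        rwa [Scheme.Hom.comp_apply, hf zz] at h6
    obtain ⟨y, t, x, hyt⟩ := hcs
    exact ⟨y ≫ σ, t, x, by rw [hyt, Category.assoc]⟩
  obtain ⟨τ, hτ⟩ := R.torus_of_normalizes F ho mu hmu g hcell fun X' ρ t => ⟨r (refl α φ t), by
    rw [toUnit_unique ρ (toUnit X')]; exact hgconj X' t⟩
  have heq : ∀ {X : Over S} (t : X ⟶ Red.DS S M), r (refl α φ t) = t := fun {X} t => (cancel_mono R.tC).1 (by
    rw [← hgconj, ← hτ, ← Category.assoc, hcm])
  have heq2 : ∀ {X : Over S} (v : X ⟶ Red.Gm S), (v * v) ≫ av = (v * v) ≫ Red.DSmap S φ := fun {X} v => by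
    have h1 := congrArg r (heq (v ≫ Red.DSmap S φ))
    rw [hr2] at h1
    simp only [r, refl] at h1
    rw [hchiφ, ← Category.assoc (v ≫ _), hchiφ] at h1
    exact (ds_cancel h1).symm
  have hav' : av = Red.DSmap S φ := by
    obtain ⟨X', q, v, hq, -, -, hv⟩ := RedR1.exists_sqrt_cover (Red.Gm S) (GmPts.unitOfPt (𝟙 (Red.Gm S)))
    haveI := hq
    have e : q = GmPts.ptOfUnit v * GmPts.ptOfUnit v := GmPts.gmFn_injective (by
      show Red.gmFn q = Red.gmFn _
      rw [gmFn_mul', GmPts.gmFn_ptOfUnit, hv, GmPts.val_unitOfPt, ← GmPts.gmFn_comp, Category.comp_id])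
    rw [← cancel_epi q, e, heq2]
  refine ⟨σ ≫ u a', ⟨?_, ?_, fun X t x => ?_⟩, fun X x y h => ?_⟩
  · haveI := (F.hu a').1; infer_instance
  · haveI := (F.hu a').2.1; rw [Over.comp_left]; infer_instance
  · obtain ⟨y, hy, hy'⟩ := (F.hu a').2.2 X t (x ≫ σ)
    refine ⟨y ≫ σ', ?_, ?_⟩
    · rw [Category.assoc, ← Category.assoc σ', hσσ.2, Category.id_comp, hy, Category.assoc]
    · rw [comp_scl, Category.comp_id, gaFn_scl, hy', hσ, gaFn_scl, _root_.mul_left_comm, ← _root_.mul_assoc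
        (X.hom.appTop (A₀ : Γ(S, ⊤))), ← map_mul, Units.mul_inv, map_one, _root_.one_mul]
  · obtain ⟨x', y', z, h1, h2, h3, h4⟩ := s.hF X x y h
    refine ⟨x', y', z, h1, h2, h3, ?_⟩
    have h5 := congrArg (· ≫ R.z) h4
    simp only [MonObj.mul_comp, Category.assoc, R.tz, R.ppz, R.pmz, hav'] at h5
    exact h5

/-- **Uniqueness of the dual.** -/
theorem RankOne.dual_unique (F : Frame c root u)
    (R : RankOne c (root a) (u a) (u a') (cellC c (fun l => u (en l)) (fun l => u (ep l))) Z)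
    (hopp : root a' = -root a) (φ : M →+ ℤ) (hφ : φ (root a) = 2)
    (hF : ∀ (X : Over S) (x y : X ⟶ Red.Ga S), IsUnit (1 + Red.gaFn x * Red.gaFn y) →
      ∃ (x' y' : X ⟶ Red.Ga S) (z : X ⟶ Red.Gm S), Red.gmFn z = 1 + Red.gaFn x * Red.gaFn y ∧
        Red.gaFn x' * Red.gmFn z = Red.gaFn x ∧ Red.gaFn y' * Red.gmFn z = Red.gaFn y ∧
        (x ≫ u a) * (y ≫ u a') = (y' ≫ u a') * (z ≫ Red.DSmap S φ ≫ c) * (x' ≫ u a))
    {d : Red.Ga S ⟶ G} (hd : Red.IsRootHom c (Red.chi S (root a')) d)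
    (hFd : ∀ (X : Over S) (x y : X ⟶ Red.Ga S), IsUnit (1 + Red.gaFn x * Red.gaFn y) →
      ∃ (x' y' : X ⟶ Red.Ga S) (z : X ⟶ Red.Gm S), Red.gmFn z = 1 + Red.gaFn x * Red.gaFn y ∧
        Red.gaFn x' * Red.gmFn z = Red.gaFn x ∧ Red.gaFn y' * Red.gmFn z = Red.gaFn y ∧
        (x ≫ u a) * (y ≫ d) = (y' ≫ d) * (z ≫ Red.DSmap S φ ≫ c) * (x' ≫ u a)) : d = u a' := by
  haveI := F.hc.1
  let α := root a
  let φS := Red.DSmap S φ
  haveI : IsMonHom (Red.chi S α) := MTQuot.isMonHom_DSmap _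
  haveI : IsMonHom φS := MTQuot.isMonHom_DSmap _
  haveI : Mono R.tC := R.hTZ.2.1
  haveI := hd.1
  obtain ⟨pd, hpd⟩ := R.lift_root _ d hd (Or.inr hopp)
  haveI : IsMonHom pd := MTSplit.isMonHom_of_comp_mono pd R.z d hpd
  have h2 : φS ≫ Red.chi S α = (𝟙 (Red.Gm S)) ^ 2 := gmFn_inj (by
    rw [pow_two, gmFn_mul', RootIntrinsic.gmFn_chi, RootIntrinsic.gmFn_eq_ch, ← map_mul,
      show φS = 𝟙 _ ≫ Red.DSmap S φ from (Category.id_comp _).symm, ch_DSmap, toAdd_ofAdd, hφ]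
    rfl)
  have hsys : ∀ (v : Red.Ga S ⟶ G) (pv : Red.Ga S ⟶ Z) [IsMonHom pv], pv ≫ R.z = v →
      Red.IsRootHom c (Red.chi S (root a')) v →
      (∀ (X : Over S) (x y : X ⟶ Red.Ga S), IsUnit (1 + Red.gaFn x * Red.gaFn y) →
        ∃ (x' y' : X ⟶ Red.Ga S) (z : X ⟶ Red.Gm S), Red.gmFn z = 1 + Red.gaFn x * Red.gaFn y ∧
          Red.gaFn x' * Red.gmFn z = Red.gaFn x ∧ Red.gaFn y' * Red.gmFn z = Red.gaFn y ∧
          (x ≫ u a) * (y ≫ v) = (y' ≫ v) * (z ≫ Red.DSmap S φ ≫ c) * (x' ≫ u a)) →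
      RedR1.Sys R.tC (Red.chi S α) R.pp pv φS := fun v pv _ hpv hv hF =>
    ⟨inferInstance, inferInstance, inferInstance, inferInstance, inferInstance, h2, R.hP, fun X t y => by
      obtain ⟨y', hy, hy'⟩ := hv.2.2 X t y
      refine ⟨y', (cancel_mono R.z).1 ?_, ?_⟩
      · rw [MonObj.mul_comp, MonObj.mul_comp, GrpObj.inv_comp]
        simp only [Category.assoc, hpv, R.tz]
        exact hy
      · rw [hy', RootIntrinsic.gmFn_chi, RootIntrinsic.gmFn_chi, _root_.mul_right_comm, ← map_mul, ← ofAdd_add,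
          hopp, neg_add_cancel]
        show (ch t) 1 * _ = _
        rw [map_one, _root_.one_mul],
    fun X x y h => by
      obtain ⟨x', y', z, h1, h2, h3, h4⟩ := hF X x y h
      refine ⟨x', y', z, h1, h2, h3, (cancel_mono R.z).1 ?_⟩
      simp only [MonObj.mul_comp, Category.assoc, R.tz, R.ppz, hpv]
      exact h4⟩
  have s := hsys (u a') R.pm R.pmz (F.hu a') hF
  have sd := hsys d pd hpd hd hFd
  have hww : (sd.calc' (𝟙_ (Over S))).w 1 = (s.calc' (𝟙_ (Over S))).w 1 := by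
    have key := S8451.result S Z (Red.DS S M) R.tC R.hZ R.hTZ (Red.chi S α) (chi_ne_one (F.ne a)) R.pp R.pm R.hP
      R.hM R.hΩ φS h2 s.hF (eOne _) (eC _ (-1)) (BGaNotS.gaFn_gaPt _) (by
        rw [eC, BGaNotS.gaFn_gaPt, appTop_unit]) 1 one_ne_zero ((sd.calc' _).w 1) (fun X z => ?_) ?_
    · rw [key]
      refine s.calc'_w _ _ 1 ?_ ?_
      · rw [eOne, BGaNotS.gaFn_gaPt, Units.val_one]
      · rw [eC, BGaNotS.gaFn_gaPt, appTop_unit, inv_one, Units.val_one]
    · rw [sd.comp_w, map_one, sd.zpow_eq_H, zpow_one]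
      exact RedR1.Calc.w_conj_H (sd.calc' X) 1 _
    · rw [sd.calc'_P (eOne _) (a := ((1 : (Γ((𝟙_ (Over S)).left, ⊤))ˣ) : Γ((𝟙_ (Over S)).left, ⊤)))
        (by rw [eOne, BGaNotS.gaFn_gaPt, Units.val_one]), RedR1.Calc.w_conj_P_self _ (sd.w_conj_P _), RedR1.Calc.w,
        Units.val_one, inv_one, Units.val_one]
      group
  -- conjugates of the positive root
  haveI := (F.hu a').1
  refine (cancel_epi (𝟙 (Red.Ga S))⁻¹).1 ?_
  have hwX : ∀ (X : Over S), (sd.calc' X).w 1 = (s.calc' X).w 1 := fun X => by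
    have h := congrArg (fun w => toUnit X ≫ w) hww
    simp only [sd.comp_w, s.comp_w, map_one] at h
    exact h
  let e := 𝟙 (Red.Ga S)
  have e1 := sd.w_conj_P (x := (1 : (Γ((Red.Ga S).left, ⊤))ˣ)) (b := Red.gaFn e)
  have e2 := s.w_conj_P (x := (1 : (Γ((Red.Ga S).left, ⊤))ˣ)) (b := Red.gaFn e)
  rw [← sd.calc'_P e rfl] at e1
  rw [← s.calc'_P e rfl, ← hwX, e1, ← sd.calc'_M e⁻¹ (by
      rw [gaFn_inv, inv_one, Units.val_one, _root_.mul_one, _root_.mul_one]), ← s.calc'_M e⁻¹ (by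
      rw [gaFn_inv, inv_one, Units.val_one, _root_.mul_one, _root_.mul_one])] at e2
  have e3 := congrArg (· ≫ R.z) e2
  simp only [Category.assoc, hpd, R.pmz] at e3
  exact e3

/-- **The unit condition of a pair in the cell.** -/
theorem RankOne.isUnit_of_mem (F : Frame c root u)
    (R : RankOne c (root a) (u a) (u a') (cellC c (fun l => u (en l)) (fun l => u (ep l))) Z)
    (φ : M →+ ℤ) (hφ : φ (root a) = 2)
    (hF : ∀ (X : Over S) (x y : X ⟶ Red.Ga S), IsUnit (1 + Red.gaFn x * Red.gaFn y) →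
      ∃ (x' y' : X ⟶ Red.Ga S) (z : X ⟶ Red.Gm S), Red.gmFn z = 1 + Red.gaFn x * Red.gaFn y ∧
        Red.gaFn x' * Red.gmFn z = Red.gaFn x ∧ Red.gaFn y' * Red.gmFn z = Red.gaFn y ∧
        (x ≫ u a) * (y ≫ u a') = (y' ≫ u a') * (z ≫ Red.DSmap S φ ≫ c) * (x' ≫ u a))
    {X : Over S} (x y : X ⟶ Red.Ga S)
    (h : ∃ w, w ≫ cellC c (fun l => u (en l)) (fun l => u (ep l)) = (x ≫ u a) * (y ≫ u a')) :
    IsUnit (1 + Red.gaFn x * Red.gaFn y) := by
  haveI := F.hc.1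
  haveI : IsMonHom (Red.chi S (root a)) := MTQuot.isMonHom_DSmap _
  haveI : IsMonHom (Red.DSmap S φ) := MTQuot.isMonHom_DSmap _
  have h2 : Red.DSmap S φ ≫ Red.chi S (root a) = (𝟙 (Red.Gm S)) ^ 2 := gmFn_inj (by
    rw [pow_two, gmFn_mul', RootIntrinsic.gmFn_chi, RootIntrinsic.gmFn_eq_ch, ← map_mul,
      show Red.DSmap S φ = 𝟙 _ ≫ Red.DSmap S φ from (Category.id_comp _).symm, ch_DSmap, toAdd_ofAdd, hφ]
    rfl)
  have s : RedR1.Sys R.tC (Red.chi S (root a)) R.pp R.pm (Red.DSmap S φ) :=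
    ⟨inferInstance, inferInstance, inferInstance, inferInstance, inferInstance, h2, R.hP, R.hM, fun X x y h => by
      obtain ⟨x', y', z, h1, h2, h3, h4⟩ := hF X x y h
      refine ⟨x', y', z, h1, h2, h3, (cancel_mono R.z).1 ?_⟩
      simp only [MonObj.mul_comp, Category.assoc, R.tz, R.ppz, R.pmz]
      exact h4⟩
  have hin := (R.mem ((x ≫ R.pp) * (y ≫ R.pm))).2 (by
    obtain ⟨w, hw⟩ := h
    exact ⟨w, by rw [hw, MonObj.mul_comp, Category.assoc, Category.assoc, R.ppz, R.pmz]⟩)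
  rw [s.calc'_P x rfl, s.calc'_M y rfl] at hin
  exact s.isUnit_of_inCell R.hTZ.2.2.1 _ _ hin

end Dual

end Groth.Agent.RootBase
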