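import Groth.Agent.RootBase.ChevSys

/-!
# Two pinned groups side by side
-/

set_option autoImplicit false
set_option backward.isDefEq.respectTransparency false
set_option linter.style.haveILetI false
set_option maxHeartbeats 1000000
set_option synthInstance.maxHeartbeats 400000

universe u

open CategoryTheory Limits MonoidalCategory CartesianMonoidalCategory MonObj GrpObj AlgebraicGeometry LieS
open scoped CategoryTheory.Obj

noncomputable section

namespace Groth.Agent.RootBase

open Groth.Agent.HomDiag Groth.Agent.DynPar Groth.Agent.RootSys Groth.Agent.MTBridge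

variable {S : Scheme.{u}} {G G' : Over S} [GrpObj G] [GrpObj G'] {M : Type} [AddCommGroup M]
  {c : Red.DS S M ⟶ G} {c' : Red.DS S M ⟶ G'} {idx : Type} {P : RootPairing idx ℤ M (Module.Dual ℤ M)}
  {u : idx → (Red.Ga S ⟶ G)} {u' : idx → (Red.Ga S ⟶ G')}

section Point

variable {H : Over S} [GrpObj H] (f : G ⟶ H) [IsMonHom f]

theorem cj_map (N : 𝟙_ (Over S) ⟶ G) {X : Over S} (x : X ⟶ G) : cj N x ≫ f = cj (N ≫ f) (x ≫ f) := by
  simp only [cj, MonObj.mul_comp, GrpObj.inv_comp, Category.assoc]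

theorem word_map (va vb : Red.Ga S ⟶ G) {X : Over S} (x y : X ⟶ Red.Ga S) :
    word va vb x y ≫ f = word (va ≫ f) (vb ≫ f) x y := by
  simp only [word, MonObj.mul_comp, GrpObj.inv_comp, Category.assoc]

theorem list_map_prod {κ : Type} (w : κ → (𝟙_ (Over S) ⟶ G)) :
    ∀ l : List κ, (l.map w).prod ≫ f = (l.map fun x => w x ≫ f).prod := fun l => by
  induction l with
  | nil => rw [List.map_nil, List.map_nil, List.prod_nil, List.prod_nil, MonObj.one_comp]
  | cons x l ih => rw [List.map_cons, List.map_cons, List.prod_cons, List.prod_cons, MonObj.mul_comp, ih]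

end Point

theorem prod_ext {X : Over S} {x y : X ⟶ G ⊗ G'} (h₁ : x ≫ fst G G' = y ≫ fst G G')
    (h₂ : x ≫ snd G G' = y ≫ snd G G') : x = y :=
  CartesianMonoidalCategory.hom_ext _ _ h₁ h₂

/-- A pair of root homomorphisms is a root homomorphism of the product. -/
theorem isRootHom_lift [IsSeparated G'.hom] {m : M} {v : Red.Ga S ⟶ G} {v' : Red.Ga S ⟶ G'}
    (hv : Red.IsRootHom c (Red.chi S m) v) (hv' : Red.IsRootHom c' (Red.chi S m) v') :
    Red.IsRootHom (lift c c') (Red.chi S m) (lift v v') := by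
  haveI := hv.1
  haveI := hv'.1
  refine ⟨inferInstance, ?_, fun X t x => ?_⟩
  · have h : (lift v v').left ≫ (fst G G').left = v.left := by rw [← Over.comp_left, lift_fst]
    haveI : IsSeparated (fst G G').left := inferInstanceAs (IsSeparated (Limits.pullback.fst G.hom G'.hom))
    haveI : IsClosedImmersion ((lift v v').left ≫ (fst G G').left) := h ▸ hv.2.1
    exact IsClosedImmersion.of_comp (lift v v').left (fst G G').left
  · obtain ⟨y, hy, hy'⟩ := hv.2.2 X t x
    obtain ⟨z, hz, hz'⟩ := hv'.2.2 X t x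
    obtain rfl : z = y := BGaNotS.gaPt_ext (hz'.trans hy'.symm)
    refine ⟨z, prod_ext ?_ ?_, hy'⟩ <;> simp [MonObj.mul_comp, GrpObj.inv_comp, hy, hz]

variable [IsMonHom c] [IsMonHom c']

omit [IsMonHom c] [IsMonHom c'] in
theorem cpt_lift (f : M →+ ℤ) : cpt (lift c c') f = lift (cpt c f) (cpt c' f) :=
  prod_ext (by simp [cpt]) (by simp [cpt])

/-- A pair of Weyl elements is a Weyl element of the product. -/
theorem IsWeyl.lift [IsSeparated G'.hom] {a a' : idx} {N : 𝟙_ (Over S) ⟶ G} {N' : 𝟙_ (Over S) ⟶ G'}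
    (W : IsWeyl c P u a a' N) (W' : IsWeyl c' P u' a a' N') :
    IsWeyl (CartesianMonoidalCategory.lift c c') P (fun r => CartesianMonoidalCategory.lift (u r) (u' r)) a a'
      (CartesianMonoidalCategory.lift N N') := by
  refine ⟨inferInstance, isRootHom_lift W.hua W'.hua, isRootHom_lift W.hua' W'.hua', W.hcor, W.opp, W.two,
    prod_ext ?_ ?_, fun X x => prod_ext ?_ ?_, fun X t => prod_ext ?_ ?_, prod_ext ?_ ?_⟩
  · simpa [MonObj.mul_comp] using W.eq
  · simpa [MonObj.mul_comp] using W'.eq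
  · simpa [cj_map] using W.pos X x
  · simpa [cj_map] using W'.pos X x
  · simpa [cj_map] using W.torus X t
  · simpa [cj_map] using W'.torus X t
  · simpa [MonObj.mul_comp, cpt_lift] using W.sq
  · simpa [MonObj.mul_comp, cpt_lift] using W'.sq

omit [IsMonHom c] [IsMonHom c'] in
theorem Rels.lift {a b : idx} {Na Nb : 𝟙_ (Over S) ⟶ G} {Na' Nb' : 𝟙_ (Over S) ⟶ G'}
    (R : Rels P u a b Na Nb) (R' : Rels P u' a b Na' Nb') :
    Rels P (fun r => CartesianMonoidalCategory.lift (u r) (u' r)) a b (CartesianMonoidalCategory.lift Na Na')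
      (CartesianMonoidalCategory.lift Nb Nb') := by
  refine ⟨fun h h' X x => prod_ext ?_ ?_, fun h h' => prod_ext ?_ ?_, fun h h' X x => prod_ext ?_ ?_,
    fun h h' => prod_ext ?_ ?_, fun h h' => ⟨fun X x => prod_ext ?_ ?_, fun X x => prod_ext ?_ ?_⟩,
    fun h h' => prod_ext ?_ ?_, fun h h' => ⟨fun X x => prod_ext ?_ ?_, fun X x => prod_ext ?_ ?_⟩,
    fun h h' => prod_ext ?_ ?_⟩
  · simpa [cj_map] using R.zero h h' X x
  · simpa [cj_map] using R'.zero h h' X x
  · simpa [MonObj.mul_comp] using R.comm h h'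
  · simpa [MonObj.mul_comp] using R'.comm h h'
  · simpa [cj_map] using R.one h h' X x
  · simpa [cj_map] using R'.one h h' X x
  · simpa [MonObj.mul_comp, GrpObj.inv_comp] using R.braid₁ h h'
  · simpa [MonObj.mul_comp, GrpObj.inv_comp] using R'.braid₁ h h'
  · simpa [cj_map] using (R.two h h').1 X x
  · simpa [cj_map] using (R'.two h h').1 X x
  · simpa [cj_map] using (R.two h h').2 X x
  · simpa [cj_map] using (R'.two h h').2 X x
  · simpa [MonObj.mul_comp, GrpObj.inv_comp] using R.braid₂ h h'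
  · simpa [MonObj.mul_comp, GrpObj.inv_comp] using R'.braid₂ h h'
  · simpa [cj_map] using (R.three h h').1 X x
  · simpa [cj_map] using (R'.three h h').1 X x
  · simpa [cj_map] using (R.three h h').2 X x
  · simpa [cj_map] using (R'.three h h').2 X x
  · simpa [MonObj.mul_comp, GrpObj.inv_comp] using R.braid₃ h h'
  · simpa [MonObj.mul_comp, GrpObj.inv_comp] using R'.braid₃ h h'

omit [IsMonHom c] [IsMonHom c'] in
theorem lift_inv {X : Over S} (x : X ⟶ G) (x' : X ⟶ G') :
    (CartesianMonoidalCategory.lift x x')⁻¹ = CartesianMonoidalCategory.lift x⁻¹ x'⁻¹ :=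
  prod_ext (by simp [GrpObj.inv_comp]) (by simp [GrpObj.inv_comp])

variable [Module.Free ℤ M] [Module.Finite ℤ M] [Fintype idx] [P.IsReduced] {B : P.Base}
  {w : idx → (𝟙_ (Over S) ⟶ G)} {w' : idx → (𝟙_ (Over S) ⟶ G')}

omit [IsMonHom c] [IsMonHom c'] in
/-- **The product of two Weyl systems.** -/
theorem WeylCore.lift [IsSeparated G'.hom] (H : WeylCore c P B u w) (H' : WeylCore c' P B u' w') :
    WeylCore (CartesianMonoidalCategory.lift c c') P B (fun r => CartesianMonoidalCategory.lift (u r) (u' r))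
      (fun r => CartesianMonoidalCategory.lift (w r) (w' r)) := by
  haveI := H.hc
  haveI := H'.hc
  refine ⟨inferInstance, H.cor, fun a ha => (H.weyl a ha).lift (H'.weyl a ha), fun a ha b hb hab => ?_⟩
  obtain ⟨⟨r1, r2⟩, r3, r4⟩ := H.rels a ha b hb hab
  obtain ⟨⟨s1, s2⟩, s3, s4⟩ := H'.rels a ha b hb hab
  refine ⟨⟨r1.lift s1, r2.lift s2⟩, ?_⟩
  rw [lift_inv, lift_inv]
  exact ⟨r3.lift s3, r4.lift s4⟩

end Groth.Agent.RootBase
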