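import Groth.Agent.RootBase.Compat
import Groth.Agent.RootBase.Twin
import Groth.Agent.RootBase.CoordAbs
import Groth.Agent.RootBase.Rank1
import Groth.Agent.RootBase.Extend
import Groth.Agent.RootSys.PosRoots

/-!
# A section over a pinned group
-/

set_option autoImplicit false
set_option backward.isDefEq.respectTransparency false
set_option linter.style.haveILetI false
set_option maxHeartbeats 1000000
set_option synthInstance.maxHeartbeats 400000

universe u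

open CategoryTheory Limits MonoidalCategory CartesianMonoidalCategory MonObj GrpObj AlgebraicGeometry LieS
open scoped CategoryTheory.Obj

noncomputable section

namespace Groth.Agent.RootBase

open Groth.Agent.HomDiag Groth.Agent.DynPar Groth.Agent.RootSys Groth.Agent.MTBridge

variable {S : Scheme.{u}} {G H : Over S} [GrpObj G] [GrpObj H] {M : Type} [AddCommGroup M]
  {c : Red.DS S M ⟶ G} {c₂ : Red.DS S M ⟶ H} {idx : Type} {P : RootPairing idx ℤ M (Module.Dual ℤ M)}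
  {u₂ v₂ : idx → (Red.Ga S ⟶ H)} {w₂ : idx → (𝟙_ (Over S) ⟶ H)} {pr : H ⟶ G}

/-- The duality relation of two opposite root homomorphisms. -/
def RankRel (c : Red.DS S M ⟶ G) (φ : M →+ ℤ) (v v' : Red.Ga S ⟶ G) : Prop :=
  ∀ (X : Over S) (x y : X ⟶ Red.Ga S), IsUnit (1 + Red.gaFn x * Red.gaFn y) →
    ∃ (x' y' : X ⟶ Red.Ga S) (z : X ⟶ Red.Gm S), Red.gmFn z = 1 + Red.gaFn x * Red.gaFn y ∧
      Red.gaFn x' * Red.gmFn z = Red.gaFn x ∧ Red.gaFn y' * Red.gmFn z = Red.gaFn y ∧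
      (x ≫ v) * (y ≫ v') = (y' ≫ v') * (z ≫ Red.DSmap S φ ≫ c) * (x' ≫ v)

theorem RankRel.map {K : Over S} [GrpObj K] {φ : M →+ ℤ} {v v' : Red.Ga S ⟶ G} (h : RankRel c φ v v') (f : G ⟶ K)
    [IsMonHom f] {c' : Red.DS S M ⟶ K} (hc : c ≫ f = c') : RankRel c' φ (v ≫ f) (v' ≫ f) := by
  intro X x y hxy
  obtain ⟨x', y', z, h1, h2, h3, h4⟩ := h X x y hxy
  refine ⟨x', y', z, h1, h2, h3, ?_⟩
  have h5 := congrArg (· ≫ f) h4
  simp only [MonObj.mul_comp, Category.assoc, hc] at h5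
  exact h5

/-- Points of a big cell, in terms of the generated groups. -/
def InBig (c : Red.DS S M ⟶ G) (P : RootPairing idx ℤ M (Module.Dual ℤ M)) (v : idx → (Red.Ga S ⟶ G))
    (mu : M →+ ℤ) {X : Over S} (g : X ⟶ G) : Prop :=
  ∃ n ∈ Gam v {r | 0 < (-mu) (P.root r)} X, ∃ t : X ⟶ Red.DS S M, ∃ p ∈ Gam v {r | 0 < mu (P.root r)} X,
    n * (t ≫ c) * p = g

theorem torus_Gam [IsMonHom c] {v : idx → (Red.Ga S ⟶ G)} (hv : ∀ r, Red.IsRootHom c (Red.chi S (P.root r)) (v r))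
    {Ψ : Set idx} {X : Over S} (t : X ⟶ Red.DS S M) {p : X ⟶ G} (hp : p ∈ Gam v Ψ X) :
    (t ≫ c) * p * (t ≫ c)⁻¹ ∈ Gam v Ψ X := by
  induction hp using Subgroup.closure_induction with
  | mem p hp =>
    obtain ⟨r, hr, x, rfl⟩ := hp
    obtain ⟨y, hy, -⟩ := (hv r).2.2 X t x
    exact Subgroup.subset_closure ⟨r, hr, y, hy.symm⟩
  | one => rw [_root_.mul_one, mul_inv_cancel]; exact one_mem _
  | mul a b _ _ ha hb =>
    rw [show (t ≫ c) * (a * b) * (t ≫ c)⁻¹ = ((t ≫ c) * a * (t ≫ c)⁻¹) * ((t ≫ c) * b * (t ≫ c)⁻¹) by group]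
    exact mul_mem ha hb
  | inv a _ ha =>
    rw [show (t ≫ c) * a⁻¹ * (t ≫ c)⁻¹ = ((t ≫ c) * a * (t ≫ c)⁻¹)⁻¹ by group]
    exact inv_mem ha

theorem map_Gam [IsMonHom pr] {Ψ : Set idx} {X : Over S} {p : X ⟶ H} (hp : p ∈ Gam v₂ Ψ X) :
    p ≫ pr ∈ Gam (fun r => v₂ r ≫ pr) Ψ X := by
  induction hp using Subgroup.closure_induction with
  | mem p hp =>
    obtain ⟨r, hr, x, rfl⟩ := hp
    exact Subgroup.subset_closure ⟨r, hr, x, by rw [Category.assoc]⟩
  | one => rw [MonObj.one_comp]; exact one_mem _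
  | mul a b _ _ ha hb => rw [MonObj.mul_comp]; exact mul_mem ha hb
  | inv a _ ha => rw [GrpObj.inv_comp]; exact inv_mem ha

theorem InBig.map [IsMonHom pr] (hbase : c₂ ≫ pr = c) {mu : M →+ ℤ} {X : Over S} {g : X ⟶ H}
    (hg : InBig c₂ P v₂ mu g) : InBig c P (fun r => v₂ r ≫ pr) mu (g ≫ pr) := by
  obtain ⟨n, hn, t, p, hp, rfl⟩ := hg
  exact ⟨_, map_Gam hn, t, _, map_Gam hp, by rw [MonObj.mul_comp, MonObj.mul_comp, Category.assoc, hbase]⟩

namespace InBig

variable {v : idx → (Red.Ga S ⟶ G)} {mu : M →+ ℤ} {X : Over S} {g : X ⟶ G}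

theorem mul_right (h : InBig c P v mu g) {q : X ⟶ G} (hq : q ∈ Gam v {r | 0 < mu (P.root r)} X) :
    InBig c P v mu (g * q) := by
  obtain ⟨n, hn, t, p, hp, rfl⟩ := h
  exact ⟨n, hn, t, p * q, mul_mem hp hq, by group⟩

theorem mul_left (h : InBig c P v mu g) {q : X ⟶ G} (hq : q ∈ Gam v {r | 0 < (-mu) (P.root r)} X) :
    InBig c P v mu (q * g) := by
  obtain ⟨n, hn, t, p, hp, rfl⟩ := h
  exact ⟨q * n, mul_mem hq hn, t, p, hp, by group⟩

theorem torus_left [IsMonHom c] (hv : ∀ r, Red.IsRootHom c (Red.chi S (P.root r)) (v r)) (h : InBig c P v mu g)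
    (t₀ : X ⟶ Red.DS S M) : InBig c P v mu ((t₀ ≫ c) * g) := by
  obtain ⟨n, hn, t, p, hp, rfl⟩ := h
  exact ⟨_, torus_Gam hv t₀ hn, t₀ * t, p, hp, by rw [MonObj.mul_comp]; group⟩

theorem torus_right [IsMonHom c] (hv : ∀ r, Red.IsRootHom c (Red.chi S (P.root r)) (v r)) (h : InBig c P v mu g)
    (t₀ : X ⟶ Red.DS S M) : InBig c P v mu (g * (t₀ ≫ c)) := by
  obtain ⟨n, hn, t, p, hp, rfl⟩ := h
  refine ⟨n, hn, t * t₀, (t₀ ≫ c)⁻¹ * p * (t₀ ≫ c), ?_, by rw [MonObj.mul_comp]; group⟩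
  have h1 := torus_Gam hv t₀⁻¹ hp
  rwa [GrpObj.inv_comp, _root_.inv_inv] at h1

end InBig

variable [Module.Free ℤ M] [Module.Finite ℤ M] [Fintype idx] [P.IsReduced] {B : P.Base}

/-- A Chevalley system over a pinned group. -/
structure GraphSys (c : Red.DS S M ⟶ G) (P : RootPairing idx ℤ M (Module.Dual ℤ M)) (B : P.Base)
    (c₂ : Red.DS S M ⟶ H) (u₂ : idx → (Red.Ga S ⟶ H)) (w₂ : idx → (𝟙_ (Over S) ⟶ H))
    (v₂ : idx → (Red.Ga S ⟶ H)) (pr : H ⟶ G) : Prop extends ChevData c₂ P B u₂ w₂ v₂ where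
  hpr : IsMonHom pr
  base : c₂ ≫ pr = c
  frame : Frame c P.root fun r => v₂ r ≫ pr
  compat : ∀ r s, (∀ x y : ℤ, x • P.root r + y • P.root s = 0 → x = 0 ∧ y = 0) → Compat P v₂ r s
  pair : ∀ a ∈ B.support, RankRel c₂ (P.coroot a).toAddMonoidHom (u₂ a) (u₂ (P.reflectionPerm a a))

/-- The generators. -/
def genSet (c₂ : Red.DS S M ⟶ H) (B : P.Base) (u₂ : idx → (Red.Ga S ⟶ H)) (X : Over S) : Set (X ⟶ H) :=
  {g | (∃ t : X ⟶ Red.DS S M, g = t ≫ c₂) ∨
    ∃ a ∈ B.support, ∃ x : X ⟶ Red.Ga S, g = x ≫ u₂ a ∨ g = x ≫ u₂ (P.reflectionPerm a a)}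

variable [Nonempty S] (D : GraphSys c P B c₂ u₂ w₂ v₂ pr)
include D

namespace GraphSys

theorem li_of_pos (mu : M →+ ℤ) {r s : idx} (hr : 0 < mu (P.root r)) (hs : 0 < mu (P.root s)) (hne : r ≠ s) :
    ∀ x y : ℤ, x • P.root r + y • P.root s = 0 → x = 0 ∧ y = 0 := by
  intro p q hpq
  by_contra h0
  have hq : q ≠ 0 := fun h => by
    rw [h, zero_smul, add_zero] at hpq
    exact h0 ⟨(smul_eq_zero.1 hpq).resolve_right (P.ne_zero r), h⟩
  rcases D.frame.dep (a := r) (b := s) (-p) q hq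
    (show q • P.root s = (-p) • P.root r by rw [neg_smul]; exact eq_neg_of_add_eq_zero_right hpq) with h | h
  · exact hne (P.root.injective h).symm
  · rw [h, map_neg] at hs; omega

theorem levSys (mu : M →+ ℤ) : LevSys P v₂ {r | 0 < mu (P.root r)} mu :=
  ⟨fun r _ => (D.hv r).1, fun _ h => h, fun {r s} hr hs {X} x y => by
    haveI := (D.hv r).1
    by_cases hne : r = s
    · subst hne
      rw [word_eq_one_of_commute x y (by
        rw [← MonObj.mul_comp, ← MonObj.mul_comp, show x * y = y * x from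
          BGaNotS.gaPt_ext (by rw [BGaNotS.gaFn_mul, BGaNotS.gaFn_mul, add_comm])])]
      exact one_mem _
    · refine Gam_mono ?_ X (D.compat r s (D.li_of_pos mu hr hs hne) X x y)
      rintro d ⟨p, q, hp, hq, e⟩
      have h1 : mu (P.root r) ≤ (p : ℤ) * mu (P.root r) :=
        le_mul_of_one_le_left (le_of_lt hr) (by exact_mod_cast hp)
      have h2 : mu (P.root s) ≤ (q : ℤ) * mu (P.root s) :=
        le_mul_of_one_le_left (le_of_lt hs) (by exact_mod_cast hq)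
      have hr' : 0 < mu (P.root r) := hr
      have hs' : 0 < mu (P.root s) := hs
      refine ⟨?_, ?_⟩
      · show 0 < mu (P.root d)
        rw [e, map_add, map_zsmul, map_zsmul, smul_eq_mul, smul_eq_mul]; omega
      · rw [e, map_add, map_zsmul, map_zsmul, smul_eq_mul, smul_eq_mul]; omega⟩

variable {mu : M →+ ℤ} {p q : ℕ} {en : Fin p → idx} {ep : Fin q → idx}
  (hn : RedSub.Enumerates {r | 0 < (-mu) (P.root r)} en) (hp : RedSub.Enumerates {r | 0 < mu (P.root r)} ep)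

omit [Nonempty S] D in
theorem big_cell {v : idx → (Red.Ga S ⟶ G)} (hn : RedSub.Enumerates {r | 0 < (-mu) (P.root r)} en)
    (hp : RedSub.Enumerates {r | 0 < mu (P.root r)} ep) {X : Over S}
    (z : X ⟶ RedSub.pow (Red.Ga S) p ⊗ (Red.DS S M ⊗ RedSub.pow (Red.Ga S) q)) :
    InBig c P v mu (z ≫ cellC c (fun l => v (en l)) (fun l => v (ep l))) := by
  have h : lift (z ≫ fst _ _) (lift (z ≫ snd _ _ ≫ fst _ _) (z ≫ snd _ _ ≫ snd _ _)) = z := by
    refine CartesianMonoidalCategory.hom_ext _ _ (by simp) ?_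
    refine CartesianMonoidalCategory.hom_ext _ _ (by simp) (by simp)
  rw [← h, comp_cellC, comp_prodMap_eq, comp_prodMap_eq]
  exact ⟨_, prod_mem_Gam (Ψ := {r | 0 < (-mu) (P.root r)}) (fun k => hn.2.subset ⟨k, rfl⟩) _, _, _,
    prod_mem_Gam (Ψ := {r | 0 < mu (P.root r)}) (fun k => hp.2.subset ⟨k, rfl⟩) _, _root_.mul_assoc _ _ _⟩

include hn hp in
/-- Points of the cell upstairs factor through the cell map. -/
theorem exists_fac {X : Over S} {g : X ⟶ H} (hg : InBig c₂ P v₂ mu g) :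
    ∃ z, z ≫ cellC c₂ (fun l => v₂ (en l)) (fun l => v₂ (ep l)) = g := by
  obtain ⟨n, hnn, t, pp, hpp, rfl⟩ := hg
  obtain ⟨y, hy⟩ := (D.levSys (-mu)).exists_coord en hn hnn
  obtain ⟨y', hy'⟩ := (D.levSys mu).exists_coord ep hp hpp
  obtain ⟨Y, -, hY⟩ := exists_pow_prod (fun l => v₂ (en l)) y
  obtain ⟨Y', -, hY'⟩ := exists_pow_prod (fun l => v₂ (ep l)) y'
  exact ⟨lift Y (lift t Y'), by rw [comp_cellC, hY, hY', hy, hy', _root_.mul_assoc]⟩

omit hn hp in
theorem cell_comp : cellC c₂ (fun l => v₂ (en l)) (fun l => v₂ (ep l)) ≫ pr =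
    cellC c (fun l => v₂ (en l) ≫ pr) (fun l => v₂ (ep l) ≫ pr) := by
  haveI := D.hpr
  have h : ∀ {n : ℕ} (e : Fin n → idx) {X : Over S} (y : X ⟶ RedSub.pow (Red.Ga S) n),
      (y ≫ RedSub.prodMap (Red.Ga S) n fun l => v₂ (e l)) ≫ pr =
        y ≫ RedSub.prodMap (Red.Ga S) n fun l => v₂ (e l) ≫ pr := fun e X y => by
    rw [comp_prodMap_eq, comp_prodMap_eq, prod_comp, List.map_ofFn]
    simp [Function.comp_def]
  simp only [cellC, MonObj.mul_comp]
  congr 1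
  · exact h en _
  · congr 1
    · simp only [Category.assoc, D.base]
    · have h' := h ep (snd (RedSub.pow (Red.Ga S) p) (Red.DS S M ⊗ RedSub.pow (Red.Ga S) q) ≫ snd _ _)
      simpa using h'

/-- **Two points of the cell upstairs over the same point are equal.** -/
theorem eq_of_map (hmu : ∀ r, mu (P.root r) ≠ 0) {X : Over S} {g g' : X ⟶ H} (hg : InBig c₂ P v₂ mu g)
    (hg' : InBig c₂ P v₂ mu g') (h : g ≫ pr = g' ≫ pr) : g = g' := by
  classical
  obtain ⟨p, en, -, hn⟩ := exists_extend {r | 0 < (-mu) (P.root r)} (Fin.elim0 : Fin 0 → idx) (fun x => x.elim0)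
    fun k => k.elim0
  obtain ⟨q, ep, -, hp⟩ := exists_extend {r | 0 < mu (P.root r)} (Fin.elim0 : Fin 0 → idx) (fun x => x.elim0)
    fun k => k.elim0
  obtain ⟨z, rfl⟩ := D.exists_fac hn hp hg
  obtain ⟨z', rfl⟩ := D.exists_fac hn hp hg'
  haveI := (D.frame.cell mu hmu _ _ _ _ hn hp hn hp).1
  haveI := Over.mono_of_mono_left (cellC c (fun l => v₂ (Fin.append Fin.elim0 en l) ≫ pr)
    (fun l => v₂ (Fin.append Fin.elim0 ep l) ≫ pr))
  rw [Category.assoc, Category.assoc, D.cell_comp] at h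
  rw [(cancel_mono _).1 h]

omit hn hp in
/-- The positive roots other than a simple one are normalised by the two root groups of that root. -/
theorem norm_rest (hB : ∀ r, 0 < mu (P.root r) ↔ B.IsPos r) {a : idx} (ha : a ∈ B.support) {e : idx}
    (he : e = a ∨ e = P.reflectionPerm a a) {X : Over S} {V : Red.Ga S ⟶ H} (hV : SMove 1 V (v₂ e))
    (x : X ⟶ Red.Ga S) {g : X ⟶ H} (hg : g ∈ Gam v₂ {r | 0 < mu (P.root r) ∧ r ≠ a} X) :
    (x ≫ V) * g * (x ≫ V)⁻¹ ∈ Gam v₂ {r | 0 < mu (P.root r) ∧ r ≠ a} X := by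
  obtain ⟨t, -, hVe⟩ := hV.eq_scl
  rw [(hVe X x).1]
  generalize scl t x = y
  induction hg using Subgroup.closure_induction with
  | mem g hg =>
    obtain ⟨b, ⟨hb, hba⟩, z, rfl⟩ := hg
    have hbP : B.IsPos b := (hB b).1 hb
    have hsb : B.IsPos (P.reflectionPerm a b) := hbP.reflectionPerm ha hba
    have hane : P.root a ≠ P.root b := fun h => hba (P.root.injective h).symm
    have hsab : P.reflectionPerm a b ≠ a := fun h => by
      have h1 := congrArg (P.reflectionPerm a) h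
      rw [P.reflectionPerm_self] at h1
      have h2 := hB b
      rw [h1, root_opp, map_neg] at hb
      have h3 := (hB a).2 (RootPairing.Base.isPos_of_mem_support ha)
      omega
    have hli : ∀ x y : ℤ, x • P.root a + y • P.root b = 0 → x = 0 ∧ y = 0 :=
      D.li_of_pos mu ((hB a).2 (RootPairing.Base.isPos_of_mem_support ha)) hb (fun h => hba h.symm)
    have hli' : ∀ x y : ℤ, x • P.root e + y • P.root b = 0 → x = 0 ∧ y = 0 := by
      rcases he with rfl | rfl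
      · exact hli
      · exact li_neg hli (root_opp P a)
    rw [show (y ≫ v₂ e) * (z ≫ v₂ b) * (y ≫ v₂ e)⁻¹ = (z ≫ v₂ b) * word (v₂ e) (v₂ b) y z by
      rw [word, mul_inv_cancel_left]]
    refine mul_mem (Subgroup.subset_closure ⟨b, ⟨hb, hba⟩, z, rfl⟩) (Gam_mono ?_ X (D.compat e b hli' X y z))
    rintro d ⟨i, j, hi, hj, hd⟩
    have hda : d ≠ a := fun h => by
      rcases he with rfl | rfl
      · obtain ⟨-, h2⟩ := hli ((i : ℤ) - 1) j (by
          rw [h] at hd; linear_combination (norm := module) -(1 : ℤ) • hd)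
        omega
      · obtain ⟨-, h2⟩ := hli (-(i : ℤ) - 1) j (by
          rw [h, root_opp] at hd; linear_combination (norm := module) -(1 : ℤ) • hd)
        omega
    refine ⟨?_, hda⟩
    have hmb : 0 < mu (P.root b) := hb
    have hma := (hB a).2 (RootPairing.Base.isPos_of_mem_support ha)
    rcases he with rfl | rfl
    · show 0 < mu (P.root d)
      rw [hd, map_add, map_zsmul, map_zsmul, smul_eq_mul, smul_eq_mul]
      positivity
    · -- reflect
      have hd' : P.root (P.reflectionPerm a d) = (i : ℤ) • P.root a + (j : ℤ) • P.root (P.reflectionPerm a b) := by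
        rw [P.root_reflectionPerm, hd, _root_.map_add, _root_.map_smul, _root_.map_smul, root_opp, _root_.map_neg,
          P.reflection_apply_self, neg_neg, P.root_reflectionPerm]
      have hpos : 0 < mu (P.root (P.reflectionPerm a d)) := by
        rw [hd', map_add, map_zsmul, map_zsmul, smul_eq_mul, smul_eq_mul]
        have := (hB _).2 hsb
        positivity
      have hne : P.reflectionPerm a d ≠ a := fun h => by
        rw [h] at hd'
        obtain ⟨-, h2⟩ := D.li_of_pos mu hma ((hB _).2 hsb) hsab.symm ((i : ℤ) - 1) j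
          (by linear_combination (norm := module) -(1 : ℤ) • hd')
        omega
      have h4 := ((hB _).1 hpos).reflectionPerm ha hne
      rw [P.reflectionPerm_self] at h4
      exact (hB d).2 h4
  | one => rw [_root_.mul_one, mul_inv_cancel]; exact one_mem _
  | mul g g' _ _ h h' =>
    rw [show (y ≫ v₂ e) * (g * g') * (y ≫ v₂ e)⁻¹ =
      ((y ≫ v₂ e) * g * (y ≫ v₂ e)⁻¹) * ((y ≫ v₂ e) * g' * (y ≫ v₂ e)⁻¹) by group]
    exact mul_mem h h'
  | inv g _ h =>
    rw [show (y ≫ v₂ e) * g⁻¹ * (y ≫ v₂ e)⁻¹ = ((y ≫ v₂ e) * g * (y ≫ v₂ e)⁻¹)⁻¹ by group]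
    exact inv_mem h

omit hn hp in
theorem simple_smove {a : idx} (ha : a ∈ B.support) : SMove 1 (u₂ a) (v₂ a) := by
  rw [D.simple a ha]; exact SMove.one _

omit hn hp in
theorem opp_smove {a : idx} (ha : a ∈ B.support) :
    SMove 1 (u₂ (P.reflectionPerm a a)) (v₂ (P.reflectionPerm a a)) := by
  obtain ⟨t, ht, e⟩ := D.move a ha a
  refine ⟨-t, ht.neg, fun X x => ?_⟩
  have h := e X x⁻¹
  rw [D.simple a ha, (D.weyl a ha).pos, ga_inv_inv, ← scl_neg_one, scl_scl] at h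
  rw [one_cj, h, mul_neg_one]

omit hn hp in
/-- Decomposition of the positive part along a simple root. -/
theorem exists_split_pos (hB : ∀ r, 0 < mu (P.root r) ↔ B.IsPos r) {a : idx} (ha : a ∈ B.support) {X : Over S}
    {g : X ⟶ H} (hg : g ∈ Gam v₂ {r | 0 < mu (P.root r)} X) :
    ∃ g' ∈ Gam v₂ {r | 0 < mu (P.root r) ∧ r ≠ a} X, ∃ y : X ⟶ Red.Ga S, g = g' * (y ≫ u₂ a) := by
  haveI := (D.weyl a ha).hua.1
  have hnorm : ∀ (y : X ⟶ Red.Ga S), ∀ h ∈ Gam v₂ {r | 0 < mu (P.root r) ∧ r ≠ a} X,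
      (y ≫ u₂ a) * h * (y ≫ u₂ a)⁻¹ ∈ Gam v₂ {r | 0 < mu (P.root r) ∧ r ≠ a} X := fun y h hh =>
    D.norm_rest hB ha (Or.inl rfl) (D.simple_smove ha) y hh
  induction hg using Subgroup.closure_induction with
  | mem g hg =>
    obtain ⟨b, hb, x, rfl⟩ := hg
    by_cases hba : b = a
    · subst hba
      exact ⟨1, one_mem _, x, by rw [_root_.one_mul, D.simple b ha]⟩
    · exact ⟨x ≫ v₂ b, Subgroup.subset_closure ⟨b, ⟨hb, hba⟩, x, rfl⟩, 1, by
        rw [MonObj.one_comp (X := X) (u₂ a), _root_.mul_one]⟩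
  | one => exact ⟨1, one_mem _, 1, by rw [MonObj.one_comp (X := X) (u₂ a), _root_.mul_one]⟩
  | mul g h _ _ hg hh =>
    obtain ⟨g', hg', y, rfl⟩ := hg
    obtain ⟨h', hh', z, rfl⟩ := hh
    exact ⟨g' * ((y ≫ u₂ a) * h' * (y ≫ u₂ a)⁻¹), mul_mem hg' (hnorm y h' hh'), y * z, by
      rw [MonObj.mul_comp]; group⟩
  | inv g _ hg =>
    obtain ⟨g', hg', y, rfl⟩ := hg
    exact ⟨(y⁻¹ ≫ u₂ a) * g'⁻¹ * (y⁻¹ ≫ u₂ a)⁻¹, hnorm _ _ (inv_mem hg'), y⁻¹, by
      rw [GrpObj.inv_comp]; group⟩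

omit hn hp in
/-- The unit condition of a negative simple root element in the cell. -/
theorem isUnit_pair (hmu : ∀ r, mu (P.root r) ≠ 0) {a : idx} (ha : a ∈ B.support) (hpos : 0 < mu (P.root a))
    {X : Over S} (x y : X ⟶ Red.Ga S)
    (h : InBig c P (fun r => v₂ r ≫ pr) mu (((x ≫ u₂ a) * (y ≫ u₂ (P.reflectionPerm a a))) ≫ pr)) :
    IsUnit (1 + Red.gaFn x * Red.gaFn y) := by
  classical
  haveI := D.hpr
  haveI := D.frame.hc.1
  let a' := P.reflectionPerm a a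
  have hopp : P.root a' = -P.root a := root_opp P a
  have haa : a' ≠ a := fun h => by
    rw [h] at hopp
    have := congrArg mu hopp
    rw [map_neg] at this
    omega
  obtain ⟨t', ht', hs'⟩ := (D.opp_smove ha).eq_scl
  have hroot : Red.IsRootHom c (Red.chi S (P.root a')) (u₂ a' ≫ pr) := by
    have hW := (D.weyl a ha).hua'
    haveI := hW.1
    refine ⟨inferInstance, ?_, fun Y t z => ?_⟩
    · have e : u₂ a' ≫ pr = scl t' (𝟙 (Red.Ga S)) ≫ v₂ a' ≫ pr := by
        rw [← Category.assoc, ← (hs' _ (𝟙 (Red.Ga S))).1, Category.id_comp]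
      have hh : scl t' (𝟙 (Red.Ga S)) ≫ scl t' (𝟙 (Red.Ga S)) = 𝟙 _ := by
        refine BGaNotS.gaPt_ext ?_
        rw [comp_scl, Category.comp_id, gaFn_scl, gaFn_scl, ← _root_.mul_assoc, ← map_mul]
        rw [ht'.sq_eq_one, map_one, _root_.one_mul]
      haveI : IsIso (scl t' (𝟙 (Red.Ga S))) := ⟨_, hh, hh⟩
      haveI : IsIso (scl t' (𝟙 (Red.Ga S))).left := ((Over.forget _).mapIso (asIso (scl t' (𝟙 (Red.Ga S))))).isIso_hom
      rw [e, Over.comp_left]
      haveI := (D.frame.hu a').2.1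
      infer_instance
    · obtain ⟨z', hz, hz'⟩ := hW.2.2 Y t z
      refine ⟨z', ?_, hz'⟩
      rw [← Category.assoc, hz, MonObj.mul_comp, MonObj.mul_comp, GrpObj.inv_comp]
      simp only [Category.assoc, D.base]
      rfl
  have F₂ := D.frame.update a' hroot
  obtain ⟨p, en, -, hn⟩ := exists_extend {r | 0 < (-mu) (P.root r)} (Fin.elim0 : Fin 0 → idx) (fun x => x.elim0)
    fun k => k.elim0
  obtain ⟨q, ep, -, hp⟩ := exists_extend {r | 0 < mu (P.root r)} (Fin.elim0 : Fin 0 → idx) (fun x => x.elim0)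
    fun k => k.elim0
  obtain ⟨Z, _, ⟨R⟩⟩ := F₂.exists_rankOne (a := a) (a' := a') hopp mu hmu hpos _ _ hn hp
  have hva : (Function.update (fun r => v₂ r ≫ pr) a' (u₂ a' ≫ pr)) a = u₂ a ≫ pr := by
    rw [Function.update_of_ne haa.symm, D.simple a ha]
  have hva' : (Function.update (fun r => v₂ r ≫ pr) a' (u₂ a' ≫ pr)) a' = u₂ a' ≫ pr := Function.update_self _ _ _
  refine R.isUnit_of_mem F₂ (P.coroot a).toAddMonoidHom (D.weyl a ha).two ?_ x y ?_
  · rw [hva, hva']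
    exact (D.pair a ha).map pr D.base
  -- the coordinates of the point
  obtain ⟨n, hnn, t, pp, hpp, hg⟩ := h
  have hlev : ∀ m : M →+ ℤ, LevSys P (fun r => v₂ r ≫ pr) {r | 0 < m (P.root r)} m := fun m =>
    ⟨fun r _ => (D.frame.hu r).1, fun _ h => h, fun {r s} hr hs {Y} x y => by
      rw [← word_map pr (v₂ r) (v₂ s) x y]
      exact map_Gam ((D.levSys m).word_mem hr hs x y)⟩
  obtain ⟨z, hz⟩ := (hlev (-mu)).exists_coord _ hn hnn
  obtain ⟨z', hz'⟩ := (hlev mu).exists_coord _ hp hpp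
  have conv : ∀ (r : idx) (x : X ⟶ Red.Ga S), ∃ x' : X ⟶ Red.Ga S,
      x ≫ v₂ r ≫ pr = x' ≫ Function.update (fun r => v₂ r ≫ pr) a' (u₂ a' ≫ pr) r := fun r x => by
    by_cases hr : r = a'
    · subst hr
      refine ⟨scl t' x, ?_⟩
      rw [hva', ← Category.assoc, (hs' X x).2, Category.assoc]
    · exact ⟨x, by rw [Function.update_of_ne hr]⟩
  choose f hf using conv
  obtain ⟨Y, -, hY⟩ := exists_pow_prod (fun l => Function.update (fun r => v₂ r ≫ pr) a' (u₂ a' ≫ pr)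
    (Fin.append Fin.elim0 en l)) fun l => f _ (z l)
  obtain ⟨Y', -, hY'⟩ := exists_pow_prod (fun l => Function.update (fun r => v₂ r ≫ pr) a' (u₂ a' ≫ pr)
    (Fin.append Fin.elim0 ep l)) fun l => f _ (z' l)
  refine ⟨lift Y (lift t Y'), ?_⟩
  rw [comp_cellC, hY, hY']
  beta_reduce
  rw [show (fun k => f _ (z k) ≫ Function.update (fun r => v₂ r ≫ pr) a' (u₂ a' ≫ pr) (Fin.append Fin.elim0 en k)) =
    fun k => z k ≫ v₂ (Fin.append Fin.elim0 en k) ≫ pr from funext fun k => (hf _ _).symm,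
    show (fun k => f _ (z' k) ≫ Function.update (fun r => v₂ r ≫ pr) a' (u₂ a' ≫ pr) (Fin.append Fin.elim0 ep k)) =
    fun k => z' k ≫ v₂ (Fin.append Fin.elim0 ep k) ≫ pr from funext fun k => (hf _ _).symm]
  rw [hz, hz', ← _root_.mul_assoc, hg, hva, hva', MonObj.mul_comp]
  simp only [Category.assoc]
  rfl

omit hn hp in
/-- **Multiplying a point of the cell by a generator.** -/
theorem step_gen (hmu : ∀ r, mu (P.root r) ≠ 0) (hB : ∀ r, 0 < mu (P.root r) ↔ B.IsPos r) {X : Over S}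
    {g s : X ⟶ H} (hg : InBig c₂ P v₂ mu g) (hs : s ∈ genSet c₂ B u₂ X)
    (h : InBig c P (fun r => v₂ r ≫ pr) mu ((g * s) ≫ pr)) : InBig c₂ P v₂ mu (g * s) := by
  haveI := D.hpr
  haveI := D.hc
  haveI := D.frame.hc.1
  rcases hs with ⟨t₀, rfl⟩ | ⟨a, ha, z, hs⟩
  · exact hg.torus_right D.hv t₀
  have hpos := (hB a).2 (RootPairing.Base.isPos_of_mem_support ha)
  rcases hs with rfl | rfl
  · exact hg.mul_right (mem_Gam_smove (Ψ := {r | 0 < mu (P.root r)}) hpos (D.simple_smove ha) z)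
  have hneg : 0 < (-mu) (P.root (P.reflectionPerm a a)) := by
    rw [AddMonoidHom.neg_apply, root_opp, map_neg, neg_neg]; exact hpos
  obtain ⟨n, hn, t, pp, hp, rfl⟩ := hg
  obtain ⟨p', hp', y, rfl⟩ := D.exists_split_pos hB ha hp
  haveI := (D.weyl a ha).hua.1
  haveI := (D.weyl a ha).hua'.1
  let e := (y ≫ u₂ a) * (z ≫ u₂ (P.reflectionPerm a a))
  have hp'' : e⁻¹ * p' * e ∈ Gam v₂ {r | 0 < mu (P.root r) ∧ r ≠ a} X := by
    have h1 := D.norm_rest hB ha (Or.inl rfl) (D.simple_smove ha) y⁻¹ hp'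
    have h2 := D.norm_rest hB ha (Or.inr rfl) (D.opp_smove ha) z⁻¹ h1
    rw [GrpObj.inv_comp, GrpObj.inv_comp] at h2
    convert h2 using 1
    simp only [e]
    group
  have hp3 : e⁻¹ * p' * e ∈ Gam v₂ {r | 0 < mu (P.root r)} X := Gam_mono (fun r hr => hr.1) X hp''
  have key : n * (t ≫ c₂) * (p' * (y ≫ u₂ a)) * (z ≫ u₂ (P.reflectionPerm a a)) = n * ((t ≫ c₂) * (e * (e⁻¹ * p' * e))) := by
    simp only [e]; group
  have hpe : InBig c P (fun r => v₂ r ≫ pr) mu (e ≫ pr) := by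
    have h1 := ((h.mul_left (map_Gam (pr := pr) (inv_mem hn))).torus_left D.frame.hu t⁻¹).mul_right
      (map_Gam (pr := pr) (inv_mem hp3))
    convert h1 using 1
    rw [key]
    simp only [MonObj.mul_comp, GrpObj.inv_comp, Category.assoc, D.base]
    group
  obtain ⟨x', y', τ, -, -, -, hrel⟩ := D.pair a ha X y z (D.isUnit_pair hmu ha hpos y z hpe)
  rw [← Category.assoc] at hrel
  refine ⟨n * ((t ≫ c₂) * (y' ≫ u₂ (P.reflectionPerm a a)) * (t ≫ c₂)⁻¹),
    mul_mem hn (torus_Gam D.hv t (mem_Gam_smove (Ψ := {r | 0 < (-mu) (P.root r)}) hneg (D.opp_smove ha) y')),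
    t * (τ ≫ Red.DSmap S (P.coroot a).toAddMonoidHom), (x' ≫ u₂ a) * (e⁻¹ * p' * e),
    mul_mem (mem_Gam_smove (Ψ := {r | 0 < mu (P.root r)}) hpos (D.simple_smove ha) x') hp3, ?_⟩
  rw [key, show e = (y ≫ u₂ a) * (z ≫ u₂ (P.reflectionPerm a a)) from rfl, hrel, MonObj.mul_comp]
  group

omit hn hp in
theorem inv_gens {X : Over S} {g : X ⟶ H} (hg : g ∈ genSet c₂ B u₂ X) : g⁻¹ ∈ genSet c₂ B u₂ X := by
  haveI := D.hc
  rcases hg with ⟨t, rfl⟩ | ⟨a, ha, x, rfl | rfl⟩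
  · exact Or.inl ⟨t⁻¹, (GrpObj.inv_comp _ _).symm⟩
  · haveI := (D.weyl a ha).hua.1
    exact Or.inr ⟨a, ha, x⁻¹, Or.inl (GrpObj.inv_comp _ _).symm⟩
  · haveI := (D.weyl a ha).hua'.1
    exact Or.inr ⟨a, ha, x⁻¹, Or.inr (GrpObj.inv_comp _ _).symm⟩

omit hn hp in
theorem exists_list {X : Over S} {g : X ⟶ H} (hg : g ∈ Subgroup.closure (genSet c₂ B u₂ X)) :
    ∃ l : List (X ⟶ H), (∀ s ∈ l, s ∈ genSet c₂ B u₂ X) ∧ l.prod = g := by
  induction hg using Subgroup.closure_induction with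
  | mem g hg => exact ⟨[g], fun s hs => List.mem_singleton.1 hs ▸ hg, List.prod_singleton⟩
  | one => exact ⟨[], by simp, List.prod_nil⟩
  | mul g h _ _ hg hh =>
    obtain ⟨l, hl, rfl⟩ := hg
    obtain ⟨l', hl', rfl⟩ := hh
    exact ⟨l ++ l', fun s hs => (List.mem_append.1 hs).elim (hl s) (hl' s), List.prod_append⟩
  | inv g _ hg =>
    obtain ⟨l, hl, rfl⟩ := hg
    refine ⟨l.reverse.map fun x => x⁻¹, fun s hs => ?_, ?_⟩
    · obtain ⟨x, hx, rfl⟩ := List.mem_map.1 hs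
      exact D.inv_gens (hl x (List.mem_reverse.1 hx))
    · rw [List.prod_inv_reverse, List.map_reverse]

omit hn hp in
theorem comp_closure {X Y : Over S} (f : Y ⟶ X) {g : X ⟶ H} (hg : g ∈ Subgroup.closure (genSet c₂ B u₂ X)) :
    f ≫ g ∈ Subgroup.closure (genSet c₂ B u₂ Y) := by
  induction hg using Subgroup.closure_induction with
  | mem g hg =>
    refine Subgroup.subset_closure ?_
    rcases hg with ⟨t, rfl⟩ | ⟨a, ha, x, rfl | rfl⟩
    · exact Or.inl ⟨f ≫ t, (Category.assoc _ _ _).symm⟩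
    · exact Or.inr ⟨a, ha, f ≫ x, Or.inl (Category.assoc _ _ _).symm⟩
    · exact Or.inr ⟨a, ha, f ≫ x, Or.inr (Category.assoc _ _ _).symm⟩
  | one => rw [MonObj.comp_one]; exact one_mem _
  | mul g h _ _ hg hh => rw [MonObj.comp_mul]; exact mul_mem hg hh
  | inv g _ hg => rw [GrpObj.comp_inv]; exact inv_mem hg

omit hn hp in
theorem v_mem (r : idx) {X : Over S} (x : X ⟶ Red.Ga S) : x ≫ v₂ r ∈ Subgroup.closure (genSet c₂ B u₂ X) := by
  obtain ⟨l, a, hl, ha, -, e⟩ := D.form r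
  have hw : ∀ L : List idx, (∀ y ∈ L, y ∈ B.support) →
      (L.map w₂).prod ∈ Subgroup.closure (genSet c₂ B u₂ (𝟙_ (Over S))) := fun L hL =>
    Subgroup.list_prod_mem _ fun g hg => by
      obtain ⟨b, hb, rfl⟩ := List.mem_map.1 hg
      rw [(D.weyl b (hL b hb)).eq]
      exact mul_mem (mul_mem (Subgroup.subset_closure (Or.inr ⟨b, hL b hb, _, Or.inl rfl⟩))
        (Subgroup.subset_closure (Or.inr ⟨b, hL b hb, _, Or.inr rfl⟩)))
        (Subgroup.subset_closure (Or.inr ⟨b, hL b hb, _, Or.inl rfl⟩))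
  rw [e, comp_cj, cj]
  exact mul_mem (mul_mem (D.comp_closure _ (hw l hl)) (Subgroup.subset_closure (Or.inr ⟨a, ha, x, Or.inl rfl⟩)))
    (inv_mem (D.comp_closure _ (hw l hl)))

omit hn hp in
theorem big_mem {X : Over S} {g : X ⟶ H} (hg : InBig c₂ P v₂ mu g) : g ∈ Subgroup.closure (genSet c₂ B u₂ X) := by
  obtain ⟨n, hn, t, pp, hp, rfl⟩ := hg
  have h : ∀ (Ψ : Set idx), ∀ z ∈ Gam v₂ Ψ X, z ∈ Subgroup.closure (genSet c₂ B u₂ X) := fun Ψ z hz => by
    refine (Subgroup.closure_le _).2 ?_ hz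
    rintro _ ⟨r, -, x, rfl⟩
    exact D.v_mem r x
  exact mul_mem (mul_mem (h _ _ hn) (Subgroup.subset_closure (Or.inl ⟨t, rfl⟩))) (h _ _ hp)

/-- **The section.** -/
theorem exists_section :
    ∃ s : G ⟶ H, IsMonHom s ∧ c ≫ s = c₂ ∧
      ∀ a ∈ B.support, (u₂ a ≫ pr) ≫ s = u₂ a ∧
        (u₂ (P.reflectionPerm a a) ≫ pr) ≫ s = u₂ (P.reflectionPerm a a) := by
  classical
  haveI := D.hpr
  haveI := D.hc
  haveI := D.frame.hc.1
  obtain ⟨mu, hpB, -, hmu⟩ := exists_pos_hom P B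
  have hB : ∀ r, 0 < mu (P.root r) ↔ B.IsPos r := fun r => (hpB r).trans (mem_posRoots_iff B r)
  obtain ⟨p, en, -, hn⟩ := exists_extend {r | 0 < (-mu) (P.root r)} (Fin.elim0 : Fin 0 → idx) (fun x => x.elim0)
    fun k => k.elim0
  obtain ⟨q, ep, -, hp⟩ := exists_extend {r | 0 < mu (P.root r)} (Fin.elim0 : Fin 0 → idx) (fun x => x.elim0)
    fun k => k.elim0
  haveI := (D.frame.cell mu hmu _ _ _ _ hn hp hn hp).1
  let j := cellC c (fun l => v₂ (Fin.append Fin.elim0 en l) ≫ pr) (fun l => v₂ (Fin.append Fin.elim0 ep l) ≫ pr)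
  let j₂ := cellC c₂ (fun l => v₂ (Fin.append Fin.elim0 en l)) (fun l => v₂ (Fin.append Fin.elim0 ep l))
  haveI : IsOpenImmersion j.left := (D.frame.cell mu hmu _ _ _ _ hn hp hn hp).1
  have hjj : j₂ ≫ pr = j := D.cell_comp
  have hbig : ∀ {X : Over S} (z : X ⟶ RedSub.pow (Red.Ga S) (0 + p) ⊗ (Red.DS S M ⊗ RedSub.pow (Red.Ga S) (0 + q))),
      InBig c₂ P v₂ mu (z ≫ j₂) := fun z => big_cell hn hp z
  obtain ⟨y0, hy0, -⟩ := exists_pow_prod (G := H) (fun l => v₂ (Fin.append Fin.elim0 en l)) (X := 𝟙_ (Over S))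
    fun _ => 1
  obtain ⟨y1, hy1, -⟩ := exists_pow_prod (G := H) (fun l => v₂ (Fin.append Fin.elim0 ep l)) (X := 𝟙_ (Over S))
    fun _ => 1
  let e := lift y0 (lift (1 : 𝟙_ (Over S) ⟶ Red.DS S M) y1)
  have he₂ : e ≫ j₂ = 1 := by
    rw [comp_cellC, prodMap_one _ (fun k => (D.hv _).1) y0 hy0, prodMap_one _ (fun k => (D.hv _).1) y1 hy1,
      MonObj.one_comp (X := 𝟙_ (Over S)) c₂, _root_.one_mul, _root_.one_mul]
  have he : e ≫ j = 1 := by rw [← hjj, ← Category.assoc, he₂, MonObj.one_comp]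
  -- translation into the cell
  have iterate : ∀ {X : Over S} {g : X ⟶ H}, g ∈ Subgroup.closure (genSet c₂ B u₂ X) →
      ∃ (X' : Over S) (f : X' ⟶ X) (z z' : X' ⟶ RedSub.pow (Red.Ga S) (0 + p) ⊗ (Red.DS S M ⊗ RedSub.pow (Red.Ga S) (0 + q))),
        Epi f ∧ (z ≫ j₂) * (f ≫ g) = z' ≫ j₂ := by
    intro X g hg
    obtain ⟨l, hl, rfl⟩ := D.exists_list hg
    obtain ⟨X', f, z, hf, hs, -, hd⟩ := exists_translate_open D.frame.hG j e he
      (n := l.length + 1) (fun k => (l.take k).prod ≫ pr)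
    haveI := RedR1.epi_of_flat_surjective f
    have key : ∀ k, k ≤ l.length → InBig c₂ P v₂ mu ((z ≫ j₂) * (f ≫ (l.take k).prod)) := by
      intro k
      induction k with
      | zero => intro _; rw [List.take_zero, List.prod_nil, MonObj.comp_one, _root_.mul_one]; exact hbig z
      | succ k ih =>
        intro hk
        have hlt : k < l.length := hk
        rw [List.prod_take_succ l k hlt, MonObj.comp_mul, ← _root_.mul_assoc]
        refine D.step_gen hmu hB (ih hlt.le) ?_ ?_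
        · rcases hl _ (List.getElem_mem hlt) with ⟨t, ht⟩ | ⟨a, ha, x, hx | hx⟩
          · exact Or.inl ⟨f ≫ t, by rw [ht, Category.assoc]⟩
          · exact Or.inr ⟨a, ha, f ≫ x, Or.inl (by rw [hx, Category.assoc])⟩
          · exact Or.inr ⟨a, ha, f ≫ x, Or.inr (by rw [hx, Category.assoc])⟩
        · obtain ⟨d, hd⟩ := hd ⟨k + 1, by omega⟩
          have := big_cell (c := c) (v := fun r => v₂ r ≫ pr) hn hp d
          rw [show cellC c (fun l => v₂ (Fin.append Fin.elim0 en l) ≫ pr)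
            (fun l => v₂ (Fin.append Fin.elim0 ep l) ≫ pr) = j from rfl, hd] at this
          convert this using 1
          simp only [MonObj.mul_comp, MonObj.comp_mul, Category.assoc, hjj, List.prod_take_succ l k hlt,
            _root_.mul_assoc]
    obtain ⟨z', hz'⟩ := D.exists_fac hn hp (key l.length le_rfl)
    refine ⟨X', f, z, z', inferInstance, ?_⟩
    rw [List.take_length] at hz'
    exact hz'.symm
  -- injectivity on the generated groups
  have inj : ∀ {X : Over S} {g : X ⟶ H}, g ∈ Subgroup.closure (genSet c₂ B u₂ X) → g ≫ pr = 1 → g = 1 := by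
    intro X g hg h1
    obtain ⟨X', f, z, z', hf, hz⟩ := iterate hg
    have hzz : z ≫ j₂ = z' ≫ j₂ := D.eq_of_map hmu (hbig z) (hbig z') (by
      rw [← hz, MonObj.mul_comp, Category.assoc f, h1, MonObj.comp_one, _root_.mul_one])
    rw [← hzz] at hz
    haveI := hf
    rw [← cancel_epi f, MonObj.comp_one]
    exact mul_eq_left.1 hz
  obtain ⟨s, ⟨hs, hjs⟩, -⟩ := existsUnique_hom_open D.frame.hG j e he j₂ fun X x y z h => by
    have hz : (x ≫ j₂) * (y ≫ j₂) * (z ≫ j₂)⁻¹ = 1 := inj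
      (mul_mem (mul_mem (D.big_mem (hbig x)) (D.big_mem (hbig y))) (inv_mem (D.big_mem (hbig z)))) (by
        simp only [MonObj.mul_comp, GrpObj.inv_comp, Category.assoc, hjj]
        rw [h, mul_inv_cancel])
    exact (mul_inv_eq_one.1 hz).symm
  haveI := hs
  have sec : ∀ {X : Over S} {g : X ⟶ H}, g ∈ Subgroup.closure (genSet c₂ B u₂ X) → g ≫ pr ≫ s = g := by
    intro X g hg
    obtain ⟨X', f, z, z', hf, hz⟩ := iterate hg
    have hj : ∀ w : X' ⟶ _, (w ≫ j₂) ≫ pr ≫ s = w ≫ j₂ := fun w => by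
      rw [Category.assoc, ← Category.assoc j₂, hjj, hjs]
    have h := congrArg (· ≫ pr ≫ s) hz
    simp only [MonObj.mul_comp, hj] at h
    rw [← hz] at h
    haveI := hf
    rw [← cancel_epi f]
    have h2 := mul_left_cancel h
    rwa [Category.assoc] at h2
  refine ⟨s, inferInstance, ?_, fun a ha => ⟨?_, ?_⟩⟩
  · rw [← D.base, Category.assoc]
    exact sec (Subgroup.subset_closure (Or.inl ⟨𝟙 _, (Category.id_comp c₂).symm⟩))
  · rw [Category.assoc]
    exact sec (Subgroup.subset_closure (Or.inr ⟨a, ha, 𝟙 _, Or.inl (Category.id_comp _).symm⟩))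
  · rw [Category.assoc]
    exact sec (Subgroup.subset_closure (Or.inr ⟨a, ha, 𝟙 _, Or.inr (Category.id_comp _).symm⟩))

end GraphSys

end Groth.Agent.RootBase
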