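import Groth.Agent.RootBase.SimpleGen
import Groth.Agent.RootBase.BorelStd
import Mathlib.Algebra.MvPolynomial.Supported
import Mathlib.Algebra.MvPolynomial.Monad

/-!
# The polynomial group law of ordered products of root groups
-/

set_option autoImplicit false
set_option backward.isDefEq.respectTransparency false
set_option linter.style.haveILetI false
set_option maxHeartbeats 1000000
set_option synthInstance.maxHeartbeats 400000

universe u

open CategoryTheory Limits MonoidalCategory CartesianMonoidalCategory MonObj GrpObj AlgebraicGeometry LieS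
open scoped CategoryTheory.Obj

noncomputable section

namespace Groth.Agent.RootBase

open Groth.Agent.HomDiag Groth.Agent.DynPar Groth.Agent.RootSys Groth.Agent.MTBridge

/-- A factor in front of the rest of a product. -/
theorem ofFn_split_update {H : Type*} [Monoid H] : ∀ {n : ℕ} (f : Fin n → H) (k : Fin n), (∀ q, q < k → f q = 1) →
    (List.ofFn f).prod = f k * (List.ofFn (Function.update f k 1)).prod
  | 0, _, k, _ => k.elim0
  | n + 1, f, k, h => by
    induction k using Fin.cases with
    | zero =>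
      simp only [List.ofFn_succ, List.prod_cons, Function.update_self, _root_.one_mul]
      congr 2
    | succ k =>
      have h0 : f 0 = 1 := h 0 (Fin.succ_pos k)
      simp only [List.ofFn_succ, List.prod_cons, Function.update_of_ne (Fin.succ_ne_zero k).symm, h0, _root_.one_mul]
      rw [ofFn_split_update (fun i => f i.succ) k fun q hq => h _ (Fin.succ_lt_succ_iff.2 hq)]
      congr 3
      funext i
      by_cases hi : i = k
      · subst hi; simp
      · simp [Function.update_of_ne hi, Function.update_of_ne (fun e => hi (Fin.succ_injective _ e))]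

variable {S : Scheme.{u}} {G : Over S} [GrpObj G] {N : ℕ}

/-- The ring of the polynomials of the group law. -/
abbrev LawPoly (S : Scheme.{u}) (N : ℕ) : Type u := MvPolynomial (Fin N ⊕ Fin N) Γ(S, ⊤)

/-- The polynomials in the coordinates before a given one. -/
def lowAlg (S : Scheme.{u}) (m : Fin N) : Subalgebra Γ(S, ⊤) (LawPoly S N) :=
  MvPolynomial.supported _ {v | Sum.elim (fun j : Fin N => j < m) (fun j : Fin N => j < m) v}

/-- The polynomials in the coordinates up to a given one. -/
def uptoAlg (S : Scheme.{u}) (m : Fin N) : Subalgebra Γ(S, ⊤) (LawPoly S N) :=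
  MvPolynomial.supported _ {v | Sum.elim (fun j : Fin N => j ≤ m) (fun j : Fin N => j ≤ m) v}

theorem uptoAlg_le {j m : Fin N} (h : j < m) : uptoAlg S j ≤ lowAlg S m :=
  MvPolynomial.supported_mono fun v hv => by cases v <;> exact lt_of_le_of_lt (show _ ≤ j from hv) h

theorem lowAlg_le_upto (m : Fin N) : lowAlg S m ≤ uptoAlg S m :=
  MvPolynomial.supported_mono fun v hv => by cases v <;> exact le_of_lt (show _ < m from hv)

theorem X_mem_upto {v : Fin N ⊕ Fin N} {m : Fin N} (h : Sum.elim (fun j : Fin N => j ≤ m) (fun j : Fin N => j ≤ m) v) :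
    (MvPolynomial.X v : LawPoly S N) ∈ uptoAlg S m := by
  rw [uptoAlg, MvPolynomial.supported_eq_adjoin_X]
  exact Algebra.subset_adjoin ⟨v, h, rfl⟩

theorem bind_mem {g : Fin N ⊕ Fin N → LawPoly S N} {m : Fin N} {p : LawPoly S N} (hp : p ∈ lowAlg S m)
    (hg : ∀ v, Sum.elim (fun j : Fin N => j < m) (fun j : Fin N => j < m) v → g v ∈ lowAlg S m) :
    MvPolynomial.bind₁ g p ∈ lowAlg S m := by
  rw [lowAlg, MvPolynomial.supported_eq_adjoin_X] at hp
  have h : MvPolynomial.bind₁ g p ∈ (Algebra.adjoin Γ(S, ⊤) ((MvPolynomial.X : _ → LawPoly S N) ''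
      {v | Sum.elim (fun j : Fin N => j < m) (fun j : Fin N => j < m) v})).map (MvPolynomial.bind₁ g) :=
    ⟨p, hp, rfl⟩
  rw [AlgHom.map_adjoin] at h
  refine Algebra.adjoin_le ?_ h
  rintro _ ⟨_, ⟨v, hv, rfl⟩, rfl⟩
  rw [MvPolynomial.bind₁_X_right]
  exact hg v hv

/-- Evaluation of a polynomial at coordinates. -/
def pev {X : Over S} (v : Fin N ⊕ Fin N → Γ(X.left, ⊤)) (p : LawPoly S N) : Γ(X.left, ⊤) :=
  MvPolynomial.eval₂ X.hom.appTop.hom v p

theorem pev_bind {X : Over S} (v : Fin N ⊕ Fin N → Γ(X.left, ⊤)) (g : Fin N ⊕ Fin N → LawPoly S N) (p : LawPoly S N) :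
    pev v (MvPolynomial.bind₁ g p) = pev (fun i => pev v (g i)) p :=
  MvPolynomial.eval₂Hom_bind₁ X.hom.appTop.hom v g p

variable {M : Type} [AddCommGroup M] [Module.Free ℤ M] [Module.Finite ℤ M]
  {c : Red.DS S M ⟶ G} {idx : Type} [Fintype idx] {P : RootPairing idx ℤ M (Module.Dual ℤ M)}
  {u : idx → (Red.Ga S ⟶ G)}

/-- The ordered product at given coordinates. -/
def pv (u : idx → (Red.Ga S ⟶ G)) (e : Fin N → idx) {X : Over S} (z : Fin N → Γ(X.left, ⊤)) : X ⟶ G :=
  (List.ofFn fun j => ev (u (e j)) (z j)).prod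

/-- A family of points in normal form with given linear parts. -/
def NF (u : idx → (Red.Ga S ⟶ G)) (e : Fin N → idx) (k : ℕ)
    (g : ∀ X : Over S, (Fin N ⊕ Fin N → Γ(X.left, ⊤)) → (X ⟶ G)) (l : Fin N → LawPoly S N) : Prop :=
  ∃ Q : Fin N → LawPoly S N, (∀ j : Fin N, j.val < k → Q j = 0) ∧ (∀ j, l j ∈ uptoAlg S j) ∧
    (∀ j, Q j - l j ∈ lowAlg S j) ∧ ∀ (X : Over S) v, g X v = pv u e (fun j => pev v (Q j))

/-- The group law on products starting at a given place. -/
def Law (u : idx → (Red.Ga S ⟶ G)) (e : Fin N → idx) (k : ℕ) : Prop :=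
  ∃ Q : Fin N → LawPoly S N, (∀ j : Fin N, j.val < k → Q j = 0) ∧
    (∀ j : Fin N, k ≤ j.val → Q j - MvPolynomial.X (Sum.inl j) - MvPolynomial.X (Sum.inr j) ∈ lowAlg S j) ∧
    ∀ (X : Over S) (x y : Fin N → Γ(X.left, ⊤)), (∀ j : Fin N, j.val < k → x j = 0) →
      (∀ j : Fin N, j.val < k → y j = 0) → pv u e x * pv u e y = pv u e (fun j => pev (Sum.elim x y) (Q j))

variable {e : Fin N → idx}

theorem NF.mul {k : ℕ} (hA : Law u e k) {g g' : ∀ X : Over S, (Fin N ⊕ Fin N → Γ(X.left, ⊤)) → (X ⟶ G)}
    {l l' : Fin N → LawPoly S N} (h : NF u e k g l) (h' : NF u e k g' l') :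
    NF u e k (fun X v => g X v * g' X v) (l + l') := by
  obtain ⟨Q, hQ0, hQ, hlaw⟩ := hA
  obtain ⟨p, hp0, hl, hp, hpg⟩ := h
  obtain ⟨p', hp0', hl', hp', hpg'⟩ := h'
  refine ⟨fun j => MvPolynomial.bind₁ (Sum.elim p p') (Q j), fun j hj => by dsimp only; rw [hQ0 j hj, map_zero],
    fun j => add_mem (hl j) (hl' j), fun j => ?_, fun X v => ?_⟩
  · dsimp only
    by_cases hj : j.val < k
    · rw [hQ0 j hj, map_zero, Pi.add_apply, show (0 : LawPoly S N) - (l j + l' j) = (p j - l j) + (p' j - l' j) by
        rw [hp0 j hj, hp0' j hj]; abel]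
      exact add_mem (hp j) (hp' j)
    · have hlow : ∀ i, i < j → p i ∈ lowAlg S j ∧ p' i ∈ lowAlg S j := fun i hi => by
        refine ⟨?_, ?_⟩
        · have := add_mem (uptoAlg_le hi (lowAlg_le_upto _ (hp i))) (uptoAlg_le hi (hl i))
          rwa [sub_add_cancel] at this
        · have := add_mem (uptoAlg_le hi (lowAlg_le_upto _ (hp' i))) (uptoAlg_le hi (hl' i))
          rwa [sub_add_cancel] at this
      have h1 := bind_mem (g := Sum.elim p p') (hQ j (not_lt.1 hj))
        (fun v hv => by cases v with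
          | inl i => exact (hlow i hv).1
          | inr i => exact (hlow i hv).2)
      simp only [map_sub, MvPolynomial.bind₁_X_right, Sum.elim_inl, Sum.elim_inr] at h1
      have := add_mem h1 (add_mem (hp j) (hp' j))
      convert this using 1
      simp only [Pi.add_apply]
      abel
  · simp only [pev_bind]
    rw [hpg X v, hpg' X v, hlaw X _ _ (fun j hj => by simp [hp0 j hj, pev]) (fun j hj => by simp [hp0' j hj, pev])]
    congr 1
    funext j
    congr 1
    funext i
    cases i <;> rfl

theorem NF.one (F : Frame c P.root u) (k : ℕ) : NF u e k (fun _ _ => 1) 0 := by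
  refine ⟨0, fun j _ => rfl, fun j => zero_mem _, fun j => by simp, fun X v => ?_⟩
  symm
  refine List.prod_eq_one fun g hg => ?_
  obtain ⟨j, rfl⟩ := List.mem_ofFn.1 hg
  haveI := (F.hu (e j)).1
  simp [pev, ev_zero]

theorem NF.prod (F : Frame c P.root u) {k : ℕ} (hA : Law u e k) : ∀ {n : ℕ}
    (g : Fin n → ∀ X : Over S, (Fin N ⊕ Fin N → Γ(X.left, ⊤)) → (X ⟶ G)) (l : Fin n → Fin N → LawPoly S N),
    (∀ q, NF u e k (g q) (l q)) → NF u e k (fun X v => (List.ofFn fun q => g q X v).prod) (∑ q, l q)
  | 0, g, l, _ => by simpa using NF.one F k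
  | n + 1, g, l, h => by
    simp only [List.ofFn_succ, List.prod_cons, Fin.sum_univ_succ]
    exact (h 0).mul hA (NF.prod F hA (fun q => g q.succ) (fun q => l q.succ) fun q => h _)

theorem NF.single (F : Frame c P.root u) {k : ℕ} {m : Fin N} (hm : k ≤ m.val) (p q : LawPoly S N)
    (hq : q ∈ uptoAlg S m) (hpq : p - q ∈ lowAlg S m) :
    NF u e k (fun X v => ev (u (e m)) (pev v p)) (Pi.single m q) := by
  refine ⟨Pi.single m p, fun j hj => by
      have hne : j ≠ m := fun e => by rw [e] at hj; omega
      simp [hne], fun j => ?_, fun j => ?_,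
    fun X v => ?_⟩
  · by_cases hj : j = m
    · subst hj; rwa [Pi.single_eq_same]
    · rw [Pi.single_eq_of_ne hj]; exact zero_mem _
  · by_cases hj : j = m
    · subst hj; rwa [Pi.single_eq_same, Pi.single_eq_same]
    · rw [Pi.single_eq_of_ne hj, Pi.single_eq_of_ne hj, sub_zero]; exact zero_mem _
  · rw [pv, ofFn_prod_single _ m fun j hj => ?_, Pi.single_eq_same]
    haveI := (F.hu (e j)).1
    rw [Pi.single_eq_of_ne hj, pev, MvPolynomial.eval₂_zero, ev_zero]

theorem pv_split (F : Frame c P.root u) {X : Over S} (z : Fin N → Γ(X.left, ⊤)) (k : Fin N)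
    (h : ∀ j, j < k → z j = 0) : pv u e z = ev (u (e k)) (z k) * pv u e (Function.update z k 0) := by
  rw [pv, ofFn_split_update _ k fun j hj => ?_, pv]
  · congr 3
    funext j
    by_cases hj : j = k
    · subst hj
      haveI := (F.hu (e j)).1
      simp [ev_zero]
    · simp [Function.update_of_ne hj]
  · haveI := (F.hu (e j)).1
    rw [h j hj, ev_zero]

/-- **One step down.** -/
theorem Law.step [P.IsReduced] [Nonempty S] (F : Frame c P.root u) (mu : M →+ ℤ) (he : Function.Injective e)
    (hmu : ∀ j, 0 < mu (P.root (e j)))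
    (hcombo : ∀ (a b : Fin N) (d : idx) (p q : ℕ), 1 ≤ p → 1 ≤ q →
      P.root d = (p : ℤ) • P.root (e a) + (q : ℤ) • P.root (e b) → ∃ m, e m = d ∧ a < m ∧ b < m)
    (k : Fin N) (hA : Law u e (k.val + 1)) : Law u e k.val := by
  classical
  haveI : ∀ a, IsMonHom (u a) := fun a => (F.hu a).1
  let L1 : Fin N → LawPoly S N := fun j => if k < j then MvPolynomial.X (Sum.inl j) else 0
  let L2 : Fin N → LawPoly S N := fun j => if k < j then MvPolynomial.X (Sum.inr j) else 0
  let g : Fin N → ∀ X : Over S, (Fin N ⊕ Fin N → Γ(X.left, ⊤)) → (X ⟶ G) := fun j X v =>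
    (ev (u (e k)) (v (Sum.inr k)))⁻¹ * ev (u (e j)) (pev v (L1 j)) * ev (u (e k)) (v (Sum.inr k))
  have hg : ∀ j, NF u e (k.val + 1) (g j) (Pi.single j (L1 j)) := fun j => by
    by_cases hj : k < j
    · have hli : ∀ x y : ℤ, x • P.root (e k) + y • P.root (e j) = 0 → x = 0 ∧ y = 0 := fun x y hxy => by
        by_cases hy : y = 0
        · rw [hy, zero_smul, add_zero] at hxy
          exact ⟨(smul_eq_zero.1 hxy).resolve_right (P.ne_zero _), hy⟩
        · exfalso
          rcases F.dep (a := e k) (b := e j) (-x) y hy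
            (show y • P.root (e j) = (-x) • P.root (e k) by rw [neg_smul]; exact eq_neg_of_add_eq_zero_right hxy) with h | h
          · exact hj.ne (he (P.root.injective h)).symm
          · have h1 := hmu j; rw [h, map_neg] at h1; have := hmu k; omega
      obtain ⟨n, e', i', j', C, hf⟩ := F.exists_formula hli
      have hm : ∀ q : Fin n, ∃ m, e m = e' q ∧ k < m ∧ j < m := fun q =>
        hcombo k j (e' q) (i' q) (j' q) (hf.hij q).1 (hf.hij q).2.1 (hf.hij q).2.2
      choose m hm hkm hjm using hm
      have h2 := NF.prod F hA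
        (fun q X v => ev (u (e (m q))) (pev v (MvPolynomial.C (C q) * (-MvPolynomial.X (Sum.inr k)) ^ i' q *
          MvPolynomial.X (Sum.inl j) ^ j' q))) (fun _ => 0) fun q => by
          have h := NF.single (u := u) (e := e) F (k := k.val + 1) (m := m q) (by have := hkm q; simp only [Fin.lt_def] at this; omega)
            (MvPolynomial.C (C q) * (-MvPolynomial.X (Sum.inr k)) ^ i' q * MvPolynomial.X (Sum.inl j) ^ j' q) 0
            (zero_mem _) (by
              rw [sub_zero]
              refine mul_mem (mul_mem (Subalgebra.algebraMap_mem _ _) (pow_mem (neg_mem ?_) _)) (pow_mem ?_ _)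
              · exact uptoAlg_le (hkm q) (X_mem_upto (le_refl k))
              · exact uptoAlg_le (hjm q) (X_mem_upto (le_refl j)))
          rwa [Pi.single_zero] at h
      have h1 := (NF.single (u := u) (e := e) F (k := k.val + 1) (m := j) (by simp only [Fin.lt_def] at hj; omega) (L1 j) (L1 j)
        (by simp only [L1, if_pos hj]; exact X_mem_upto (le_refl j)) (by rw [sub_self]; exact zero_mem _)).mul hA h2
      rw [Finset.sum_const_zero, add_zero] at h1
      obtain ⟨Q, hQ⟩ := h1
      refine ⟨Q, hQ.1, hQ.2.1, hQ.2.2.1, fun X v => ?_⟩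
      rw [← hQ.2.2.2 X v]
      have hw := hf.word_ev (X := X) (-v (Sum.inr k)) (v (Sum.inl j))
      rw [ev_neg, _root_.inv_inv, inv_mul_eq_iff_eq_mul] at hw
      simp only [g, L1, if_pos hj]
      rw [show pev v (MvPolynomial.X (Sum.inl j)) = v (Sum.inl j) from MvPolynomial.eval₂_X _ _ _, hw]
      congr 2
      refine congrArg List.ofFn (funext fun q => ?_)
      rw [hm q]
      congr 1
      simp [pev]
    · have h0 : L1 j = 0 := if_neg hj
      rw [h0, Pi.single_zero]
      obtain ⟨Q, hQ⟩ := NF.one (u := u) (e := e) F (k.val + 1)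
      refine ⟨Q, hQ.1, hQ.2.1, hQ.2.2.1, fun X v => ?_⟩
      rw [← hQ.2.2.2 X v]
      simp [g, h0, pev, ev_zero]
  have hy : NF u e (k.val + 1) (fun X v => pv u e (fun j => pev v (L2 j))) L2 :=
    ⟨L2, fun j hj => if_neg (by simp only [Fin.lt_def]; omega), fun j => by
      simp only [L2]; split
      · exact X_mem_upto (le_refl j)
      · exact zero_mem _, fun j => by rw [sub_self]; exact zero_mem _, fun X v => rfl⟩
  obtain ⟨Q, hQ0, -, hQ, hQe⟩ := (NF.prod F hA g _ hg).mul hA hy
  rw [Finset.univ_sum_single] at hQ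
  refine ⟨Function.update Q k (MvPolynomial.X (Sum.inl k) + MvPolynomial.X (Sum.inr k)), fun j hj => ?_,
    fun j hj => ?_, fun X x y hx hy' => ?_⟩
  · rw [Function.update_of_ne (by rintro rfl; omega)]
    exact hQ0 j (by omega)
  · by_cases hjk : j = k
    · subst hjk
      rw [Function.update_self, add_sub_cancel_left, sub_self]
      exact zero_mem _
    · rw [Function.update_of_ne hjk]
      have hkj : k < j := lt_of_le_of_ne hj (Ne.symm hjk)
      have := hQ j
      rwa [Pi.add_apply, show L1 j = MvPolynomial.X (Sum.inl j) from if_pos hkj,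
        show L2 j = MvPolynomial.X (Sum.inr j) from if_pos hkj, ← sub_sub] at this
  · have hx' : (fun j => pev (Sum.elim x y) (L1 j)) = Function.update x k 0 := funext fun j => by
      by_cases hjk : j = k
      · subst hjk; simp [L1, pev]
      · rw [Function.update_of_ne hjk]
        by_cases hkj : k < j
        · simp [L1, hkj, pev]
        · simp only [L1, if_neg hkj, pev, MvPolynomial.eval₂_zero]
          exact (hx j (by simp only [Fin.lt_def] at hkj; have := Fin.val_ne_of_ne hjk; omega)).symm
    have hy'' : (fun j => pev (Sum.elim x y) (L2 j)) = Function.update y k 0 := funext fun j => by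
      by_cases hjk : j = k
      · subst hjk; simp [L2, pev]
      · rw [Function.update_of_ne hjk]
        by_cases hkj : k < j
        · simp [L2, hkj, pev]
        · simp only [L2, if_neg hkj, pev, MvPolynomial.eval₂_zero]
          exact (hy' j (by simp only [Fin.lt_def] at hkj; have := Fin.val_ne_of_ne hjk; omega)).symm
    have h3 := hQe X (Sum.elim x y)
    have h4 : (List.ofFn fun q => g q X (Sum.elim x y)).prod =
        (ev (u (e k)) (y k))⁻¹ * pv u e (Function.update x k 0) * ev (u (e k)) (y k) := by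
      rw [← hx']
      have := map_list_prod (MulAut.conj (ev (u (e k)) (y k))⁻¹).toMonoidHom
        (List.ofFn fun q => ev (u (e q)) (pev (Sum.elim x y) (L1 q)))
      simp only [MulEquiv.toMonoidHom_eq_coe, MonoidHom.coe_coe, MulAut.conj_apply, _root_.inv_inv, List.map_ofFn] at this
      simpa [g, Function.comp_def, pv, pev] using this.symm
    have h5 := pv_split (u := u) (e := e) F (fun j => pev (Sum.elim x y)
      (Function.update Q k (MvPolynomial.X (Sum.inl k) + MvPolynomial.X (Sum.inr k)) j)) k fun j hj => by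
        rw [Function.update_of_ne (ne_of_lt hj), hQ0 j (by simp only [Fin.lt_def] at hj; omega)]
        exact MvPolynomial.eval₂_zero _ _
    have h6 : Function.update (fun j => pev (Sum.elim x y)
        (Function.update Q k (MvPolynomial.X (Sum.inl k) + MvPolynomial.X (Sum.inr k)) j)) k 0 =
          fun j => pev (Sum.elim x y) (Q j) := funext fun j => by
      by_cases hjk : j = k
      · subst hjk
        rw [Function.update_self, hQ0 j (by omega)]
        exact (MvPolynomial.eval₂_zero _ _).symm
      · rw [Function.update_of_ne hjk, Function.update_of_ne hjk]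
    rw [h5, h6, ← h3, Function.update_self]
    beta_reduce
    rw [h4, hy'',
      show pev (Sum.elim x y) (MvPolynomial.X (Sum.inl k) + MvPolynomial.X (Sum.inr k)) = x k + y k by simp [pev],
      pv_split F x k (fun j hj => hx j hj), pv_split F y k (fun j hj => hy' j hj), ev_add]
    group

/-- A triangular group law. -/
theorem exists_law [P.IsReduced] [Nonempty S] (F : Frame c P.root u) (mu : M →+ ℤ) (he : Function.Injective e)
    (hmu : ∀ j, 0 < mu (P.root (e j)))
    (hcombo : ∀ (a b : Fin N) (d : idx) (p q : ℕ), 1 ≤ p → 1 ≤ q →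
      P.root d = (p : ℤ) • P.root (e a) + (q : ℤ) • P.root (e b) → ∃ m, e m = d ∧ a < m ∧ b < m) :
    Law u e 0 := by
  suffices h : ∀ d : ℕ, d ≤ N → Law u e (N - d) by simpa using h N le_rfl
  intro d
  induction d with
  | zero =>
    intro _
    refine ⟨0, fun j _ => rfl, fun j hj => absurd j.isLt (by omega), fun X x y hx hy => ?_⟩
    obtain rfl : x = 0 := funext fun j => hx j (by omega)
    obtain rfl : y = 0 := funext fun j => hy j (by omega)
    haveI : ∀ a, IsMonHom (u a) := fun a => (F.hu a).1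
    simp [pv, pev, ev_zero]
  | succ d ih =>
    intro hd
    have h := ih (by omega)
    have e1 : N - d = (⟨N - (d + 1), by omega⟩ : Fin N).val + 1 := by show N - d = N - (d + 1) + 1; omega
    rw [e1] at h
    exact Law.step F mu he hmu hcombo ⟨N - (d + 1), by omega⟩ h

/-- A polynomial vanishing at the generic point. -/
theorem map_eq_zero_of_eval {σ A B : Type*} [CommRing A] [CommRing B] (p : MvPolynomial σ A) (f : A →+* B)
    (g : A →+* MvPolynomial σ B) (hg : ∀ r, g r = MvPolynomial.C (f r)) (v : σ → MvPolynomial σ B)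
    (hv : ∀ i, v i = MvPolynomial.X i) (h : MvPolynomial.eval₂ g v p = 0) : MvPolynomial.map f p = 0 := by
  have e : MvPolynomial.eval₂Hom g v = MvPolynomial.map f :=
    MvPolynomial.ringHom_ext (fun r => by simp [hg]) fun i => by simp [hv]
  rw [← e]
  exact h

/-- A polynomial vanishing at all points is zero. -/
theorem eq_zero_of_points {σ : Type} (p : MvPolynomial σ Γ(S, ⊤))
    (h : ∀ (X : Over S) (v : σ → Γ(X.left, ⊤)), MvPolynomial.eval₂ X.hom.appTop.hom v p = 0) : p = 0 := by
  ext m
  rw [MvPolynomial.coeff_zero]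
  suffices hloc : ∀ i : S.affineCover.I₀, (S.affineCover.f i).appTop (MvPolynomial.coeff m p) = 0 by
    have he : (BGaNotS.gaPt (W := Over.mk (𝟙 S)) (MvPolynomial.coeff m p) : Over.mk (𝟙 S) ⟶ Red.Ga S) =
        BGaNotS.gaPt 0 := by
      ext1
      refine S.affineCover.hom_ext _ _ fun i => ?_
      let q : Over.mk (S.affineCover.f i) ⟶ Over.mk (𝟙 S) := Over.homMk (S.affineCover.f i) (Category.comp_id _)
      show q.left ≫ _ = q.left ≫ _
      rw [← Over.comp_left, ← Over.comp_left]
      congr 1
      refine BGaNotS.gaPt_ext ?_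
      rw [BGaNotS.gaFn_comp, BGaNotS.gaFn_comp, BGaNotS.gaFn_gaPt, BGaNotS.gaFn_gaPt, map_zero]
      exact hloc i
    have := congrArg Red.gaFn he
    rwa [BGaNotS.gaFn_gaPt, BGaNotS.gaFn_gaPt] at this
  intro i
  let Y := S.affineCover.X i
  let f : Y ⟶ S := S.affineCover.f i
  let R := Γ(Y, ⊤)
  haveI : IsAffine Y := inferInstanceAs (IsAffine (S.affineCover.X i))
  let X : Over S := Over.mk (Spec.map (CommRingCat.ofHom (MvPolynomial.C (σ := σ) (R := R))) ≫ Y.isoSpec.inv ≫ f)
  let η' := (Scheme.ΓSpecIso (CommRingCat.of (MvPolynomial σ R)))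
  have hcomp : ∀ r, η'.hom (X.hom.appTop r) = MvPolynomial.C (f.appTop r) := fun r => by
    show η'.hom ((Spec.map (CommRingCat.ofHom (MvPolynomial.C (σ := σ) (R := R))) ≫ Y.isoSpec.inv ≫ f).appTop r) = _
    rw [Scheme.Hom.comp_appTop, Scheme.Hom.comp_appTop, CommRingCat.comp_apply, CommRingCat.comp_apply]
    have h1 := congrArg (fun g => (CommRingCat.Hom.hom g) (Y.isoSpec.inv.appTop (f.appTop r)))
      (Scheme.ΓSpecIso_naturality (CommRingCat.ofHom (MvPolynomial.C (σ := σ) (R := R))))
    simp only [CommRingCat.comp_apply] at h1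
    refine h1.trans (congrArg MvPolynomial.C ?_)
    have h5 : Y.isoSpec.inv.appTop ≫ (Scheme.ΓSpecIso Γ(Y, ⊤)).hom = 𝟙 _ := by
      rw [← Scheme.toSpecΓ_appTop, ← Scheme.Hom.comp_appTop, ← Scheme.isoSpec_hom, Iso.hom_inv_id,
        Scheme.Hom.id_appTop]
    exact congrArg (fun g => (CommRingCat.Hom.hom g) (f.appTop r)) h5
  have h2 := congrArg η'.hom.hom (h X fun i => η'.inv (MvPolynomial.X i))
  rw [map_zero, MvPolynomial.eval₂_comp_left] at h2
  have h3 : MvPolynomial.map f.appTop.hom p = 0 :=
    map_eq_zero_of_eval p f.appTop.hom (η'.hom.hom.comp X.hom.appTop.hom) hcomp _ (fun i => η'.inv_hom_id_apply _) h2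
  have h4 := congrArg (MvPolynomial.coeff m) h3
  rwa [MvPolynomial.coeff_map, MvPolynomial.coeff_zero] at h4

end Groth.Agent.RootBase
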