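import Groth.Agent.RootBase.Twin
import Groth.Agent.RootBase.Compat

/-!
# The commutators of two pinned groups side by side, in the plane of two simple roots
-/

set_option autoImplicit false
set_option backward.isDefEq.respectTransparency false
set_option linter.style.haveILetI false
set_option maxHeartbeats 1000000
set_option synthInstance.maxHeartbeats 400000

universe u

open CategoryTheory Limits MonoidalCategory CartesianMonoidalCategory MonObj GrpObj AlgebraicGeometry LieS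
open scoped CategoryTheory.Obj

noncomputable section

namespace Groth.Agent.RootBase

open Groth.Agent.HomDiag Groth.Agent.DynPar Groth.Agent.RootSys Groth.Agent.MTBridge

variable {S : Scheme.{u}} {G G' : Over S} [GrpObj G] [GrpObj G'] {M : Type} [AddCommGroup M]
  {c : Red.DS S M ⟶ G} {c' : Red.DS S M ⟶ G'} {idx : Type} {P : RootPairing idx ℤ M (Module.Dual ℤ M)}
  {u : idx → (Red.Ga S ⟶ G)} {u' : idx → (Red.Ga S ⟶ G')}

/-- A commutator formula between root homomorphisms. -/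
def WFormula (V W : Red.Ga S ⟶ G) {n : ℕ} (Ve : Fin n → (Red.Ga S ⟶ G)) (i j : Fin n → ℕ)
    (C : Fin n → Γ(S, ⊤)) : Prop :=
  ∀ (X : Over S) (x y : X ⟶ Red.Ga S) (z : Fin n → (X ⟶ Red.Ga S)),
    (∀ k, Red.gaFn (z k) = X.hom.appTop (C k) * Red.gaFn x ^ (i k) * Red.gaFn y ^ (j k)) →
      word V W x y = (List.ofFn fun k => z k ≫ Ve k).prod

theorem WFormula.pair {V W : Red.Ga S ⟶ G ⊗ G'} {n : ℕ} {Ve : Fin n → (Red.Ga S ⟶ G ⊗ G')} {i j : Fin n → ℕ}
    {C : Fin n → Γ(S, ⊤)}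
    (h : WFormula (V ≫ fst G G') (W ≫ fst G G') (fun k => Ve k ≫ fst G G') i j C)
    (h' : WFormula (V ≫ snd G G') (W ≫ snd G G') (fun k => Ve k ≫ snd G G') i j C) : WFormula V W Ve i j C := by
  intro X x y z hz
  refine prod_ext ?_ ?_
  · rw [word_map, prod_comp, List.map_ofFn, h X x y z hz]
    simp [Function.comp_def]
  · rw [word_map, prod_comp, List.map_ofFn, h' X x y z hz]
    simp [Function.comp_def]

/-- The formula of a pair of formulas with the same coefficients. -/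
theorem WFormula.lift {V₁ W₁ : Red.Ga S ⟶ G} {V₁' W₁' : Red.Ga S ⟶ G'} {n : ℕ} {Ve : Fin n → (Red.Ga S ⟶ G)}
    {Ve' : Fin n → (Red.Ga S ⟶ G')} {i j : Fin n → ℕ} {C : Fin n → Γ(S, ⊤)} (h : WFormula V₁ W₁ Ve i j C)
    (h' : WFormula V₁' W₁' Ve' i j C) :
    WFormula (CartesianMonoidalCategory.lift V₁ V₁') (CartesianMonoidalCategory.lift W₁ W₁')
      (fun k => CartesianMonoidalCategory.lift (Ve k) (Ve' k)) i j C :=
  WFormula.pair (by simpa using h) (by simpa using h')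

theorem cj_lift (N : 𝟙_ (Over S) ⟶ G) (N' : 𝟙_ (Over S) ⟶ G') {X : Over S} (x : X ⟶ G) (x' : X ⟶ G') :
    cj (CartesianMonoidalCategory.lift N N') (CartesianMonoidalCategory.lift x x') =
      CartesianMonoidalCategory.lift (cj N x) (cj N' x') :=
  prod_ext (by simp [cj_map]) (by simp [cj_map])

theorem Formula.toW {vv : idx → (Red.Ga S ⟶ G)} {a b : idx} {n : ℕ} {e : Fin n → idx} {i j : Fin n → ℕ}
    {C : Fin n → Γ(S, ⊤)} (h : Formula P vv a b e i j C) {V W : Red.Ga S ⟶ G} {Ve : Fin n → (Red.Ga S ⟶ G)}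
    (ha : vv a = V) (hb : vv b = W) (he : ∀ k, vv (e k) = Ve k) : WFormula V W Ve i j C := by
  intro X x y z hz
  rw [← ha, ← hb, h.eq X x y z hz]
  simp only [he]

theorem WFormula.compat {v : idx → (Red.Ga S ⟶ G)} {r s : idx} {V W : Red.Ga S ⟶ G} {n : ℕ}
    {Ve : Fin n → (Red.Ga S ⟶ G)} {i j : Fin n → ℕ} {C : Fin n → Γ(S, ⊤)} (h : WFormula V W Ve i j C)
    (hr : SMove 1 V (v r)) (hs : SMove 1 W (v s)) (e : Fin n → idx)
    (he : ∀ k, e k ∈ mid P r s ∧ SMove 1 (Ve k) (v (e k))) : Compat P v r s := by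
  refine Compat.of_smove hr hs fun X x y => ?_
  rw [h X x y (fun k => BGaNotS.gaPt (X.hom.appTop (C k) * Red.gaFn x ^ i k * Red.gaFn y ^ j k))
    fun k => BGaNotS.gaFn_gaPt _]
  refine Subgroup.list_prod_mem _ fun g hg => ?_
  obtain ⟨k, rfl⟩ := List.mem_ofFn.1 hg
  exact mem_Gam_smove (he k).1 (he k).2 _

theorem word_of_exchange {va vb : Red.Ga S ⟶ G} [IsMonHom va] {X : Over S} {x y : X ⟶ Red.Ga S} {R : X ⟶ G}
    (h : (y ≫ vb) * (x⁻¹ ≫ va) = (x⁻¹ ≫ va) * (y ≫ vb) * R) : word va vb x y = R := by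
  have h' := (exchange (va := va) (vb := vb) x⁻¹ y).symm.trans h
  rw [ga_inv_inv] at h'
  exact mul_left_cancel h'

variable [Module.Free ℤ M] [Module.Finite ℤ M] [Fintype idx] [P.IsReduced]
  {a a' b b' : idx} {Na Nb : 𝟙_ (Over S) ⟶ G}

theorem a2_formula (F : Frame c P.root u) (hcor : ∀ x y, P.coroot x (P.root y) = P.pairing y x)
    (Wa : IsWeyl c P u a a' Na) (Wb : IsWeyl c P u b b' Nb)
    (hli : ∀ x y : ℤ, x • P.root a + y • P.root b = 0 → x = 0 ∧ y = 0)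
    (hbot : P.root b - P.root a ∉ Set.range P.root) (hba : P.pairing b a = -1) (hab : P.pairing a b = -1) :
    WFormula (u a) (u b) ![cj Nb (u a)] ![1] ![1] ![-1] := fun X x y z hz => by
  haveI := Wa.hua.1
  have h := (a2_core hcor F Wa Wb hli hbot hba hab).2 X x⁻¹ y (z 0) (by
    rw [hz, gaFn_inv]; simp [map_neg])
  rw [word_of_exchange h]
  simp [comp_cj]

theorem b2_formulas (F : Frame c P.root u) (hcor : ∀ x y, P.coroot x (P.root y) = P.pairing y x)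
    (Wa : IsWeyl c P u a a' Na) (Wb : IsWeyl c P u b b' Nb)
    (hli : ∀ x y : ℤ, x • P.root a + y • P.root b = 0 → x = 0 ∧ y = 0)
    (hbot : P.root b - P.root a ∉ Set.range P.root) (hba : P.pairing b a = -2) (hab : P.pairing a b = -1) :
    WFormula (u a) (u b) ![cj Nb (u a), cj Na (u b)] ![1, 2] ![1, 1] ![-1, 1] ∧
      WFormula (u a) (cj Nb (u a)) ![cj Na (u b)] ![1] ![1] ![-2] := by
  haveI := Wa.hua.1
  obtain ⟨f1, f2, -, -⟩ := b2_core F hcor Wa Wb hli hbot hba hab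
  refine ⟨fun X x y z hz => ?_, fun X x y z hz => ?_⟩
  · have h := f1 X x⁻¹ y (z 0) (z 1) (by rw [hz, gaFn_inv]; simp [map_neg]) (by rw [hz, gaFn_inv]; simp)
    rw [_root_.mul_assoc] at h
    rw [word_of_exchange h]
    simp [comp_cj, List.ofFn_succ]
  · have h := f2 X x⁻¹ y (z 0) (by rw [hz, gaFn_inv]; simp [map_neg, map_ofNat])
    rw [← comp_cj] at h
    rw [word_of_exchange h]
    simp [comp_cj]

theorem g2_formulas (F : Frame c P.root u) (hcor : ∀ x y, P.coroot x (P.root y) = P.pairing y x)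
    (Wa : IsWeyl c P u a a' Na) (Wb : IsWeyl c P u b b' Nb)
    (hli : ∀ x y : ℤ, x • P.root a + y • P.root b = 0 → x = 0 ∧ y = 0)
    (hbot : P.root b - P.root a ∉ Set.range P.root) (hba : P.pairing b a = -3) (hab : P.pairing a b = -1) :
    let V₁ := cj Nb (u a)
    let V₂ := cj Na V₁
    let V₃ := cj Na (u b)
    let V₄ := cj Nb V₃
    WFormula (u a) (u b) ![V₁, V₂, V₃, V₄] ![1, 2, 3, 3] ![1, 1, 1, 2] ![-1, 1, 1, 1] ∧
    WFormula (u a) V₁ ![V₂, V₃, V₄] ![1, 2, 1] ![1, 1, 2] ![-2, -3, 3] ∧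
    WFormula (u a) V₂ ![V₃] ![1] ![1] ![3] ∧
    WFormula (u b) V₃ ![V₄] ![1] ![1] ![1] ∧
    WFormula V₁ V₂ ![V₄] ![1] ![1] ![3] := by
  obtain ⟨v, r₁, r₂, r₃, r₄, H, va, vb, v1, v2, v3, v4⟩ := exists_g2 F hcor Wa Wb hli hbot hba hab
  obtain ⟨⟨C1, h1, rfl⟩, ⟨C2, h2, rfl⟩, ⟨C3, h3, rfl⟩, ⟨C4, h4, rfl⟩, ⟨C5, h5, rfl⟩⟩ := H.formulas
  exact ⟨h1.toW va vb fun k => by fin_cases k; exacts [v1, v2, v3, v4],
    h2.toW va v1 fun k => by fin_cases k; exacts [v2, v3, v4],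
    h3.toW va v2 fun k => by fin_cases k; exact v3,
    h4.toW vb v3 fun k => by fin_cases k; exact v4,
    h5.toW v1 v2 fun k => by fin_cases k; exact v4⟩

/-- The pairs of positive roots of type G₂ whose sum is a root. -/
theorem g2_sums {p q p' q' : ℕ}
    (h : p = 1 ∧ q = 0 ∨ p = 0 ∧ q = 1 ∨ p = 1 ∧ q = 1 ∨ p = 2 ∧ q = 1 ∨ p = 3 ∧ q = 1 ∨ p = 3 ∧ q = 2)
    (h' : p' = 1 ∧ q' = 0 ∨ p' = 0 ∧ q' = 1 ∨ p' = 1 ∧ q' = 1 ∨ p' = 2 ∧ q' = 1 ∨ p' = 3 ∧ q' = 1 ∨ p' = 3 ∧ q' = 2)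
    (hs : q + q' = 1 ∧ 1 ≤ p + p' ∧ p + p' ≤ 3 ∨ p + p' = 3 ∧ q + q' = 2) (hne : ¬(p = p' ∧ q = q')) :
    ((p = 1 ∧ q = 0) ∧ (p' = 0 ∧ q' = 1)) ∨ ((p' = 1 ∧ q' = 0) ∧ (p = 0 ∧ q = 1)) ∨
      ((p = 1 ∧ q = 0) ∧ (p' = 1 ∧ q' = 1)) ∨ ((p' = 1 ∧ q' = 0) ∧ (p = 1 ∧ q = 1)) ∨
      ((p = 1 ∧ q = 0) ∧ (p' = 2 ∧ q' = 1)) ∨ ((p' = 1 ∧ q' = 0) ∧ (p = 2 ∧ q = 1)) ∨
      ((p = 0 ∧ q = 1) ∧ (p' = 3 ∧ q' = 1)) ∨ ((p' = 0 ∧ q' = 1) ∧ (p = 3 ∧ q = 1)) ∨
      ((p = 1 ∧ q = 1) ∧ (p' = 2 ∧ q' = 1)) ∨ ((p' = 1 ∧ q' = 1) ∧ (p = 2 ∧ q = 1)) := by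
  rcases h with ⟨rfl, rfl⟩ | ⟨rfl, rfl⟩ | ⟨rfl, rfl⟩ | ⟨rfl, rfl⟩ | ⟨rfl, rfl⟩ | ⟨rfl, rfl⟩ <;>
    rcases h' with ⟨rfl, rfl⟩ | ⟨rfl, rfl⟩ | ⟨rfl, rfl⟩ | ⟨rfl, rfl⟩ | ⟨rfl, rfl⟩ | ⟨rfl, rfl⟩ <;>
    simp at hs hne ⊢

/-- The positive roots of the plane of two simple roots. -/
theorem plane_root (hli : ∀ x y : ℤ, x • P.root a + y • P.root b = 0 → x = 0 ∧ y = 0)
    (hbot : P.root b - P.root a ∉ Set.range P.root) {k : ℤ} (hk : k = 0 ∨ k = -1 ∨ k = -2 ∨ k = -3)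
    (hba : P.pairing b a = k) (hab : P.pairing a b = max k (-1)) {d : idx} {p q : ℕ}
    (hd : P.root d = (p : ℤ) • P.root a + (q : ℤ) • P.root b) :
    (p = 1 ∧ q = 0) ∨ (p = 0 ∧ q = 1) ∨ (q = 1 ∧ 1 ≤ p ∧ (p : ℤ) ≤ -k) ∨ (p = 3 ∧ q = 2 ∧ k = -3) := by
  by_cases hp : p = 0
  · subst hp
    rw [Nat.cast_zero, zero_smul, zero_add] at hd
    rcases Nat.lt_or_ge q 2 with hq | hq
    · refine Or.inr (Or.inl ⟨rfl, ?_⟩)
      by_contra h
      obtain rfl : q = 0 := by omega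
      exact P.ne_zero d (by rw [hd, Nat.cast_zero, zero_smul])
    · exact absurd hd (not_multiple P (by exact_mod_cast hq))
  by_cases hq : q = 0
  · subst hq
    rw [Nat.cast_zero, zero_smul, add_zero] at hd
    rcases Nat.lt_or_ge p 2 with hp' | hp'
    · exact Or.inl ⟨by omega, rfl⟩
    · exact absurd hd (not_multiple P (by exact_mod_cast hp'))
  rcases combos hli hbot hk hba hab (Nat.pos_of_ne_zero hp) (Nat.pos_of_ne_zero hq) hd with ⟨h1, h2⟩ | ⟨⟨h1, h2⟩, h3⟩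
  · exact Or.inr (Or.inr (Or.inl ⟨by omega, by omega, h2⟩))
  · exact Or.inr (Or.inr (Or.inr ⟨h1, h2, h3⟩))

variable [Nonempty S] {B : P.Base} {w : idx → (𝟙_ (Over S) ⟶ G)} {w' : idx → (𝟙_ (Over S) ⟶ G')}
  {v : idx → (Red.Ga S ⟶ G ⊗ G')}

/-- The commutator formulas of a plane, according to its type. -/
structure PlaneForms (P : RootPairing idx ℤ M (Module.Dual ℤ M)) (u : idx → (Red.Ga S ⟶ G)) (a b : idx)
    (Na Nb : 𝟙_ (Over S) ⟶ G) : Prop where
  one : P.pairing b a = -1 → P.pairing a b = -1 → WFormula (u a) (u b) ![cj Nb (u a)] ![1] ![1] ![-1]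
  two : P.pairing b a = -2 → P.pairing a b = -1 →
    WFormula (u a) (u b) ![cj Nb (u a), cj Na (u b)] ![1, 2] ![1, 1] ![-1, 1] ∧
      WFormula (u a) (cj Nb (u a)) ![cj Na (u b)] ![1] ![1] ![-2]
  three : P.pairing b a = -3 → P.pairing a b = -1 →
    let V₁ := cj Nb (u a)
    let V₂ := cj Na V₁
    let V₃ := cj Na (u b)
    let V₄ := cj Nb V₃
    WFormula (u a) (u b) ![V₁, V₂, V₃, V₄] ![1, 2, 3, 3] ![1, 1, 1, 2] ![-1, 1, 1, 1] ∧
    WFormula (u a) V₁ ![V₂, V₃, V₄] ![1, 2, 1] ![1, 1, 2] ![-2, -3, 3] ∧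
    WFormula (u a) V₂ ![V₃] ![1] ![1] ![3] ∧
    WFormula (u b) V₃ ![V₄] ![1] ![1] ![1] ∧
    WFormula V₁ V₂ ![V₄] ![1] ![1] ![3]

/-- The formulas hold in a frame. -/
theorem WeylSys.planeForms (H : WeylSys c P B u w) {a b : idx} (ha : a ∈ B.support) (hb : b ∈ B.support)
    (hl : ∀ x y : ℤ, x • P.root a + y • P.root b = 0 → x = 0 ∧ y = 0)
    (hbot : P.root b - P.root a ∉ Set.range P.root) : PlaneForms P u a b (w a) (w b) :=
  ⟨fun h h' => a2_formula H.frame H.cor (H.weyl a ha) (H.weyl b hb) hl hbot h h',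
    fun h h' => b2_formulas H.frame H.cor (H.weyl a ha) (H.weyl b hb) hl hbot h h',
    fun h h' => g2_formulas H.frame H.cor (H.weyl a ha) (H.weyl b hb) hl hbot h h'⟩

variable
  (D : ChevData (CartesianMonoidalCategory.lift c c') P B (fun r => CartesianMonoidalCategory.lift (u r) (u' r))
    (fun r => CartesianMonoidalCategory.lift (w r) (w' r)) v)

include D

omit [Nonempty S] in
/-- The roots of a plane and their homomorphisms up to sign. -/
theorem ChevData.step {V : Red.Ga S ⟶ G} {V' : Red.Ga S ⟶ G'} {x e : idx} (hx : x ∈ B.support)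
    (h : SMove 1 (CartesianMonoidalCategory.lift V V') (v e)) :
    SMove 1 (CartesianMonoidalCategory.lift (cj (w x) V) (cj (w' x) V')) (v (P.reflectionPerm x e)) := by
  rw [← cj_lift]
  exact SMove.unit_cj (by simpa using h.comp (D.move x hx e))

omit [Nonempty S] in
theorem ChevData.start {x : idx} (hx : x ∈ B.support) :
    SMove 1 (CartesianMonoidalCategory.lift (u x) (u' x)) (v x) := by
  rw [D.simple x hx]; exact SMove.one _

omit [Nonempty S] D in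
theorem inmid {a b x y t : idx} {px qx py qy pt qt : ℕ} (i j : ℕ)
    (h1 : P.root x = (px : ℤ) • P.root a + (qx : ℤ) • P.root b)
    (h2 : P.root y = (py : ℤ) • P.root a + (qy : ℤ) • P.root b)
    (h3 : P.root t = (pt : ℤ) • P.root a + (qt : ℤ) • P.root b) (hi : 1 ≤ i) (hj : 1 ≤ j)
    (e1 : i * px + j * py = pt) (e2 : i * qx + j * qy = qt) : t ∈ mid P x y := by
  refine ⟨i, j, hi, hj, ?_⟩
  rw [h1, h2, h3, ← e1, ← e2]; push_cast; module

section Plane

variable {a b : idx} (ha : a ∈ B.support) (hb : b ∈ B.support)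
  (hl : ∀ x y : ℤ, x • P.root a + y • P.root b = 0 → x = 0 ∧ y = 0)
  (hbot : P.root b - P.root a ∉ Set.range P.root) (hab : P.pairing a b = -1)
include ha hb hl hbot hab

theorem ChevData.plane_one (hba : P.pairing b a = -1) (f : PlaneForms P u a b (w a) (w b))
    (f' : PlaneForms P u' a b (w' a) (w' b)) : Compat P v a b := by
  have e₁ : P.root (P.reflectionPerm b a) = ((1 : ℕ) : ℤ) • P.root a + ((1 : ℕ) : ℤ) • P.root b := by
    rw [root_refl, hab]; push_cast; module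
  exact ((f.one hba hab).lift (f'.one hba hab)).compat
    (D.start ha) (D.start hb) ![P.reflectionPerm b a] fun k => by
      fin_cases k
      exact ⟨⟨1, 1, le_rfl, le_rfl, e₁⟩, D.step hb (D.start ha)⟩

theorem ChevData.plane_two (hba : P.pairing b a = -2) (f : PlaneForms P u a b (w a) (w b))
    (f' : PlaneForms P u' a b (w' a) (w' b)) :
    Compat P v a b ∧ Compat P v a (P.reflectionPerm b a) := by
  have ea : P.root a = ((1 : ℕ) : ℤ) • P.root a + ((0 : ℕ) : ℤ) • P.root b := by push_cast; module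
  have e₁ : P.root (P.reflectionPerm b a) = ((1 : ℕ) : ℤ) • P.root a + ((1 : ℕ) : ℤ) • P.root b := by
    rw [root_refl, hab]; push_cast; module
  have e₃ : P.root (P.reflectionPerm a b) = ((2 : ℕ) : ℤ) • P.root a + ((1 : ℕ) : ℤ) • P.root b := by
    rw [root_refl, hba]; push_cast; module
  have m1 := D.step hb (D.start ha)
  have m3 := D.step ha (D.start hb)
  obtain ⟨f1, f2⟩ := f.two hba hab
  obtain ⟨f1', f2'⟩ := f'.two hba hab
  refine ⟨(f1.lift f1').compat (D.start ha) (D.start hb) ![P.reflectionPerm b a, P.reflectionPerm a b]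
    fun k => ?_, (f2.lift f2').compat (D.start ha) m1 ![P.reflectionPerm a b] fun k => ?_⟩
  · fin_cases k
    exacts [⟨⟨1, 1, le_rfl, le_rfl, e₁⟩, m1⟩, ⟨⟨2, 1, by omega, le_rfl, e₃⟩, m3⟩]
  · fin_cases k
    exact ⟨inmid 1 1 ea e₁ e₃ le_rfl le_rfl rfl rfl, m3⟩

theorem ChevData.plane_three (hba : P.pairing b a = -3) (f : PlaneForms P u a b (w a) (w b))
    (f' : PlaneForms P u' a b (w' a) (w' b)) :
    let c₁ := P.reflectionPerm b a
    let c₂ := P.reflectionPerm a c₁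
    let c₃ := P.reflectionPerm a b
    Compat P v a b ∧ Compat P v a c₁ ∧ Compat P v a c₂ ∧ Compat P v b c₃ ∧ Compat P v c₁ c₂ := by
  intro c₁ c₂ c₃
  let c₄ := P.reflectionPerm b c₃
  have ea : P.root a = ((1 : ℕ) : ℤ) • P.root a + ((0 : ℕ) : ℤ) • P.root b := by push_cast; module
  have eb : P.root b = ((0 : ℕ) : ℤ) • P.root a + ((1 : ℕ) : ℤ) • P.root b := by push_cast; module
  have e₁ : P.root c₁ = ((1 : ℕ) : ℤ) • P.root a + ((1 : ℕ) : ℤ) • P.root b := by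
    rw [show c₁ = P.reflectionPerm b a from rfl, root_refl, hab]; push_cast; module
  have e₂ : P.root c₂ = ((2 : ℕ) : ℤ) • P.root a + ((1 : ℕ) : ℤ) • P.root b := by
    rw [show c₂ = P.reflectionPerm a c₁ from rfl, root_refl, pairing_root_combo e₁, P.pairing_same, hba, e₁]
    push_cast; module
  have e₃ : P.root c₃ = ((3 : ℕ) : ℤ) • P.root a + ((1 : ℕ) : ℤ) • P.root b := by
    rw [show c₃ = P.reflectionPerm a b from rfl, root_refl, hba]; push_cast; module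
  have e₄ : P.root c₄ = ((3 : ℕ) : ℤ) • P.root a + ((2 : ℕ) : ℤ) • P.root b := by
    rw [show c₄ = P.reflectionPerm b c₃ from rfl, root_refl, pairing_root_combo e₃, P.pairing_same, hab, e₃]
    push_cast; module
  have sa := D.start ha
  have sb := D.start hb
  have m1 : SMove 1 _ (v c₁) := D.step hb sa
  have m2 : SMove 1 _ (v c₂) := D.step ha m1
  have m3 : SMove 1 _ (v c₃) := D.step ha sb
  have m4 : SMove 1 _ (v c₄) := D.step hb m3
  obtain ⟨f1, f2, f3, f4, f5⟩ := f.three hba hab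
  obtain ⟨f1', f2', f3', f4', f5'⟩ := f'.three hba hab
  refine ⟨(f1.lift f1').compat sa sb ![c₁, c₂, c₃, c₄] fun k => ?_,
    (f2.lift f2').compat sa m1 ![c₂, c₃, c₄] fun k => ?_,
    (f3.lift f3').compat sa m2 ![c₃] fun k => ?_,
    (f4.lift f4').compat sb m3 ![c₄] fun k => ?_,
    (f5.lift f5').compat m1 m2 ![c₄] fun k => ?_⟩
  · fin_cases k
    exacts [⟨inmid 1 1 ea eb e₁ le_rfl le_rfl rfl rfl, m1⟩,
      ⟨inmid 2 1 ea eb e₂ one_le_two le_rfl rfl rfl, m2⟩,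
      ⟨inmid 3 1 ea eb e₃ (by omega) le_rfl rfl rfl, m3⟩,
      ⟨inmid 3 2 ea eb e₄ (by omega) (by omega) rfl rfl, m4⟩]
  · fin_cases k
    exacts [⟨inmid 1 1 ea e₁ e₂ le_rfl le_rfl rfl rfl, m2⟩, ⟨inmid 2 1 ea e₁ e₃ one_le_two le_rfl rfl rfl, m3⟩,
      ⟨inmid 1 2 ea e₁ e₄ le_rfl one_le_two rfl rfl, m4⟩]
  · fin_cases k; exact ⟨inmid 1 1 ea e₂ e₃ le_rfl le_rfl rfl rfl, m3⟩
  · fin_cases k; exact ⟨inmid 1 1 eb e₃ e₄ le_rfl le_rfl rfl rfl, m4⟩
  · fin_cases k; exact ⟨inmid 1 1 e₁ e₂ e₄ le_rfl le_rfl rfl rfl, m4⟩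

omit ha hb hl hbot hab in
/-- The plane of two simple roots in one orientation. -/
theorem ChevData.base_oriented {a b : idx} (ha : a ∈ B.support) (hb : b ∈ B.support) (hab : a ≠ b) {k : ℤ}
    (hk : k = 0 ∨ k = -1 ∨ k = -2 ∨ k = -3) (hba : P.pairing b a = k) (hab' : P.pairing a b = max k (-1))
    (r s : idx) (hr : ∃ p q : ℕ, P.root r = (p : ℤ) • P.root a + (q : ℤ) • P.root b)
    (hs : ∃ p q : ℕ, P.root s = (p : ℤ) • P.root a + (q : ℤ) • P.root b)
    (hli : ∀ x y : ℤ, x • P.root r + y • P.root s = 0 → x = 0 ∧ y = 0)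
    (f : PlaneForms P u a b (w a) (w b)) (f' : PlaneForms P u' a b (w' a) (w' b))
    (hcomm : P.root r + P.root s ∉ Set.range P.root → Compat P v r s) : Compat P v r s := by
  obtain ⟨hl, hbot, -⟩ := simple_pair B ha hb hab
  by_cases hsum : P.root r + P.root s ∈ Set.range P.root
  swap
  · exact hcomm hsum
  obtain ⟨d, hd⟩ := hsum
  obtain ⟨p, q, hr⟩ := hr
  obtain ⟨p', q', hs⟩ := hs
  have hd' : P.root d = ((p + p' : ℕ) : ℤ) • P.root a + ((q + q' : ℕ) : ℤ) • P.root b := by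
    rw [hd, hr, hs]; push_cast; module
  have o1 := plane_root hl hbot hk hba hab' hr
  have o2 := plane_root hl hbot hk hba hab' hs
  have o3 := plane_root hl hbot hk hba hab' hd'
  have hne : ¬(p = p' ∧ q = q') := fun ⟨h1, h2⟩ => by
    obtain ⟨h3, -⟩ := hli 1 (-1) (by rw [hr, hs, h1, h2]; module)
    omega
  have fn : ∀ {t x : idx} {pt qt px qx : ℕ}, P.root t = (pt : ℤ) • P.root a + (qt : ℤ) • P.root b →
      P.root x = (px : ℤ) • P.root a + (qx : ℤ) • P.root b → pt = px ∧ qt = qx → t = x :=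
    fun h h' ⟨e1, e2⟩ => P.root.injective (by rw [h, h', e1, e2])
  have ea : P.root a = ((1 : ℕ) : ℤ) • P.root a + ((0 : ℕ) : ℤ) • P.root b := by push_cast; module
  have eb : P.root b = ((0 : ℕ) : ℤ) • P.root a + ((1 : ℕ) : ℤ) • P.root b := by push_cast; module
  by_cases hk0 : k = 0
  · exfalso; subst hk0; omega
  have hm : P.pairing a b = -1 := by omega
  have e₁ : P.root (P.reflectionPerm b a) = ((1 : ℕ) : ℤ) • P.root a + ((1 : ℕ) : ℤ) • P.root b := by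
    rw [root_refl, hm]; push_cast; module
  have wlog2 : ∀ {p q p' q' : ℕ}, ((p = 1 ∧ q = 0) ∧ (p' = 0 ∧ q' = 1)) → ∀ {r s : idx},
      P.root r = (p : ℤ) • P.root a + (q : ℤ) • P.root b → P.root s = (p' : ℤ) • P.root a + (q' : ℤ) • P.root b →
      r = a ∧ s = b := fun ⟨h1, h2⟩ _ _ hr hs => ⟨fn hr ea h1, fn hs eb h2⟩
  rcases hk with rfl | rfl | rfl | rfl
  · omega
  · have key := D.plane_one ha hb hl hbot hm hba f f'
    obtain h | h : ((p = 1 ∧ q = 0) ∧ (p' = 0 ∧ q' = 1)) ∨ ((p' = 1 ∧ q' = 0) ∧ (p = 0 ∧ q = 1)) := by omega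
    · obtain ⟨rfl, rfl⟩ := wlog2 h hr hs; exact key
    · obtain ⟨rfl, rfl⟩ := wlog2 h hs hr; exact D.compat_symm key
  · obtain ⟨key1, key2⟩ := D.plane_two ha hb hl hbot hm hba f f'
    obtain h | h | ⟨h1, h2⟩ | ⟨h1, h2⟩ :
        ((p = 1 ∧ q = 0) ∧ (p' = 0 ∧ q' = 1)) ∨ ((p' = 1 ∧ q' = 0) ∧ (p = 0 ∧ q = 1)) ∨
        ((p = 1 ∧ q = 0) ∧ (p' = 1 ∧ q' = 1)) ∨ ((p' = 1 ∧ q' = 0) ∧ (p = 1 ∧ q = 1)) := by omega
    · obtain ⟨rfl, rfl⟩ := wlog2 h hr hs; exact key1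
    · obtain ⟨rfl, rfl⟩ := wlog2 h hs hr; exact D.compat_symm key1
    · rw [fn hr ea h1, fn hs e₁ h2]; exact key2
    · rw [fn hs ea h1, fn hr e₁ h2]; exact D.compat_symm key2
  · obtain ⟨key1, key2, key3, key4, key5⟩ := D.plane_three ha hb hl hbot hm hba f f'
    have e₂ : P.root (P.reflectionPerm a (P.reflectionPerm b a)) =
        ((2 : ℕ) : ℤ) • P.root a + ((1 : ℕ) : ℤ) • P.root b := by
      rw [root_refl, pairing_root_combo e₁, P.pairing_same, hba, e₁]; push_cast; module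
    have e₃ : P.root (P.reflectionPerm a b) = ((3 : ℕ) : ℤ) • P.root a + ((1 : ℕ) : ℤ) • P.root b := by
      rw [root_refl, hba]; push_cast; module
    obtain h | h | ⟨h1, h2⟩ | ⟨h1, h2⟩ | ⟨h1, h2⟩ | ⟨h1, h2⟩ | ⟨h1, h2⟩ | ⟨h1, h2⟩ | ⟨h1, h2⟩ | ⟨h1, h2⟩ :=
      g2_sums (p := p) (q := q) (p' := p') (q' := q') (by clear o2 o3; omega) (by clear o1 o3; omega)
        (by omega) hne
    · obtain ⟨rfl, rfl⟩ := wlog2 h hr hs; exact key1
    · obtain ⟨rfl, rfl⟩ := wlog2 h hs hr; exact D.compat_symm key1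
    · rw [fn hr ea h1, fn hs e₁ h2]; exact key2
    · rw [fn hs ea h1, fn hr e₁ h2]; exact D.compat_symm key2
    · rw [fn hr ea h1, fn hs e₂ h2]; exact key3
    · rw [fn hs ea h1, fn hr e₂ h2]; exact D.compat_symm key3
    · rw [fn hr eb h1, fn hs e₃ h2]; exact key4
    · rw [fn hs eb h1, fn hr e₃ h2]; exact D.compat_symm key4
    · rw [fn hr e₁ h1, fn hs e₂ h2]; exact key5
    · rw [fn hs e₁ h1, fn hr e₂ h2]; exact D.compat_symm key5

omit ha hb hl hbot hab in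
/-- **All commutators from the formulas in the planes of two simple roots.** -/
theorem ChevData.compat_all_of
    (hf : ∀ a ∈ B.support, ∀ b ∈ B.support, a ≠ b → PlaneForms P u a b (w a) (w b))
    (hf' : ∀ a ∈ B.support, ∀ b ∈ B.support, a ≠ b → PlaneForms P u' a b (w' a) (w' b))
    (hcomm : ∀ a ∈ B.support, ∀ b ∈ B.support, a ≠ b → ∀ r s : idx,
      (∃ p q : ℕ, P.root r = (p : ℤ) • P.root a + (q : ℤ) • P.root b) →
      (∃ p q : ℕ, P.root s = (p : ℤ) • P.root a + (q : ℤ) • P.root b) →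
      (∀ x y : ℤ, x • P.root r + y • P.root s = 0 → x = 0 ∧ y = 0) →
      P.root r + P.root s ∉ Set.range P.root → Compat P v r s)
    (r s : idx) (hli : ∀ x y : ℤ, x • P.root r + y • P.root s = 0 → x = 0 ∧ y = 0) : Compat P v r s := by
  refine D.compat_of_base (fun a ha b hb hab r s hr hs hl => ?_) r s hli
  have hc := hcomm a ha b hb hab r s hr hs hl
  have swap : ∀ {t : idx}, (∃ p q : ℕ, P.root t = (p : ℤ) • P.root a + (q : ℤ) • P.root b) →
      ∃ p q : ℕ, P.root t = (p : ℤ) • P.root b + (q : ℤ) • P.root a := fun ⟨p, q, e⟩ => ⟨q, p, by rw [e, add_comm]⟩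
  obtain ⟨hl0, hbot, -⟩ := simple_pair B ha hb hab
  have f := hf a ha b hb hab
  have f' := hf' a ha b hb hab
  have g := hf b hb a ha hab.symm
  have g' := hf' b hb a ha hab.symm
  rcases pairing_simple hl0 hbot with ⟨h, h'⟩ | ⟨h, h'⟩ | ⟨h, h'⟩ | ⟨h, h'⟩ | ⟨h, h'⟩ | ⟨h, h'⟩
  · exact D.base_oriented ha hb hab (Or.inl rfl) h (by rw [h']; rfl) r s hr hs hl f f' hc
  · exact D.base_oriented ha hb hab (Or.inr (Or.inl rfl)) h (by rw [h']; rfl) r s hr hs hl f f' hc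
  · exact D.base_oriented ha hb hab (Or.inr (Or.inr (Or.inl rfl))) h (by rw [h']; rfl) r s hr hs hl f f' hc
  · exact D.base_oriented hb ha hab.symm (Or.inr (Or.inr (Or.inl rfl))) h' (by rw [h]; rfl) r s (swap hr) (swap hs)
      hl g g' hc
  · exact D.base_oriented ha hb hab (Or.inr (Or.inr (Or.inr rfl))) h (by rw [h']; rfl) r s hr hs hl f f' hc
  · exact D.base_oriented hb ha hab.symm (Or.inr (Or.inr (Or.inr rfl))) h' (by rw [h]; rfl) r s (swap hr) (swap hs)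
      hl g g' hc

end Plane

section Twin

variable (H : WeylSys c P B u w) (H' : WeylSys c' P B u' w')

omit [Nonempty S] in
include H H' in
/-- The first components form a frame. -/
theorem ChevData.frame_fst : Frame c P.root fun r => v r ≫ fst G G' := by
  refine ⟨H.frame.hG, H.frame.hc, H.frame.inj, H.frame.ne, fun r => ?_, H.frame.hdim⟩
  obtain ⟨l, a, hl, ha, rfl, e⟩ := D.form r
  haveI := H.hc
  have h := H.toWeylCore.rootHom_word (H.weyl a ha).hua l hl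
  rw [show v _ ≫ fst G G' = cj (l.map w).prod (u a) by
    rw [e, cj_map, list_map_prod, lift_fst]; simp only [lift_fst]]
  exact h

omit [Nonempty S] in
include H H' in
/-- The second components form a frame. -/
theorem ChevData.frame_snd : Frame c' P.root fun r => v r ≫ snd G G' := by
  refine ⟨H'.frame.hG, H'.frame.hc, H'.frame.inj, H'.frame.ne, fun r => ?_, H'.frame.hdim⟩
  obtain ⟨l, a, hl, ha, rfl, e⟩ := D.form r
  haveI := H'.hc
  have h := H'.toWeylCore.rootHom_word (H'.weyl a ha).hua l hl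
  rw [show v _ ≫ snd G G' = cj (l.map w').prod (u' a) by
    rw [e, cj_map, list_map_prod, lift_snd]; simp only [lift_snd]]
  exact h

omit [Nonempty S] in
include H H' in
theorem ChevData.commute_pair {r s : idx} (hli : ∀ x y : ℤ, x • P.root r + y • P.root s = 0 → x = 0 ∧ y = 0)
    (h : P.root r + P.root s ∉ Set.range P.root) : Compat P v r s :=
  Compat.of_commute fun X x y => prod_ext
    (by simpa [MonObj.mul_comp] using (D.frame_fst H H').commute hli h x y)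
    (by simpa [MonObj.mul_comp] using (D.frame_snd H H').commute hli h x y)

include H H' in
/-- **All commutators of two pinned groups side by side.** -/
theorem ChevData.compat_all (r s : idx) (hli : ∀ x y : ℤ, x • P.root r + y • P.root s = 0 → x = 0 ∧ y = 0) :
    Compat P v r s :=
  D.compat_all_of
    (fun a ha b hb hab => H.planeForms ha hb (simple_pair B ha hb hab).1 (simple_pair B ha hb hab).2.1)
    (fun a ha b hb hab => H'.planeForms ha hb (simple_pair B ha hb hab).1 (simple_pair B ha hb hab).2.1)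
    (fun _ _ _ _ _ r s _ _ hl h => D.commute_pair H H' hl h) r s hli

end Twin

end Groth.Agent.RootBase
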