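import Groth.Agent.RootBase.Graph
import Groth.Agent.RootBase.TwinBase

/-!
# The isomorphism theorem for pinned groups
-/

set_option autoImplicit false
set_option backward.isDefEq.respectTransparency false
set_option linter.style.haveILetI false
set_option maxHeartbeats 1000000
set_option synthInstance.maxHeartbeats 400000

universe u

open CategoryTheory Limits MonoidalCategory CartesianMonoidalCategory MonObj GrpObj AlgebraicGeometry LieS
open scoped CategoryTheory.Obj

noncomputable section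

namespace Groth.Agent.RootBase

open Groth.Agent.HomDiag Groth.Agent.DynPar Groth.Agent.RootSys Groth.Agent.MTBridge

variable {S : Scheme.{u}} {G G' : Over S} [GrpObj G] [GrpObj G'] {M : Type} [AddCommGroup M]
  {c : Red.DS S M ⟶ G} {c' : Red.DS S M ⟶ G'} {idx : Type} {P : RootPairing idx ℤ M (Module.Dual ℤ M)}
  {u : idx → (Red.Ga S ⟶ G)} {u' : idx → (Red.Ga S ⟶ G')}

/-- A pair of dual relations gives the relation in the product. -/
theorem RankRel.lift {φ : M →+ ℤ} {v v' : Red.Ga S ⟶ G} {q q' : Red.Ga S ⟶ G'} (h : RankRel c φ v v')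
    (h' : RankRel c' φ q q') :
    RankRel (CartesianMonoidalCategory.lift c c') φ (CartesianMonoidalCategory.lift v q)
      (CartesianMonoidalCategory.lift v' q') := by
  intro X x y hxy
  obtain ⟨x', y', z, h1, h2, h3, h4⟩ := h X x y hxy
  obtain ⟨x'', y'', z', e1, e2, e3, e4⟩ := h' X x y hxy
  obtain rfl : z' = z := gmFn_inj (e1.trans h1.symm)
  have hu : IsUnit (Red.gmFn z') := h1 ▸ hxy
  obtain rfl : x'' = x' := BGaNotS.gaPt_ext (hu.mul_right_cancel (e2.trans h2.symm))
  obtain rfl : y'' = y' := BGaNotS.gaPt_ext (hu.mul_right_cancel (e3.trans h3.symm))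
  refine ⟨x'', y'', z', h1, h2, h3, prod_ext ?_ ?_⟩
  · simpa [MonObj.mul_comp] using h4
  · simpa [MonObj.mul_comp] using e4

variable [Module.Free ℤ M] [Module.Finite ℤ M] [Fintype idx]

/-- Elements inducing the reflections. -/
def HasRefl (c : Red.DS S M ⟶ G) (P : RootPairing idx ℤ M (Module.Dual ℤ M)) : Prop :=
  ∀ a, ∃ N : 𝟙_ (Over S) ⟶ G, ∀ (X : Over S) (t : X ⟶ Red.DS S M),
    cj N (t ≫ c) = refl (P.root a) (P.coroot a).toAddMonoidHom t ≫ c

omit [Fintype idx] [Module.Free ℤ M] [Module.Finite ℤ M] in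
theorem hasRefl_of_splitRed (D : Red.SplitRed G) :
    letI := D.grpT
    letI := D.acgM
    HasRefl (D.split.inv.hom.hom ≫ D.i) D.P := by
  letI := D.grpT
  letI := D.acgM
  intro a
  obtain ⟨N, hN⟩ := D.refl a
  have hinv : D.split.inv.hom.hom ≫ D.split.hom.hom.hom = 𝟙 _ := congrArg (fun z => z.hom.hom) D.split.inv_hom_id
  refine ⟨N, fun X t => ?_⟩
  have h := hN X (t ≫ D.split.inv.hom.hom)
  simp only [Category.assoc, reassoc_of% hinv] at h
  rw [cj, h, ← Category.assoc]
  congr 1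
  refine HomDiag.ch_ext fun m => ?_
  obtain ⟨m, rfl⟩ : ∃ k : D.M, Multiplicative.ofAdd k = m := ⟨m.toAdd, rfl⟩
  rw [HomDiag.ch_DSmap, toAdd_ofAdd, ch_refl]
  congr 2
  show D.P.reflection a m = m - D.P.coroot a m • D.P.root a
  rw [D.P.reflection_apply]
  show m - D.P.toLinearMap m (D.P.coroot a) • D.P.root a = _
  rw [D.pairing_eq]
  rfl

/-- The Weyl element of two dual root homomorphisms. -/
theorem weyl_of_rankRel (F : Frame c P.root u) {a a' : idx} (hopp : P.root a' = -P.root a)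
    (htwo : P.coroot a (P.root a) = 2) (hcor' : ∀ m, P.coroot a' m = -P.coroot a m)
    (hrel : RankRel c (P.coroot a).toAddMonoidHom (u a) (u a')) :
    IsWeyl c P u a a' ((eOne _ ≫ u a) * (eC _ (-1) ≫ u a') * (eOne _ ≫ u a)) := by
  haveI := F.hc.1
  haveI := (F.hu a).1
  haveI := (F.hu a').1
  let av := Red.DSmap S (P.coroot a).toAddMonoidHom
  haveI : IsMonHom (Red.chi S (P.root a)) := MTQuot.isMonHom_DSmap _
  haveI : IsMonHom av := MTQuot.isMonHom_DSmap _
  have h2 : av ≫ Red.chi S (P.root a) = (𝟙 (Red.Gm S)) ^ 2 := gmFn_inj (by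
    rw [pow_two, gmFn_mul', RootIntrinsic.gmFn_chi, RootIntrinsic.gmFn_eq_ch, ← map_mul,
      show av = 𝟙 _ ≫ Red.DSmap S (P.coroot a).toAddMonoidHom from (Category.id_comp _).symm, ch_DSmap,
      toAdd_ofAdd, LinearMap.toAddMonoidHom_coe, htwo]
    rfl)
  have s : RedR1.Sys c (Red.chi S (P.root a)) (u a) (u a') av :=
    ⟨F.hc.1, inferInstance, (F.hu a).1, (F.hu a').1, inferInstance, h2, (F.hu a).2.2, fun X t y => by
      obtain ⟨y', hy, hy'⟩ := (F.hu a').2.2 X t y
      refine ⟨y', hy, ?_⟩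
      rw [hy', hopp, RootIntrinsic.gmFn_chi, RootIntrinsic.gmFn_chi, _root_.mul_right_comm, ← map_mul,
        ← ofAdd_add, neg_add_cancel]
      show (ch t) 1 * _ = _
      rw [map_one, _root_.one_mul], fun X x y hxy => by
      obtain ⟨x', y', z, h1, h2, h3, h4⟩ := hrel X x y hxy
      exact ⟨x', y', z, h1, h2, h3, by rw [h4]⟩⟩
  let N := (eOne (𝟙_ (Over S)) ≫ u a) * (eC _ (-1) ≫ u a') * (eOne _ ≫ u a)
  have hwX : ∀ X : Over S, toUnit X ≫ N = (s.calc' X).w 1 := fun X => by
    rw [show N = (eOne (𝟙_ (Over S)) ≫ u a) * (eC _ (-1) ≫ u a') * (eOne _ ≫ u a) from rfl,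
      MonObj.comp_mul, MonObj.comp_mul, ← Category.assoc, ← Category.assoc, eOne_comp, eC_comp]
    refine s.calc'_w _ _ 1 ?_ ?_
    · rw [eOne, BGaNotS.gaFn_gaPt, Units.val_one]
    · rw [eC, BGaNotS.gaFn_gaPt, map_neg, map_one, inv_one, Units.val_one]
  refine ⟨F.hc.1, F.hu a, F.hu a', hcor', hopp, htwo, rfl, fun X x => ?_, fun X t => ?_, ?_⟩
  · rw [cj, hwX, s.calc'_P x rfl, s.w_conj_P, ← s.calc'_M x⁻¹]
    rw [gaFn_inv, inv_one, Units.val_one, _root_.mul_one, _root_.mul_one]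
  · rw [cj, hwX, (s.calc' X).w_conj (a := RedR1.Sys.rt (Red.chi S (P.root a)) t) (fun b => s.conj_P t b)
      (fun b => s.conj_M t b), refl, MonObj.mul_comp, GrpObj.inv_comp]
    congr 2
    simp only [Category.assoc]
    rw [← Category.assoc t (Red.chi S (P.root a))]
    exact (s.calc'_H (t ≫ Red.chi S (P.root a)) rfl).symm
  · have h := hwX (𝟙_ (Over S))
    rw [toUnit_unique (toUnit (𝟙_ (Over S))) (𝟙 _), Category.id_comp] at h
    show N * N = _
    rw [h, (s.calc' _).w_sq, cpt]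
    exact (s.calc'_H gmNeg (v := -1) (by rw [gmNeg, GmPts.gmFn_ptOfUnit])).symm

variable [P.IsReduced] [Nonempty S] {B : P.Base}

omit [P.IsReduced] in
/-- The rank-one data at a simple root. -/
theorem exists_rankOne_simple (F : Frame c P.root u) (B : P.Base) {a : idx} (ha : a ∈ B.support) :
    ∃ (mu : M →+ ℤ) (p q : ℕ) (en : Fin p → idx) (ep : Fin q → idx) (Z : Over S) (_ : GrpObj Z),
      (∀ b, mu (P.root b) ≠ 0) ∧ IsOpenImmersion (cellC c (fun l => u (en l)) (fun l => u (ep l))).left ∧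
      Nonempty (RankOne c (P.root a) (u a) (u (P.reflectionPerm a a))
        (cellC c (fun l => u (en l)) (fun l => u (ep l))) Z) := by
  classical
  obtain ⟨mu, hpB, -, hmu⟩ := exists_pos_hom P B
  obtain ⟨p, en, -, hn⟩ := exists_extend {r | 0 < (-mu) (P.root r)} (Fin.elim0 : Fin 0 → idx) (fun x => x.elim0)
    fun k => k.elim0
  obtain ⟨q, ep, -, hp⟩ := exists_extend {r | 0 < mu (P.root r)} (Fin.elim0 : Fin 0 → idx) (fun x => x.elim0)
    fun k => k.elim0
  have hpos : 0 < mu (P.root a) := (hpB a).2 (AddSubmonoid.subset_closure ⟨a, ha, rfl⟩)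
  obtain ⟨Z, iZ, hR⟩ := F.exists_rankOne (a := a) (a' := P.reflectionPerm a a) (root_opp P a) mu hmu hpos _ _ hn hp
  exact ⟨mu, _, _, _, _, Z, iZ, hmu, (F.cell mu hmu _ _ _ _ hn hp hn hp).1, hR⟩

variable (hcor : ∀ x y, P.coroot x (P.root y) = P.pairing y x)
include hcor

omit [P.IsReduced] in
/-- The dual is determined. -/
theorem dual_eq (F : Frame c P.root u) {a : idx} (ha : a ∈ B.support)
    (hF : RankRel c (P.coroot a).toAddMonoidHom (u a) (u (P.reflectionPerm a a))) {d : Red.Ga S ⟶ G}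
    (hd : Red.IsRootHom c (Red.chi S (P.root (P.reflectionPerm a a))) d)
    (hFd : RankRel c (P.coroot a).toAddMonoidHom (u a) d) : d = u (P.reflectionPerm a a) := by
  obtain ⟨mu, p, q, en, ep, Z, _, hmu, ho, ⟨R⟩⟩ := exists_rankOne_simple F B ha
  exact R.dual_unique F (root_opp P a) (P.coroot a).toAddMonoidHom
    (by rw [LinearMap.toAddMonoidHom_coe, hcor, P.pairing_same]) hF hd hFd

/-- **A pinning can be completed by duals.** -/
theorem exists_dualised (F : Frame c P.root u) (hR : HasRefl c P) (B : P.Base) :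
    ∃ (u₁ : idx → (Red.Ga S ⟶ G)) (w : idx → (𝟙_ (Over S) ⟶ G)), WeylSys c P B u₁ w ∧
      (∀ a ∈ B.support, u₁ a = u a) ∧
      ∀ a ∈ B.support, RankRel c (P.coroot a).toAddMonoidHom (u₁ a) (u₁ (P.reflectionPerm a a)) := by
  classical
  have htwo : ∀ a, (P.coroot a).toAddMonoidHom (P.root a) = 2 := fun a => by
    rw [LinearMap.toAddMonoidHom_coe, hcor, P.pairing_same]
  have hd : ∀ a, ∃ d : Red.Ga S ⟶ G, a ∈ B.support →
      Red.IsRootHom c (Red.chi S (P.root (P.reflectionPerm a a))) d ∧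
        RankRel c (P.coroot a).toAddMonoidHom (u a) d := fun a => by
    by_cases ha : a ∈ B.support
    · obtain ⟨mu, p, q, en, ep, Z, _, hmu, ho, ⟨R⟩⟩ := exists_rankOne_simple F B ha
      obtain ⟨N, hN⟩ := hR a
      obtain ⟨d, h1, h2⟩ := R.exists_dual F ho mu hmu _ (htwo a) N hN (root_opp P a)
      exact ⟨d, fun _ => ⟨h1, h2⟩⟩
    · exact ⟨u a, fun h => absurd h ha⟩
  choose d hd using hd
  have hinv : ∀ a, P.reflectionPerm (P.reflectionPerm a a) (P.reflectionPerm a a) = a := fun a =>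
    P.root.injective (by rw [root_opp, root_opp, neg_neg])
  have hnot : ∀ a ∈ B.support, P.reflectionPerm a a ∉ B.support := fun a ha h =>
    (RootPairing.Base.IsPos.neg_iff_not B a).1 (RootPairing.Base.isPos_of_mem_support h)
      (RootPairing.Base.isPos_of_mem_support ha)
  let u₁ : idx → (Red.Ga S ⟶ G) := fun r =>
    if P.reflectionPerm r r ∈ B.support then d (P.reflectionPerm r r) else u r
  have h1 : ∀ a ∈ B.support, u₁ a = u a := fun a ha => if_neg (hnot a ha)
  have h2 : ∀ a ∈ B.support, u₁ (P.reflectionPerm a a) = d a := fun a ha => by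
    simp only [u₁, hinv, if_pos ha]
  have F₁ : Frame c P.root u₁ := ⟨F.hG, F.hc, F.inj, F.ne, fun r => by
    by_cases hr : P.reflectionPerm r r ∈ B.support
    · have h := (hd _ hr).1
      rw [hinv] at h
      simp only [u₁, if_pos hr]
      exact h
    · simp only [u₁, if_neg hr]; exact F.hu r, F.hdim⟩
  have hrel : ∀ a ∈ B.support, RankRel c (P.coroot a).toAddMonoidHom (u₁ a) (u₁ (P.reflectionPerm a a)) :=
    fun a ha => by rw [h1 a ha, h2 a ha]; exact (hd a ha).2
  exact ⟨u₁, fun a => (eOne _ ≫ u₁ a) * (eC _ (-1) ≫ u₁ (P.reflectionPerm a a)) * (eOne _ ≫ u₁ a),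
    weylSys_of_frame F₁ hcor fun a ha => weyl_of_rankRel F₁ (root_opp P a) (htwo a)
      (fun m => by rw [coroot_refl_self]; rfl) (hrel a ha), h1, hrel⟩

omit hcor

variable {w : idx → (𝟙_ (Over S) ⟶ G)} {w' : idx → (𝟙_ (Over S) ⟶ G')}

/-- **A homomorphism between two pinned groups of the same datum.** -/
theorem exists_hom_of_systems (H : WeylSys c P B u w) (H' : WeylSys c' P B u' w')
    (hp : ∀ a ∈ B.support, RankRel c (P.coroot a).toAddMonoidHom (u a) (u (P.reflectionPerm a a)))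
    (hp' : ∀ a ∈ B.support, RankRel c' (P.coroot a).toAddMonoidHom (u' a) (u' (P.reflectionPerm a a))) :
    ∃ f : G ⟶ G', IsMonHom f ∧ c ≫ f = c' ∧ ∀ a ∈ B.support, u a ≫ f = u' a ∧
      u (P.reflectionPerm a a) ≫ f = u' (P.reflectionPerm a a) := by
  haveI := H'.frame.hG.1
  haveI : IsSeparated G'.hom := inferInstance
  haveI := H.hc
  haveI := H'.hc
  obtain ⟨v, D⟩ := (H.toWeylCore.lift H'.toWeylCore).exists_chevData
  have GS : GraphSys c P B (CartesianMonoidalCategory.lift c c')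
      (fun r => CartesianMonoidalCategory.lift (u r) (u' r)) (fun r => CartesianMonoidalCategory.lift (w r) (w' r))
      v (fst G G') :=
    ⟨D, inferInstance, lift_fst _ _, D.frame_fst H H', D.compat_all H H', fun a ha => (hp a ha).lift (hp' a ha)⟩
  obtain ⟨s, hs, hc, hu⟩ := GS.exists_section
  haveI := hs
  refine ⟨s ≫ snd G G', inferInstance, by rw [← Category.assoc, hc, lift_snd], fun a ha => ⟨?_, ?_⟩⟩
  · have h := congrArg (· ≫ snd G G') (hu a ha).1
    simp only [lift_fst, lift_snd, Category.assoc] at h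
    exact h
  · have h := congrArg (· ≫ snd G G') (hu a ha).2
    simp only [lift_fst, lift_snd, Category.assoc] at h
    exact h

omit [Nonempty S] in
/-- Homomorphisms agreeing on the generators are equal. -/
theorem WeylSys.hom_ext (H : WeylSys c P B u w) (hP : P.toLinearMap = Module.Dual.eval ℤ M) {K : Over S} [GrpObj K]
    (f g : G ⟶ K) [IsMonHom f] [IsMonHom g] (hT : c ≫ f = c ≫ g)
    (hU : ∀ a ∈ B.support, u a ≫ f = u a ≫ g ∧ u (P.reflectionPerm a a) ≫ f = u (P.reflectionPerm a a) ≫ g) :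
    f = g :=
  H.frame.hom_ext_simple B hP w (fun a ha => (H.weyl a ha).torus) f g hT (fun a ha => (hU a ha).1) fun a ha => by
    rw [(H.weyl a ha).eq]
    simp only [MonObj.mul_comp, Category.assoc, (hU a ha).1, (hU a ha).2]

/-- **The isomorphism theorem.** -/
theorem existsUnique_iso (hP : P.toLinearMap = Module.Dual.eval ℤ M) (F : Frame c P.root u)
    (F' : Frame c' P.root u') (hR : HasRefl c P) (hR' : HasRefl c' P) (B : P.Base) :
    ∃! f : G ≅ G', IsMonHom f.hom ∧ c ≫ f.hom = c' ∧ ∀ a ∈ B.support, u a ≫ f.hom = u' a := by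
  have hcor := coroot_apply_root hP
  obtain ⟨u₁, w, H, h₁, hp⟩ := exists_dualised hcor F hR B
  obtain ⟨u₁', w', H', h₁', hp'⟩ := exists_dualised hcor F' hR' B
  obtain ⟨f, hf, hfc, hfu⟩ := exists_hom_of_systems H H' hp hp'
  obtain ⟨g, hg, hgc, hgu⟩ := exists_hom_of_systems H' H hp' hp
  haveI := hf
  haveI := hg
  have e₁ : f ≫ g = 𝟙 G := H.hom_ext hP _ _ (by rw [← Category.assoc, hfc, hgc, Category.comp_id])
    fun a ha => ⟨by rw [← Category.assoc, (hfu a ha).1, (hgu a ha).1, Category.comp_id],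
      by rw [← Category.assoc, (hfu a ha).2, (hgu a ha).2, Category.comp_id]⟩
  have e₂ : g ≫ f = 𝟙 G' := H'.hom_ext hP _ _ (by rw [← Category.assoc, hgc, hfc, Category.comp_id])
    fun a ha => ⟨by rw [← Category.assoc, (hgu a ha).1, (hfu a ha).1, Category.comp_id],
      by rw [← Category.assoc, (hgu a ha).2, (hfu a ha).2, Category.comp_id]⟩
  refine ⟨⟨f, g, e₁, e₂⟩, ⟨hf, hfc, fun a ha => by rw [← h₁ a ha, ← h₁' a ha]; exact (hfu a ha).1⟩, ?_⟩
  rintro k ⟨hk, hkc, hku⟩
  haveI := hk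
  refine Iso.ext (H.hom_ext hP _ _ (hkc.trans hfc.symm) fun a ha => ⟨?_, ?_⟩)
  · rw [(hfu a ha).1, h₁' a ha, h₁ a ha]; exact hku a ha
  · have hkl : IsIso k.hom.left := ((Over.forget _).mapIso k).isIso_hom
    rw [(hfu a ha).2]
    have hroot := H.frame.hu (P.reflectionPerm a a)
    haveI := hroot.1
    refine dual_eq hcor H'.frame ha (hp' a ha) ⟨inferInstance, ?_, fun X t x => ?_⟩ ?_
    · rw [Over.comp_left]
      haveI := hroot.2.1
      haveI := hkl
      infer_instance
    · obtain ⟨y, hy, hy'⟩ := hroot.2.2 X t x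
      refine ⟨y, ?_, hy'⟩
      rw [← Category.assoc, hy, MonObj.mul_comp, MonObj.mul_comp, GrpObj.inv_comp]
      simp only [Category.assoc, hkc]
    · have h := (hp a ha).map k.hom hkc
      rwa [h₁ a ha, hku a ha, ← h₁' a ha] at h

end Groth.Agent.RootBase
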