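import Groth.Agent.RootBase.Comm

/-!
# The coordinates of lowest level of a contracted subgroup
-/

set_option autoImplicit false
set_option backward.isDefEq.respectTransparency false
set_option linter.style.haveILetI false
set_option maxHeartbeats 1000000
set_option synthInstance.maxHeartbeats 400000

universe u

open CategoryTheory Limits MonoidalCategory CartesianMonoidalCategory MonObj GrpObj AlgebraicGeometry LieS
open scoped CategoryTheory.Obj

noncomputable section

namespace Groth.Agent.RootBase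

open Groth.Agent.HomDiag Groth.Agent.DynPar Groth.Agent.RootSys Groth.Agent.MTBridge

section Affine

variable {R : Type u} [CommRing R] {G : Over (Spec (CommRingCat.of R))} [GrpObj G] [IsAffine G.left]
  {M : Type} [AddCommGroup M] [Module.Free ℤ M] [Module.Finite ℤ M]
  {c : Red.DS (Spec (CommRingCat.of R)) M ⟶ G} [IsMonHom c] {idx : Type} [Fintype idx] {root : idx → M}
  {u : idx → (Red.Ga (Spec (CommRingCat.of R)) ⟶ G)}

/-- Coordinates supported in a sublattice form a group, and those of lowest level add. -/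
theorem Frame.coord_mul (F : Frame c root u) (lam : M →+ ℤ) (N : ℤ) (hN : 0 < N) (L : AddSubgroup M)
    (hL : ∀ x ∈ L, ∃ z : ℤ, lam x = N * z) {m : ℕ} (e : Fin m → idx)
    (he : RedSub.Enumerates {a | 0 < lam (root a)} e) {B : Type u} [CommRing B] (φ : R →+* B)
    (y₁ y₂ y₃ : pt B (Spec.map (CommRingCat.ofHom φ)) ⟶ RedSub.pow (Red.Ga (Spec (CommRingCat.of R))) m)
    (h : y₃ ≫ RedSub.prodMap (Red.Ga (Spec (CommRingCat.of R))) m (fun k => u (e k)) =
      (y₁ ≫ RedSub.prodMap (Red.Ga (Spec (CommRingCat.of R))) m (fun k => u (e k))) *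
        (y₂ ≫ RedSub.prodMap (Red.Ga (Spec (CommRingCat.of R))) m (fun k => u (e k))))
    (h₁ : ∀ l, root (e l) ∉ L → gv (y₁ ≫ proj _ m l) = 0) (h₂ : ∀ l, root (e l) ∉ L → gv (y₂ ≫ proj _ m l) = 0) :
    (∀ l, root (e l) ∉ L → gv (y₃ ≫ proj _ m l) = 0) ∧
      ∀ l, root (e l) ∈ L → lam (root (e l)) = N →
        gv (y₃ ≫ proj _ m l) = gv (y₁ ≫ proj _ m l) + gv (y₂ ≫ proj _ m l) := by
  classical
  let S := Spec (CommRingCat.of R)
  let pm := RedSub.prodMap (Red.Ga S) m fun k => u (e k)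
  haveI := F.hG.1
  haveI := F.hG.2.1
  have hpos : ∀ k, 0 < lam (root (e k)) := fun k => he.2.subset ⟨k, rfl⟩
  obtain ⟨U, _, uU, hU⟩ := exists_isU (G := G) (Red.DSmap S lam ≫ c)
  obtain ⟨zU, hzU⟩ := F.isIso_prod lam e he hU
  haveI := hU.1
  haveI := hU.2.1
  haveI : Mono uU := Over.mono_of_mono_left _
  haveI : Mono pm := by
    show Mono (RedSub.prodMap (Red.Ga S) m fun k => u (e k))
    rw [← hzU]; infer_instance
  let B₀ := MvPolynomial (Fin (m + m)) R
  let f₀ : Spec (CommRingCat.of B₀) ⟶ S := Spec.map (CommRingCat.ofHom MvPolynomial.C)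
  obtain ⟨Y₁, hY₁⟩ := exists_pow fun l : Fin m => gp f₀ (MvPolynomial.X (Fin.castAdd m l) : B₀)
  obtain ⟨Y₂, hY₂⟩ := exists_pow fun l : Fin m => gp f₀ (MvPolynomial.X (Fin.natAdd m l) : B₀)
  let Y₃ := ((Y₁ ≫ zU.hom) * (Y₂ ≫ zU.hom)) ≫ zU.inv
  have hY₃ : Y₃ ≫ pm = (Y₁ ≫ pm) * (Y₂ ≫ pm) := by
    rw [show pm = zU.hom ≫ uU from hzU.symm]
    simp only [Y₃, Category.assoc, Iso.inv_hom_id_assoc, MonObj.mul_comp]
  let P : Fin m → B₀ := fun l => gv (Y₃ ≫ proj S m l)
  let r₂ : Fin (m + m) → M := Fin.append (fun l => root (e l)) (fun l => root (e l))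
  -- homogeneity
  have hP : ∀ k, scaleHom r₂ (P k) = AddMonoidAlgebra.single (root (e k)) (P k) := by
    intro k
    have hθ : Spec.map (CommRingCat.ofHom (scaleHom (R := R) r₂)) ≫ f₀ = fL f₀ M := by
      show _ ≫ Spec.map _ = Spec.map _ ≫ Spec.map _
      rw [← Spec.map_comp, ← Spec.map_comp, ← CommRingCat.ofHom_comp, ← CommRingCat.ofHom_comp]
      congr 2
      ext a : 1
      exact MvPolynomial.eval₂Hom_C _ _ _
    obtain ⟨z₃, hz₃⟩ := exists_pow fun k => gp (fL f₀ M) (AddMonoidAlgebra.single (root (e k)) (P k))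
    have e₃ := prodMap_conj (f := fL f₀ M) (fun k => F.hu (e k)) (xu f₀ M) (qc M f₀ ≫ Y₃) z₃ fun k => by
      rw [hz₃, gv_gp, Category.assoc, qc, gv_qm, chv_xu]
      show _ = AddMonoidAlgebra.single _ 1 * AddMonoidAlgebra.single 0 _
      rw [AddMonoidAlgebra.single_mul_single, add_zero, _root_.one_mul]
      rfl
    have e₁ := prodMap_conj (f := fL f₀ M) (fun k => F.hu (e k)) (xu f₀ M) (qc M f₀ ≫ Y₁)
      (qm (scaleHom (R := R) r₂) hθ ≫ Y₁) fun k => by
      rw [Category.assoc, Category.assoc, gv_qm, qc, gv_qm, hY₁, gv_gp, chv_xu, scaleHom, MvPolynomial.eval₂Hom_X']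
      show _ = AddMonoidAlgebra.single _ 1 * AddMonoidAlgebra.single 0 _
      rw [AddMonoidAlgebra.single_mul_single, add_zero, _root_.one_mul]
      simp only [r₂, Fin.append_left, Fin.append_right]
      rfl
    have e₂ := prodMap_conj (f := fL f₀ M) (fun k => F.hu (e k)) (xu f₀ M) (qc M f₀ ≫ Y₂)
      (qm (scaleHom (R := R) r₂) hθ ≫ Y₂) fun k => by
      rw [Category.assoc, Category.assoc, gv_qm, qc, gv_qm, hY₂, gv_gp, chv_xu, scaleHom, MvPolynomial.eval₂Hom_X']
      show _ = AddMonoidAlgebra.single _ 1 * AddMonoidAlgebra.single 0 _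
      rw [AddMonoidAlgebra.single_mul_single, add_zero, _root_.one_mul]
      simp only [r₂, Fin.append_left, Fin.append_right]
      rfl
    have e4 : qm (scaleHom (R := R) r₂) hθ ≫ Y₃ = z₃ := by
      rw [← cancel_mono pm, Category.assoc, hY₃, MonObj.comp_mul]
      refine Eq.trans ?_ e₃
      show _ = (xu f₀ M ≫ c) * ((qc M f₀ ≫ Y₃) ≫ pm) * (xu f₀ M ≫ c)⁻¹
      rw [Category.assoc (qc M f₀) Y₃ pm, hY₃, MonObj.comp_mul, ← Category.assoc, ← Category.assoc, ← Category.assoc,
        ← Category.assoc, ← e₁, ← e₂]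
      group
      rfl
    have e5 : gv ((qm (scaleHom (R := R) r₂) hθ ≫ Y₃) ≫ proj S _ k) = gv (z₃ ≫ proj S _ k) := by rw [e4]
    rw [Category.assoc, gv_qm, hz₃, gv_gp] at e5
    exact e5
  -- evaluation at a pair of points
  have hnat : ∀ {B : Type u} [CommRing B] (φ : R →+* B)
      (x y z : pt B (Spec.map (CommRingCat.ofHom φ)) ⟶ RedSub.pow (Red.Ga S) m), z ≫ pm = (x ≫ pm) * (y ≫ pm) →
      ∀ l, gv (z ≫ proj S m l) = MvPolynomial.eval₂Hom φ
        (Fin.append (fun i => gv (x ≫ proj S m i)) (fun i => gv (y ≫ proj S m i))) (P l) := by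
    intro B _ φ x y z hz l
    let h : B₀ →+* B := MvPolynomial.eval₂Hom φ
      (Fin.append (fun i => gv (x ≫ proj S m i)) (fun i => gv (y ≫ proj S m i)))
    have hh : Spec.map (CommRingCat.ofHom h) ≫ f₀ = Spec.map (CommRingCat.ofHom φ) := by
      rw [← Spec.map_comp, ← CommRingCat.ofHom_comp]
      congr 2
      ext a : 1
      exact MvPolynomial.eval₂Hom_C _ _ _
    have h1 : qm h hh ≫ Y₁ = x := pow_ext fun i => gv_inj (by
      rw [Category.assoc, gv_qm, hY₁, gv_gp]
      exact (MvPolynomial.eval₂Hom_X' _ _ _).trans (Fin.append_left _ _ _))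
    have h2 : qm h hh ≫ Y₂ = y := pow_ext fun i => gv_inj (by
      rw [Category.assoc, gv_qm, hY₂, gv_gp]
      exact (MvPolynomial.eval₂Hom_X' _ _ _).trans (Fin.append_right _ _ _))
    have h3 : z = qm h hh ≫ Y₃ := by
      rw [← cancel_mono pm, hz, Category.assoc, hY₃, MonObj.comp_mul, ← Category.assoc, ← Category.assoc, h1, h2]
    rw [h3, Category.assoc, gv_qm]
  -- the monomials
  have hsupp : ∀ k, ∀ q ∈ (P k).support, ∑ i, q i • r₂ i = root (e k) := fun k q hq => support_weight r₂ (hP k) hq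
  let vv : Fin (m + m) → B := Fin.append (fun i => gv (y₁ ≫ proj S m i)) (fun i => gv (y₂ ≫ proj S m i))
  have hvv : ∀ i, r₂ i ∉ L → vv i = 0 := by
    intro i
    induction i using Fin.addCases with
    | left i => simp only [r₂, vv, Fin.append_left]; exact h₁ i
    | right i => simp only [r₂, vv, Fin.append_right]; exact h₂ i
  have hdead : ∀ (q : Fin (m + m) →₀ ℕ) (a : R), (∃ i, q i ≠ 0 ∧ r₂ i ∉ L) →
      MvPolynomial.eval₂Hom φ vv (MvPolynomial.monomial q a) = 0 := by
    rintro q a ⟨i, hi, hiL⟩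
    rw [MvPolynomial.eval₂Hom_monomial, Finsupp.prod_fintype _ _ (fun _ => pow_zero _),
      Finset.prod_eq_zero (Finset.mem_univ i) (by rw [hvv i hiL, zero_pow hi]), mul_zero]
  refine ⟨fun l hl => ?_, fun l hl hlam => ?_⟩
  · rw [hnat φ y₁ y₂ y₃ h l, (P l).as_sum, map_sum]
    refine Finset.sum_eq_zero fun q hq => hdead q _ ?_
    by_contra hcon
    push Not at hcon
    refine hl (hsupp l q hq ▸ sum_mem fun i _ => ?_)
    by_cases hi : q i = 0
    · rw [hi, zero_smul]; exact zero_mem _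
    · exact nsmul_mem (hcon i hi) _
  -- the monomials which survive are the two linear ones
  let qL : Fin (m + m) →₀ ℕ := Finsupp.single (Fin.castAdd m l) 1
  let qR : Fin (m + m) →₀ ℕ := Finsupp.single (Fin.natAdd m l) 1
  have hne : qL ≠ qR := fun h => by
    have := Finsupp.single_left_injective (one_ne_zero (α := ℕ)) h
    have h' := congrArg (Fin.val) this
    simp at h'
    omega
  have halive : ∀ q ∈ (P l).support, q ≠ qL → q ≠ qR → ∃ i, q i ≠ 0 ∧ r₂ i ∉ L := by
    intro q hq hqL hqR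
    by_contra hcon
    push Not at hcon
    have hge : ∀ i, q i ≠ 0 → N ≤ lam (r₂ i) := fun i hi => by
      have hp : 0 < lam (r₂ i) := by
        induction i using Fin.addCases with
        | left i => simp only [r₂, Fin.append_left]; exact hpos i
        | right i => simp only [r₂, Fin.append_right]; exact hpos i
      obtain ⟨z, hz⟩ := hL _ (hcon i hi)
      rw [hz] at hp ⊢
      nlinarith [(pos_iff_pos_of_mul_pos hp).1 hN]
    have hsum : ∑ i, (q i : ℤ) * lam (r₂ i) = N := by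
      have := congrArg lam (hsupp l q hq)
      rw [map_sum, hlam] at this
      simpa [map_nsmul] using this
    obtain ⟨i, hi⟩ : ∃ i, q i ≠ 0 := by
      by_contra h0
      push Not at h0
      simp [h0] at hsum
      omega
    have hterm : ∀ t, 0 ≤ (q t : ℤ) * lam (r₂ t) := fun t => by
      by_cases ht : q t = 0
      · simp [ht]
      · have := hge t ht; exact mul_nonneg (by omega) (by omega)
    have hi1 : q i = 1 := by
      have h1 := Finset.single_le_sum (fun t _ => hterm t) (Finset.mem_univ i)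
      rw [hsum] at h1
      have := hge i hi
      have : (q i : ℤ) ≤ 1 := by nlinarith
      omega
    have hq1 : q = Finsupp.single i 1 := Finsupp.ext fun t => by
      by_cases ht : t = i
      · subst ht; rw [Finsupp.single_eq_same, hi1]
      · rw [Finsupp.single_eq_of_ne ht]
        by_contra h0
        have h1 := Finset.sum_le_univ_sum_of_nonneg (s := {i, t}) hterm
        rw [Finset.sum_pair (Ne.symm ht), hsum, hi1] at h1
        have := hge i hi
        have := hge t h0
        have : (1 : ℤ) ≤ q t := by omega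
        have : N ≤ (q t : ℤ) * lam (r₂ t) := by nlinarith
        push_cast at h1
        nlinarith
    have hr : r₂ i = root (e l) := by
      have h1 := hsupp l q hq
      rw [hq1, Finset.sum_eq_single i (fun t _ ht => by rw [Finsupp.single_eq_of_ne ht, zero_smul])
        (fun h => absurd (Finset.mem_univ i) h), Finsupp.single_eq_same, one_smul] at h1
      exact h1
    induction i using Fin.addCases with
    | left i =>
      simp only [r₂, Fin.append_left] at hr
      exact hqL (by rw [hq1, he.1 (F.inj hr)])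
    | right i =>
      simp only [r₂, Fin.append_right] at hr
      exact hqR (by rw [hq1, he.1 (F.inj hr)])
  have heval : ∀ {B : Type u} [CommRing B] (φ : R →+* B) (v : Fin (m + m) → B),
      (∀ (q : Fin (m + m) →₀ ℕ) (a : R), (∃ i, q i ≠ 0 ∧ r₂ i ∉ L) →
        MvPolynomial.eval₂Hom φ v (MvPolynomial.monomial q a) = 0) →
      MvPolynomial.eval₂Hom φ v (P l) = φ ((P l).coeff qL) * v (Fin.castAdd m l) +
        φ ((P l).coeff qR) * v (Fin.natAdd m l) := by
    intro B _ φ v hv
    have hlin : ∀ (i : Fin (m + m)) (a : R),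
        MvPolynomial.eval₂Hom φ v (MvPolynomial.monomial (Finsupp.single i 1) a) = φ a * v i := fun i a => by
      simp [MvPolynomial.eval₂Hom_monomial]
    rw [← hlin, ← hlin]
    let f := fun q => MvPolynomial.eval₂Hom φ v (MvPolynomial.monomial q ((P l).coeff q))
    have h1 : MvPolynomial.eval₂Hom φ v (P l) = ∑ q ∈ (P l).support, f q := by
      conv_lhs => rw [(P l).as_sum, map_sum]
    rw [h1, show f qL + f qR = ∑ q ∈ ({qL, qR} : Finset _), f q from (Finset.sum_pair hne).symm]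
    refine Finset.sum_congr_of_eq_on_inter (fun q hq hq' => ?_) (fun q _ hq' => ?_) fun _ _ _ => rfl
    · simp only [Finset.mem_insert, Finset.mem_singleton, not_or] at hq'
      exact hv q _ (halive q hq hq'.1 hq'.2)
    · simp only [f, MvPolynomial.notMem_support_iff.1 hq', MvPolynomial.monomial_zero, map_zero]
  -- the coefficients are one
  have hcoef : (P l).coeff qL = 1 ∧ (P l).coeff qR = 1 := by
    obtain ⟨x, hx⟩ := exists_pow fun i : Fin m => gp (Spec.map (CommRingCat.ofHom (RingHom.id R)))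
      ((Pi.single l 1 : Fin m → R) i)
    obtain ⟨o, ho⟩ := exists_pow fun _ : Fin m =>
      (1 : pt R (Spec.map (CommRingCat.ofHom (RingHom.id R))) ⟶ Red.Ga S)
    have ho1 : o ≫ pm = 1 := prodMap_eq_one (fun k => F.hu (e k)) o fun i => by rw [ho, gv_one]
    have hd : ∀ i : Fin m, (Pi.single l 1 : Fin m → R) i ≠ 0 → root (e i) ∈ L := fun i hi => by
      rcases eq_or_ne i l with rfl | h'
      · exact hl
      · exact absurd (Pi.single_eq_of_ne h' _) hi
    constructor
    · have e1 := hnat (RingHom.id R) x o x (by rw [ho1, _root_.mul_one]) l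
      rw [heval] at e1
      · have hxl : gv (x ≫ proj S m l) = 1 := by rw [hx l, gv_gp, Pi.single_eq_same]
        have hol : gv (o ≫ proj S m l) = 0 := by rw [ho l, gv_one]
        simp only [Fin.append_left, Fin.append_right, RingHom.id_apply] at e1
        rw [hxl, hol] at e1
        simpa using e1.symm
      · rintro q a ⟨i, hi, hiL⟩
        rw [MvPolynomial.eval₂Hom_monomial, Finsupp.prod_fintype _ _ (fun _ => pow_zero _),
          Finset.prod_eq_zero (Finset.mem_univ i) ?_, mul_zero]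
        induction i using Fin.addCases with
        | left i =>
          rw [Fin.append_left, hx, gv_gp, show (Pi.single l 1 : Fin m → R) i = 0 from by_contra fun h =>
            hiL (by simp only [r₂, Fin.append_left, Fin.append_right]; exact hd i h), zero_pow hi]
        | right i => rw [Fin.append_right, ho, gv_one, zero_pow hi]
    · have e1 := hnat (RingHom.id R) o x x (by rw [ho1, _root_.one_mul]) l
      rw [heval] at e1
      · have hxl : gv (x ≫ proj S m l) = 1 := by rw [hx l, gv_gp, Pi.single_eq_same]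
        have hol : gv (o ≫ proj S m l) = 0 := by rw [ho l, gv_one]
        simp only [Fin.append_left, Fin.append_right, RingHom.id_apply] at e1
        rw [hxl, hol] at e1
        simpa using e1.symm
      · rintro q a ⟨i, hi, hiL⟩
        rw [MvPolynomial.eval₂Hom_monomial, Finsupp.prod_fintype _ _ (fun _ => pow_zero _),
          Finset.prod_eq_zero (Finset.mem_univ i) ?_, mul_zero]
        induction i using Fin.addCases with
        | left i => rw [Fin.append_left, ho, gv_one, zero_pow hi]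
        | right i =>
          rw [Fin.append_right, hx, gv_gp, show (Pi.single l 1 : Fin m → R) i = 0 from by_contra fun h =>
            hiL (by simp only [r₂, Fin.append_left, Fin.append_right]; exact hd i h), zero_pow hi]
  rw [hnat φ y₁ y₂ y₃ h l, heval φ vv hdead, hcoef.1, hcoef.2, map_one, _root_.one_mul, _root_.one_mul]
  simp only [vv, Fin.append_left, Fin.append_right]
  rfl

end Affine

section Global

variable {S : Scheme.{u}} {G : Over S} [GrpObj G] {M : Type} [AddCommGroup M] [Module.Free ℤ M] [Module.Finite ℤ M]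
  {c : Red.DS S M ⟶ G} {idx : Type} [Fintype idx] {root : idx → M} {u : idx → (Red.Ga S ⟶ G)}

/-- A product with a single factor. -/
theorem prod_ofFn_single {α : Type*} [Monoid α] : ∀ {m : ℕ} (f : Fin m → α) (l : Fin m),
    (∀ k, k ≠ l → f k = 1) → (List.ofFn f).prod = f l
  | 0, _, l, _ => l.elim0
  | m + 1, f, l, h => by
    rw [List.ofFn_succ, List.prod_cons]
    induction l using Fin.cases with
    | zero =>
      rw [List.prod_eq_one fun g hg => by
        obtain ⟨k, rfl⟩ := List.mem_ofFn.1 hg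
        exact h _ (Fin.succ_ne_zero k), _root_.mul_one]
    | succ l =>
      rw [h 0 (Fin.succ_ne_zero l).symm, prod_ofFn_single (fun i : Fin m => f i.succ) l
        (fun k hk => h _ fun e => hk (Fin.succ_injective _ e)), _root_.one_mul]

/-- The lowest-level coordinate of a contracted subgroup along a sublattice. -/
structure IsLevel (u : idx → (Red.Ga S ⟶ G)) (root : idx → M) (lam : M →+ ℤ) (L : AddSubgroup M) (d : idx)
    (Dom : ∀ X : Over S, Submonoid (X ⟶ G)) (π : ∀ X : Over S, (X ⟶ G) → Γ(X.left, ⊤)) : Prop where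
  mem : ∀ (X : Over S) (l : idx) (t : X ⟶ Red.Ga S), 0 < lam (root l) → root l ∈ L → t ≫ u l ∈ Dom X
  map_mul : ∀ (X : Over S) (g h : X ⟶ G), g ∈ Dom X → h ∈ Dom X → π X (g * h) = π X g + π X h
  map_gen : ∀ (X : Over S) (l : idx) (t : X ⟶ Red.Ga S), 0 < lam (root l) → root l ∈ L →
    π X (t ≫ u l) = by classical exact if l = d then Red.gaFn t else 0
  map_one : ∀ X : Over S, π X 1 = 0

/-- Coordinates over any base. -/
theorem Frame.coord_mul_global (F : Frame c root u) (lam : M →+ ℤ) (N : ℤ) (hN : 0 < N) (L : AddSubgroup M)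
    (hL : ∀ x ∈ L, ∃ z : ℤ, lam x = N * z) {m : ℕ} (e : Fin m → idx)
    (he : RedSub.Enumerates {a | 0 < lam (root a)} e) {X : Over S} (y₁ y₂ y₃ : X ⟶ RedSub.pow (Red.Ga S) m)
    (h : y₃ ≫ RedSub.prodMap (Red.Ga S) m (fun k => u (e k)) =
      (y₁ ≫ RedSub.prodMap (Red.Ga S) m (fun k => u (e k))) * (y₂ ≫ RedSub.prodMap (Red.Ga S) m (fun k => u (e k))))
    (h₁ : ∀ l, root (e l) ∉ L → y₁ ≫ proj S m l = 1) (h₂ : ∀ l, root (e l) ∉ L → y₂ ≫ proj S m l = 1) :
    (∀ l, root (e l) ∉ L → y₃ ≫ proj S m l = 1) ∧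
      ∀ l, root (e l) ∈ L → lam (root (e l)) = N → y₃ ≫ proj S m l = (y₁ ≫ proj S m l) * (y₂ ≫ proj S m l) := by
  haveI := F.hG.1
  haveI := F.hG.2.1
  haveI := F.hc.1
  have key : ∀ (i : S.affineOpenCover.I₀) (B : Type u) [CommRing B] (φ : (S.affineOpenCover.X i : Type u) →+* B)
      (q : pt B (Spec.map (CommRingCat.ofHom φ) ≫ S.affineOpenCover.f i) ⟶ X),
      (∀ l, root (e l) ∉ L → q ≫ y₃ ≫ proj S m l = q ≫ 1) ∧
        ∀ l, root (e l) ∈ L → lam (root (e l)) = N →
          q ≫ y₃ ≫ proj S m l = q ≫ ((y₁ ≫ proj S m l) * (y₂ ≫ proj S m l)) := by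
    intro i B _ φ q
    let A : CommRingCat.{u} := S.affineOpenCover.X i
    let j : Spec (CommRingCat.of A) ⟶ S := S.affineOpenCover.f i
    let fa : Spec (CommRingCat.of B) ⟶ Spec (CommRingCat.of A) := Spec.map (CommRingCat.ofHom φ)
    have F' := F.bc j
    haveI : IsMonHom (bcHom' j c) := isMonHom_bcHom' j c
    haveI := F'.hG.1
    haveI : IsAffine (Red.bc j G).left := isAffine_of_isAffineHom (Red.bc j G).hom
    let Φ : (X ⟶ G) →* (pt B fa ⟶ Red.bc j G) :=
      MonoidHom.mk' (fun g => down j rfl (q ≫ g)) fun g g' => by rw [MonObj.comp_mul, down_mul]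
    have htr : ∀ y : X ⟶ RedSub.pow (Red.Ga S) m, ∃ y' : pt B fa ⟶ RedSub.pow (Red.Ga (Spec (CommRingCat.of A))) m,
        (∀ l, gv (y' ≫ proj _ m l) = (Scheme.ΓSpecIso (CommRingCat.of B)).hom (Red.gaFn (q ≫ y ≫ proj S m l))) ∧
        y' ≫ RedSub.prodMap (Red.Ga (Spec (CommRingCat.of A))) m (fun k => bcGa j (u (e k))) =
          Φ (y ≫ RedSub.prodMap (Red.Ga S) m (fun k => u (e k))) := by
      intro y
      choose z hz hz' using fun l => exists_down_ga (G := G) j (rfl : fa ≫ j = _) (q ≫ y ≫ proj S m l)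
      obtain ⟨y', hy', hy''⟩ := exists_pow_prod (fun k => bcGa j (u (e k))) z
      refine ⟨y', fun l => by rw [hy', gv, hz], ?_⟩
      rw [hy'', comp_prodMap_eq, map_list_prod, List.map_ofFn]
      refine congrArg List.prod (List.ofFn_inj.2 (funext fun k => ?_))
      show _ = down j rfl (q ≫ (y ≫ proj S m k) ≫ u (e k))
      rw [← hz' k]
      simp only [Category.assoc]
    obtain ⟨w₁, hw₁, hw₁'⟩ := htr y₁
    obtain ⟨w₂, hw₂, hw₂'⟩ := htr y₂
    obtain ⟨w₃, hw₃, hw₃'⟩ := htr y₃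
    obtain ⟨r1, r2⟩ := F'.coord_mul lam N hN L hL e he φ w₁ w₂ w₃
      (by rw [hw₁', hw₂', hw₃', ← map_mul, h])
      (fun l hl => by rw [hw₁, h₁ l hl, MonObj.comp_one, BGaNotS.gaFn_one, map_zero])
      (fun l hl => by rw [hw₂, h₂ l hl, MonObj.comp_one, BGaNotS.gaFn_one, map_zero])
    have hbij := (ConcreteCategory.bijective_of_isIso (Scheme.ΓSpecIso (CommRingCat.of B)).hom).1
    refine ⟨fun l hl => BGaNotS.gaPt_ext (hbij ?_), fun l hl hlam => BGaNotS.gaPt_ext (hbij ?_)⟩
    · rw [← hw₃, r1 l hl, MonObj.comp_one, BGaNotS.gaFn_one, map_zero]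
    · rw [← hw₃, r2 l hl hlam, hw₁, hw₂, MonObj.comp_mul, BGaNotS.gaFn_mul, map_add]
  exact ⟨fun l hl => hom_ext_charts _ _ fun i B _ φ q => (key i B φ q).1 l hl,
    fun l hl hlam => hom_ext_charts _ _ fun i B _ φ q => (key i B φ q).2 l hl hlam⟩

/-- **The lowest-level coordinates exist.** -/
theorem Frame.exists_level (F : Frame c root u) (lam : M →+ ℤ) (N : ℤ) (hN : 0 < N) (L : AddSubgroup M)
    (hL : ∀ x ∈ L, ∃ z : ℤ, lam x = N * z) (d : idx) (hd : root d ∈ L) (hlam : lam (root d) = N) :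
    ∃ Dom π, IsLevel u root lam L d Dom π := by
  classical
  haveI := F.hG.1
  haveI := F.hG.2.1
  haveI := F.hc.1
  obtain ⟨m, r, -, he⟩ := exists_extend {a | 0 < lam (root a)} (Fin.elim0 : Fin 0 → idx) (fun x => x.elim0)
    fun k => k.elim0
  let e := Fin.append (Fin.elim0 : Fin 0 → idx) r
  let pm := RedSub.prodMap (Red.Ga S) (0 + m) fun k => u (e k)
  obtain ⟨U, _, uU, hU⟩ := exists_isU (G := G) (Red.DSmap S lam ≫ c)
  obtain ⟨φU, hφU⟩ := F.exists_iso_isU lam e he hU
  haveI := hU.2.1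
  haveI : Mono uU := Over.mono_of_mono_left _
  haveI : Mono pm := by
    show Mono (RedSub.prodMap (Red.Ga S) (0 + m) fun k => u (e k))
    rw [← hφU]; infer_instance
  haveI := hU.1
  let Good : ∀ X : Over S, (X ⟶ G) → Prop := fun X g =>
    ∃ y : X ⟶ RedSub.pow (Red.Ga S) (0 + m), y ≫ pm = g ∧ ∀ l, root (e l) ∉ L → y ≫ proj S _ l = 1
  have hone : ∀ X : Over S, ∃ y : X ⟶ RedSub.pow (Red.Ga S) (0 + m), y ≫ pm = 1 ∧ ∀ l, y ≫ proj S _ l = 1 := by
    intro X
    obtain ⟨y, hy, hy'⟩ := exists_pow_prod (fun k => u (e k)) fun _ => (1 : X ⟶ Red.Ga S)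
    refine ⟨y, hy'.trans (List.prod_eq_one fun g hg => ?_), hy⟩
    obtain ⟨k, rfl⟩ := List.mem_ofFn.1 hg
    haveI := (F.hu (e k)).1
    exact MonObj.one_comp _
  have hmul : ∀ (X : Over S) (g g' : X ⟶ G), Good X g → Good X g' → Good X (g * g') := by
    rintro X g g' ⟨y₁, rfl, h₁⟩ ⟨y₂, rfl, h₂⟩
    let y₃ := ((y₁ ≫ φU.hom) * (y₂ ≫ φU.hom)) ≫ φU.inv
    have h₃ : y₃ ≫ pm = (y₁ ≫ pm) * (y₂ ≫ pm) := by
      rw [show pm = φU.hom ≫ uU from hφU.symm]
      simp only [y₃, Category.assoc, Iso.inv_hom_id_assoc, MonObj.mul_comp]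
    exact ⟨y₃, h₃, (F.coord_mul_global lam N hN L hL e he y₁ y₂ y₃ h₃ h₁ h₂).1⟩
  let Dom : ∀ X : Over S, Submonoid (X ⟶ G) := fun X =>
    { carrier := {g | Good X g}
      one_mem' := by obtain ⟨y, hy, hy'⟩ := hone X; exact ⟨y, hy, fun l _ => hy' l⟩
      mul_mem' := fun h h' => hmul X _ _ h h' }
  obtain ⟨ld, hld⟩ : ∃ ld, e ld = d := he.2.symm.subset (show 0 < lam (root d) by rw [hlam]; exact hN)
  let π : ∀ X : Over S, (X ⟶ G) → Γ(X.left, ⊤) := fun X g =>
    if h : Good X g then Red.gaFn (h.choose ≫ proj S _ ld) else 0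
  have hπ : ∀ (X : Over S) (y : X ⟶ RedSub.pow (Red.Ga S) (0 + m)), (∀ l, root (e l) ∉ L → y ≫ proj S _ l = 1) →
      π X (y ≫ pm) = Red.gaFn (y ≫ proj S _ ld) := fun X y hy => by
    have h : Good X (y ≫ pm) := ⟨y, rfl, hy⟩
    simp only [π, dif_pos h]
    rw [(cancel_mono pm).1 h.choose_spec.1]
  have hgen : ∀ (X : Over S) (l : idx) (t : X ⟶ Red.Ga S), 0 < lam (root l) → root l ∈ L →
      ∃ y : X ⟶ RedSub.pow (Red.Ga S) (0 + m), y ≫ pm = t ≫ u l ∧ (∀ k, root (e k) ∉ L → y ≫ proj S _ k = 1) ∧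
        y ≫ proj S _ ld = if l = d then t else 1 := by
    intro X l t hl hlL
    obtain ⟨kl, hkl⟩ : ∃ kl, e kl = l := he.2.symm.subset hl
    obtain ⟨y, hy, hy'⟩ := exists_pow_prod (fun k => u (e k)) fun k => if k = kl then t else (1 : X ⟶ Red.Ga S)
    refine ⟨y, ?_, fun k hk => by rw [hy, if_neg fun h => hk (by rw [h, hkl]; exact hlL)], ?_⟩
    · rw [hy', prod_ofFn_single _ kl fun k hk => ?_, if_pos rfl, hkl]
      rw [if_neg hk]
      haveI := (F.hu (e k)).1
      exact MonObj.one_comp _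
    · rw [hy]
      by_cases hl' : l = d
      · rw [if_pos hl', if_pos (he.1 (hld.trans (hl'.symm.trans hkl.symm)))]
      · rw [if_neg hl', if_neg fun h => hl' (by rw [← hkl, ← h, hld])]
  refine ⟨Dom, π, fun X l t hl hlL => ?_, fun X g h hg hh => ?_, fun X l t hl hlL => ?_, fun X => ?_⟩
  · obtain ⟨y, hy, hy', -⟩ := hgen X l t hl hlL
    exact ⟨y, hy, hy'⟩
  · obtain ⟨y₁, rfl, h₁⟩ := hg
    obtain ⟨y₂, rfl, h₂⟩ := hh
    obtain ⟨y₃, h₃, h₃'⟩ := hmul X _ _ ⟨y₁, rfl, h₁⟩ ⟨y₂, rfl, h₂⟩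
    obtain ⟨-, hadd⟩ := F.coord_mul_global lam N hN L hL e he y₁ y₂ y₃ h₃ h₁ h₂
    rw [← h₃, hπ X y₃ h₃', hπ X y₁ h₁, hπ X y₂ h₂, hadd ld (by rw [hld]; exact hd) (by rw [hld]; exact hlam),
      BGaNotS.gaFn_mul]
  · obtain ⟨y, hy, hy', hy''⟩ := hgen X l t hl hlL
    rw [← hy, hπ X y hy', hy'']
    split_ifs
    · rfl
    · exact BGaNotS.gaFn_one
  · obtain ⟨y, hy, hy'⟩ := hone X
    rw [← hy, hπ X y fun l _ => hy' l, hy', BGaNotS.gaFn_one]

end Global

end Groth.Agent.RootBase
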