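import Groth.Agent.RootSys.Bridge
import Mathlib.AlgebraicGeometry.Morphisms.Smooth
import Mathlib.RingTheory.Kaehler.Basic
import Mathlib.RingTheory.Smooth.Basic
import Mathlib.Algebra.Module.Projective

/-!
# Spreading out weight vectors over the base
-/

set_option autoImplicit false
set_option backward.isDefEq.respectTransparency false
set_option linter.style.haveILetI false
set_option maxHeartbeats 1000000
set_option synthInstance.maxHeartbeats 400000

universe u

open CategoryTheory Limits MonoidalCategory CartesianMonoidalCategory MonObj AlgebraicGeometry LieS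
open scoped CategoryTheory.Obj

noncomputable section

namespace Groth.Agent.RootBase

open Groth.Agent.HomDiag Groth.Agent.DynPar Groth.Agent.RootSys
open Groth.Agent.DynPar.Der (dv uB pl sG)

variable {R : Type u} [CommRing R] {G : Over (Spec (CommRingCat.of R))} [GrpObj G] [IsAffine G.left]
  {M : Type} [AddCommGroup M]

/-- A weight vector at a point extends to a weight vector over the base. -/
theorem exists_spread [Smooth G.hom] (c : Red.DS (Spec (CommRingCat.of R)) M ⟶ G) [IsMonHom c] {K : Type u} [Field K]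
    (ψ : R →+* K) {v₀ : Lie G K (Spec.map (CommRingCat.ofHom ψ))} {d : M} (hv : IsWt c v₀ d) (hv1 : v₀ ≠ 1) :
    ∃ (v : Lie G R (𝟙 (Spec (CommRingCat.of R)))) (y : Γ(G.left, ⊤)),
      IsWt c v d ∧ wc c y d = y ∧ ψ (dv v y) ≠ 0 := by
  classical
  let A : Type u := Γ(G.left, ⊤)
  obtain ⟨a, ha⟩ : ∃ a, dv v₀ a ≠ 0 := by
    by_contra! h
    exact hv1 (Der.dv_injective (funext fun a => by rw [h a, Der.dv_one]))
  let y : A := wc c a d
  have hy : wc c y d = y := by
    show wc c (wc c a d) d = wc c a d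
    rw [wc_wc, if_pos rfl]
  have hy0 : dv v₀ y ≠ 0 := by
    show dv v₀ (wc c a d) ≠ 0
    rwa [hv.dv_wc_self]
  -- algebras
  have hsm : Smooth (Spec.map (CommRingCat.ofHom (sG G))) := by rw [Der.specMap_sG]; infer_instance
  letI : Algebra R A := (sG G).toAlgebra
  haveI : Algebra.Smooth R A := RingHom.smooth_algebraMap.1 ((HasRingHomProperty.Spec_iff (P := @Smooth)).1 hsm)
  haveI : Algebra.FormallySmooth R A := Algebra.Smooth.formallySmooth
  haveI : Module.Projective A Ω[A⁄R] := Algebra.FormallySmooth.projective_kaehlerDifferential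
  let ε : A →+* R := uB G (𝟙 (Spec (CommRingCat.of R)))
  have hε : ∀ r, ε (sG G r) = r := fun r => by
    have h := Der.uB_sG (G := G) (𝟙 (Spec (CommRingCat.of R)))
    exact congr($(Spec.map_injective (h.trans (Spec.map_id _).symm)).hom r)
  have hf : Spec.map (CommRingCat.ofHom ψ) ≫ 𝟙 (Spec (CommRingCat.of R)) = Spec.map (CommRingCat.ofHom ψ) :=
    Category.comp_id _
  have hεK : ∀ x, uB G (Spec.map (CommRingCat.ofHom ψ)) x = ψ (ε x) := fun x => Der.uB_comp ψ hf x
  letI : Algebra A K := (ψ.comp ε).toAlgebra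
  letI : Algebra R K := ψ.toAlgebra
  haveI : IsScalarTower R A K := IsScalarTower.of_algebraMap_eq fun r => by
    show ψ r = ψ (ε (sG G r))
    rw [hε]
  let Dd : Derivation R A K := Derivation.mk'
    { toFun := fun x => dv v₀ x
      map_add' := fun x x' => Der.dv_add v₀ x x'
      map_smul' := fun r x => by
        show dv v₀ (sG G r * x) = ψ r * dv v₀ x
        rw [Der.dv_leibniz, Der.dv_sG, hεK, hε, zero_mul, add_zero] }
    (fun x x' => by
      show dv v₀ (x * x') = ψ (ε x) * dv v₀ x' + ψ (ε x') * dv v₀ x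
      rw [Der.dv_leibniz, hεK, hεK]; ring)
  let L : Ω[A⁄R] →ₗ[A] K := Dd.liftKaehlerDifferential
  obtain ⟨s, hs⟩ := (Module.projective_def' (R := A) (P := Ω[A⁄R])).1 inferInstance
  let ω : Ω[A⁄R] := KaehlerDifferential.D R A y
  have hLω : L ω = dv v₀ y := Dd.liftKaehlerDifferential_comp_D y
  obtain ⟨q, hq⟩ : ∃ q, ψ (ε (s ω q)) ≠ 0 := by
    by_contra! h
    refine hy0 ?_
    rw [← hLω]
    conv_lhs => rw [show ω = Finsupp.linearCombination A id (s ω) from (LinearMap.congr_fun hs ω).symm]
    rw [Finsupp.linearCombination_apply, Finsupp.sum, map_sum]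
    refine Finset.sum_eq_zero fun q _ => ?_
    rw [_root_.map_smul]
    show ψ (ε (s ω q)) * L q = 0
    rw [h q, zero_mul]
  obtain ⟨v₁, hv₁⟩ := Der.exists_of_der (G := G) (f := 𝟙 (Spec (CommRingCat.of R)))
    (fun x => ε (s (KaehlerDifferential.D R A x) q))
    (fun x x' => by simp only [map_add, Finsupp.add_apply])
    (fun x x' => by
      show ε (s (KaehlerDifferential.D R A (x * x')) q) = ε x * _ + _ * ε x'
      rw [Derivation.leibniz, map_add, _root_.map_smul, _root_.map_smul]
      simp only [Finsupp.add_apply, Finsupp.smul_apply, smul_eq_mul, map_add, map_mul]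
      ring)
    (fun r => by
      have h0 : KaehlerDifferential.D R A (sG G r) = 0 := (KaehlerDifferential.D R A).map_algebraMap r
      show ε (s (KaehlerDifferential.D R A (sG G r)) q) = 0
      rw [h0, map_zero, Finsupp.zero_apply, map_zero])
  obtain ⟨v, hv'⟩ := DynPar.exists_comp c v₁ d
  refine ⟨v, y, isWt_of_comp c hv', hy, ?_⟩
  rw [hv', hy, hv₁]
  exact hq

/-- Where the value is invertible, the vector may be normalised. -/
theorem exists_normalised {R' : Type u} [CommRing R'] (ψ : R →+* R') [LocallyOfFiniteType G.hom]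
    [IsAffine (Red.bc (Spec.map (CommRingCat.ofHom ψ)) G).left]
    (c : Red.DS (Spec (CommRingCat.of R)) M ⟶ G) [IsMonHom c] [IsMonHom (bcHom' (Spec.map (CommRingCat.ofHom ψ)) c)]
    {v : Lie G R (𝟙 (Spec (CommRingCat.of R)))} {d : M} (hv : IsWt c v d) {y : Γ(G.left, ⊤)} (hy : wc c y d = y)
    (hu : IsUnit (ψ (dv v y))) :
    ∃ (v' : Lie (Red.bc (Spec.map (CommRingCat.ofHom ψ)) G) R' (𝟙 (Spec (CommRingCat.of R'))))
      (y' : Γ((Red.bc (Spec.map (CommRingCat.ofHom ψ)) G).left, ⊤)),
      IsWt (bcHom' (Spec.map (CommRingCat.ofHom ψ)) c) v' d ∧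
        wc (bcHom' (Spec.map (CommRingCat.ofHom ψ)) c) y' d = y' ∧ dv v' y' = 1 := by
  let j := Spec.map (CommRingCat.ofHom ψ)
  have hf : Spec.map (CommRingCat.ofHom ψ) ≫ 𝟙 (Spec (CommRingCat.of R)) = j := Category.comp_id _
  have he : 𝟙 (Spec (CommRingCat.of R')) ≫ j = j := Category.id_comp _
  let w : Lie G R' j := pl ψ hf v
  refine ⟨(↑hu.unit⁻¹ : R') • lieDown j he w, bcFun j y, ?_, ?_, ?_⟩
  · exact ((isWt_lieDown_iff j c he w d).2 (hv.pl ψ hf)).smul _
  · rw [bcFun_wc, hy]
  · rw [Der.dv_smul, dv_lieDown, Der.dv_pl]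
    exact hu.val_inv_mul

end Groth.Agent.RootBase
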