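import Groth.Agent.RootBase.Pair
import Groth.Agent.RootBase.Spread
import Groth.Agent.RootBase.Datum
import Groth.Agent.HomDiag.Local

/-!
# Root data and root homomorphisms near a point
-/

set_option autoImplicit false
set_option backward.isDefEq.respectTransparency false
set_option linter.style.haveILetI false
set_option maxHeartbeats 1000000
set_option synthInstance.maxHeartbeats 400000

universe u

open CategoryTheory Limits MonoidalCategory CartesianMonoidalCategory MonObj AlgebraicGeometry LieS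
open scoped CategoryTheory.Obj

noncomputable section

namespace Groth.Agent.RootBase

open Groth.Agent.HomDiag Groth.Agent.DynPar Groth.Agent.RootSys
open Groth.Agent.DynPar.Der (dv uB pl sG)
open Groth.Agent.BGaNotS (gaPt gaFn_gaPt gaPt_ext gaFn_comp gaFn_mul gaFn_one)

variable {R : Type u} [CommRing R]

/-- The point under a field-valued point. -/
theorem mem_asIdeal_iff {K : Type u} [Field K] (ψ : R →+* K) (x : Spec (CommRingCat.of K)) (r : R) :
    r ∈ ((Spec.map (CommRingCat.ofHom ψ)) x).asIdeal ↔ ψ r = 0 := by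
  show ψ r ∈ x.asIdeal ↔ _
  have hx : x.asIdeal = ⊥ := (Ideal.eq_bot_or_top x.asIdeal).resolve_right x.2.ne_top
  rw [hx, Ideal.mem_bot]

theorem mem_asIdeal_psi (p : Spec (CommRingCat.of R)) (r : R) : r ∈ p.asIdeal ↔ psi p r = 0 := by
  rw [← mem_asIdeal_iff (psi p) (IsLocalRing.closedPoint (Kbar p)),
    show Spec.map (CommRingCat.ofHom (psi p)) = Red.geomPt p from Spec.map_preimage _, MTImage.geomPt_closedPoint]

variable {G : Over (Spec (CommRingCat.of R))} [GrpObj G] {M : Type} [AddCommGroup M]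

/-- The root vectors over the base. -/
def HasVectors [IsAffine G.left] (c : Red.DS (Spec (CommRingCat.of R)) M ⟶ G) [IsMonHom c] (d : M) : Prop :=
  ∃ (v : Lie G R (𝟙 (Spec (CommRingCat.of R)))) (y : Γ(G.left, ⊤)), IsWt c v d ∧ wc c y d = y ∧ dv v y = 1

variable [IsAffine G.left] [Smooth G.hom]

/-- Spreading out a weight vector at any field-valued point. -/
theorem exists_spread' (c : Red.DS (Spec (CommRingCat.of R)) M ⟶ G) [IsMonHom c] {K : Type u} [Field K]
    (fb : Spec (CommRingCat.of K) ⟶ Spec (CommRingCat.of R)) {v₀ : Lie G K fb} {d : M} (hv : IsWt c v₀ d)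
    (hv1 : v₀ ≠ 1) :
    ∃ (v : Lie G R (𝟙 (Spec (CommRingCat.of R)))) (y : Γ(G.left, ⊤)), IsWt c v d ∧ wc c y d = y ∧
      ∀ x : Spec (CommRingCat.of K), dv v y ∉ (fb x).asIdeal := by
  obtain ⟨ψ, rfl⟩ := Spec.map_surjective fb
  revert v₀
  rw [show ψ = CommRingCat.ofHom ψ.hom from (CommRingCat.ofHom_hom ψ).symm]
  intro v₀ hv hv1
  obtain ⟨v, y, h1, h2, h3⟩ := exists_spread c ψ.hom hv hv1
  exact ⟨v, y, h1, h2, fun x hx => h3 ((mem_asIdeal_iff _ _ _).1 hx)⟩

/-- **Near a point all roots of that fibre have vectors over the base.** -/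
theorem exists_nhd_vectors (hG : Red.IsReductive G) (c : Red.DS (Spec (CommRingCat.of R)) M ⟶ G) [IsMonHom c]
    (p : Spec (CommRingCat.of R)) :
    ∃ f : R, f ∉ p.asIdeal ∧ ∀ [IsAffine (Red.bc (Spec.map (CommRingCat.ofHom (algebraMap R (Localization.Away f)))) G).left]
      (p₁ : Spec (CommRingCat.of (Localization.Away f))),
      (Spec.map (CommRingCat.ofHom (algebraMap R (Localization.Away f)))) p₁ = p →
      ∀ [IsAffine (Red.bc (Red.geomPt p₁) (Red.bc (Spec.map (CommRingCat.ofHom (algebraMap R (Localization.Away f)))) G)).left]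
        (d : M), IsSplitRoot (bcHom' (Red.geomPt p₁)
            (bcHom' (Spec.map (CommRingCat.ofHom (algebraMap R (Localization.Away f)))) c)) d →
          HasVectors (bcHom' (Spec.map (CommRingCat.ofHom (algebraMap R (Localization.Away f)))) c) d := by
  classical
  let τ := Red.geomPt p
  haveI : IsAffine (Red.bc τ G).left := (hG.2.2 p).1
  haveI : IsMonHom (bcHom' τ c) := isMonHom_bcHom' τ c
  haveI : LocallyOfFiniteType (Red.bc τ G).hom := inferInstanceAs (LocallyOfFiniteType (pullback.snd G.hom τ))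
  let D : Set M := {d | d ≠ 0 ∧ ∃ (v : Lie G R (𝟙 (Spec (CommRingCat.of R)))) (y : Γ(G.left, ⊤)),
    IsWt c v d ∧ wc c y d = y ∧ dv v y ∉ p.asIdeal}
  have hD : D.Finite := (finite_isSplitRoot (bcHom' τ c)).subset fun d hd => by
    obtain ⟨hd, v, y, hv, hy, hvy⟩ := hd
    exact (show IsSplitRoot (bcHom' τ c) d from ⟨hd, vAt p v, isWt_vAt p hv, fun h => hvy (by
      rw [mem_asIdeal_psi, ← dv_vAt, h, Der.dv_one])⟩)
  choose v y hv hy hvy using fun d : hD.toFinset => (hD.mem_toFinset.1 d.2).2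
  let f : R := ∏ d : hD.toFinset, dv (v d) (y d)
  refine ⟨f, fun h => ?_, fun {_} p₁ hp₁ {_} d hd => ?_⟩
  · obtain ⟨d, -, hd⟩ := (Ideal.IsPrime.prod_mem_iff).1 h
    exact hvy d hd
  · let ψ₁ := algebraMap R (Localization.Away f)
    let j₁ := Spec.map (CommRingCat.ofHom ψ₁)
    let τ₁ := Red.geomPt p₁
    haveI : IsMonHom (bcHom' j₁ c) := isMonHom_bcHom' j₁ c
    haveI : LocallyOfFiniteType (Red.bc j₁ G).hom := inferInstanceAs (LocallyOfFiniteType (pullback.snd G.hom j₁))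
    obtain ⟨hd0, w₁, hw₁, hw₁1⟩ := hd
    obtain ⟨w₂, rfl⟩ := lieDown_surjective τ₁ (rfl : fk (Kbar p₁) ≫ τ₁ = _) w₁
    obtain ⟨w₃, rfl⟩ := lieDown_surjective j₁ (rfl : (fk (Kbar p₁) ≫ τ₁) ≫ j₁ = _) w₂
    rw [isWt_lieDown_iff, isWt_lieDown_iff] at hw₁
    obtain ⟨v', y', h1, h2, h3⟩ := exists_spread' c _ hw₁ (fun h => hw₁1 (by rw [h, map_one, map_one]))
    have hdD : d ∈ hD.toFinset := hD.mem_toFinset.2 ⟨hd0, v', y', h1, h2, by
      have hpt : ((fk (Kbar p₁) ≫ τ₁) ≫ j₁) (IsLocalRing.closedPoint (Kbar p₁)) = p := by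
        rw [Scheme.Hom.comp_apply, Scheme.Hom.comp_apply, fk, Algebra.algebraMap_self, CommRingCat.ofHom_id, Spec.map_id]
        show j₁ (τ₁ (IsLocalRing.closedPoint (Kbar p₁))) = p
        rw [MTImage.geomPt_closedPoint]
        exact hp₁
      exact hpt ▸ h3 _⟩
    refine exists_normalised ψ₁ c (hv ⟨d, hdD⟩) (hy ⟨d, hdD⟩) ?_
    exact isUnit_of_dvd_unit (map_dvd ψ₁ (Finset.dvd_prod_of_mem (fun d : hD.toFinset => dv (v d) (y d)) (Finset.mem_univ (⟨d, hdD⟩ : hD.toFinset))))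
      (IsLocalization.Away.algebraMap_isUnit f)

variable [Module.Free ℤ M] [Module.Finite ℤ M]

omit [IsAffine G.left] [Smooth G.hom] in
/-- A point of the additive group after a change of base. -/
theorem down_gpt {K A : Type u} [Field K] [CommRing A] (τ : Spec (CommRingCat.of K) ⟶ Spec (CommRingCat.of R))
    {fa : Spec (CommRingCat.of A) ⟶ Spec (CommRingCat.of K)} {fb : Spec (CommRingCat.of A) ⟶ Spec (CommRingCat.of R)}
    (e : fa ≫ τ = fb) (x : A) (u : Red.Ga (Spec (CommRingCat.of R)) ⟶ G) :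
    down τ e (gaPt (W := pt A fb) ((Scheme.ΓSpecIso (CommRingCat.of A)).inv x) ≫ u) = gpt fa x ≫ bcGa τ u := by
  rw [bcGa_eq, down, ← Category.assoc]
  congr 2
  refine gaPt_ext ?_
  rw [gaFn_gaPush, gaFn_comp, gaFn_gaPt, gpt, gaFn_gaPt]
  show (Scheme.Hom.appTop (𝟙 (Spec (CommRingCat.of A)))) _ = _
  rw [Scheme.Hom.id_appTop]
  rfl

omit [IsAffine G.left] [Smooth G.hom] [Module.Free ℤ M] [Module.Finite ℤ M] in
/-- A point of the diagonalisable group after a change of base. -/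
theorem down_torus {K A : Type u} [Field K] [CommRing A] (τ : Spec (CommRingCat.of K) ⟶ Spec (CommRingCat.of R))
    {fa : Spec (CommRingCat.of A) ⟶ Spec (CommRingCat.of K)} {fb : Spec (CommRingCat.of A) ⟶ Spec (CommRingCat.of R)}
    (e : fa ≫ τ = fb) (t : pt A fa ⟶ Red.DS (Spec (CommRingCat.of K)) M)
    (t' : pt A fb ⟶ Red.DS (Spec (CommRingCat.of R)) M) (h : ∀ m, chv t' m = chv t m)
    (c : Red.DS (Spec (CommRingCat.of R)) M ⟶ G) :
    down τ e (t' ≫ c) = t ≫ bcHom' τ c := by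
  rw [DynPar.down_comp, bcHom', ← Category.assoc, comp_ej]
  congr 1
  rw [down]
  congr 1
  refine ch_ext fun m => ?_
  rw [ch_map_ejPt, ch_comp]
  show (Scheme.Hom.appTop (𝟙 (Spec (CommRingCat.of A)))) _ = _
  rw [Scheme.Hom.id_appTop]
  exact (ConcreteCategory.bijective_of_isIso (Scheme.ΓSpecIso (CommRingCat.of A)).hom).1 (h m)

/-- **The coroot of a pair at a point.** -/
theorem isCorootOf_pair {c : Red.DS (Spec (CommRingCat.of R)) M ⟶ G} [IsMonHom c] {d : M}
    (P : Pair c d) (p : Spec (CommRingCat.of R)) {θ : M →+ ℤ}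
    (hθ : ∀ (X : Over (Spec (CommRingCat.of R))), Set.range X.hom ⊆ {p} →
      ∀ z : X ⟶ Red.Gm (Spec (CommRingCat.of R)), z ≫ P.av = z ≫ Red.DSmap _ θ)
    [IsAffine (Red.bc (Red.geomPt p) G).left] :
    IsCorootOf (bcHom' (Red.geomPt p) c) d θ ∧ θ d = 2 := by
  let τ := Red.geomPt p
  let K := Kbar p
  haveI : IsMonHom (bcHom' τ c) := isMonHom_bcHom' τ c
  have hrange : ∀ {A : Type u} [CommRing A] (fa : Spec (CommRingCat.of A) ⟶ Spec (CommRingCat.of K)),
      Set.range (pt A (fa ≫ τ)).hom ⊆ {p} := fun fa => by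
    rintro _ ⟨x, rfl⟩
    show (fa ≫ τ) x ∈ _
    rw [Scheme.Hom.comp_apply, show fa x = IsLocalRing.closedPoint K from Subsingleton.elim (α := PrimeSpectrum K) _ _]
    exact MTImage.geomPt_closedPoint p
  -- the value on the root
  have hθd : θ d = 2 := by
    classical
    by_contra hne
    have hn : (θ d - 2).natAbs ≠ 0 := Int.natAbs_ne_zero.2 (sub_ne_zero.2 hne)
    obtain ⟨a, ha⟩ := Infinite.exists_notMem_finset ({0} ∪ (Polynomial.nthRootsFinset (θ d - 2).natAbs (1 : K)))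
    have ha0 : a ≠ 0 := fun e => ha (by simp [e])
    have ha1 : a ^ (θ d - 2) ≠ 1 := fun e => ha (by
      refine Finset.mem_union_right _ ((Polynomial.mem_nthRootsFinset (Nat.pos_of_ne_zero hn) (1 : K)).2 ?_)
      rcases Int.natAbs_eq (θ d - 2) with hh | hh <;> rw [hh] at e
      · rwa [zpow_natCast] at e
      · rwa [zpow_neg, inv_eq_one, zpow_natCast] at e)
    obtain ⟨z, hz⟩ := exists_chv (S := Spec (CommRingCat.of R)) (f := fk K ≫ τ)
      ({ toFun := fun m => a ^ (Multiplicative.toAdd m)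
         map_one' := by simp
         map_mul' := fun x y => by rw [toAdd_mul, zpow_add₀ ha0] } : Multiplicative ℤ →* K)
    have h := congrArg (fun w => chv (z ≫ w) (Multiplicative.ofAdd (1 : ℤ))) P.hsq
    simp only [MonObj.comp_pow, Category.comp_id] at h
    rw [← Category.assoc z] at h
    rw [hθ _ (hrange (fk K)) z] at h
    rw [Red.chi, chv_DSmap] at h
    rw [chv_DSmap] at h
    rw [pow_two, chv_mul, hz] at h
    rw [hz] at h
    simp at h
    refine ha1 ?_
    rw [zpow_sub₀ ha0, h, show a ^ (2 : ℤ) = a * a from zpow_two a, div_self (mul_ne_zero ha0 ha0)]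
  refine ⟨?_, hθd⟩
  let a₀ : K := (Scheme.ΓSpecIso (CommRingCat.of K)).hom (Red.gmFn (toUnit (pt K (fk K ≫ τ)) ≫ P.a))
  haveI : IsMonHom P.av := P.hav
  refine ⟨bcGa τ P.u, bcGa τ P.u', a₀, isRootHom_bc τ P.hu, isRootHom_bc τ P.hu', ?_, hθd, ?_⟩
  · exact ((GmPts.unitOfPt (toUnit (pt K (fk K ≫ τ)) ≫ P.a)).isUnit.map
      (Scheme.ΓSpecIso (CommRingCat.of K)).hom.hom).ne_zero
  intro A _ φ x y w t hw ht
  let fa := Spec.map (CommRingCat.ofHom φ)
  have e : fa ≫ τ = fa ≫ τ := rfl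
  let X : Over (Spec (CommRingCat.of R)) := pt A (fa ≫ τ)
  let G₀ := Scheme.ΓSpecIso (CommRingCat.of A)
  let xp : X ⟶ Red.Ga (Spec (CommRingCat.of R)) := gaPt (W := X) (G₀.inv x)
  let yp : X ⟶ Red.Ga (Spec (CommRingCat.of R)) := gaPt (W := X) (G₀.inv y)
  have hfk : Spec.map (CommRingCat.ofHom φ) ≫ (fk K ≫ τ) = fa ≫ τ := by
    rw [fk, Algebra.algebraMap_self, CommRingCat.ofHom_id, Spec.map_id, Category.id_comp]
  have ha : Red.gmFn (toUnit X ≫ P.a) = G₀.inv (φ a₀) := by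
    rw [show toUnit X = qm φ hfk ≫ toUnit _ from (toUnit_unique _ _), Category.assoc, GmPts.gmFn_comp]
    refine (ConcreteCategory.bijective_of_isIso G₀.hom).1 ?_
    rw [show G₀.hom (G₀.inv (φ a₀)) = φ a₀ from ConcreteCategory.congr_hom G₀.inv_hom_id _]
    exact ConcreteCategory.congr_hom (Scheme.ΓSpecIso_naturality (CommRingCat.ofHom φ)) _
  have hval : 1 + Red.gmFn (toUnit X ≫ P.a) * Red.gaFn xp * Red.gaFn yp = G₀.inv (w : A) := by
    rw [ha, gaFn_gaPt, gaFn_gaPt, hw, map_add, map_one, map_mul, map_mul, _root_.mul_assoc]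
  have hu : IsUnit (1 + Red.gmFn (toUnit X ≫ P.a) * Red.gaFn xp * Red.gaFn yp) := by
    rw [hval]; exact w.isUnit.map G₀.inv.hom
  obtain ⟨x', y', z, hz, hx', hy', hr⟩ := P.rel X xp yp hu
  rw [hval] at hz
  have hinv : G₀.inv (↑(w⁻¹) : A) * G₀.inv (w : A) = 1 := by rw [← map_mul, Units.inv_mul, map_one]
  have hxv : x' = gaPt (W := X) (G₀.inv (x * ↑w⁻¹)) := gaPt_ext (by
    rw [gaFn_gaPt, map_mul, ← show Red.gaFn xp = G₀.inv x from gaFn_gaPt _, ← hx', hz]
    linear_combination -Red.gaFn x' * hinv)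
  have hyv : y' = gaPt (W := X) (G₀.inv (y * ↑w⁻¹)) := gaPt_ext (by
    rw [gaFn_gaPt, map_mul, ← show Red.gaFn yp = G₀.inv y from gaFn_gaPt _, ← hy', hz]
    linear_combination -Red.gaFn y' * hinv)
  have hzc : ∀ m, chv (z ≫ P.av) m = chv t m := fun m => by
    rw [hθ X (hrange fa) z, chv_DSmap, ht]
    have h1 : chv z (Multiplicative.ofAdd (1 : ℤ)) = (w : A) := by
      show G₀.hom (ch z (Multiplicative.ofAdd 1)) = _
      rw [← RootIntrinsic.gmFn_eq_ch, hz]
      exact ConcreteCategory.congr_hom G₀.inv_hom_id _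
    let χ : Multiplicative ℤ →* Aˣ := (chv z).toHomUnits
    have h2 : χ (Multiplicative.ofAdd 1) = w := Units.ext h1
    have h3 : ∀ n : ℤ, χ (Multiplicative.ofAdd n) = w ^ n := fun n => by
      rw [← h2, ← map_zpow, ← ofAdd_zsmul, smul_eq_mul, _root_.mul_one]
    exact congrArg Units.val (h3 _)
  have h := congrArg (down τ e) hr
  rw [down_mul, down_mul, down_mul, hxv, hyv, down_gpt, down_gpt, down_gpt, down_gpt, ← Category.assoc z,
    down_torus τ e t (z ≫ P.av) hzc] at h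
  rw [cellMul]
  exact h

/-- The reflection on points. -/
theorem conj_eq_refl {c : Red.DS (Spec (CommRingCat.of R)) M ⟶ G} [IsMonHom c] (d : M) (θ : M →+ ℤ)
    {X : Over (Spec (CommRingCat.of R))} (t : X ⟶ Red.DS (Spec (CommRingCat.of R)) M) :
    (t ≫ Red.chi _ d ≫ Red.DSmap _ θ ≫ c)⁻¹ * (t ≫ c) = t ≫ Red.DSmap _ (refl' d θ) ≫ c := by
  have h : t = (t ≫ Red.chi _ d ≫ Red.DSmap _ θ) * (t ≫ Red.DSmap _ (refl' d θ)) := ch_ext fun m => by
    rw [ch_mul, ← Category.assoc, ch_DSmap, Red.chi, ch_DSmap, ch_DSmap, ← map_mul, ← ofAdd_add]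
    congr 1
    rw [refl'_apply]
    simp
  rw [inv_mul_eq_iff_eq_mul]
  conv_lhs => rw [h]
  rw [MonObj.mul_comp]
  simp only [Category.assoc]

/-- **Root homomorphisms and reflections near a point.** -/
theorem exists_local [Nontrivial R] (hG : Red.IsReductive G) {c : Red.DS (Spec (CommRingCat.of R)) M ⟶ G} [IsMonHom c]
    (hc : Red.IsMaximalTorus c) (p : Spec (CommRingCat.of R)) [IsAffine (Red.bc (Red.geomPt p) G).left]
    (hvec : ∀ d, IsSplitRoot (bcHom' (Red.geomPt p) c) d → HasVectors c d) :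
    ∃ (U : (Spec (CommRingCat.of R)).Opens) (idx : Type) (_ : Fintype idx)
      (P : RootPairing idx ℤ M (Module.Dual ℤ M)) (u : idx → (Red.Ga (Spec (CommRingCat.of R)) ⟶ G)),
      p ∈ U ∧ P.toLinearMap = Module.Dual.eval ℤ M ∧ (∀ a, Red.IsRootHom c (Red.chi _ (P.root a)) (u a)) ∧
      (∀ a, ∃ n : 𝟙_ (Over (Spec (CommRingCat.of R))) ⟶ G, ∀ (X : Over (Spec (CommRingCat.of R))),
        Set.range X.hom ⊆ U → ∀ t : X ⟶ Red.DS (Spec (CommRingCat.of R)) M,
          (toUnit X ≫ n) * (t ≫ c) * (toUnit X ≫ n)⁻¹ =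
            t ≫ Red.DSmap _ (P.reflection a).toLinearMap.toAddMonoidHom ≫ c) ∧
      topologicalKrullDim ↥(Red.geomFibre p G).left =
        ((Module.finrank ℤ M + Fintype.card idx : ℕ) : WithBot ℕ∞) := by
  classical
  let S := Spec (CommRingCat.of R)
  let τ := Red.geomPt p
  haveI : IsMonHom (bcHom' τ c) := isMonHom_bcHom' τ c
  have hGK : Red.IsReductive (Red.bc τ G) := isReductive_bc τ hG
  have hTK := Chev.Borel.isMaximalTorus_of_isMaxTorus _ (isMaxTorus_fibre p hc)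
  obtain ⟨_, P, hP, hroot, hcor, hneg, hdim⟩ := exists_datum hGK (bcHom' τ c) hTK
  choose v y hv hy hvy using fun a : Roots (bcHom' τ c) => hvec a.1 a.2
  have hpair : ∀ a : Roots (bcHom' τ c), Nonempty (Pair c a.1) := fun a => by
    obtain ⟨v', y', h1, h2, h3⟩ := hvec (-a.1) (hneg a.1 a.2)
    exact exists_pair hG hc a.2.1 (hv a) (hy a) (hvy a) h1 h2 h3
  let Q := fun a => (hpair a).some
  -- the coroots near the point
  haveI : AddGroup.FG M := Module.Finite.iff_addGroup_fg.1 inferInstance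
  have hloc : ∀ a, ∃ (U : S.Opens) (θ : M →+ ℤ), p ∈ U ∧ ∀ (X : Over S), Set.range X.hom ⊆ U →
      ∀ z : X ⟶ Red.Gm S, z ≫ (Q a).av = z ≫ Red.DSmap _ θ := by
    intro a
    haveI := (Q a).hav
    obtain ⟨T', v, hvo, hp, θ, hθ⟩ := exists_locally_DSmap (T := 𝟙_ (Over S))
      (φ := fst (Red.Gm S) (𝟙_ (Over S)) ≫ (Q a).av) (fun X g₁ g₂ t => by
        simp only [lift_fst_assoc, MonObj.mul_comp]) p
    haveI := hvo
    refine ⟨v.left.opensRange, θ, hp, fun X hX z => ?_⟩
    have hr : Set.range X.hom ⊆ Set.range v.left := hX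
    let l : X ⟶ T' := Over.homMk (IsOpenImmersion.lift v.left X.hom hr) (by
      rw [← Over.w v, ← Category.assoc, IsOpenImmersion.lift_fac]
      exact Category.comp_id _)
    have h := congr(lift z l ≫ $hθ)
    simp only [lift_whiskerLeft_assoc, lift_fst_assoc] at h
    exact h
  choose U θ hpU hθ using hloc
  have hθeq : ∀ a, θ a = (P.coroot a : M →ₗ[ℤ] ℤ).toAddMonoidHom := fun a => by
    refine isCorootOf_unique' hGK hTK (isCorootOf_pair (Q a) p fun X hX z => hθ a X ?_ z).1 (hcor a)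
    exact hX.trans (Set.singleton_subset_iff.2 (hpU a))
  refine ⟨⟨⋂ a, (U a : Set S), isOpen_iInter_of_finite fun a => (U a).2⟩, _, inferInstance, P, fun a => (Q a).u,
    Set.mem_iInter.2 hpU, hP, fun a => by rw [hroot]; exact (Q a).hu, fun a => ⟨(Q a).n, fun X hX t => ?_⟩, hdim⟩
  rw [(Q a).hn]
  have h := hθ a X (hX.trans (Set.iInter_subset _ a)) (t ≫ Red.chi S a.1)
  simp only [Category.assoc] at h
  rw [reassoc_of% h, conj_eq_refl]
  congr 3
  refine AddMonoidHom.ext fun m => ?_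
  show refl' a.1 (θ a) m = P.reflection a m
  rw [RootPairing.reflection_apply, refl'_apply, hθeq a, hroot]
  show _ = m - P.toLinearMap m (P.coroot a) • a.1
  rw [hP]
  rfl

end Groth.Agent.RootBase
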