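import Groth.Agent.RootBase.Geom
import Groth.Agent.RootBase.Cell
import Groth.Agent.R1F.Main
import Groth.Agent.RedR1.Invert
import Groth.Agent.S8446

/-!
# Opposite root homomorphisms and their Weyl element over a base
-/

set_option autoImplicit false
set_option backward.isDefEq.respectTransparency false
set_option linter.style.haveILetI false
set_option maxHeartbeats 1000000
set_option synthInstance.maxHeartbeats 400000

universe u

open CategoryTheory Limits MonoidalCategory CartesianMonoidalCategory MonObj AlgebraicGeometry LieS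
open scoped CategoryTheory.Obj

noncomputable section

namespace Groth.Agent.RootBase

open Groth.Agent.HomDiag Groth.Agent.DynPar Groth.Agent.RootSys
open Groth.Agent.DynPar.Der (dv uB pl sG)
open Groth.Agent.BGaNotS (gaPt gaFn_gaPt gaPt_ext gaFn_comp gaFn_mul gaFn_one)

variable {R : Type u} [CommRing R] {M : Type} [AddCommGroup M] [Module.Free ℤ M] [Module.Finite ℤ M]

/-- A nonzero character is nontrivial on every geometric fibre. -/
theorem chi_nontrivial {d : M} (hd : d ≠ 0) (s : Spec (CommRingCat.of R)) :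
    (Over.pullback (Red.geomPt s)).map (Red.chi (Spec (CommRingCat.of R)) d) ≠ 1 := by
  intro h
  classical
  let τ := Red.geomPt s
  obtain ⟨g, hg⟩ := R1F.exists_dual_ne_zero hd
  obtain ⟨a, ha⟩ := Infinite.exists_notMem_finset ({0} ∪ (Polynomial.nthRootsFinset (g d).natAbs (1 : Kbar s)))
  have ha0 : a ≠ 0 := fun e => ha (by simp [e])
  have ha1 : a ^ g d ≠ 1 := fun e => ha (by
    refine Finset.mem_union_right _ ((Polynomial.mem_nthRootsFinset (Int.natAbs_pos.2 hg) (1 : Kbar s)).2 ?_)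
    rcases Int.natAbs_eq (g d) with hh | hh <;> rw [hh] at e
    · rwa [zpow_natCast] at e
    · rwa [zpow_neg, inv_eq_one, zpow_natCast] at e)
  obtain ⟨t, ht⟩ := exists_chv (S := Spec (CommRingCat.of R)) (f := τ)
    ({ toFun := fun m => a ^ g (Multiplicative.toAdd m)
       map_one' := by simp
       map_mul' := fun x y => by rw [toAdd_mul, map_add, zpow_add₀ ha0] } : Multiplicative M →* Kbar s)
  have e : 𝟙 _ ≫ τ = τ := Category.id_comp _
  have h1 : down τ e (t ≫ Red.chi _ d) = down τ e (1 : pt (Kbar s) τ ⟶ Red.Gm _) := by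
    rw [DynPar.down_comp, h, MonObj.comp_one]
    exact (map_one (upEquiv τ e (G := Red.Gm (Spec (CommRingCat.of R))))).symm
  have h2 : t ≫ Red.chi _ d = (1 : pt (Kbar s) τ ⟶ Red.Gm _) := (upEquiv τ e (G := Red.Gm (Spec (CommRingCat.of R)))).injective h1
  have h3 : chv (t ≫ Red.chi _ d) (Multiplicative.ofAdd (1 : ℤ)) = 1 := by
    rw [h2]
    show (Scheme.ΓSpecIso (CommRingCat.of (Kbar s))).hom (ch (1 : pt (Kbar s) τ ⟶ Red.Gm _) _) = 1
    rw [ch_one, map_one]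
  rw [Red.chi, chv_DSmap, ht] at h3
  simp at h3
  exact ha1 h3

variable {G : Over (Spec (CommRingCat.of R))} [GrpObj G] [IsAffine G.left] [Smooth G.hom]

/-- The package of a pair of opposite roots over the base. -/
structure Pair (c : Red.DS (Spec (CommRingCat.of R)) M ⟶ G) (d : M) where
  u : Red.Ga (Spec (CommRingCat.of R)) ⟶ G
  u' : Red.Ga (Spec (CommRingCat.of R)) ⟶ G
  a : 𝟙_ (Over (Spec (CommRingCat.of R))) ⟶ Red.Gm (Spec (CommRingCat.of R))
  av : Red.Gm (Spec (CommRingCat.of R)) ⟶ Red.DS (Spec (CommRingCat.of R)) M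
  n : 𝟙_ (Over (Spec (CommRingCat.of R))) ⟶ G
  hu : Red.IsRootHom c (Red.chi _ d) u
  hu' : Red.IsRootHom c (Red.chi _ (-d)) u'
  hav : IsMonHom av
  hsq : av ≫ Red.chi _ d = (𝟙 (Red.Gm (Spec (CommRingCat.of R)))) ^ 2
  rel : ∀ (X : Over (Spec (CommRingCat.of R))) (x y : X ⟶ Red.Ga (Spec (CommRingCat.of R))),
    IsUnit (1 + Red.gmFn (toUnit X ≫ a) * Red.gaFn x * Red.gaFn y) →
      ∃ (x' y' : X ⟶ Red.Ga (Spec (CommRingCat.of R))) (z : X ⟶ Red.Gm (Spec (CommRingCat.of R))),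
        Red.gmFn z = 1 + Red.gmFn (toUnit X ≫ a) * Red.gaFn x * Red.gaFn y ∧
        Red.gaFn x' * Red.gmFn z = Red.gaFn x ∧ Red.gaFn y' * Red.gmFn z = Red.gaFn y ∧
        (x ≫ u) * (y ≫ u') = (y' ≫ u') * (z ≫ av ≫ c) * (x' ≫ u)
  hn : ∀ (X : Over (Spec (CommRingCat.of R))) (t : X ⟶ Red.DS (Spec (CommRingCat.of R)) M),
    (toUnit X ≫ n) * (t ≫ c) * (toUnit X ≫ n)⁻¹ = (t ≫ Red.chi _ d ≫ av ≫ c)⁻¹ * (t ≫ c)

omit [IsAffine G.left] [Smooth G.hom] [Module.Free ℤ M] [Module.Finite ℤ M] in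
theorem normM_of_rootHom {c : Red.DS (Spec (CommRingCat.of R)) M ⟶ G} {d : M}
    {u : Red.Ga (Spec (CommRingCat.of R)) ⟶ G} (hu : Red.IsRootHom c (Red.chi _ (-d)) u) :
    RedR1.NormM c (Red.chi _ d) u := fun X t x => by
  obtain ⟨y, hy, hy'⟩ := hu.2.2 X t x
  refine ⟨y, hy, ?_⟩
  rw [hy', RootIntrinsic.gmFn_chi, RootIntrinsic.gmFn_chi, mul_right_comm, ← map_mul, ← ofAdd_add, neg_add_cancel,
    ofAdd_zero, map_one, _root_.one_mul]

/-- The Weyl element of a commutation relation. -/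
theorem exists_weyl {S : Scheme.{u}} {G T : Over S} [GrpObj G] [GrpObj T] (i : T ⟶ G) [IsMonHom i]
    (hT : Red.IsTorus T) (α : T ⟶ Red.Gm S) [IsMonHom α] (pp pm : Red.Ga S ⟶ G) [IsMonHom pp] [IsMonHom pm]
    (hP : RedR1.NormP i α pp) (hM : RedR1.NormM i α pm) (a : 𝟙_ (Over S) ⟶ Red.Gm S) (av : Red.Gm S ⟶ T)
    [IsMonHom av] (h2 : av ≫ α = (𝟙 (Red.Gm S)) ^ 2)
    (hF : ∀ (X : Over S) (x y : X ⟶ Red.Ga S), IsUnit (1 + Red.gmFn (toUnit X ≫ a) * Red.gaFn x * Red.gaFn y) →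
      ∃ (x' y' : X ⟶ Red.Ga S) (z : X ⟶ Red.Gm S),
        Red.gmFn z = 1 + Red.gmFn (toUnit X ≫ a) * Red.gaFn x * Red.gaFn y ∧
        Red.gaFn x' * Red.gmFn z = Red.gaFn x ∧ Red.gaFn y' * Red.gmFn z = Red.gaFn y ∧
        (x ≫ pp) * (y ≫ pm) = (y' ≫ pm) * (z ≫ av ≫ i) * (x' ≫ pp)) :
    ∃ n : 𝟙_ (Over S) ⟶ G, ∀ (X : Over S) (t : X ⟶ T),
      (toUnit X ≫ n) * (t ≫ i) * (toUnit X ≫ n)⁻¹ = (t ≫ α ≫ av ≫ i)⁻¹ * (t ≫ i) := by
  let A : ∀ X : Over S, (Γ(X.left, ⊤))ˣ := fun X => GmPts.unitOfPt (toUnit X ≫ a)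
  let σ : Red.Ga S ⟶ Red.Ga S :=
    gaPt ((↑(A (Red.Ga S))⁻¹ : Γ((Red.Ga S).left, ⊤)) * Red.gaFn (𝟙 (Red.Ga S)))
  have hσ : ∀ {X : Over S} (x : X ⟶ Red.Ga S), Red.gaFn (x ≫ σ) = (↑(A X)⁻¹ : Γ(X.left, ⊤)) * Red.gaFn x := by
    intro X x
    rw [gaFn_comp, gaFn_gaPt, map_mul, ← gaFn_comp, Category.comp_id]
    congr 1
    have h : Units.map x.left.appTop.hom.toMonoidHom (A (Red.Ga S)) = A X := Units.ext (by
      show x.left.appTop (Red.gmFn (toUnit (Red.Ga S) ≫ a)) = Red.gmFn (toUnit X ≫ a)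
      rw [← GmPts.gmFn_comp, ← Category.assoc, toUnit_unique (x ≫ toUnit _) (toUnit X)])
    rw [← h, ← map_inv]
    rfl
  haveI : IsMonHom σ := DynPar.isMonHom_of_mul σ fun X x y => gaPt_ext (by
    rw [gaFn_mul, hσ, hσ, hσ, gaFn_mul, mul_add])
  have hM' : RedR1.NormM i α (σ ≫ pm) := fun X t y => by
    obtain ⟨y', hy, hy'⟩ := hM X t (y ≫ σ)
    refine ⟨gaPt ((A X : Γ(X.left, ⊤)) * Red.gaFn y'), ?_, ?_⟩
    · have e : (gaPt ((A X : Γ(X.left, ⊤)) * Red.gaFn y') : X ⟶ _) ≫ σ = y' :=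
        gaPt_ext (by rw [hσ, gaFn_gaPt, ← _root_.mul_assoc, Units.inv_mul, _root_.one_mul])
      rw [← Category.assoc, e, hy, Category.assoc]
    · rw [hσ] at hy'
      rw [gaFn_gaPt, _root_.mul_assoc, hy', ← _root_.mul_assoc, Units.mul_inv, _root_.one_mul]
  let s : RedR1.Sys i α pp (σ ≫ pm) av :=
    ⟨inferInstance, inferInstance, inferInstance, inferInstance, inferInstance, h2, hP, hM', fun X x y h => by
      have e : Red.gmFn (toUnit X ≫ a) * Red.gaFn x * Red.gaFn (y ≫ σ) = Red.gaFn x * Red.gaFn y := by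
        rw [hσ]
        show (A X : Γ(X.left, ⊤)) * _ * _ = _
        linear_combination (Red.gaFn x * Red.gaFn y) * Units.mul_inv (A X)
      obtain ⟨x', y', z, hz, hx, hy, hr⟩ := hF X x (y ≫ σ) (by rw [e]; exact h)
      refine ⟨x', gaPt ((A X : Γ(X.left, ⊤)) * Red.gaFn y'), z, by rw [hz, e], hx, ?_, ?_⟩
      · rw [gaFn_gaPt, _root_.mul_assoc, hy, hσ, ← _root_.mul_assoc, Units.mul_inv, _root_.one_mul]
      · have e' : (gaPt ((A X : Γ(X.left, ⊤)) * Red.gaFn y') : X ⟶ _) ≫ σ = y' :=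
          gaPt_ext (by rw [hσ, gaFn_gaPt, ← _root_.mul_assoc, Units.inv_mul, _root_.one_mul])
        rw [← Category.assoc y, hr, ← Category.assoc (gaPt _), e']⟩
  refine ⟨(s.calc' (𝟙_ (Over S))).w 1, fun X t => ?_⟩
  have h := s.torus_mul_w_conj hT (1 : X ⟶ T) t 1
  rw [MonObj.one_comp, _root_.one_mul] at h
  rwa [s.comp_w, map_one]

/-- **Opposite root homomorphisms over a base.** -/
theorem exists_pair [Nontrivial R] (hG : Red.IsReductive G) {c : Red.DS (Spec (CommRingCat.of R)) M ⟶ G} [IsMonHom c]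
    (hc : Red.IsMaximalTorus c) {d : M} (hd : d ≠ 0)
    {v : Lie G R (𝟙 (Spec (CommRingCat.of R)))} (hv : IsWt c v d) {y : Γ(G.left, ⊤)} (hy : wc c y d = y)
    (hvy : dv v y = 1)
    {v' : Lie G R (𝟙 (Spec (CommRingCat.of R)))} (hv' : IsWt c v' (-d)) {y' : Γ(G.left, ⊤)}
    (hy' : wc c y' (-d) = y') (hvy' : dv v' y' = 1) : Nonempty (Pair c d) := by
  let S := Spec (CommRingCat.of R)
  haveI : IsAffineHom G.hom := isAffineHom_of_isAffine G.hom
  haveI := hc.2.1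
  obtain ⟨M', _, _, _, π, m₁, hπs, hm₁, hπ₁, hπd, hker⟩ := exists_line d hd
  have hπd' : π (-d) = 0 := by rw [map_neg, hπd, neg_zero]
  obtain ⟨C, _, z, hz, hzc, hCs⟩ := exists_centralizer_DS (G := G) inferInstance inferInstance (Red.DSmap S π ≫ c)
  haveI := hz.1; haveI := hz.2.1; haveI := hzc; haveI := hCs
  haveI : IsAffine C.left := isAffine_of_isAffineHom z.left
  haveI : IsAffineHom C.hom := isAffineHom_of_isAffine C.hom
  obtain ⟨tC, htC⟩ := (hz.2.2 _ c).2 fun X' x h => by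
    show (x ≫ c) * (h ≫ Red.DSmap _ π ≫ c) = (h ≫ Red.DSmap _ π ≫ c) * (x ≫ c)
    rw [← Category.assoc, ← MonObj.mul_comp, ← MonObj.mul_comp,
      show x * (h ≫ Red.DSmap S π) = (h ≫ Red.DSmap S π) * x from ch_ext fun m => by rw [ch_mul, ch_mul, mul_comm]]
  haveI : IsMonHom tC := MTSplit.isMonHom_of_comp_mono tC z c htC
  haveI : Mono tC := by
    haveI : Mono (tC ≫ z) := by rw [htC]; infer_instance
    exact mono_of_mono tC z
  -- the fibres of the centraliser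
  have hdata : ∀ s : S, ∃ (_ : IsAffine (Red.bc (Red.geomPt s) G).left) (_ : IsAffine (Red.bc (Red.geomPt s) C).left),
      KerData (bcHom' (Red.geomPt s) c) π ((Over.pullback (Red.geomPt s)).map z) (bcHom' (Red.geomPt s) tC) := by
    intro s
    let τ := Red.geomPt s
    haveI hGa : IsAffine (Red.bc τ G).left := (hG.2.2 s).1
    have hcc : IsClosedImmersion ((Over.pullback τ).map z).left :=
      MorphismProperty.overPullbackMap (P := @IsClosedImmersion) τ z hzc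
    haveI := hcc
    haveI hCa : IsAffine (Red.bc τ C).left := isAffine_of_isAffineHom ((Over.pullback τ).map z).left
    haveI : IsMonHom (bcHom' τ c) := isMonHom_bcHom' τ c
    refine ⟨hGa, hCa, kerData_of_centralizer (hG.2.2 s) _ (isMaxTorus_fibre s hc) π hπs ?_ hcc ?_⟩
    · rw [← bcHom'_DSmap]; exact centralizer_bc τ hz
    · rw [bcHom', bcHom', Category.assoc, ← Functor.map_comp, htC]
  have hC : Red.IsReductive C := ⟨inferInstance, inferInstance, fun s => (hdata s).2.2.hred⟩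
  have hCT : Red.IsMaximalTorus tC := by
    refine ⟨inferInstance, inferInstance, hc.2.2.1, fun s T' _ w _ _ g hT' hg => ?_⟩
    obtain ⟨_, _, D⟩ := hdata s
    haveI := isIso_ej (Red.geomPt s) M
    have := D.hmax.2.2.2 T' w (ej (Red.geomPt s) M ≫ g) hT' (by rw [Category.assoc, hg]; rfl)
    haveI := this
    exact IsIso.of_isIso_comp_left (ej (Red.geomPt s) M) g
  -- restrictions
  obtain ⟨v₀, hv₀, hv₀z⟩ := exists_lie_lift (c' := c) π hz htC hv hπd
  obtain ⟨v₁, hv₁, hv₁z⟩ := exists_lie_lift (c' := c) π hz htC hv' hπd'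
  let y₀ := z.left.appTop y
  let y₁ := z.left.appTop y'
  have hy₀ : wc tC y₀ d = y₀ := by rw [← appTop_wc z htC, hy]
  have hy₁ : wc tC y₁ (-d) = y₁ := by rw [← appTop_wc z htC, hy']
  have hvy₀ : dv v₀ y₀ = 1 := by rw [← dv_map, hv₀z, hvy]
  have hvy₁ : dv v₁ y₁ = 1 := by rw [← dv_map, hv₁z, hvy']
  -- weights of the fibres
  have hwts : ∀ (d₀ : M) (_ : d₀ ≠ 0) (_ : π d₀ = 0) (w₀ : Lie C R (𝟙 S)) (x₀ : Γ(C.left, ⊤)), IsWt tC w₀ d₀ →
      dv w₀ x₀ = 1 → ∀ (s : S) [IsAffine (Red.bc (Red.geomPt s) C).left] (e : M)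
        (w : Lie (Red.bc (Red.geomPt s) C) (Kbar s) (fk (Kbar s))), IsWt (bcHom' (Red.geomPt s) tC) w e → w ≠ 1 →
          e ≠ 0 → (e = d₀ ∧ ∃ r : Kbar s, w = r • vAt s w₀) ∨ e = -d₀ := by
    intro d₀ hd₀ hπd₀ w₀ x₀ hw₀ hx₀ s _ e w hw hw1 he
    obtain ⟨_, _, D⟩ := hdata s
    haveI : IsMonHom (bcHom' (Red.geomPt s) c) := isMonHom_bcHom' _ c
    haveI : IsMonHom (bcHom' (Red.geomPt s) tC) := isMonHom_bcHom' _ tC
    haveI := D.hc.1
    exact kerData_wts hker D hd₀ hπd₀ (isWt_vAt s hw₀) (vAt_ne_one s hx₀) e w hw hw1 he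
  -- a regular functional
  haveI : AddGroup.FG M := Module.Finite.iff_addGroup_fg.1 inferInstance
  obtain ⟨mu₀, hmu₀⟩ := DynPar.exists_regular (G := C) tC
  have hne : mu₀ d ≠ 0 := fun h => by
    have h0 : IsWt (Red.DSmap _ mu₀ ≫ tC) v₀ 0 := by rw [← h]; exact hv₀.DSmap mu₀
    have h1 := (mem_ZSub_iff_isWt_zero tC v₀).1 (hmu₀ _ _ _ ((mem_ZSub_iff_isWt_zero _ v₀).2 h0))
    have h2 := hv₀.eq_one h1 hd
    rw [h2, Der.dv_one] at hvy₀
    exact zero_ne_one hvy₀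
  obtain ⟨mu, hmud, hreg⟩ : ∃ mu : M →+ ℤ, 0 < mu d ∧ ∀ (B : Type u) [CommRing B]
      (f : Spec (CommRingCat.of B) ⟶ S) (g : pt B f ⟶ C), g ∈ ZSub f (Red.DSmap S mu ≫ tC) → g ∈ ZSub f tC := by
    rcases lt_or_gt_of_ne hne with h | h
    · refine ⟨-mu₀, by rw [AddMonoidHom.neg_apply]; omega, fun B _ f g hg => hmu₀ B f g ?_⟩
      rw [DynPar.mem_ZSub_iff tC _ gens_univ] at hg ⊢
      exact fun a ha m hm => hg a ha m (by rw [AddMonoidHom.neg_apply]; exact neg_ne_zero.2 hm)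
    · exact ⟨mu₀, h, hmu₀⟩
  have hmud' : 0 < (-mu) (-d) := by rw [AddMonoidHom.neg_apply, map_neg, neg_neg]; exact hmud
  obtain ⟨U, _, uU, hU⟩ := exists_isU (G := C) (Red.DSmap S mu ≫ tC)
  obtain ⟨V, _, vV, hV⟩ := exists_isU (G := C) (Red.DSmap S (-mu) ≫ tC)
  have hisoU := isIso_coord_base hC hCT hd mu hmud hv₀ hy₀ hvy₀ (fun s => hwts d hd hπd v₀ y₀ hv₀ hvy₀ s) hU
  have hisoV := isIso_coord_base hC hCT (neg_ne_zero.2 hd) (-mu) hmud' hv₁ hy₁ hvy₁
    (fun s => hwts (-d) (neg_ne_zero.2 hd) hπd' v₁ y₁ hv₁ hvy₁ s) hV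
  obtain ⟨pp, hpp, ep, -, hep⟩ := exists_isRootHom hU hd hy₀ hisoU
  obtain ⟨pm, hpm, em, -, hem⟩ := exists_isRootHom hV (neg_ne_zero.2 hd) hy₁ hisoV
  haveI := hpp.1; haveI := hpp.2.1; haveI := hpm.1; haveI := hpm.2.1
  haveI : Mono pp := Over.mono_of_mono_left pp
  haveI : Mono pm := Over.mono_of_mono_left pm
  have hcell := isOpenImmersion_cellMap (RedCartan.centralizer_self_of_isReductive hC tC hCT) mu hreg hU hV ep em hep hem
  haveI : IsMonHom (Red.chi S d) := MTQuot.isMonHom_DSmap _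
  let D : R1F.Setup C (Red.DS S M) := ⟨tC, Red.chi S d, pp, pm, inferInstance, inferInstance, inferInstance,
    inferInstance, inferInstance, inferInstance, hCT.2.2.1, chi_nontrivial hd, fun X t x => hpp.2.2 X t x,
    normM_of_rootHom hpm, hcell⟩
  have hnc : D.NC := fun s => S8446.result S C (Red.DS S M) tC hC hCT (Red.chi S d) (chi_nontrivial hd) pp pm
    (fun X t x => hpp.2.2 X t x) (normM_of_rootHom hpm) hcell s
  obtain ⟨⟨a, av⟩, ⟨hav, hsq, hrel⟩, -⟩ := R1F.Setup.main (D := D) hnc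
  haveI : IsMonHom av := hav
  obtain ⟨n, hn⟩ := exists_weyl tC hCT.2.2.1 (Red.chi S d) pp pm (fun X t x => hpp.2.2 X t x) (normM_of_rootHom hpm)
    a av hsq fun X x y => (hrel X x y).2
  have hpush : ∀ {e : M} {w : Red.Ga S ⟶ C}, Red.IsRootHom tC (Red.chi S e) w →
      Red.IsRootHom c (Red.chi S e) (w ≫ z) := fun {e w} hw => by
    haveI := hw.1; haveI := hw.2.1
    refine ⟨inferInstance, by rw [Over.comp_left]; infer_instance, fun X t x => ?_⟩
    obtain ⟨x', h1, h2⟩ := hw.2.2 X t x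
    exact ⟨x', by rw [← Category.assoc, h1, MonObj.mul_comp, MonObj.mul_comp, GrpObj.inv_comp, Category.assoc,
      Category.assoc, htC], h2⟩
  refine ⟨⟨pp ≫ z, pm ≫ z, a, av, n ≫ z, hpush hpp, hpush hpm, hav, hsq, fun X x y h => ?_, fun X t => ?_⟩⟩
  · obtain ⟨x', y', w, h1, h2, h3, h4⟩ := (hrel X x y).2 h
    refine ⟨x', y', w, h1, h2, h3, ?_⟩
    have h5 := congrArg (· ≫ z) h4
    simp only [MonObj.mul_comp, Category.assoc] at h5
    rwa [show D.i ≫ z = c from htC] at h5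
  · have h5 := congrArg (· ≫ z) (hn X t)
    simp only [MonObj.mul_comp, GrpObj.inv_comp, Category.assoc, htC] at h5
    exact h5

end Groth.Agent.RootBase
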