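import Groth.Agent.RootBase.TypeRSplit
import Groth.Agent.S3952

/-!
# Subgroups of type (R) with roots in a system of positive roots
-/

set_option autoImplicit false
set_option backward.isDefEq.respectTransparency false
set_option linter.style.haveILetI false
set_option maxHeartbeats 1000000
set_option synthInstance.maxHeartbeats 400000

universe u

open CategoryTheory Limits MonoidalCategory CartesianMonoidalCategory MonObj GrpObj AlgebraicGeometry
open scoped CategoryTheory.Obj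

noncomputable section

namespace Groth.Agent.RootBase

open Groth.Agent.HomDiag Groth.Agent.DynPar Groth.Agent.RootSys Groth.Agent.MTBridge

variable {S : Scheme.{u}} {G H : Over S} [GrpObj G] [GrpObj H]

/-- The origin of the affine space. -/
theorem exists_origin : ∀ (N : ℕ), ∃ o : 𝟙_ (Over S) ⟶ RedSub.pow (Red.Ga S) N,
    ∀ w : Fin N → (Red.Ga S ⟶ G), (∀ l, IsMonHom (w l)) → o ≫ RedSub.prodMap (Red.Ga S) N w = 1
  | 0 => ⟨𝟙 _, fun _ _ => by rw [Category.id_comp]; rfl⟩
  | N + 1 => by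
    obtain ⟨o, ho⟩ := exists_origin N
    refine ⟨lift (1 : 𝟙_ (Over S) ⟶ Red.Ga S) o, fun w hw => ?_⟩
    haveI := hw 0
    show lift _ o ≫ ((fst _ _ ≫ w 0) * (snd _ _ ≫ RedSub.prodMap (Red.Ga S) N fun k => w k.succ)) = 1
    rw [MonObj.comp_mul, lift_fst_assoc, lift_snd_assoc, MonObj.one_comp, ho _ fun l => hw l.succ, _root_.one_mul]

/-- A shorter list of root groups inside a longer one. -/
theorem exists_pad : ∀ (N m : ℕ) (hm : m ≤ N),
    ∃ (i : RedSub.pow (Red.Ga S) m ⟶ RedSub.pow (Red.Ga S) N) (r : RedSub.pow (Red.Ga S) N ⟶ RedSub.pow (Red.Ga S) m),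
      i ≫ r = 𝟙 _ ∧ ∀ w : Fin N → (Red.Ga S ⟶ G), (∀ l, IsMonHom (w l)) →
        i ≫ RedSub.prodMap (Red.Ga S) N w = RedSub.prodMap (Red.Ga S) m fun l => w (Fin.castLE hm l)
  | N, 0, _ => by
    obtain ⟨o, ho⟩ := exists_origin (S := S) (G := G) N
    exact ⟨o, toUnit _, toUnit_unique _ _, fun w hw => (ho w hw).trans rfl⟩
  | N + 1, m + 1, hm => by
    obtain ⟨i, r, hir, hi⟩ := exists_pad N m (Nat.le_of_succ_le_succ hm)
    refine ⟨𝟙 _ ⊗ₘ i, 𝟙 _ ⊗ₘ r, ?_, fun w hw => ?_⟩
    · rw [tensorHom_comp_tensorHom, Category.id_comp, hir]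
      exact id_tensorHom_id _ _
    · show (𝟙 (Red.Ga S) ⊗ₘ i) ≫ ((fst _ _ ≫ w 0) * (snd _ _ ≫ RedSub.prodMap (Red.Ga S) N fun k => w k.succ)) =
        (fst _ _ ≫ w (Fin.castLE hm 0)) * (snd _ _ ≫ RedSub.prodMap (Red.Ga S) m fun k => w (Fin.castLE hm k.succ))
      rw [MonObj.comp_mul, tensorHom_fst_assoc, tensorHom_snd_assoc, Category.id_comp, hi _ fun l => hw l.succ]
      rfl

/-- The Borel map of part of a system of positive roots is a closed immersion. -/
theorem isClosedImmersion_borelMap (D : Red.SplitRed G) (b : D.P.Base) {m : ℕ} (e : Fin m → D.idx)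
    (hinj : Function.Injective e) (hsub : Set.range e ⊆ RedSub.posRoots D.P b) :
    IsClosedImmersion (RedSub.borelMap D e).left := by
  classical
  letI := D.grpT
  letI := D.acgM
  letI := D.fintypeIdx
  letI := D.finiteM
  letI := D.freeM
  have F := frame_of_splitRed D
  let rest : Finset D.idx := Finset.univ.filter fun a => a ∈ RedSub.posRoots D.P b ∧ a ∉ Set.range e
  let e2 : Fin rest.card → D.idx := fun l => rest.equivFin.symm l
  have hr2 : ∀ a, a ∈ Set.range e2 ↔ a ∈ RedSub.posRoots D.P b ∧ a ∉ Set.range e := fun a => by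
    constructor
    · rintro ⟨l, rfl⟩
      exact (Finset.mem_filter.1 (rest.equivFin.symm l).2).2
    · intro h
      exact ⟨rest.equivFin ⟨a, Finset.mem_filter.2 ⟨Finset.mem_univ _, h⟩⟩, by simp [e2]⟩
  let e' : Fin (m + rest.card) → D.idx := Fin.append e e2
  have he' : RedSub.Enumerates (RedSub.posRoots D.P b) e' := by
    refine ⟨Fin.append_injective_iff.2 ⟨hinj, fun x y h => rest.equivFin.symm.injective (Subtype.ext h),
      fun i j h => ((hr2 _).1 ⟨j, rfl⟩).2 ⟨i, h⟩⟩, ?_⟩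
    rw [show Set.range e' = Set.range e ∪ Set.range e2 from ?_]
    · ext a
      rw [Set.mem_union, hr2]
      exact ⟨fun h => h.elim (fun h => hsub h) And.left, fun h => (em _).imp id fun hn => ⟨h, hn⟩⟩
    · ext a
      constructor
      · rintro ⟨l, rfl⟩
        induction l using Fin.addCases with
        | left i => exact Or.inl ⟨i, (Fin.append_left e e2 i).symm⟩
        | right i => exact Or.inr ⟨i, (Fin.append_right e e2 i).symm⟩
      · rintro (⟨i, rfl⟩ | ⟨i, rfl⟩)
        · exact ⟨Fin.castAdd _ i, Fin.append_left e e2 i⟩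
        · exact ⟨Fin.natAdd _ i, Fin.append_right e e2 i⟩
  haveI := (S3952.result D b e' he').1
  obtain ⟨i, r, hir, hi⟩ := exists_pad (S := S) (G := G) (m + rest.card) m (Nat.le_add_right _ _)
  have hk : ∀ l : Fin m, e' (Fin.castLE (Nat.le_add_right m rest.card) l) = e l := fun l => Fin.append_left e e2 l
  have heq : (D.T ◁ i) ≫ RedSub.borelMap D e' = RedSub.borelMap D e := by
    rw [RedSub.borelMap, MonObj.comp_mul, whiskerLeft_fst_assoc, whiskerLeft_snd_assoc,
      hi _ fun l => (F.hu (e' l)).1, RedSub.borelMap]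
    simp only [hk]
  haveI : IsAffineHom (RedSub.pow (Red.Ga S) (m + rest.card)).hom := isSeparated_powGa S _
  haveI : IsAffineHom (RedSub.pow (Red.Ga S) m).hom := isSeparated_powGa S _
  haveI : IsAffineHom (D.T ◁ r).left := by
    haveI : IsAffineHom r.left := by
      haveI : IsAffineHom (r.left ≫ (RedSub.pow (Red.Ga S) m).hom) := by rw [Over.w r]; infer_instance
      exact IsAffineHom.of_comp r.left (RedSub.pow (Red.Ga S) m).hom
    rw [Over.whiskerLeft_left]
    exact MorphismProperty.pullback_map (P := @IsAffineHom) (inferInstance : IsAffineHom (𝟙 D.T.left)) ‹IsAffineHom r.left›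
      (Category.id_comp _).symm (Over.w r).symm
  haveI : IsClosedImmersion ((D.T ◁ i).left ≫ (D.T ◁ r).left) := by
    rw [← Over.comp_left, ← MonoidalCategory.whiskerLeft_comp, hir, MonoidalCategory.whiskerLeft_id]
    show IsClosedImmersion (𝟙 (D.T ⊗ RedSub.pow (Red.Ga S) m).left)
    infer_instance
  haveI : IsClosedImmersion (D.T ◁ i).left := IsClosedImmersion.of_comp _ (D.T ◁ r).left
  rw [← heq, Over.comp_left]
  infer_instance

/-- **A subgroup of type (R) with all its roots positive is parametrised by its Borel map.** -/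
theorem exists_iso_borelMap_pattern (D : Red.SplitRed G) (h : H ⟶ G) (hH : RedSub.IsTypeR h)
    (t : D.T ⟶ H) (ht : t ≫ h = D.i) (R' : Set D.idx)
    (hrs : ∀ a (s : S), InFib h (D.u a) s ↔ a ∈ R')
    (hfac : ∀ a ∈ R', ∃ v : Red.Ga S ⟶ H, v ≫ h = D.u a) (b : D.P.Base)
    (hb : R' ⊆ RedSub.posRoots D.P b) {m : ℕ} (e : Fin m → D.idx) (he : RedSub.Enumerates R' e) :
    ∃ φ : D.T ⊗ RedSub.pow (Red.Ga S) m ≅ H, φ.hom ≫ h = RedSub.borelMap D e := by
  classical
  have hneg : RedSub.Enumerates (R' ∩ RedSub.negRoots D.P b) (Fin.elim0 : Fin 0 → D.idx) := by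
    letI := D.acgM
    letI := D.finiteM
    letI := D.freeM
    obtain ⟨mu, hp, hn, -⟩ := exists_pos_hom D.P b
    refine ⟨fun x => x.elim0, Eq.trans (Set.eq_empty_of_forall_notMem fun a ⟨l, _⟩ => l.elim0)
      (Set.eq_empty_of_forall_notMem fun a ha => ?_).symm⟩
    have h1 := (hp a).2 (hb ha.1)
    have h2 := (hn a).2 ha.2
    rw [AddMonoidHom.neg_apply] at h2
    omega
  have hpos : RedSub.Enumerates (R' ∩ RedSub.posRoots D.P b) e := by
    rwa [Set.inter_eq_left.2 hb]
  obtain ⟨f, hf, hfo⟩ := exists_cell_pattern D h hH t ht R' hrs hfac b Fin.elim0 e hneg hpos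
  obtain ⟨⟨hm, himm⟩, -, -, hconn, -⟩ := hH
  haveI := hm; haveI := himm; haveI := hfo
  let T := D.T ⊗ RedSub.pow (Red.Ga S) m
  let φ₀ : T ⟶ H := lift (toUnit T) (𝟙 T) ≫ f
  haveI : IsIso (lift (toUnit T) (𝟙 T) : T ⟶ RedSub.pow (Red.Ga S) 0 ⊗ T) :=
    ⟨snd _ _, lift_snd _ _, CartesianMonoidalCategory.hom_ext _ _ (toUnit_unique _ _) (by simp)⟩
  have hφ₀ : φ₀ ≫ h = RedSub.borelMap D e := by
    show (_ ≫ f) ≫ h = _
    rw [Category.assoc, hf, RedSub.cellMap, RedSub.borelMap]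
    simp only [MonObj.comp_mul, RedSub.prodMap, MonObj.comp_one, _root_.one_mul]
    have hl : (lift (toUnit T) (𝟙 T) : T ⟶ RedSub.pow (Red.Ga S) 0 ⊗ (D.T ⊗ RedSub.pow (Red.Ga S) m)) ≫
        snd (RedSub.pow (Red.Ga S) 0) (D.T ⊗ RedSub.pow (Red.Ga S) m) = 𝟙 T := lift_snd _ _
    rw [reassoc_of% hl, reassoc_of% hl]
  haveI : IsIso (lift (toUnit T) (𝟙 T) : T ⟶ RedSub.pow (Red.Ga S) 0 ⊗ T).left :=
    inferInstanceAs (IsIso ((Over.forget S).map (lift (toUnit T) (𝟙 T) : T ⟶ RedSub.pow (Red.Ga S) 0 ⊗ T)))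
  haveI : IsOpenImmersion φ₀.left := by rw [Over.comp_left]; infer_instance
  haveI : IsClosedImmersion φ₀.left := by
    haveI : IsClosedImmersion (φ₀.left ≫ h.left) := by
      rw [← Over.comp_left, hφ₀]
      exact isClosedImmersion_borelMap D b e he.1 (he.2.trans_subset hb)
    exact IsClosedImmersion.of_comp φ₀.left h.left
  obtain ⟨z, hz⟩ : ∃ z : 𝟙_ (Over S) ⟶ T, z ≫ φ₀ = 1 := by
    obtain ⟨o, ho⟩ := exists_origin (S := S) (G := G) m
    letI := D.grpT
    letI := D.acgM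
    letI := D.fintypeIdx
    letI := D.finiteM
    letI := D.freeM
    haveI := D.maximalTorus.1
    refine ⟨lift (1 : 𝟙_ (Over S) ⟶ D.T) o, ?_⟩
    haveI : Mono h := Over.mono_of_mono_left h
    rw [← cancel_mono h, Category.assoc, hφ₀, RedSub.borelMap, MonObj.comp_mul, lift_fst_assoc, lift_snd_assoc,
      MonObj.one_comp, MonObj.one_comp, ho _ fun l => ((frame_of_splitRed D).hu (e l)).1, _root_.one_mul]
  haveI : Surjective φ₀.left := by
    refine ⟨fun x => ?_⟩
    let s := H.hom x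
    let p := (1 : 𝟙_ (Over S) ⟶ H).left s
    have hp : H.hom p = s := by
      show ((1 : 𝟙_ (Over S) ⟶ H).left ≫ H.hom) s = s
      rw [Over.w]
      rfl
    have hpr : p ∈ Set.range φ₀.left := ⟨z.left s, by
      rw [← Scheme.Hom.comp_apply, ← Over.comp_left, hz]⟩
    have hsub : H.hom ⁻¹' {s} ⊆ Set.range φ₀.left := by
      refine (hconn s).isPreconnected.subset_isClopen ⟨φ₀.left.isClosedEmbedding.isClosed_range,
        φ₀.left.isOpenEmbedding.isOpen_range⟩ ⟨p, hp, hpr⟩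
    exact hsub rfl
  haveI : Epi φ₀.left.base := (TopCat.epi_iff_surjective _).2 φ₀.left.surjective
  haveI : IsIso φ₀.left := IsOpenImmersion.isIso φ₀.left
  haveI : IsIso ((Over.forget S).map φ₀) := ‹IsIso φ₀.left›
  haveI : IsIso φ₀ := isIso_of_reflects_iso φ₀ (Over.forget S)
  exact ⟨asIso φ₀, hφ₀⟩

/-- The same over a connected base. -/
theorem exists_iso_borelMap [ConnectedSpace S] (D : Red.SplitRed G) (h : H ⟶ G) (hH : RedSub.IsTypeR h)
    (t : D.T ⟶ H) (ht : t ≫ h = D.i) (R' : Set D.idx)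
    (hR' : ∀ a : D.idx, (∃ v : Red.Ga S ⟶ H, v ≫ h = D.u a) ↔ a ∈ R') (b : D.P.Base)
    (hb : R' ⊆ RedSub.posRoots D.P b) {m : ℕ} (e : Fin m → D.idx) (he : RedSub.Enumerates R' e) :
    ∃ φ : D.T ⊗ RedSub.pow (Red.Ga S) m ≅ H, φ.hom ≫ h = RedSub.borelMap D e :=
  exists_iso_borelMap_pattern D h hH t ht R' (rootSet_iff D h hH t ht hR') (fun a ha => (hR' a).2 ha) b hb e he

end Groth.Agent.RootBase
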