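import Groth.Agent.RootBase.Coord
import Groth.Agent.RootSys.RootU
import Groth.Agent.RootSys.GaBC

/-!
# Products of root subgroups on which a functional is positive
-/

set_option autoImplicit false
set_option backward.isDefEq.respectTransparency false
set_option linter.style.haveILetI false
set_option maxHeartbeats 1000000
set_option synthInstance.maxHeartbeats 400000

universe u

open CategoryTheory Limits MonoidalCategory CartesianMonoidalCategory MonObj AlgebraicGeometry LieS
open scoped CategoryTheory.Obj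

noncomputable section

namespace Groth.Agent.RootBase

open Groth.Agent.HomDiag Groth.Agent.DynPar Groth.Agent.RootSys
open Groth.Agent.DynPar.Der (dv uB pl sG)

section Proj

variable {S : Scheme.{u}}

/-- The projections of a power of the additive group. -/
def proj (S : Scheme.{u}) : (m : ℕ) → Fin m → (RedSub.pow (Red.Ga S) m ⟶ Red.Ga S)
  | 0 => fun l => l.elim0
  | m + 1 => Fin.cases (fst (Red.Ga S) (RedSub.pow (Red.Ga S) m))
      (fun l => snd (Red.Ga S) (RedSub.pow (Red.Ga S) m) ≫ proj S m l)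

theorem proj_zero (m : ℕ) : proj S (m + 1) 0 = fst (Red.Ga S) (RedSub.pow (Red.Ga S) m) := rfl

theorem proj_succ (m : ℕ) (l : Fin m) :
    proj S (m + 1) l.succ = snd (Red.Ga S) (RedSub.pow (Red.Ga S) m) ≫ proj S m l := rfl

theorem pow_ext : ∀ {m : ℕ} {X : Over S} {x y : X ⟶ RedSub.pow (Red.Ga S) m},
    (∀ l, x ≫ proj S m l = y ≫ proj S m l) → x = y
  | 0, _, x, y, _ => toUnit_unique x y
  | m + 1, _, x, y, h => by
    refine CartesianMonoidalCategory.hom_ext _ _ (h 0) (pow_ext fun l => ?_)
    have := h l.succ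
    rw [proj_succ, ← Category.assoc, ← Category.assoc] at this
    exact this

theorem exists_pow : ∀ {m : ℕ} {X : Over S} (a : Fin m → (X ⟶ Red.Ga S)),
    ∃ x : X ⟶ RedSub.pow (Red.Ga S) m, ∀ l, x ≫ proj S m l = a l
  | 0, X, _ => ⟨toUnit X, fun l => l.elim0⟩
  | m + 1, X, a => by
    obtain ⟨x, hx⟩ := exists_pow (fun l => a l.succ)
    refine ⟨lift (a 0) x, Fin.cases (lift_fst _ _) fun l => ?_⟩
    rw [proj_succ, lift_snd_assoc, hx]

theorem prodMap_succ {G : Over S} [GrpObj G] {m : ℕ} (w : Fin (m + 1) → (Red.Ga S ⟶ G)) {X : Over S}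
    (y : X ⟶ RedSub.pow (Red.Ga S) (m + 1)) :
    y ≫ RedSub.prodMap (Red.Ga S) (m + 1) w =
      ((y ≫ proj S (m + 1) 0) ≫ w 0) *
        ((y ≫ snd (Red.Ga S) (RedSub.pow (Red.Ga S) m)) ≫ RedSub.prodMap (Red.Ga S) m (fun l => w l.succ)) := by
  rw [RedSub.prodMap, proj_zero, Category.assoc, Category.assoc]
  exact MonObj.comp_mul _ _ _

theorem proj_snd {m : ℕ} {X : Over S} (y : X ⟶ RedSub.pow (Red.Ga S) (m + 1)) (l : Fin m) :
    (y ≫ snd (Red.Ga S) (RedSub.pow (Red.Ga S) m)) ≫ proj S m l = y ≫ proj S (m + 1) l.succ := by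
  rw [proj_succ, Category.assoc]

end Proj

variable {R : Type u} [CommRing R] {B B' : Type u} [CommRing B] [CommRing B']
  {f : Spec (CommRingCat.of B) ⟶ Spec (CommRingCat.of R)}
  {f' : Spec (CommRingCat.of B') ⟶ Spec (CommRingCat.of R)}

/-- The value of a point of the additive group. -/
def gv (x : pt B f ⟶ Red.Ga (Spec (CommRingCat.of R))) : B :=
  (Scheme.ΓSpecIso (CommRingCat.of B)).hom (Red.gaFn x)

/-- The point of the additive group with a value. -/
def gp (f : Spec (CommRingCat.of B) ⟶ Spec (CommRingCat.of R)) (b : B) :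
    pt B f ⟶ Red.Ga (Spec (CommRingCat.of R)) :=
  BGaNotS.gaPt ((Scheme.ΓSpecIso (CommRingCat.of B)).inv b)

theorem gv_gp (b : B) : gv (gp f b) = b := by
  rw [gv, gp, BGaNotS.gaFn_gaPt]
  exact ConcreteCategory.congr_hom (Scheme.ΓSpecIso (CommRingCat.of B)).inv_hom_id b

theorem gv_inj {x y : pt B f ⟶ Red.Ga (Spec (CommRingCat.of R))} (h : gv x = gv y) : x = y :=
  BGaNotS.gaPt_ext ((ConcreteCategory.bijective_of_isIso (Scheme.ΓSpecIso (CommRingCat.of B)).hom).1 h)

theorem gv_one : gv (1 : pt B f ⟶ Red.Ga (Spec (CommRingCat.of R))) = 0 := by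
  rw [gv, BGaNotS.gaFn_one, map_zero]

theorem gp_zero : gp f (0 : B) = 1 := gv_inj (by rw [gv_gp, gv_one])

theorem gv_qm (h : B →+* B') (hf : Spec.map (CommRingCat.ofHom h) ≫ f = f')
    (x : pt B f ⟶ Red.Ga (Spec (CommRingCat.of R))) : gv (qm h hf ≫ x) = h (gv x) := by
  show (Scheme.ΓSpecIso (CommRingCat.of B')).hom (Red.gaFn (qm h hf ≫ x)) = _
  rw [BGaNotS.gaFn_comp, qm_left]
  exact ConcreteCategory.congr_hom (Scheme.ΓSpecIso_naturality (CommRingCat.ofHom h)) (Red.gaFn x)

theorem qm_gp (h : B →+* B') (hf : Spec.map (CommRingCat.ofHom h) ≫ f = f') (b : B) :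
    qm h hf ≫ gp f b = gp f' (h b) := gv_inj (by rw [gv_qm, gv_gp, gv_gp])

variable {G : Over (Spec (CommRingCat.of R))} [GrpObj G] {M : Type} [AddCommGroup M]
  {c : Red.DS (Spec (CommRingCat.of R)) M ⟶ G}

theorem rootHom_conj_gp {a : M} {u : Red.Ga (Spec (CommRingCat.of R)) ⟶ G} (hu : Red.IsRootHom c (Red.chi _ a) u)
    (g : pt B f ⟶ Red.DS (Spec (CommRingCat.of R)) M) (x : pt B f ⟶ Red.Ga (Spec (CommRingCat.of R))) :
    (g ≫ c) * (x ≫ u) * (g ≫ c)⁻¹ = gp f (chv g (Multiplicative.ofAdd a) * gv x) ≫ u := by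
  obtain ⟨y, hy, hy'⟩ := hu.2.2 _ g x
  rw [← hy]
  congr 1
  refine gv_inj ?_
  rw [gv_gp, gv, hy', map_mul, RootIntrinsic.gmFn_chi]
  rfl

omit [CommRing B'] in
/-- Values of a root homomorphism are contracted by a positive functional. -/
theorem rootHom_mem_USub' [IsAffine G.left] [IsMonHom c] {a : M}
    {u : Red.Ga (Spec (CommRingCat.of R)) ⟶ G} (hu : Red.IsRootHom c (Red.chi _ a) u) (mu : M →+ ℤ) (ha : 0 < mu a)
    (x : pt B f ⟶ Red.Ga (Spec (CommRingCat.of R))) :
    x ≫ u ∈ USub f (Red.DSmap (Spec (CommRingCat.of R)) mu ≫ c) := by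
  haveI := hu.1
  let h : pt (AddMonoidAlgebra B (NN ℤ)) (fL f (NN ℤ)) ⟶ Red.Ga (Spec (CommRingCat.of R)) :=
    gp _ (AddMonoidAlgebra.single ⟨mu a, ha.le⟩ (gv x))
  refine (mem_USub f _).2 ⟨h ≫ u, ?_, ?_⟩
  · rw [← Category.assoc, qz, qm_gp, z0_single, if_neg (fun e => ha.ne' e), gp_zero,
      MonObj.one_comp]
  · rw [orb_apply, ← Category.assoc, ← Category.assoc (qc ℤ f), ← Category.assoc (xu f ℤ), rootHom_conj_gp hu, qn, qd,
      qm_gp, chv_DSmap, chv_xu, qc, gv_qm]
    congr 2
    show AddMonoidAlgebra.mapDomain _ (AddMonoidAlgebra.single _ _) = AddMonoidAlgebra.single _ 1 * AddMonoidAlgebra.single 0 _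
    rw [AddMonoidAlgebra.mapDomain_single, AddMonoidAlgebra.single_mul_single, add_zero, _root_.one_mul]
    rfl

/-- Products of positive root homomorphisms are contracted. -/
theorem prodMap_mem_USub [IsAffine G.left] [IsMonHom c] (mu : M →+ ℤ) : ∀ {m : ℕ} {r : Fin m → M}
    {w : Fin m → (Red.Ga (Spec (CommRingCat.of R)) ⟶ G)}, (∀ l, Red.IsRootHom c (Red.chi _ (r l)) (w l)) →
    (∀ l, 0 < mu (r l)) → ∀ {B : Type u} [CommRing B] {f : Spec (CommRingCat.of B) ⟶ Spec (CommRingCat.of R)}
      (y : pt B f ⟶ RedSub.pow (Red.Ga (Spec (CommRingCat.of R))) m),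
      y ≫ RedSub.prodMap (Red.Ga (Spec (CommRingCat.of R))) m w ∈
        USub f (Red.DSmap (Spec (CommRingCat.of R)) mu ≫ c)
  | 0, _, w, _, _, B, _, f, y => by
    rw [show RedSub.prodMap (Red.Ga (Spec (CommRingCat.of R))) 0 w = 1 from rfl, MonObj.comp_one]
    exact one_mem _
  | m + 1, r, w, hw, hr, B, _, f, y => by
    rw [prodMap_succ]
    exact mul_mem (rootHom_mem_USub' (hw 0) mu (hr 0) _)
      (prodMap_mem_USub mu (fun l => hw l.succ) (fun l => hr l.succ) _)

/-- The torus scales the coordinates. -/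
theorem prodMap_conj : ∀ {m : ℕ} {r : Fin m → M} {w : Fin m → (Red.Ga (Spec (CommRingCat.of R)) ⟶ G)},
    (∀ l, Red.IsRootHom c (Red.chi _ (r l)) (w l)) →
    ∀ {B : Type u} [CommRing B] {f : Spec (CommRingCat.of B) ⟶ Spec (CommRingCat.of R)}
      (g : pt B f ⟶ Red.DS (Spec (CommRingCat.of R)) M)
      (y y' : pt B f ⟶ RedSub.pow (Red.Ga (Spec (CommRingCat.of R))) m),
      (∀ l, gv (y' ≫ proj _ m l) = chv g (Multiplicative.ofAdd (r l)) * gv (y ≫ proj _ m l)) →
      (g ≫ c) * (y ≫ RedSub.prodMap (Red.Ga (Spec (CommRingCat.of R))) m w) * (g ≫ c)⁻¹ =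
        y' ≫ RedSub.prodMap (Red.Ga (Spec (CommRingCat.of R))) m w
  | 0, _, w, _, B, _, f, g, y, y', _ => by
    rw [show RedSub.prodMap (Red.Ga (Spec (CommRingCat.of R))) 0 w = 1 from rfl, MonObj.comp_one, MonObj.comp_one,
      _root_.mul_one, mul_inv_cancel]
  | m + 1, r, w, hw, B, _, f, g, y, y', h => by
    rw [prodMap_succ, prodMap_succ,
      ← prodMap_conj (fun l => hw l.succ) g (y ≫ snd (Red.Ga _) (RedSub.pow (Red.Ga _) m))
        (y' ≫ snd (Red.Ga _) (RedSub.pow (Red.Ga _) m)) (fun l => by rw [proj_snd, proj_snd]; exact h l.succ),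
      show y' ≫ proj _ (m + 1) 0 = gp f (chv g (Multiplicative.ofAdd (r 0)) * gv (y ≫ proj _ (m + 1) 0)) from
        gv_inj (by rw [gv_gp, h 0]),
      ← rootHom_conj_gp (hw 0)]
    group

/-- The product at a point with vanishing coordinates. -/
theorem prodMap_eq_one : ∀ {m : ℕ} {r : Fin m → M} {w : Fin m → (Red.Ga (Spec (CommRingCat.of R)) ⟶ G)},
    (∀ l, Red.IsRootHom c (Red.chi _ (r l)) (w l)) →
    ∀ {B : Type u} [CommRing B] {f : Spec (CommRingCat.of B) ⟶ Spec (CommRingCat.of R)}
      (y : pt B f ⟶ RedSub.pow (Red.Ga (Spec (CommRingCat.of R))) m), (∀ l, gv (y ≫ proj _ m l) = 0) →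
      y ≫ RedSub.prodMap (Red.Ga (Spec (CommRingCat.of R))) m w = 1
  | 0, _, w, _, B, _, f, y, _ => by
    rw [show RedSub.prodMap (Red.Ga (Spec (CommRingCat.of R))) 0 w = 1 from rfl, MonObj.comp_one]
  | m + 1, r, w, hw, B, _, f, y, h => by
    haveI := (hw 0).1
    rw [prodMap_succ, prodMap_eq_one (fun l => hw l.succ) _ (fun l => by rw [proj_snd]; exact h l.succ),
      show y ≫ proj _ (m + 1) 0 = 1 from gv_inj (by rw [gv_one]; exact h 0), MonObj.one_comp, _root_.one_mul]

/-- The product on an axis. -/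
theorem prodMap_axis : ∀ {m : ℕ} {r : Fin m → M} {w : Fin m → (Red.Ga (Spec (CommRingCat.of R)) ⟶ G)},
    (∀ l, Red.IsRootHom c (Red.chi _ (r l)) (w l)) →
    ∀ {B : Type u} [CommRing B] {f : Spec (CommRingCat.of B) ⟶ Spec (CommRingCat.of R)}
      (y : pt B f ⟶ RedSub.pow (Red.Ga (Spec (CommRingCat.of R))) m) (l : Fin m),
      (∀ k, k ≠ l → gv (y ≫ proj _ m k) = 0) →
      y ≫ RedSub.prodMap (Red.Ga (Spec (CommRingCat.of R))) m w = (y ≫ proj _ m l) ≫ w l
  | 0, _, _, _, _, _, _, _, l, _ => l.elim0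
  | m + 1, r, w, hw, B, _, f, y, l, h => by
    rw [prodMap_succ]
    induction l using Fin.cases with
    | zero =>
      rw [prodMap_eq_one (fun l => hw l.succ) _ (fun l => by rw [proj_snd]; exact h _ (Fin.succ_ne_zero l)),
        _root_.mul_one]
    | succ l =>
      haveI := (hw 0).1
      rw [show y ≫ proj _ (m + 1) 0 = 1 from gv_inj (by rw [gv_one]; exact h _ (Fin.succ_ne_zero l).symm),
        MonObj.one_comp, _root_.one_mul,
        prodMap_axis (fun l => hw l.succ) _ l
          (fun k hk => by rw [proj_snd]; exact h _ (fun e => hk (Fin.succ_injective _ e))), proj_snd]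

section Grading

variable {m : ℕ} (r : Fin m → M)

/-- The grading of polynomials by the roots. -/
def scaleHom : MvPolynomial (Fin m) R →+* AddMonoidAlgebra (MvPolynomial (Fin m) R) M :=
  MvPolynomial.eval₂Hom ((cC (MvPolynomial (Fin m) R) M).comp MvPolynomial.C)
    fun i => AddMonoidAlgebra.single (r i) (MvPolynomial.X i)

theorem scaleHom_monomial (q : Fin m →₀ ℕ) (a : R) :
    scaleHom r (MvPolynomial.monomial q a) =
      AddMonoidAlgebra.single (∑ i, q i • r i) (MvPolynomial.monomial q a) := by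
  have key : ∀ F : Finset (Fin m), ∏ i ∈ F, (AddMonoidAlgebra.single (r i) (MvPolynomial.X i (R := R)) :
      AddMonoidAlgebra (MvPolynomial (Fin m) R) M) ^ q i =
      AddMonoidAlgebra.single (∑ i ∈ F, q i • r i) (∏ i ∈ F, MvPolynomial.X i ^ q i) := by
    intro F
    classical
    induction F using Finset.induction_on with
    | empty => rfl
    | insert i F hi ih =>
      rw [Finset.prod_insert hi, Finset.sum_insert hi, Finset.prod_insert hi, ih, AddMonoidAlgebra.single_pow,
        AddMonoidAlgebra.single_mul_single]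
  rw [scaleHom, MvPolynomial.eval₂Hom_monomial, Finsupp.prod_fintype _ _ (fun _ => pow_zero _), key,
    MvPolynomial.monomial_eq, Finsupp.prod_fintype _ _ (fun _ => pow_zero _)]
  show AddMonoidAlgebra.single 0 _ * _ = _
  rw [AddMonoidAlgebra.single_mul_single, zero_add]

theorem support_weight {p : MvPolynomial (Fin m) R} {a : M}
    (hp : scaleHom r p = AddMonoidAlgebra.single a p) {q : Fin m →₀ ℕ} (hq : q ∈ p.support) :
    ∑ i, q i • r i = a := by
  classical
  by_contra hne
  have h1 := congr(MvPolynomial.coeff q (($hp).coeff (∑ i, q i • r i)))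
  rw [AddMonoidAlgebra.coeff_single, Finsupp.single_eq_of_ne hne, MvPolynomial.coeff_zero] at h1
  conv_lhs at h1 => rw [p.as_sum, map_sum (scaleHom r)]
  rw [AddMonoidAlgebra.coeff_sum, Finsupp.finsetSum_apply, MvPolynomial.coeff_sum,
    Finset.sum_eq_single q (fun s _ hs => by
      rw [scaleHom_monomial, AddMonoidAlgebra.coeff_single, Finsupp.single_apply]
      split_ifs
      · rw [MvPolynomial.coeff_monomial, if_neg hs]
      · exact MvPolynomial.coeff_zero _)
    (fun h => absurd hq h), scaleHom_monomial, AddMonoidAlgebra.coeff_single, Finsupp.single_eq_same,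
    MvPolynomial.coeff_monomial, if_pos rfl] at h1
  exact MvPolynomial.mem_support_iff.1 hq h1

omit [AddCommGroup M] in
/-- Restriction of a polynomial to an axis. -/
theorem coeff_axis (l : Fin m) (p : MvPolynomial (Fin m) R) :
    (MvPolynomial.eval₂Hom (Polynomial.C : R →+* Polynomial R) (Pi.single l Polynomial.X) p).coeff 1 =
      MvPolynomial.coeff (Finsupp.single l 1) p := by
  classical
  induction p using MvPolynomial.induction_on' with
  | monomial q a =>
    rw [MvPolynomial.eval₂Hom_monomial, Finsupp.prod_fintype _ _ (fun _ => pow_zero _),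
      MvPolynomial.coeff_monomial]
    by_cases hq : ∀ i, i ≠ l → q i = 0
    · rw [Finset.prod_eq_single l (fun i _ hi => by rw [hq i hi, pow_zero]) (fun h => absurd (Finset.mem_univ l) h),
        Pi.single_eq_same, Polynomial.coeff_C_mul_X_pow]
      have e : q = Finsupp.single l 1 ↔ 1 = q l :=
        ⟨fun h => by rw [h, Finsupp.single_eq_same],
          fun h => Finsupp.ext fun i => by
            by_cases hi : i = l
            · subst hi; rw [Finsupp.single_eq_same, h]
            · rw [hq i hi, Finsupp.single_eq_of_ne hi]⟩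
      simp only [e]
    · push Not at hq
      obtain ⟨i, hi, hqi⟩ := hq
      rw [Finset.prod_eq_zero (Finset.mem_univ i) (by rw [Pi.single_eq_of_ne hi, zero_pow hqi]), mul_zero,
        Polynomial.coeff_zero, if_neg fun h => hqi (by rw [h, Finsupp.single_eq_of_ne hi])]
  | add p q hp hq => rw [map_add, Polynomial.coeff_add, MvPolynomial.coeff_add, hp, hq]

end Grading

/-- A coordinate of a closed root homomorphism. -/
theorem exists_coord_fn [IsAffine G.left] {a : M} {u : Red.Ga (Spec (CommRingCat.of R)) ⟶ G}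
    (hu : Red.IsRootHom c (Red.chi _ a) u) : ∃ y : Γ(G.left, ⊤), ∀ {B : Type u} [CommRing B]
      (f : Spec (CommRingCat.of B) ⟶ Spec (CommRingCat.of R)) (x : pt B f ⟶ Red.Ga (Spec (CommRingCat.of R))),
      rp (x ≫ u) y = gv x := by
  haveI := hu.2.1
  obtain ⟨y, hy⟩ := u.left.app_surjective ⊤ (isAffineOpen_top G.left) (Red.gaFn (𝟙 (Red.Ga _)))
  refine ⟨y, fun {B} _ f x => ?_⟩
  rw [rp_comp, RingHom.comp_apply]
  show rp x (u.left.appTop y) = _
  rw [show u.left.appTop y = _ from hy, gv, ← Category.comp_id x, BGaNotS.gaFn_comp, Category.comp_id]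
  rfl

/-- A power of the additive group is the spectrum of a polynomial ring. -/
theorem exists_powPt (R : Type u) [CommRing R] (m : ℕ) :
    ∃ Y : pt (MvPolynomial (Fin m) R) (Spec.map (CommRingCat.ofHom MvPolynomial.C)) ⟶
        RedSub.pow (Red.Ga (Spec (CommRingCat.of R))) m,
      (∀ l, gv (Y ≫ proj _ m l) = MvPolynomial.X l) ∧ IsIso Y := by
  let S := Spec (CommRingCat.of R)
  let Q := MvPolynomial (Fin m) R
  let fQ : Spec (CommRingCat.of Q) ⟶ S := Spec.map (CommRingCat.ofHom MvPolynomial.C)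
  obtain ⟨Y, hY⟩ := exists_pow fun l : Fin m => gp fQ (MvPolynomial.X l)
  have hYv : ∀ l, gv (Y ≫ proj S m l) = MvPolynomial.X l := fun l => by rw [hY, gv_gp]
  -- the power is the spectrum of the polynomials
  let PW := RedSub.pow (Red.Ga S) m
  let ev : Q →+* Γ(PW.left, ⊤) := MvPolynomial.eval₂Hom
    (PW.hom.appTop.hom.comp (Scheme.ΓSpecIso (CommRingCat.of R)).inv.hom) fun l => Red.gaFn (proj S m l)
  let Z : PW ⟶ pt Q fQ := Over.homMk (PW.left.toSpecΓ ≫ Spec.map (CommRingCat.ofHom ev)) (by
    show (_ ≫ _) ≫ Spec.map (CommRingCat.ofHom MvPolynomial.C) = _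
    rw [Category.assoc, ← Spec.map_comp, ← CommRingCat.ofHom_comp,
      show ev.comp MvPolynomial.C = (PW.hom.appTop.hom.comp (Scheme.ΓSpecIso (CommRingCat.of R)).inv.hom) from
        RingHom.ext fun a => MvPolynomial.eval₂Hom_C _ _ _,
      CommRingCat.ofHom_comp, CommRingCat.ofHom_hom, CommRingCat.ofHom_hom, Spec.map_comp, ← Category.assoc,
      ← Scheme.toSpecΓ_naturality, Category.assoc, ← SpecMap_ΓSpecIso_hom, ← Spec.map_comp, Iso.inv_hom_id, Spec.map_id]
    exact Category.comp_id _)
  have hZ : ∀ q : Q, Z.left.appTop ((Scheme.ΓSpecIso (CommRingCat.of Q)).inv q) = ev q := fun q =>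
    BGaNotS.toSpec_appTop ev q
  have hZY : Z ≫ Y = 𝟙 PW := pow_ext fun l => BGaNotS.gaPt_ext (by
    rw [Category.assoc, hY, BGaNotS.gaFn_comp, gp, BGaNotS.gaFn_gaPt, hZ, Category.id_comp]
    exact MvPolynomial.eval₂Hom_X' _ _ _)
  haveI : IsAffine (pt Q fQ).left := isAffine_Spec _
  have hYZ : Y ≫ Z = 𝟙 (pt Q fQ) := by
    refine Over.OverMorphism.ext (ext_of_isAffine ?_)
    refine CommRingCat.hom_ext (RingHom.ext fun q => ?_)
    obtain ⟨q, rfl⟩ := (ConcreteCategory.bijective_of_isIso (Scheme.ΓSpecIso (CommRingCat.of Q)).inv).2 q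
    rw [Over.comp_left, Scheme.Hom.comp_appTop, CommRingCat.comp_apply, hZ, Over.id_left, Scheme.Hom.id_appTop]
    show Y.left.appTop (ev q) = (Scheme.ΓSpecIso (CommRingCat.of Q)).inv q
    have h : Y.left.appTop.hom.comp ev = (Scheme.ΓSpecIso (CommRingCat.of Q)).inv.hom := by
      refine MvPolynomial.ringHom_ext (fun a => ?_) (fun l => ?_)
      · show Y.left.appTop (ev (MvPolynomial.C a)) = _
        rw [MvPolynomial.eval₂Hom_C]
        show Y.left.appTop (PW.hom.appTop _) = _
        rw [← CommRingCat.comp_apply, ← Scheme.Hom.comp_appTop, Over.w Y]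
        exact (ConcreteCategory.congr_hom (Scheme.ΓSpecIso_inv_naturality (CommRingCat.ofHom (MvPolynomial.C (σ := Fin m) (R := R)))) a).symm
      · show Y.left.appTop (ev (MvPolynomial.X l)) = _
        rw [MvPolynomial.eval₂Hom_X', ← BGaNotS.gaFn_comp, hY, gp, BGaNotS.gaFn_gaPt]
        rfl
    exact congr($h q)
  exact ⟨Y, hYv, ⟨Z, hYZ, hZY⟩⟩

variable [IsAffine G.left] [IsMonHom c]

/-- **The product of positive root homomorphisms is a closed immersion.** -/
theorem isClosedImmersion_prodMap (mu : M →+ ℤ) {m : ℕ} {r : Fin m → M}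
    {w : Fin m → (Red.Ga (Spec (CommRingCat.of R)) ⟶ G)} (hw : ∀ l, Red.IsRootHom c (Red.chi _ (r l)) (w l))
    (hr : ∀ l, 0 < mu (r l)) (hinj : Function.Injective r) :
    IsClosedImmersion (RedSub.prodMap (Red.Ga (Spec (CommRingCat.of R))) m w).left := by
  classical
  let S := Spec (CommRingCat.of R)
  let φ := RedSub.prodMap (Red.Ga S) m w
  let Q := MvPolynomial (Fin m) R
  let fQ : Spec (CommRingCat.of Q) ⟶ S := Spec.map (CommRingCat.ofHom MvPolynomial.C)
  obtain ⟨Y, hYv, _⟩ := exists_powPt R m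
  let χ := rp (Y ≫ φ)
  have hC : ∀ a : R, MvPolynomial.C a ∈ χ.range := fun a =>
    ⟨G.hom.appTop ((Scheme.ΓSpecIso (CommRingCat.of R)).inv a), by
      rw [rp_hom]
      show (Scheme.ΓSpecIso (CommRingCat.of Q)).hom ((Spec.map (CommRingCat.ofHom MvPolynomial.C)).appTop _) = _
      have h1 := ConcreteCategory.congr_hom (Scheme.ΓSpecIso_naturality (CommRingCat.ofHom (MvPolynomial.C (σ := Fin m) (R := R))))
        ((Scheme.ΓSpecIso (CommRingCat.of R)).inv a)
      refine h1.trans (congrArg (MvPolynomial.C (σ := Fin m)) ?_)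
      exact ConcreteCategory.congr_hom (Scheme.ΓSpecIso (CommRingCat.of R)).inv_hom_id a⟩
  -- homogeneity
  have hhom : ∀ (a : Γ(G.left, ⊤)) (d : M),
      scaleHom r (χ (wc c a d)) = AddMonoidAlgebra.single d (χ (wc c a d)) := by
    intro a d
    have hθ : Spec.map (CommRingCat.ofHom (scaleHom r)) ≫ fQ = fL fQ M := by
      show _ ≫ Spec.map _ = Spec.map _ ≫ Spec.map _
      rw [← Spec.map_comp, ← Spec.map_comp, ← CommRingCat.ofHom_comp, ← CommRingCat.ofHom_comp]
      congr 2
      ext a : 1
      exact MvPolynomial.eval₂Hom_C _ _ _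
    have e := prodMap_conj (f := fL fQ M) hw (xu fQ M) (qc M fQ ≫ Y) (qm (scaleHom r) hθ ≫ Y) fun l => by
      rw [Category.assoc, Category.assoc, gv_qm, qc, gv_qm, hYv, chv_xu, scaleHom, MvPolynomial.eval₂Hom_X']
      show _ = AddMonoidAlgebra.single (r l) 1 * AddMonoidAlgebra.single 0 (MvPolynomial.X l)
      rw [AddMonoidAlgebra.single_mul_single, add_zero, _root_.one_mul]
    have h1 := congr(rp $e (wc c a d))
    rw [rp_conj_wc, Category.assoc, qc, rp_qm, RingHom.comp_apply, Category.assoc, rp_qm, RingHom.comp_apply,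
      chv_xu] at h1
    rw [← h1]
    show AddMonoidAlgebra.single d 1 * AddMonoidAlgebra.single 0 _ = _
    rw [AddMonoidAlgebra.single_mul_single, add_zero, _root_.one_mul]
  have hX : ∀ l, MvPolynomial.X l ∈ χ.range := by
    suffices H : ∀ (n : ℕ) (l : Fin m), (mu (r l)).toNat = n → MvPolynomial.X l ∈ χ.range from fun l => H _ l rfl
    intro n
    induction n using Nat.strong_induction_on with
    | _ n ih =>
      intro l hl
      obtain ⟨y, hy⟩ := exists_coord_fn (hw l)
      let p := χ (wc c y (r l))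
      have hne : ∀ d, d ≠ r l → MvPolynomial.coeff (Finsupp.single l 1) (χ (wc c y d)) = 0 := fun d hd => by
        by_contra h
        have := support_weight r (hhom y d) (MvPolynomial.mem_support_iff.2 h)
        rw [Finset.sum_eq_single l (fun i _ hi => by rw [Finsupp.single_eq_of_ne hi, zero_smul])
          (fun h => absurd (Finset.mem_univ l) h), Finsupp.single_eq_same, one_smul] at this
        exact hd this.symm
      have hlin : MvPolynomial.coeff (Finsupp.single l 1) (χ y) = 1 := by
        let e : Q →+* Polynomial R := MvPolynomial.eval₂Hom Polynomial.C (Pi.single l Polynomial.X)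
        have he : Spec.map (CommRingCat.ofHom e) ≫ fQ = Spec.map (CommRingCat.ofHom (Polynomial.C : R →+* Polynomial R)) := by
          show _ ≫ Spec.map _ = _
          rw [← Spec.map_comp, ← CommRingCat.ofHom_comp]
          congr 2
          ext a : 1
          exact MvPolynomial.eval₂Hom_C _ _ _
        have h1 : ∀ k, gv ((qm e he ≫ Y) ≫ proj S m k) = Pi.single (M := fun _ => Polynomial R) l Polynomial.X k := fun k => by
          rw [Category.assoc, gv_qm, hYv]
          exact MvPolynomial.eval₂Hom_X' _ _ _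
        have h2 := prodMap_axis hw (qm e he ≫ Y) l fun k hk => by rw [h1, Pi.single_eq_of_ne hk]
        have h3 := congr(rp $h2 y)
        rw [Category.assoc, rp_qm, RingHom.comp_apply, hy, h1, Pi.single_eq_same] at h3
        rw [← coeff_axis l, show MvPolynomial.eval₂Hom Polynomial.C (Pi.single l Polynomial.X) (χ y) = e (χ y) from rfl,
          h3, Polynomial.coeff_X_one]
      have h1 : MvPolynomial.coeff (Finsupp.single l 1) p = 1 := by
        rw [← hlin]
        conv_rhs => rw [← sum_wc c y, map_sum, MvPolynomial.coeff_sum]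
        rw [Finset.sum_eq_single (r l) (fun d _ hd => hne d hd)]
        intro h
        rw [show wc c y (r l) = 0 from wc_eq_zero_of_notMem c h, map_zero, MvPolynomial.coeff_zero]
      -- the other monomials
      have hrest : ∀ q ∈ p.support, q ≠ Finsupp.single l 1 → MvPolynomial.monomial q (p.coeff q) ∈ χ.range := by
        intro q hq hql
        rw [MvPolynomial.monomial_eq, Finsupp.prod_fintype _ _ (fun _ => pow_zero _)]
        refine mul_mem (hC _) (prod_mem fun k _ => ?_)
        by_cases hk : q k = 0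
        · rw [hk, pow_zero]; exact one_mem _
        refine pow_mem (ih (mu (r k)).toNat ?_ k rfl) _
        have hsum := congrArg mu (support_weight r (hhom y (r l)) hq)
        simp only [map_sum, map_nsmul] at hsum
        simp only [nsmul_eq_mul] at hsum
        rw [← Finset.add_sum_erase _ _ (Finset.mem_univ k)] at hsum
        have hnn : ∀ i ∈ (Finset.univ.erase k), 0 ≤ (q i : ℤ) * mu (r i) := fun i _ =>
          mul_nonneg (Int.natCast_nonneg _) (hr i).le
        have hlt : mu (r k) < mu (r l) := by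
          by_contra hle
          push Not at hle
          have hk1 : (1 : ℤ) ≤ q k := by exact_mod_cast Nat.one_le_iff_ne_zero.2 hk
          have h2 : mu (r k) ≤ (q k : ℤ) * mu (r k) := le_mul_of_one_le_left (hr k).le hk1
          have h3 := Finset.sum_nonneg hnn
          have h4 : ∑ i ∈ Finset.univ.erase k, (q i : ℤ) * mu (r i) = 0 := by omega
          have h5 : (q k : ℤ) * mu (r k) = mu (r k) := by omega
          have hqk : q k = 1 := by
            have : ((q k : ℤ) - 1) * mu (r k) = 0 := by rw [sub_mul, h5, _root_.one_mul, sub_self]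
            have := (mul_eq_zero.1 this).resolve_right (hr k).ne'
            omega
          have h6 : ∀ i, i ≠ k → q i = 0 := fun i hi => by
            have := (Finset.sum_eq_zero_iff_of_nonneg hnn).1 h4 i (Finset.mem_erase.2 ⟨hi, Finset.mem_univ i⟩)
            exact_mod_cast (mul_eq_zero.1 this).resolve_right (hr i).ne'
          have h7 : r k = r l := by
            have := support_weight r (hhom y (r l)) hq
            rwa [Finset.sum_eq_single k (fun i _ hi => by rw [h6 i hi, zero_smul])
              (fun h => absurd (Finset.mem_univ k) h), hqk, one_smul] at this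
          refine hql (Finsupp.ext fun i => ?_)
          rw [← hinj h7]
          by_cases hi : i = k
          · rw [hi, Finsupp.single_eq_same, hqk]
          · rw [h6 i hi, Finsupp.single_eq_of_ne hi]
        have := hr k
        omega
      have hp : p ∈ χ.range := ⟨_, rfl⟩
      rcases subsingleton_or_nontrivial R with hR | hR
      · exact ⟨0, Subsingleton.elim _ _⟩
      have hl' : Finsupp.single l 1 ∈ p.support := MvPolynomial.mem_support_iff.2 (by
        rw [h1]; exact one_ne_zero)
      rw [← p.support_sum_monomial_coeff, ← Finset.add_sum_erase _ _ hl', h1] at hp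
      have h8 : ∑ q ∈ p.support.erase (Finsupp.single l 1), MvPolynomial.monomial q (p.coeff q) ∈ χ.range :=
        sum_mem fun q hq => hrest q (Finset.mem_of_mem_erase hq) (Finset.ne_of_mem_erase hq)
      simpa [MvPolynomial.X] using sub_mem hp h8
  have hsurj : Function.Surjective χ := fun p => by
    induction p using MvPolynomial.induction_on with
    | C a => exact hC a
    | add p q hp hq => exact add_mem (s := χ.range) hp hq
    | mul_X p l hp => exact mul_mem (s := χ.range) hp (hX l)
  haveI : IsIso (inv Y).left := inferInstanceAs (IsIso ((Over.forget _).map (inv Y)))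
  haveI : IsAffine (pt Q fQ).left := isAffine_Spec _
  haveI : IsClosedImmersion (Y ≫ φ).left := IsClosedImmersion.of_surjective_of_isAffine _ fun b => by
    obtain ⟨a, ha⟩ := hsurj ((Scheme.ΓSpecIso (CommRingCat.of Q)).hom b)
    exact ⟨a, (ConcreteCategory.bijective_of_isIso (Scheme.ΓSpecIso (CommRingCat.of Q)).hom).1 ha⟩
  rw [show RedSub.prodMap (Red.Ga (Spec (CommRingCat.of R))) m w = inv Y ≫ (Y ≫ φ) by
    rw [IsIso.inv_hom_id_assoc], Over.comp_left]
  infer_instance

end Groth.Agent.RootBase
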