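import Groth.Agent.RedR1.Present
import Mathlib.AlgebraicGeometry.Sites.Fpqc

/-!
# Covers with units, and subgroups of points closed under descent
-/

set_option autoImplicit false
set_option linter.style.haveILetI false

universe u

open CategoryTheory Limits MonoidalCategory CartesianMonoidalCategory AlgebraicGeometry
open scoped CategoryTheory.MonObj CategoryTheory.GrpObj
open Groth.Agent.BGaNotS (gaPt gaFn_gaPt gaPt_ext gaFn_comp gaFn_mul gaFn_one)

noncomputable section

namespace Groth.Agent.RootBase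

variable {S : Scheme.{u}}

theorem exists_value_cover_qc (X : Over S) (p : Polynomial Γ(X.left, ⊤))
    (hp : ∀ P : Ideal Γ(X.left, ⊤), P.IsPrime → p.map (Ideal.Quotient.mk P) ≠ 0) :
    ∃ (X' : Over S) (g : X' ⟶ X) (c : Γ(X'.left, ⊤)), Flat g.left ∧ Surjective g.left ∧ QuasiCompact g.left ∧ IsUnit (p.eval₂ g.left.appTop.hom c) := by
  let A := Localization.Away p
  haveI : Module.Flat (Polynomial Γ(X.left, ⊤)) A := IsLocalization.flat A (Submonoid.powers p)
  haveI : Module.Flat Γ(X.left, ⊤) A := Module.Flat.trans Γ(X.left, ⊤) (Polynomial Γ(X.left, ⊤)) A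
  let f := Spec.map (CommRingCat.ofHom (algebraMap Γ(X.left, ⊤) A))
  haveI : Flat f := by
    rw [Flat.SpecMap_iff]; exact RingHom.flat_algebraMap_iff.2 inferInstance
  haveI : Surjective f := ⟨fun P => by
    haveI : P.asIdeal.IsPrime := P.isPrime
    haveI : IsDomain (Γ(X.left, ⊤) ⧸ P.asIdeal) := Ideal.Quotient.isDomain _
    let K := FractionRing (Polynomial (Γ(X.left, ⊤) ⧸ P.asIdeal))
    let φ : Polynomial Γ(X.left, ⊤) →+* K :=
      (algebraMap (Polynomial (Γ(X.left, ⊤) ⧸ P.asIdeal)) K).comp (Polynomial.mapRingHom (Ideal.Quotient.mk P.asIdeal))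
    have hφ : IsUnit (φ p) := by
      refine IsUnit.mk0 _ fun h => hp P.asIdeal P.isPrime ?_
      exact IsFractionRing.injective (Polynomial (Γ(X.left, ⊤) ⧸ P.asIdeal)) K (h.trans (map_zero _).symm)
    let ψ : A →+* K := IsLocalization.Away.lift p hφ
    refine ⟨⟨RingHom.ker ψ, RingHom.ker_isPrime ψ⟩, PrimeSpectrum.ext ?_⟩
    change Ideal.comap (algebraMap Γ(X.left, ⊤) A) (RingHom.ker ψ) = P.asIdeal
    rw [RingHom.comap_ker]
    have e : ψ.comp (algebraMap Γ(X.left, ⊤) A) = φ.comp Polynomial.C := by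
      rw [IsScalarTower.algebraMap_eq Γ(X.left, ⊤) (Polynomial Γ(X.left, ⊤)) A, ← RingHom.comp_assoc,
        IsLocalization.Away.lift_comp]
      rfl
    ext r
    rw [RingHom.mem_ker, e, RingHom.comp_apply]
    change algebraMap (Polynomial (Γ(X.left, ⊤) ⧸ P.asIdeal)) K (Polynomial.map (Ideal.Quotient.mk P.asIdeal) (Polynomial.C r)) = 0 ↔ _
    rw [map_eq_zero_iff _ (IsFractionRing.injective _ K), Polynomial.map_C, Polynomial.C_eq_zero,
      Ideal.Quotient.eq_zero_iff_mem]⟩
  let Y : Over S := Over.mk (Limits.pullback.fst X.left.toSpecΓ f ≫ X.hom)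
  let g : Y ⟶ X := Over.homMk (Limits.pullback.fst X.left.toSpecΓ f)
  haveI : Flat g.left := inferInstanceAs (Flat (Limits.pullback.fst X.left.toSpecΓ f))
  haveI : Surjective g.left := inferInstanceAs (Surjective (Limits.pullback.fst X.left.toSpecΓ f))
  let φ : A →+* Γ(Y.left, ⊤) :=
    (Limits.pullback.snd X.left.toSpecΓ f).appTop.hom.comp (Scheme.ΓSpecIso (CommRingCat.of A)).inv.hom
  have hφ : ∀ r, φ (algebraMap _ _ r) = g.left.appTop r := by
    intro r
    change (Limits.pullback.snd X.left.toSpecΓ f).appTop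
      ((Scheme.ΓSpecIso (CommRingCat.of A)).inv (algebraMap _ _ r)) = _
    have h1 : (Scheme.ΓSpecIso (CommRingCat.of A)).inv (algebraMap _ _ r) =
        f.appTop ((Scheme.ΓSpecIso _).inv r) :=
      congrArg (fun m => (CommRingCat.Hom.hom m) r)
        (Scheme.ΓSpecIso_inv_naturality (CommRingCat.ofHom (algebraMap Γ(X.left, ⊤) A)))
    have h2 : X.left.toSpecΓ.appTop ((Scheme.ΓSpecIso Γ(X.left, ⊤)).inv r) = r := by
      rw [Scheme.toSpecΓ_appTop, ← CommRingCat.comp_apply, Iso.inv_hom_id]; rfl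
    conv_rhs => rw [← h2]
    rw [h1]
    have h3 := congrArg (fun m => m.appTop ((Scheme.ΓSpecIso Γ(X.left, ⊤)).inv r))
      (Limits.pullback.condition (f := X.left.toSpecΓ) (g := f))
    simp only [Scheme.Hom.comp_appTop, CommRingCat.comp_apply] at h3
    exact h3.symm
  refine ⟨Y, g, φ (algebraMap (Polynomial Γ(X.left, ⊤)) A Polynomial.X), inferInstance, inferInstance,
    inferInstanceAs (QuasiCompact (Limits.pullback.fst X.left.toSpecΓ f)), ?_⟩
  have h : p.eval₂ g.left.appTop.hom (φ (algebraMap (Polynomial Γ(X.left, ⊤)) A Polynomial.X)) =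
      φ (algebraMap (Polynomial Γ(X.left, ⊤)) A p) := by
    have h0 := Polynomial.hom_eval₂ p (algebraMap Γ(X.left, ⊤) (Polynomial Γ(X.left, ⊤))) (φ.comp (algebraMap _ A)) Polynomial.X
    rw [Polynomial.algebraMap_eq, Polynomial.eval₂_C_X] at h0
    rw [← RingHom.comp_apply, ← RingHom.comp_apply, h0]
    congr 1
    exact RingHom.ext fun r => (hφ r).symm
  rw [h]
  exact (IsLocalization.Away.algebraMap_isUnit p).map φ


/-- Two units `c` with `c - 1` a unit, whose difference is a unit, exist flat locally. -/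
theorem exists_two_units (X : Over S) :
    ∃ (X' : Over S) (q : X' ⟶ X) (c d : Γ(X'.left, ⊤)), Flat q.left ∧ Surjective q.left ∧ QuasiCompact q.left ∧
      IsUnit c ∧ IsUnit (c - 1) ∧ IsUnit d ∧ IsUnit (d - 1) ∧ IsUnit (d - c) := by
  obtain ⟨X₁, q₁, c, h₁, h₂, h₃, hc⟩ := exists_value_cover_qc X
    (Polynomial.X * (Polynomial.X - Polynomial.C 1)) fun Q hQ => by
      haveI := hQ
      haveI : IsDomain (Γ(X.left, ⊤) ⧸ Q) := Ideal.Quotient.isDomain _
      rw [Polynomial.map_mul, Polynomial.map_sub, Polynomial.map_X, Polynomial.map_C, map_one]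
      exact mul_ne_zero Polynomial.X_ne_zero (Polynomial.X_sub_C_ne_zero 1)
  simp only [Polynomial.eval₂_mul, Polynomial.eval₂_sub, Polynomial.eval₂_X, Polynomial.eval₂_C, map_one,
    Polynomial.eval₂_one, IsUnit.mul_iff] at hc
  obtain ⟨X₂, q₂, d, k₁, k₂, k₃, hd⟩ := exists_value_cover_qc X₁
    (Polynomial.X * (Polynomial.X - Polynomial.C 1) * (Polynomial.X - Polynomial.C c)) fun Q hQ => by
      haveI := hQ
      haveI : IsDomain (Γ(X₁.left, ⊤) ⧸ Q) := Ideal.Quotient.isDomain _
      rw [Polynomial.map_mul, Polynomial.map_mul, Polynomial.map_sub, Polynomial.map_sub, Polynomial.map_X,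
        Polynomial.map_C, Polynomial.map_C]
      exact mul_ne_zero (mul_ne_zero Polynomial.X_ne_zero (Polynomial.X_sub_C_ne_zero _))
        (Polynomial.X_sub_C_ne_zero _)
  simp only [Polynomial.eval₂_mul, Polynomial.eval₂_sub, Polynomial.eval₂_X, Polynomial.eval₂_C, map_one,
    Polynomial.eval₂_one, IsUnit.mul_iff] at hd
  haveI := h₁; haveI := h₂; haveI := h₃; haveI := k₁; haveI := k₂; haveI := k₃
  refine ⟨X₂, q₂ ≫ q₁, q₂.left.appTop c, d, ?_, ?_, ?_, hc.1.map _, ?_, hd.1.1, hd.1.2, hd.2⟩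
  · rw [Over.comp_left]; infer_instance
  · rw [Over.comp_left]; infer_instance
  · rw [Over.comp_left]; infer_instance
  · rw [← map_one q₂.left.appTop.hom, ← map_sub]; exact hc.2.map _

variable {G : Over S} [GrpObj G]

/-- A family of subgroups of points stable by composition and by flat descent. -/
structure PtsGroup (G : Over S) [GrpObj G] where
  /-- the points -/
  mem : ∀ X : Over S, Subgroup (X ⟶ G)
  comp : ∀ {X Y : Over S} (q : Y ⟶ X) {g : X ⟶ G}, g ∈ mem X → q ≫ g ∈ mem Y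
  descent : ∀ {X Y : Over S} (q : Y ⟶ X) [Flat q.left] [Surjective q.left] [QuasiCompact q.left] {g : X ⟶ G},
    q ≫ g ∈ mem Y → g ∈ mem X

/-- The points of a subgroup scheme. -/
def PtsGroup.ofMono {H : Over S} [GrpObj H] (h : H ⟶ G) [IsMonHom h] [Mono h] : PtsGroup G where
  mem X :=
    { carrier := {g | ∃ g' : X ⟶ H, g' ≫ h = g}
      one_mem' := ⟨1, MonObj.one_comp (X := X) h⟩
      mul_mem' := fun ⟨x, hx⟩ ⟨y, hy⟩ => ⟨x * y, by rw [MonObj.mul_comp, hx, hy]⟩
      inv_mem' := fun ⟨x, hx⟩ => ⟨x⁻¹, by rw [GrpObj.inv_comp, hx]⟩ }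
  comp := fun q g ⟨g', hg⟩ => ⟨q ≫ g', by rw [Category.assoc, hg]⟩
  descent := fun {X Y} q _ _ _ {g} ⟨g', hg⟩ => by
    have hg' : g'.left ≫ h.left = q.left ≫ g.left := by rw [← Over.comp_left, hg, Over.comp_left]
    haveI : Mono h.left := inferInstance
    have hd : ∀ {Z : Scheme.{u}} (a b : Z ⟶ Y.left), a ≫ q.left = b ≫ q.left → a ≫ g'.left = b ≫ g'.left :=
      fun a b e => by rw [← cancel_mono h.left, Category.assoc, Category.assoc, hg', reassoc_of% e]
    let d := EffectiveEpi.desc q.left g'.left hd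
    have hd' : q.left ≫ d = g'.left := EffectiveEpi.fac _ _ _
    have hdh : d ≫ h.left = g.left := by rw [← cancel_epi q.left, reassoc_of% hd', hg']
    refine ⟨Over.homMk d (by rw [← Over.w g, ← hdh, Category.assoc, Over.w h]), ?_⟩
    ext1
    exact hdh

end Groth.Agent.RootBase
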