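import Groth.Agent.RootBase.SolvT
import Groth.Agent.RootBase.SplitMap

/-!
# Moving a splitting, keeping track of the additive relations between the roots
-/

set_option autoImplicit false
set_option backward.isDefEq.respectTransparency false
set_option linter.style.haveILetI false
set_option maxHeartbeats 2000000
set_option synthInstance.maxHeartbeats 400000

universe u

open CategoryTheory Limits MonoidalCategory CartesianMonoidalCategory MonObj GrpObj AlgebraicGeometry
open scoped CategoryTheory.Obj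

noncomputable section

namespace Groth.Agent.RootBase

open Groth.Agent.HomDiag Groth.Agent.MTBridge
open Groth.Agent.DynPar (bcHom' ej ejPt isReductive_bc isMonHom_bcHom' isMonHom_ej comp_ej bcHom'_DSmap)

variable {S S' : Scheme.{u}} {G : Over S} [GrpObj G]

/-- A splitting changes base, with its torus and root homomorphisms. -/
theorem exists_bc_data_sum (D : Red.SplitRed G) (j : S' ⟶ S) :
    ∃ (D' : Red.SplitRed (Red.bc j G)) (e : D'.T ≅ Red.bc j D.T) (eidx : D.idx ≃ D'.idx),
      (letI := D.grpT; letI := D'.grpT; IsMonHom e.hom) ∧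
      D'.i = e.hom ≫ (Over.pullback j).map D.i ∧ (∀ a, D'.u (eidx a) = RootSys.bcGa j (D.u a)) ∧
      ∀ a b d, D'.P.root (eidx a) + D'.P.root (eidx b) = D'.P.root (eidx d) ↔
        D.P.root a + D.P.root b = D.P.root d := by
  letI := D.grpT; letI := D.acgM; letI := D.fintypeIdx; letI := D.finiteM; letI := D.freeM
  haveI := D.reductive.1
  haveI := D.reductive.2.1
  haveI := DynPar.isIso_ej j D.M
  haveI : IsMonHom (ej j D.M) := isMonHom_ej j
  let c := D.split.inv.hom.hom ≫ D.i
  have hinv : D.split.inv.hom.hom ≫ D.split.hom.hom.hom = 𝟙 _ := congrArg (fun z => z.hom.hom) D.split.inv_hom_id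
  let E : Grp.mk (Red.bc j D.T) ≅ Grp.mk (Red.DS S' D.M) := bcMapIso j D.split ≪≫ (grpIso (ej j D.M)).symm
  have hE : E.inv.hom.hom ≫ (Over.pullback j).map D.i = bcHom' j c := by
    rw [bcHom', show c = D.split.inv.hom.hom ≫ D.i from rfl, Functor.map_comp]
    exact Category.assoc _ _ _
  have hEi : E.hom.hom.hom ≫ E.inv.hom.hom = 𝟙 _ := congrArg (fun a => a.hom.hom) E.hom_inv_id
  have hu : ∀ a, Red.IsRootHom c (Red.chi S (D.P.root a)) (D.u a) := fun a => by
    obtain ⟨h1, h2, h3⟩ := D.rootHom a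
    refine ⟨h1, h2, fun X t x => ?_⟩
    obtain ⟨y, hy, hy'⟩ := h3 X (t ≫ D.split.inv.hom.hom) x
    simp only [Category.assoc] at hy
    rw [Category.assoc, reassoc_of% hinv] at hy'
    exact ⟨y, hy, hy'⟩
  refine ⟨{ T := Red.bc j D.T, i := (Over.pullback j).map D.i, M := D.M, idx := D.idx, P := D.P
            pairing_eq := D.pairing_eq, u := fun a => RootSys.bcGa j (D.u a)
            reductive := isReductive_bc j D.reductive
            maximalTorus := Chev.MaxTorusBC.isMaximalTorus_bc D.i D.maximalTorus j, split := E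
            rootHom := fun a => ⟨(RootSys.isRootHom_bc j (hu a)).1, (RootSys.isRootHom_bc j (hu a)).2.1, fun X t x => ?_⟩
            refl := fun a => ?_
            dim_fibre := fun x => ?_ }, Iso.refl _, Equiv.refl _, (inferInstance : IsMonHom (𝟙 (Red.bc j D.T))),
    (Category.id_comp _).symm, fun a => rfl, fun a b d => Iff.rfl⟩
  · obtain ⟨y, hy, hy'⟩ := (RootSys.isRootHom_bc j (hu a)).2.2 X (t ≫ E.hom.hom.hom) x
    rw [← hE, Category.assoc, ← Category.assoc E.hom.hom.hom, hEi, Category.id_comp] at hy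
    rw [Category.assoc] at hy'
    exact ⟨y, hy, hy'⟩
  · obtain ⟨n, hn⟩ := D.refl a
    refine ⟨toBC j (toUnit _ ≫ n), fun X t => ?_⟩
    have h1 : toUnit X ≫ toBC j (toUnit _ ≫ n) = toBC j (toUnit ((Over.map j).obj X) ≫ n) := by
      rw [comp_toBC, ← Category.assoc, comp_toUnit]
    have h2 : ∀ d : Red.DS S D.M ⟶ G, (t ≫ E.hom.hom.hom) ≫ bcHom' j d =
        toBC j (((Over.map j).map (t ≫ E.hom.hom.hom) ≫ ejPt j D.M) ≫ d) := fun d => by
      rw [bcHom', ← Category.assoc, comp_ej, ← toBC_comp]
    have hinv' : ∀ z : (Over.map j).obj X ⟶ G, toBC j z⁻¹ = (toBC j z)⁻¹ := fun z =>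
      map_inv (MonoidHom.mk' (fun z : (Over.map j).obj X ⟶ G => toBC j z) (toBC_mul j)) z
    have ht : t ≫ (Over.pullback j).map D.i = (t ≫ E.hom.hom.hom) ≫ bcHom' j c := by
      rw [← hE, Category.assoc, ← Category.assoc E.hom.hom.hom, hEi, Category.id_comp]
    have hn' := hn _ (((Over.map j).map (t ≫ E.hom.hom.hom) ≫ ejPt j D.M) ≫ D.split.inv.hom.hom)
    simp only [Category.assoc, reassoc_of% hinv] at hn'
    rw [h1, ht, hE, ← bcHom'_DSmap, ← Category.assoc t, h2, h2, ← toBC_mul, ← hinv', ← toBC_mul]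
    simp only [c, Category.assoc]
    exact congrArg _ hn'
  · rw [← D.dim_fibre (j x)]
    refine (IsHomeomorph.topologicalKrullDim_eq _ (Scheme.homeoOfIso
        ((Over.forget _).mapIso ((Over.pullbackComp (Red.geomPt x) j).app G).symm)).isHomeomorph).trans ?_
    show topologicalKrullDim ↥(Red.bc (Red.geomPt x ≫ j) G).left = _
    rw [MTImage.dim_bc_point, MTImage.dim_geomFibre, Scheme.Hom.comp_apply, MTImage.geomPt_closedPoint]

/-- A splitting moves along an isomorphism, with the same root datum. -/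
theorem exists_map_data {H : Over S} [GrpObj H] (D : Red.SplitRed G) (φ : G ≅ H) [IsMonHom φ.hom] (hH : Red.IsReductive H) :
    ∃ (D' : Red.SplitRed H) (e : D'.T ≅ D.T) (eidx : D.idx ≃ D'.idx), (letI := D.grpT; letI := D'.grpT; IsMonHom e.hom) ∧
      D'.i = e.hom ≫ D.i ≫ φ.hom ∧ (∀ a, D'.u (eidx a) = D.u a ≫ φ.hom) ∧
      ∀ a b d, D'.P.root (eidx a) + D'.P.root (eidx b) = D'.P.root (eidx d) ↔
        D.P.root a + D.P.root b = D.P.root d := by
  letI := D.grpT; letI := D.acgM; letI := D.fintypeIdx; letI := D.finiteM; letI := D.freeM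
  haveI : IsIso φ.hom.left := inferInstanceAs (IsIso ((Over.forget _).map φ.hom))
  haveI : IsMonHom (Iso.refl D.T).hom := inferInstanceAs (IsMonHom (𝟙 _))
  refine ⟨{ T := D.T, i := D.i ≫ φ.hom, M := D.M, idx := D.idx, P := D.P, pairing_eq := D.pairing_eq
            u := fun a => D.u a ≫ φ.hom, reductive := hH
            maximalTorus := MTImage.isMaximalTorus_iso (Iso.refl D.T) φ D.i (D.i ≫ φ.hom) (Category.id_comp _).symm
              D.maximalTorus.2.2.1 D.maximalTorus
            split := D.split, rootHom := fun a => ?_, refl := fun a => ?_, dim_fibre := fun s => ?_ },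
    Iso.refl _, Equiv.refl _, (inferInstance : IsMonHom (𝟙 D.T)), (Category.id_comp _).symm, fun a => rfl, fun a b d => Iff.rfl⟩
  · obtain ⟨h1, h2, h3⟩ := D.rootHom a
    haveI := h1; haveI := h2
    refine ⟨inferInstance, ?_, fun X t x => ?_⟩
    · rw [Over.comp_left]
      infer_instance
    · obtain ⟨y, hy, hy'⟩ := h3 X t x
      refine ⟨y, ?_, hy'⟩
      rw [← Category.assoc, hy]
      simp only [MonObj.mul_comp, GrpObj.inv_comp, Category.assoc]
  · obtain ⟨n, hn⟩ := D.refl a
    refine ⟨n ≫ φ.hom, fun X t => ?_⟩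
    have := congrArg (· ≫ φ.hom) (hn X t)
    simp only [MonObj.mul_comp, GrpObj.inv_comp, Category.assoc] at this
    exact this
  · rw [← D.dim_fibre s]
    exact (IsHomeomorph.topologicalKrullDim_eq _
      (Scheme.homeoOfIso ((Over.forget _).mapIso ((Over.pullback (Red.geomPt s)).mapIso φ))).isHomeomorph).symm

end Groth.Agent.RootBase
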