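import Groth.Agent.RootBase.TypeRSplit
import Groth.Agent.BorelConj.TypeR
import Groth.Agent.S5543

/-!
# Subgroups of type (R) with a common maximal torus
-/

set_option autoImplicit false
set_option backward.isDefEq.respectTransparency false
set_option linter.style.haveILetI false
set_option maxHeartbeats 1000000
set_option synthInstance.maxHeartbeats 400000

universe u

open CategoryTheory Limits MonoidalCategory CartesianMonoidalCategory MonObj GrpObj AlgebraicGeometry
open scoped CategoryTheory.Obj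

noncomputable section

namespace Groth.Agent.RootBase

open Groth.Agent.HomDiag Groth.Agent.DynPar Groth.Agent.RootSys Groth.Agent.MTBridge

variable {S : Scheme.{u}} {G H H' : Over S}

/-- The fibre at a point of a subscheme is contained in that of another one. -/
def FibreLe (h : H ⟶ G) (h' : H' ⟶ G) (s : S) : Prop :=
  ∀ p : H.left, H.hom p = s → h.left p ∈ Set.range h'.left

theorem range_map {A B : Over S} (f : A ⟶ B) {U : Scheme.{u}} (j : U ⟶ S) :
    Set.range ((Over.pullback j).map f).left = pullback.fst B.hom j ⁻¹' Set.range f.left := by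
  have sq := (MTImage.isPullback_map f j).flip
  have e : ((Over.pullback j).map f).left = sq.isoPullback.hom ≫ pullback.fst (pullback.fst B.hom j) f.left :=
    sq.isoPullback_hom_fst.symm
  rw [e, ← Scheme.Pullback.range_fst, Scheme.Hom.comp_base, TopCat.coe_comp]
  exact (Function.Surjective.range_comp sq.isoPullback.hom.homeomorph.surjective _)

/-- Inclusions of fibres are compatible with base change. -/
theorem fibreLe_bc_iff {h : H ⟶ G} {h' : H' ⟶ G} {U : Scheme.{u}} (j : U ⟶ S) (x : U) :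
    FibreLe ((Over.pullback j).map h) ((Over.pullback j).map h') x ↔ FibreLe h h' (j x) := by
  have hfst : ∀ q, pullback.fst G.hom j (((Over.pullback j).map h).left q) = h.left (pullback.fst H.hom j q) :=
    fun q => by
      have e : ((Over.pullback j).map h).left ≫ pullback.fst G.hom j = pullback.fst H.hom j ≫ h.left := by
        simp [Over.pullback]
      exact ((Scheme.Hom.comp_apply _ _ q).symm.trans (congrArg (fun z => z q) e)).trans (Scheme.Hom.comp_apply _ _ q)
  constructor
  · intro hle p hp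
    obtain ⟨q, hq, hq'⟩ := Scheme.Pullback.exists_preimage_pullback (f := H.hom) (g := j) p x hp
    have h1 := hle q hq'
    rw [range_map] at h1
    rw [← hq, ← hfst]
    exact h1
  · intro hle q hq
    rw [range_map, Set.mem_preimage, hfst]
    refine hle _ ?_
    rw [← Scheme.Hom.comp_apply, pullback.condition, Scheme.Hom.comp_apply]
    exact congrArg j hq

/-- An inclusion gives inclusions of all fibres. -/
theorem fibreLe_of_fac {h : H ⟶ G} {h' : H' ⟶ G} {f : H ⟶ H'} (hf : f ≫ h' = h) (s : S) : FibreLe h h' s :=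
  fun p _ => ⟨f.left p, by rw [← Scheme.Hom.comp_apply, ← Over.comp_left, hf]⟩

/-- An inclusion of geometric fibres gives an inclusion of fibres. -/
theorem fibreLe_of_geomFibre {h : H ⟶ G} {h' : H' ⟶ G} {s : S} {f : Red.geomFibre s H ⟶ Red.geomFibre s H'}
    (hf : f ≫ (Over.pullback (Red.geomPt s)).map h' = (Over.pullback (Red.geomPt s)).map h) : FibreLe h h' s := by
  have h1 := (fibreLe_bc_iff (Red.geomPt s) (IsLocalRing.closedPoint _)).1 (fibreLe_of_fac hf _)
  rwa [MTImage.geomPt_closedPoint] at h1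

/-- **Factorisations through a monomorphism descend along etale neighbourhoods.** -/
theorem exists_fac_etale (h : H ⟶ G) (h' : H' ⟶ G) [Mono h'.left] (U : S → Scheme.{u}) (f : ∀ s, U s ⟶ S)
    [∀ s, Etale (f s)] (hs : ∀ s, s ∈ Set.range (f s).base)
    (hf : ∀ s, ∃ k : Red.bc (f s) H ⟶ Red.bc (f s) H',
      k ≫ (Over.pullback (f s)).map h' = (Over.pullback (f s)).map h) : ∃ k : H ⟶ H', k ≫ h' = h := by
  let O : S → H.left.Opens := fun s =>
    ⟨Set.range (pullback.fst H.hom (f s)), (pullback.fst H.hom (f s)).isOpenMap.isOpen_range⟩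
  have hO : ∀ p, p ∈ O (H.hom p) := fun p => by
    obtain ⟨x, hx⟩ := hs (H.hom p)
    obtain ⟨q, hq, -⟩ := Scheme.Pullback.exists_preimage_pullback (f := H.hom) (g := f (H.hom p)) p x hx.symm
    exact ⟨q, hq⟩
  have key : ∀ s, ∃ g : (O s).toScheme ⟶ H'.left, g ≫ h'.left = (O s).ι ≫ h.left := fun s => by
    obtain ⟨k, hk⟩ := hf s
    let a : pullback H.hom (f s) ⟶ (O s).toScheme :=
      IsOpenImmersion.lift (O s).ι (pullback.fst H.hom (f s)) (by rw [Scheme.Opens.range_ι]; exact le_refl _)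
    have ha : a ≫ (O s).ι = pullback.fst H.hom (f s) := IsOpenImmersion.lift_fac _ _ _
    haveI : Etale (a ≫ (O s).ι) := by rw [ha]; infer_instance
    haveI : Etale a := Etale.of_comp a (O s).ι
    haveI : Surjective a := ⟨fun o => by
      obtain ⟨q, hq⟩ := o.2
      refine ⟨q, (O s).ι.isOpenEmbedding.injective ?_⟩
      rw [← Scheme.Hom.comp_apply, ha, hq]
      rfl⟩
    obtain ⟨g₀, hg₀⟩ : ∃ g₀ : pullback H.hom (f s) ⟶ H'.left, g₀ ≫ h'.left = a ≫ (O s).ι ≫ h.left := by
      refine ⟨k.left ≫ pullback.fst H'.hom (f s), ?_⟩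
      have h1 := congrArg (fun q => q.left ≫ pullback.fst G.hom (f s)) hk
      rw [← Category.assoc a, ha]
      simpa [Over.pullback] using h1
    have hdesc : ∀ {Z : Scheme.{u}} (g₁ g₂ : Z ⟶ pullback H.hom (f s)), g₁ ≫ a = g₂ ≫ a →
        g₁ ≫ g₀ = g₂ ≫ g₀ := fun g₁ g₂ hg => by
      rw [← cancel_mono h'.left, Category.assoc, Category.assoc, hg₀, reassoc_of% hg]
    refine ⟨EffectiveEpi.desc a g₀ hdesc, ?_⟩
    rw [← cancel_epi a, EffectiveEpi.fac_assoc, hg₀]
  choose g hg using key
  let 𝒲 := H.left.openCoverOfIsOpenCover (fun p => O (H.hom p)) (TopologicalSpace.IsOpenCover.mk (by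
    rw [eq_top_iff]
    intro p _
    exact TopologicalSpace.Opens.mem_iSup.2 ⟨p, hO p⟩))
  obtain ⟨F, hF⟩ : ∃ F : H.left ⟶ H'.left, F ≫ h'.left = h.left := by
    refine ⟨Scheme.Cover.glueMorphisms 𝒲 (fun p => g (H.hom p)) fun p q => ?_, Scheme.Cover.hom_ext 𝒲 _ _ fun p => ?_⟩
    · rw [← cancel_mono h'.left, Category.assoc, Category.assoc, hg, hg]
      exact pullback.condition_assoc _
    · rw [← Category.assoc, Scheme.Cover.ι_glueMorphisms]
      exact hg _
  exact ⟨Over.homMk F (by rw [← Over.w h', ← Category.assoc, hF, Over.w h]), Over.OverMorphism.ext hF⟩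

variable [GrpObj G] [GrpObj H] [GrpObj H']

/-- In a split situation an inclusion of fibres gives an inclusion of patterns. -/
theorem inFib_of_fibreLe {h : H ⟶ G} {h' : H' ⟶ G} [IsImmersion h'.left] {v : Red.Ga S ⟶ G} {s : S}
    (hle : FibreLe h h' s) (hs : InFib h v s) : InFib h' v s := by
  obtain ⟨x, w, hxw, hx⟩ := hs
  obtain ⟨o⟩ : Nonempty (GP s).left := inferInstance
  have h1 : v.left (x.left o) ∈ Set.range h'.left := by
    rw [← Scheme.Hom.comp_apply, ← Over.comp_left, hxw, Over.comp_left, Scheme.Hom.comp_apply]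
    exact hle _ (GP_range w o)
  obtain ⟨q, hq⟩ := h1
  let J : Over S := Over.mk (pullback.fst v.left h'.left ≫ (Red.Ga S).hom)
  let i : J ⟶ Red.Ga S := Over.homMk (pullback.fst v.left h'.left) rfl
  let wJ : J ⟶ H' := Over.homMk (pullback.snd v.left h'.left) (by
    show pullback.snd _ _ ≫ H'.hom = pullback.fst _ _ ≫ (Red.Ga S).hom
    rw [← Over.w h', ← Category.assoc, ← pullback.condition, Category.assoc, Over.w v])
  obtain ⟨j, hj, -⟩ := Scheme.Pullback.exists_preimage_pullback (f := v.left) (g := h'.left) (x.left o) q hq.symm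
  have h2 := inFib_of_pt i wJ (Over.OverMorphism.ext pullback.condition) j (by
    rw [show i.left j = x.left o from hj]
    exact (gaPt_mem_basicOpen_iff x).1 hx o)
  rwa [show J.hom j = s by
    show (pullback.fst v.left h'.left ≫ (Red.Ga S).hom) j = s
    rw [Scheme.Hom.comp_apply, hj]
    exact GP_range x o] at h2

variable {T : Over S} [GrpObj T]

/-- The torus of a local splitting inside the base change of a subgroup. -/
theorem exists_local_data (hG : Red.IsReductive G) (i : T ⟶ G) (hT : Red.IsMaximalTorus i) (s : S) :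
    ∃ (U : Scheme.{u}) (f : U ⟶ S) (_ : Etale f), s ∈ Set.range f.base ∧
      ∃ (D : Red.SplitRed (Red.bc f G)), ∀ {H : Over S} [GrpObj H] (h : H ⟶ G), RedSub.IsTypeR h →
        ∀ t : T ⟶ H, t ≫ h = i → RedSub.IsTypeR ((Over.pullback f).map h) ∧
          ∃ tU : D.T ⟶ Red.bc f H, tU ≫ (Over.pullback f).map h = D.i := by
  obtain ⟨U, f, hf, hs, D, e, hD⟩ := S5543.result hG i hT s
  refine ⟨U, f, hf, hs, D, fun {H} _ h hh t ht => ⟨?_, e.hom ≫ (Over.pullback f).map t, ?_⟩⟩
  · haveI := hG.1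
    haveI := hG.2.1
    exact BorelConj.isTypeR_bc h hh f
  · rw [Category.assoc, ← Functor.map_comp, ht, hD]

/-- **Subgroups of type (R) with a common maximal torus are included as soon as their fibres are.** -/
theorem exists_le_of_fibreLe (hG : Red.IsReductive G) (i : T ⟶ G) (hT : Red.IsMaximalTorus i) (h : H ⟶ G)
    (h' : H' ⟶ G) (hH : RedSub.IsTypeR h) (hH' : RedSub.IsTypeR h') (t : T ⟶ H) (t' : T ⟶ H') (ht : t ≫ h = i)
    (ht' : t' ≫ h' = i) (hle : ∀ s, FibreLe h h' s) : ∃ f : H ⟶ H', f ≫ h' = h := by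
  haveI := hH'.1.2
  choose U f hf hs D hD using exists_local_data hG i hT
  haveI := hf
  refine exists_fac_etale h h' U f hs fun s => ?_
  obtain ⟨hUH, tU, htU⟩ := hD s h hH t ht
  obtain ⟨hUH', tU', htU'⟩ := hD s h' hH' t' ht'
  haveI := hUH'.1.2
  exact exists_le_split (D s) _ hUH tU htU _ hUH' tU' htU' fun a x hx =>
    inFib_of_fibreLe ((fibreLe_bc_iff (f s) x).2 (hle _)) hx

/-- **The locus where one fibre is in another one is open, with an inclusion over it.** -/
theorem exists_nhd_fibreLe (hG : Red.IsReductive G) (i : T ⟶ G) (hT : Red.IsMaximalTorus i) (h : H ⟶ G)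
    (h' : H' ⟶ G) (hH : RedSub.IsTypeR h) (hH' : RedSub.IsTypeR h') (t : T ⟶ H) (t' : T ⟶ H') (ht : t ≫ h = i)
    (ht' : t' ≫ h' = i) (s : S) :
    ∃ W : S.Opens, s ∈ W ∧ ∀ w ∈ W, FibreLe h h' w ↔ FibreLe h h' s := by
  obtain ⟨U, f, hf, ⟨x₀, hx₀⟩, D, hD⟩ := exists_local_data hG i hT s
  haveI := hf
  obtain ⟨hUH, tU, htU⟩ := hD h hH t ht
  obtain ⟨hUH', tU', htU'⟩ := hD h' hH' t' ht'
  haveI := hUH'.1.2
  obtain ⟨V, hV, hVc⟩ : ∃ V : U.Opens, x₀ ∈ V ∧ ∀ x ∈ V, ∀ a,
      (InFib ((Over.pullback f).map h) (D.u a) x ↔ InFib ((Over.pullback f).map h) (D.u a) x₀) ∧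
      (InFib ((Over.pullback f).map h') (D.u a) x ↔ InFib ((Over.pullback f).map h') (D.u a) x₀) := by
    letI := D.grpT
    letI := D.acgM
    letI := D.fintypeIdx
    letI := D.finiteM
    letI := D.freeM
    have F := frame_of_splitRed D
    obtain ⟨⟨a1, a2⟩, a3, -, hconn, -⟩ := hUH
    obtain ⟨⟨b1, b2⟩, b3, -, hconn', -⟩ := id hUH'
    haveI := a1; haveI := a2; haveI := a3; haveI := b1; haveI := b2; haveI := b3
    obtain ⟨a4, hcH⟩ := cH_hcH D _ tU htU
    obtain ⟨b4, hcH'⟩ := cH_hcH D _ tU' htU'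
    haveI := a4; haveI := b4
    obtain ⟨V₁, hV₁, h1⟩ := F.exists_nhd_const (exists_opp D) hconn hcH x₀
    obtain ⟨V₂, hV₂, h2⟩ := F.exists_nhd_const (exists_opp D) hconn' hcH' x₀
    exact ⟨V₁ ⊓ V₂, ⟨hV₁, hV₂⟩, fun x hx a => ⟨h1 x hx.1 a, h2 x hx.2 a⟩⟩
  refine ⟨⟨f '' (V : Set U), f.isOpenMap _ V.2⟩, ⟨x₀, hV, hx₀⟩, ?_⟩
  rintro _ ⟨x, hx, rfl⟩
  -- inclusion of fibres is inclusion of the patterns
  have key : ∀ y ∈ V, FibreLe h h' (f y) ↔ ∀ a, InFib ((Over.pullback f).map h) (D.u a) x₀ →
      InFib ((Over.pullback f).map h') (D.u a) x₀ := by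
    intro y hy
    constructor
    · exact fun hle a ha => (hVc y hy a).2.1 (inFib_of_fibreLe ((fibreLe_bc_iff f y).2 hle) ((hVc y hy a).1.2 ha))
    · intro hpat
      rw [← fibreLe_bc_iff f y]
      letI := D.grpT
      letI := D.acgM
      letI := D.fintypeIdx
      letI := D.finiteM
      letI := D.freeM
      have F := (frame_of_splitRed D).bc V.ι
      obtain ⟨⟨a1, a2⟩, a3, -, hconn, -⟩ := hUH
      obtain ⟨⟨b1, b2⟩, b3, -, hconn', -⟩ := id hUH'
      haveI := a1; haveI := a2; haveI := a3; haveI := b1; haveI := b2; haveI := b3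
      obtain ⟨a4, hcH⟩ := cH_hcH D _ tU htU
      obtain ⟨b4, hcH'⟩ := cH_hcH D _ tU' htU'
      haveI := a4; haveI := b4
      haveI : Smooth (Red.bc V.ι (Red.bc f H)).hom := inferInstanceAs (Smooth (pullback.snd (Red.bc f H).hom V.ι))
      haveI : Smooth (Red.bc V.ι (Red.bc f H')).hom := inferInstanceAs (Smooth (pullback.snd (Red.bc f H').hom V.ι))
      haveI := isMonHom_map' V.ι ((Over.pullback f).map h)
      haveI := isMonHom_map' V.ι ((Over.pullback f).map h')
      haveI : IsImmersion ((Over.pullback V.ι).map ((Over.pullback f).map h)).left :=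
        MorphismProperty.overPullbackMap (P := @IsImmersion) V.ι _ inferInstance
      haveI : IsImmersion ((Over.pullback V.ι).map ((Over.pullback f).map h')).left :=
        MorphismProperty.overPullbackMap (P := @IsImmersion) V.ι _ inferInstance
      have e1 := congrArg (fun q => bcHom' V.ι q) hcH
      have e2 := congrArg (fun q => bcHom' V.ι q) hcH'
      simp only [bcHom', Functor.map_comp] at e1 e2
      haveI := isMonHom_bcHom' V.ι (D.split.inv.hom.hom ≫ tU)
      haveI := isMonHom_bcHom' V.ι (D.split.inv.hom.hom ≫ tU')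
      obtain ⟨k, hk⟩ := F.exists_le (exists_opp D)
        (cH := bcHom' V.ι (D.split.inv.hom.hom ≫ tU)) (MTImage.isConnected_fibre_bc _ hconn V.ι)
        (by simp only [bcHom', Functor.map_comp, Category.assoc] at e1 ⊢; exact e1)
        (c'' := bcHom' V.ι (D.split.inv.hom.hom ≫ tU')) (MTImage.isConnected_fibre_bc _ hconn' V.ι)
        (by simp only [bcHom', Functor.map_comp, Category.assoc] at e2 ⊢; exact e2) fun a v hv => by
          rw [inFib_bc_iff] at hv ⊢
          exact (hVc _ v.2 a).2.2 (hpat a ((hVc _ v.2 a).1.1 hv))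
      exact (fibreLe_bc_iff V.ι ⟨y, hy⟩).1 (fibreLe_of_fac hk _)
  exact (key x hx).trans (by rw [← hx₀]; exact (key x₀ hV).symm)

end Groth.Agent.RootBase
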