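import Groth.Agent.RootBase.UnipStabS
import Groth.Agent.RootBase.TypeRLocal
import Groth.Agent.Weighting.Semicont
import Groth.Agent.UniRad.Radical
import Groth.Agent.FpqcDescent.Sep

/-!
# Unipotent subgroups normalised by a maximal torus, locally for the etale topology
-/

set_option autoImplicit false
set_option backward.isDefEq.respectTransparency false
set_option linter.style.haveILetI false
set_option maxHeartbeats 1000000
set_option synthInstance.maxHeartbeats 400000

universe u

open CategoryTheory Limits MonoidalCategory CartesianMonoidalCategory MonObj GrpObj AlgebraicGeometry LieS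
open scoped CategoryTheory.Obj

noncomputable section

namespace Groth.Agent.RootBase

open Groth.Agent.HomDiag Groth.Agent.DynPar Groth.Agent.RootSys Groth.Agent.MTBridge

variable {S : Scheme.{u}}

/-- **Closed immersions descend along etale neighbourhoods of the base.** -/
theorem isClosedImmersion_of_etale {X Y : Over S} (m : X ⟶ Y) (U : S → Scheme.{u}) (f : ∀ s, U s ⟶ S)
    [∀ s, Etale (f s)] (hs : ∀ s, s ∈ Set.range (f s).base)
    (hf : ∀ s, IsClosedImmersion ((Over.pullback (f s)).map m).left) : IsClosedImmersion m.left := by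
  let O : S → Y.left.Opens := fun s =>
    ⟨Set.range (pullback.fst Y.hom (f s)), (pullback.fst Y.hom (f s)).isOpenMap.isOpen_range⟩
  refine IsZariskiLocalAtTarget.of_iSup_eq_top O (eq_top_iff.2 fun y _ => ?_) fun s => ?_
  · obtain ⟨x, hx⟩ := hs (Y.hom y)
    obtain ⟨q, hq, -⟩ := Scheme.Pullback.exists_preimage_pullback (f := Y.hom) (g := f (Y.hom y)) y x hx.symm
    exact TopologicalSpace.Opens.mem_iSup.2 ⟨Y.hom y, q, hq⟩
  let a : pullback Y.hom (f s) ⟶ (O s).toScheme :=
    IsOpenImmersion.lift (O s).ι (pullback.fst Y.hom (f s)) (by rw [Scheme.Opens.range_ι]; exact le_refl _)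
  have ha : a ≫ (O s).ι = pullback.fst Y.hom (f s) := IsOpenImmersion.lift_fac _ _ _
  haveI : Etale (a ≫ (O s).ι) := by rw [ha]; infer_instance
  haveI : Etale a := Etale.of_comp a (O s).ι
  haveI : Surjective a := ⟨fun o => by
    obtain ⟨q, hq⟩ := o.2
    refine ⟨q, (O s).ι.isOpenEmbedding.injective ?_⟩
    rw [← Scheme.Hom.comp_apply, ha, hq]
    rfl⟩
  haveI : MorphismProperty.DescendsAlong (@IsClosedImmersion : MorphismProperty Scheme.{u})
      (@Surjective ⊓ @Flat ⊓ @QuasiCompact : MorphismProperty Scheme.{u}) := inferInstance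
  have hr := isPullback_morphismRestrict m.left (O s)
  have hp := MTImage.isPullback_map m (f s)
  let l := hr.lift (((Over.pullback (f s)).map m).left ≫ a) (pullback.fst X.hom (f s))
    (by rw [Category.assoc, ha]; exact hp.w.symm)
  have hsq : IsPullback ((Over.pullback (f s)).map m).left l a (m.left ∣_ O s) :=
    IsPullback.of_bot (by rw [ha, hr.lift_snd]; exact hp.flip) (hr.lift_fst _ _ _).symm hr
  exact MorphismProperty.of_isPullback_of_descendsAlong
    (Q := (@Surjective ⊓ @Flat ⊓ @LocallyOfFinitePresentation : MorphismProperty Scheme.{u})) hsq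
    ⟨⟨inferInstance, inferInstance⟩, inferInstance⟩ (hf s)

/-- Geometric points of a quasi-finite map are geometric points of the base. -/
theorem exists_geomPt_iso {W : Scheme.{u}} (f : W ⟶ S) [LocallyQuasiFinite f] (w : W) :
    ∃ t : Spec (CommRingCat.of (AlgebraicClosure (W.residueField w))) ⟶
        Spec (CommRingCat.of (AlgebraicClosure (S.residueField (f w)))),
      IsIso t ∧ t ≫ Red.geomPt (f w) = Red.geomPt w ≫ f := by
  let K := AlgebraicClosure (W.residueField w)
  let E := W.residueField w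
  let F := S.residueField (f w)
  letI : Algebra F E := (f.residueFieldMap w).hom.toAlgebra
  haveI : Module.Finite F E := Weighting.finite_residueFieldMap f w
  haveI : IsScalarTower F E K := inferInstance
  haveI : Algebra.IsAlgebraic F E := Algebra.IsAlgebraic.of_finite F E
  haveI : Algebra.IsAlgebraic F K := Algebra.IsAlgebraic.trans F E K
  haveI : IsAlgClosure F K := ⟨inferInstance, inferInstance⟩
  let σ := IsAlgClosure.equiv F (AlgebraicClosure F) K
  let e : CommRingCat.of (AlgebraicClosure F) ≅ CommRingCat.of K := σ.toRingEquiv.toCommRingCatIso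
  refine ⟨Spec.map e.hom, inferInstance, ?_⟩
  show Spec.map _ ≫ Spec.map _ ≫ S.fromSpecResidueField _ = (Spec.map _ ≫ W.fromSpecResidueField w) ≫ f
  rw [← Category.assoc, ← Spec.map_comp,
    show CommRingCat.ofHom (algebraMap F (AlgebraicClosure F)) ≫ e.hom =
      f.residueFieldMap w ≫ CommRingCat.ofHom (algebraMap E K) from
      CommRingCat.hom_ext (σ : AlgebraicClosure F →ₐ[F] K).comp_algebraMap,
    Spec.map_comp, Category.assoc, Category.assoc, Scheme.Hom.SpecMap_residueFieldMap_fromSpecResidueField]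

variable {G T U U' : Over S}

/-- The geometric fibres after a quasi-finite base change. -/
theorem hfib_bc [GrpObj U] {W : Scheme.{u}} (f : W ⟶ S) [LocallyQuasiFinite f]
    (hfib : ∀ s : S, ConnectedSpace ↥(Red.geomFibre s U).left ∧
      Red.HasNoSubtorus (AlgebraicClosure (S.residueField s)) (Red.geomFibre s U)) (w : W) :
    ConnectedSpace ↥(Red.geomFibre w (Red.bc f U)).left ∧
      Red.HasNoSubtorus (AlgebraicClosure (W.residueField w)) (Red.geomFibre w (Red.bc f U)) := by
  obtain ⟨t, ht, htw⟩ := exists_geomPt_iso f w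
  haveI := ht
  obtain ⟨e₁, -, he₁⟩ := Chev.MaxTorusBC.exists_trIso (show Red.geomPt w ≫ f = Red.geomPt w ≫ f from rfl) U
  obtain ⟨e₂, -, he₂⟩ := Chev.MaxTorusBC.exists_trIso htw U
  haveI : IsMonHom e₁.hom := he₁
  haveI : IsMonHom e₂.hom := he₂
  let e : Red.bc t (Red.geomFibre (f w) U) ≅ Red.geomFibre w (Red.bc f U) := e₂.symm ≪≫ e₁
  haveI : IsMonHom e₂.inv := inferInstance
  haveI : IsMonHom e.hom := inferInstanceAs (IsMonHom (e₂.inv ≫ e₁.hom))
  haveI : IsMonHom e.inv := inferInstance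
  obtain ⟨hc, hU⟩ := hfib (f w)
  refine ⟨?_, fun T _ k _ _ hT => ?_⟩
  · haveI : ConnectedSpace ↥(Red.geomFibre (f w) U).left := hc
    haveI : IsIso e.hom.left := inferInstanceAs (IsIso ((Over.forget _).map e.hom))
    haveI : ConnectedSpace ↥(Red.bc t (Red.geomFibre (f w) U)).left :=
      (Scheme.homeoOfIso (asIso (pullback.fst (Red.geomFibre (f w) U).hom t))).symm.surjective.connectedSpace
        (Scheme.homeoOfIso (asIso (pullback.fst (Red.geomFibre (f w) U).hom t))).symm.continuous
    exact e.hom.left.homeomorph.surjective.connectedSpace e.hom.left.continuous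
  · let R := Red.geomFibre (f w) U
    have hwτ : inv t ≫ t = 𝟙 _ := IsIso.inv_hom_id t
    haveI : PreservesLimitsOfShape WalkingCospan (Over.pullback (inv t)) :=
      (Adjunction.rightAdjoint_preservesLimits (Over.mapPullbackAdj (inv t))).preservesLimitsOfShape
    haveI := Chev.Borel.isIso_backHom t (inv t) hwτ R
    haveI : IsMonHom (asIso (Chev.Borel.backHom t (inv t) hwτ R)).hom := Chev.Borel.isMonHom_backHom t (inv t) hwτ R
    haveI : IsMonHom (inv (Chev.Borel.backHom t (inv t) hwτ R)) :=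
      inferInstanceAs (IsMonHom (asIso (Chev.Borel.backHom t (inv t) hwτ R)).inv)
    exact UniRad.isTrivial_of_pullback (inv t) T
      (hU _ ((Over.pullback (inv t)).map (k ≫ e.inv) ≫ inv (Chev.Borel.backHom t (inv t) hwτ R))
        (Chev.isTorus_bc hT (inv t)))

variable [GrpObj G] [GrpObj T] [GrpObj U] [GrpObj U']

/-- Normalisation is stable under base change. -/
theorem hnorm_bc {W : Scheme.{u}} (f : W ⟶ S) (i : T ⟶ G) (j : U ⟶ G)
    (hnorm : ∀ (X : Over S) (x : X ⟶ T) (y : X ⟶ U), ∃ y' : X ⟶ U, (x ≫ i) * (y ≫ j) * (x ≫ i)⁻¹ = y' ≫ j) :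
    ∀ (X : Over W) (x : X ⟶ Red.bc f T) (y : X ⟶ Red.bc f U), ∃ y' : X ⟶ Red.bc f U,
      (x ≫ (Over.pullback f).map i) * (y ≫ (Over.pullback f).map j) * (x ≫ (Over.pullback f).map i)⁻¹ =
        y' ≫ (Over.pullback f).map j := by
  intro X x y
  obtain ⟨y', hy'⟩ := hnorm ((Over.map f).obj X) (((Over.mapPullbackAdj f).homEquiv X T).symm x)
    (((Over.mapPullbackAdj f).homEquiv X U).symm y)
  have hinv : ∀ z : (Over.map f).obj X ⟶ G, toBC f z⁻¹ = (toBC f z)⁻¹ := fun z =>
    map_inv (MonoidHom.mk' (fun z : (Over.map f).obj X ⟶ G => toBC f z) (toBC_mul f)) z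
  refine ⟨toBC f y', ?_⟩
  rw [← toBC_comp, ← hy', toBC_mul, toBC_mul, hinv, toBC_comp, toBC_comp,
    show toBC f (((Over.mapPullbackAdj f).homEquiv X T).symm x) = x from Equiv.apply_symm_apply _ _,
    show toBC f (((Over.mapPullbackAdj f).homEquiv X U).symm y) = y from Equiv.apply_symm_apply _ _]

/-- The product map of a torus and a subgroup. -/
def mT (i : T ⟶ G) (j : U ⟶ G) : T ⊗ U ⟶ G := (fst T U ≫ i) * (snd T U ≫ j)

theorem mT_comp {T' U₁ : Over S} [GrpObj T'] [GrpObj U₁] (a : T' ⟶ T) (b : U₁ ⟶ U) (i : T ⟶ G) (j : U ⟶ G) :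
    (a ⊗ₘ b) ≫ mT i j = mT (a ≫ i) (b ≫ j) := by
  rw [mT, mT, MonObj.comp_mul, tensorHom_fst_assoc, tensorHom_snd_assoc]

theorem mT_bc {W : Scheme.{u}} (f : W ⟶ S) (i : T ⟶ G) (j : U ⟶ G) :
    (Functor.Monoidal.μIso (Over.pullback f) T U).hom ≫ (Over.pullback f).map (mT i j) =
      mT ((Over.pullback f).map i) ((Over.pullback f).map j) := by
  rw [mT, mT, Functor.map_mul, MonObj.comp_mul, Functor.map_comp, Functor.map_comp, Functor.Monoidal.μIso_hom,
    ← Category.assoc, ← Category.assoc, Functor.Monoidal.μ_fst, Functor.Monoidal.μ_snd]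

theorem isClosedImmersion_mT_bc_iff {W : Scheme.{u}} (f : W ⟶ S) (i : T ⟶ G) (j : U ⟶ G) :
    IsClosedImmersion ((Over.pullback f).map (mT i j)).left ↔
      IsClosedImmersion (mT ((Over.pullback f).map i) ((Over.pullback f).map j)).left := by
  haveI : IsIso (Functor.Monoidal.μIso (Over.pullback f) T U).hom.left :=
    inferInstanceAs (IsIso ((Over.forget _).map (Functor.Monoidal.μIso (Over.pullback f) T U).hom))
  rw [← mT_bc, Over.comp_left, MorphismProperty.cancel_left_of_respectsIso (P := @IsClosedImmersion)]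

theorem isClosedImmersion_mT_iso_iff {T' : Over S} [GrpObj T'] (a : T' ⟶ T) [IsIso a] (i : T ⟶ G) (j : U ⟶ G) :
    IsClosedImmersion (mT (a ≫ i) j).left ↔ IsClosedImmersion (mT i j).left := by
  haveI : IsIso (a ⊗ₘ 𝟙 U).left := inferInstanceAs (IsIso ((Over.forget _).map (a ⊗ₘ 𝟙 U)))
  rw [← show (a ⊗ₘ 𝟙 U) ≫ mT i j = mT (a ≫ i) j by rw [mT_comp, Category.id_comp], Over.comp_left,
    MorphismProperty.cancel_left_of_respectsIso (P := @IsClosedImmersion)]

section Split

variable {M : Type} [AddCommGroup M] [Module.Free ℤ M] [Module.Finite ℤ M] {c : Red.DS S M ⟶ G} {idx : Type}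
  [Fintype idx] {root : idx → M} {u : idx → (Red.Ga S ⟶ G)} {j : U ⟶ G} [IsMonHom j] [IsImmersion j.left]
  [Smooth U.hom]

set_option maxHeartbeats 4000000 in
/-- Where the roots are constant the product with the torus is a closed immersion. -/
theorem Frame.isClosedImmersion_mT_of_const [Nonempty S] (F : Frame c root u) (hst : IsStabUnip c j)
    (hconst : ∀ a (s t : S), InFib j (u a) s ↔ InFib j (u a) t) : IsClosedImmersion (mT c j).left := by
  classical
  haveI := F.hG.1; haveI := F.hG.2.1; haveI := F.hc.1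
  haveI : ∀ a, IsMonHom (u a) := fun a => (F.hu a).1
  obtain ⟨-, -, mu, hmu, hpos, hprod⟩ := F.exists_unip_global_of_const hst hconst
  let R : Set idx := {a | ∃ v, v ≫ j = u a}
  obtain ⟨m, e, -, he⟩ := exists_extend R (Fin.elim0 : Fin 0 → idx) (fun x => x.elim0) fun x => x.elim0
  obtain ⟨N', e', -, hP⟩ := exists_extend {b | 0 < mu (root b)} _ he.1 fun l => hpos _ (he.2.subset ⟨l, rfl⟩)
  obtain ⟨ψ, hψ⟩ := hprod _ he
  let e₀ := Fin.append (Fin.elim0 : Fin 0 → idx) e
  let eP := Fin.append e₀ e'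
  obtain ⟨pd, r, hpr, -, hpd⟩ := exists_pad_coord (S := S) (G := G) (0 + m + N') (0 + m) (Nat.le_add_right _ _)
  have hek : ∀ l : Fin (0 + m), eP (Fin.castLE (Nat.le_add_right (0 + m) N') l) = e₀ l := fun l =>
    Fin.append_left e₀ e' l
  have hpd' : pd ≫ RedSub.prodMap (Red.Ga S) _ (fun l => u (eP l)) = RedSub.prodMap (Red.Ga S) _ fun l => u (e₀ l) := by
    rw [hpd _ fun l => inferInstance]
    simp only [hek]
  haveI : IsAffineHom (RedSub.pow (Red.Ga S) (0 + m + N')).hom := isSeparated_powGa S _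
  haveI : IsAffineHom (RedSub.pow (Red.Ga S) (0 + m)).hom := isSeparated_powGa S _
  haveI : IsClosedImmersion pd.left := by
    haveI : IsAffineHom (r.left ≫ (RedSub.pow (Red.Ga S) (0 + m)).hom) := by rw [Over.w r]; infer_instance
    haveI : IsAffineHom r.left := IsAffineHom.of_comp r.left (RedSub.pow (Red.Ga S) (0 + m)).hom
    haveI : IsClosedImmersion (pd.left ≫ r.left) := by
      rw [← Over.comp_left, hpr]; exact inferInstanceAs (IsClosedImmersion (𝟙 _))
    exact IsClosedImmersion.of_comp _ r.left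
  obtain ⟨P, _, p, hP'⟩ := exists_isP (G := G) (Red.DSmap S mu ≫ c)
  obtain ⟨φP, hφP⟩ := F.exists_iso_isP mu hmu eP hP hP'
  haveI := hP'.2.1
  haveI : IsClosedImmersion (𝟙 (Red.DS S M) ⊗ₘ pd).left := by
    show IsClosedImmersion (Red.DS S M ◁ pd).left
    rw [Over.whiskerLeft_left]
    exact MorphismProperty.pullback_map (P := @IsClosedImmersion) (inferInstance : IsClosedImmersion (𝟙 _))
      ‹IsClosedImmersion pd.left› (Category.id_comp _).symm (Over.w pd).symm
  haveI : IsIso φP.hom.left := inferInstanceAs (IsIso ((Over.forget S).map φP.hom))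
  haveI : IsIso (𝟙 (Red.DS S M) ⊗ₘ ψ.inv).left :=
    inferInstanceAs (IsIso ((Over.forget S).map (𝟙 (Red.DS S M) ⊗ₘ ψ.inv)))
  have h : mT c j = (𝟙 (Red.DS S M) ⊗ₘ ψ.inv) ≫ (𝟙 (Red.DS S M) ⊗ₘ pd) ≫ φP.hom ≫ p := by
    rw [hφP, borelC, mT, MonObj.comp_mul, MonObj.comp_mul, tensorHom_fst_assoc, tensorHom_fst_assoc,
      tensorHom_snd_assoc, tensorHom_snd_assoc]
    simp only [Category.id_comp, hpd']
    rw [← hψ, Iso.inv_hom_id_assoc]
  rw [h, Over.comp_left, Over.comp_left, Over.comp_left]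
  infer_instance

/-- A neighbourhood where the roots of finitely many subgroups are constant. -/
theorem Frame.exists_const_nhd (F : Frame c root u) (hst : IsStabUnip c j) (x : S) :
    ∃ V : S.Opens, x ∈ V ∧ IsStabUnip (bcHom' V.ι c) ((Over.pullback V.ι).map j) ∧
      ∀ V' : S.Opens, V' ≤ V → ∀ a (s t : V'.toScheme),
        InFib ((Over.pullback V'.ι).map j) (bcGa V'.ι (u a)) s ↔ InFib ((Over.pullback V'.ι).map j) (bcGa V'.ι (u a)) t := by
  have hlc := F.isLocallyConstant_inFib hst
  refine ⟨⟨_, hlc.isOpen_fiber {a | InFib j (u a) x}⟩, rfl, ⟨hfib_bc _ hst.1, fun X s y => ?_⟩, fun V' hV a s t => ?_⟩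
  · obtain ⟨y', hy'⟩ := hnorm_bc _ c j hst.2 X (s ≫ ej _ M) y
    exact ⟨y', by simpa only [bcHom', Category.assoc] using hy'⟩
  · rw [inFib_bc_iff, inFib_bc_iff]
    have h1 : {a | InFib j (u a) (V'.ι s)} = {a | InFib j (u a) x} := hV s.2
    have h2 : {a | InFib j (u a) (V'.ι t)} = {a | InFib j (u a) x} := hV t.2
    exact (Set.ext_iff.1 h1 a).trans (Set.ext_iff.1 h2 a).symm

set_option maxHeartbeats 4000000 in
/-- **Over a split base the product with the torus is a closed immersion.** -/
theorem Frame.isClosedImmersion_mT (F : Frame c root u) (hst : IsStabUnip c j) : IsClosedImmersion (mT c j).left := by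
  choose V hxV hstV hV using F.exists_const_nhd hst
  refine isClosedImmersion_of_etale (mT c j) (fun s => (V s).toScheme) (fun s => (V s).ι)
    (fun s => ⟨⟨s, hxV s⟩, rfl⟩) fun s => ?_
  haveI := F.hG.1
  haveI : IsImmersion ((Over.pullback (V s).ι).map j).left :=
    MorphismProperty.overPullbackMap (P := @IsImmersion) _ j inferInstance
  haveI := isMonHom_map' (V s).ι j
  haveI : Smooth (Red.bc (V s).ι U).hom := inferInstanceAs (Smooth (pullback.snd U.hom _))
  haveI : Nonempty (V s).toScheme := ⟨⟨s, hxV s⟩⟩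
  haveI := DynPar.isIso_ej (V s).ι M
  rw [isClosedImmersion_mT_bc_iff, ← isClosedImmersion_mT_iso_iff (ej (V s).ι M)]
  exact (F.bc (V s).ι).isClosedImmersion_mT_of_const (hstV s) (hV s (V s) le_rfl)

set_option maxHeartbeats 4000000 in
/-- **Over a split base inclusions of fibres give inclusions.** -/
theorem Frame.exists_le_unip {j' : U' ⟶ G} [IsMonHom j'] [IsImmersion j'.left] [Smooth U'.hom] (F : Frame c root u)
    (hst : IsStabUnip c j) (hst' : IsStabUnip c j') (hle : ∀ s, FibreLe j' j s) : ∃ k : U' ⟶ U, k ≫ j = j' := by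
  classical
  choose V hxV hstV hV using F.exists_const_nhd hst
  choose V' hxV' hstV' hV' using F.exists_const_nhd hst'
  haveI : Mono j.left := inferInstance
  refine exists_fac_etale j' j (fun s => (V s ⊓ V' s).toScheme) (fun s => (V s ⊓ V' s).ι)
    (fun s => ⟨⟨s, hxV s, hxV' s⟩, rfl⟩) fun s => ?_
  let W := V s ⊓ V' s
  haveI := F.hG.1
  haveI : IsImmersion ((Over.pullback W.ι).map j).left :=
    MorphismProperty.overPullbackMap (P := @IsImmersion) _ j inferInstance
  haveI : IsImmersion ((Over.pullback W.ι).map j').left :=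
    MorphismProperty.overPullbackMap (P := @IsImmersion) _ j' inferInstance
  haveI := isMonHom_map' W.ι j
  haveI := isMonHom_map' W.ι j'
  haveI : Smooth (Red.bc W.ι U).hom := inferInstanceAs (Smooth (pullback.snd U.hom _))
  haveI : Smooth (Red.bc W.ι U').hom := inferInstanceAs (Smooth (pullback.snd U'.hom _))
  haveI : Nonempty W.toScheme := ⟨⟨s, hxV s, hxV' s⟩⟩
  have hs1 : IsStabUnip (bcHom' W.ι c) ((Over.pullback W.ι).map j) := ⟨hfib_bc _ hst.1, fun X x y => by
    obtain ⟨y', hy'⟩ := hnorm_bc _ c j hst.2 X (x ≫ ej _ M) y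
    exact ⟨y', by simpa only [bcHom', Category.assoc] using hy'⟩⟩
  have hs2 : IsStabUnip (bcHom' W.ι c) ((Over.pullback W.ι).map j') := ⟨hfib_bc _ hst'.1, fun X x y => by
    obtain ⟨y', hy'⟩ := hnorm_bc _ c j' hst'.2 X (x ≫ ej _ M) y
    exact ⟨y', by simpa only [bcHom', Category.assoc] using hy'⟩⟩
  obtain ⟨-, hmem, -⟩ := (F.bc W.ι).exists_unip_global_of_const hs1 (hV s W inf_le_left)
  obtain ⟨-, hmem', _, -, -, hprod⟩ := (F.bc W.ι).exists_unip_global_of_const hs2 (hV' s W inf_le_right)
  obtain ⟨m, e, -, he⟩ := exists_extend {a | ∃ v, v ≫ (Over.pullback W.ι).map j' = bcGa W.ι (u a)}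
    (Fin.elim0 : Fin 0 → idx) (fun x => x.elim0) fun x => x.elim0
  obtain ⟨ψ, hψ⟩ := hprod _ he
  choose v hv using fun l => (hmem (Fin.append Fin.elim0 e l) ⟨s, hxV s, hxV' s⟩).1
    (inFib_of_fibreLe ((fibreLe_bc_iff W.ι ⟨s, hxV s, hxV' s⟩).2 (hle _))
      ((hmem' _ _).2 (he.2.subset ⟨l, rfl⟩)))
  refine ⟨ψ.inv ≫ RedSub.prodMap _ _ v, ?_⟩
  rw [Category.assoc, prodMap_comp_hom, show RedSub.prodMap (Red.Ga W.toScheme) _
      (fun l => v l ≫ (Over.pullback W.ι).map j) = RedSub.prodMap _ _ (fun l => bcGa W.ι (u (Fin.append Fin.elim0 e l)))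
    from congrArg (RedSub.prodMap _ _) (funext hv), ← hψ, Iso.inv_hom_id_assoc]

end Split

/-- The data of a subgroup with connected fibres without subtori normalised by a torus. -/
def IsTUnip (i : T ⟶ G) (j : U ⟶ G) : Prop :=
  IsMonHom j ∧ IsImmersion j.left ∧ Smooth U.hom ∧ (∀ s : S, ConnectedSpace ↥(Red.geomFibre s U).left ∧
      Red.HasNoSubtorus (AlgebraicClosure (S.residueField s)) (Red.geomFibre s U)) ∧
    ∀ (X : Over S) (x : X ⟶ T) (y : X ⟶ U), ∃ y' : X ⟶ U, (x ≫ i) * (y ≫ j) * (x ≫ i)⁻¹ = y' ≫ j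

/-- Such a subgroup after an etale base change splitting the torus. -/
theorem isStabUnip_of_isTUnip {i : T ⟶ G} {j : U ⟶ G} (hj : IsTUnip i j) {W : Scheme.{u}} (f : W ⟶ S)
    [LocallyQuasiFinite f] {M : Type} [AddCommGroup M] (a : Red.DS W M ⟶ Red.bc f T) :
    IsStabUnip (a ≫ (Over.pullback f).map i) ((Over.pullback f).map j) :=
  ⟨hfib_bc f hj.2.2.2.1, fun X x y => by
    obtain ⟨y', hy'⟩ := hnorm_bc f i j hj.2.2.2.2 X (x ≫ a) y
    exact ⟨y', by simpa only [Category.assoc] using hy'⟩⟩

set_option maxHeartbeats 4000000 in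
/-- **The product with a maximal torus is a closed immersion.** -/
theorem isClosedImmersion_mT (hG : Red.IsReductive G) (i : T ⟶ G) (hT : Red.IsMaximalTorus i) (j : U ⟶ G)
    (hj : IsTUnip i j) : IsClosedImmersion (mT i j).left := by
  obtain ⟨h1, h2, h3, -⟩ := id hj
  haveI := h1; haveI := h2; haveI := h3
  choose W f hf hs D e hD using fun s => S5543.result hG i hT s
  haveI := hf
  haveI : ∀ s, LocallyQuasiFinite (f s) := fun s => Weighting.locallyQuasiFinite_of_etale (f s)
  refine isClosedImmersion_of_etale (mT i j) W f hs fun s => ?_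
  letI := (D s).grpT
  letI := (D s).acgM
  letI := (D s).fintypeIdx
  letI := (D s).finiteM
  letI := (D s).freeM
  have F := frame_of_splitRed (D s)
  haveI : IsImmersion ((Over.pullback (f s)).map j).left :=
    MorphismProperty.overPullbackMap (P := @IsImmersion) _ j inferInstance
  haveI := isMonHom_map' (f s) j
  haveI : Smooth (Red.bc (f s) U).hom := inferInstanceAs (Smooth (pullback.snd U.hom _))
  haveI : IsIso (D s).split.inv.hom.hom :=
    ⟨(D s).split.hom.hom.hom, congrArg (fun z => z.hom.hom) (D s).split.inv_hom_id,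
      congrArg (fun z => z.hom.hom) (D s).split.hom_inv_id⟩
  haveI : IsIso ((D s).split.inv.hom.hom ≫ (e s).hom) := inferInstance
  rw [isClosedImmersion_mT_bc_iff, ← isClosedImmersion_mT_iso_iff ((D s).split.inv.hom.hom ≫ (e s).hom),
    Category.assoc, ← hD]
  refine F.isClosedImmersion_mT ?_
  have := isStabUnip_of_isTUnip hj (f s) ((D s).split.inv.hom.hom ≫ (e s).hom)
  rwa [Category.assoc, ← hD] at this

set_option maxHeartbeats 4000000 in
/-- **Inclusions of fibres give inclusions.** -/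
theorem exists_le_of_isTUnip (hG : Red.IsReductive G) (i : T ⟶ G) (hT : Red.IsMaximalTorus i) (j : U ⟶ G)
    (hj : IsTUnip i j) (j' : U' ⟶ G) (hj' : IsTUnip i j') (hle : ∀ s, FibreLe j' j s) :
    ∃ k : U' ⟶ U, k ≫ j = j' := by
  obtain ⟨h1, h2, h3, -⟩ := id hj
  haveI := h1; haveI := h2; haveI := h3
  obtain ⟨h1', h2', h3', -⟩ := id hj'
  haveI := h1'; haveI := h2'; haveI := h3'
  choose W f hf hs D e hD using fun s => S5543.result hG i hT s
  haveI := hf
  haveI : ∀ s, LocallyQuasiFinite (f s) := fun s => Weighting.locallyQuasiFinite_of_etale (f s)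
  haveI : Mono j.left := inferInstance
  refine exists_fac_etale j' j W f hs fun s => ?_
  letI := (D s).grpT
  letI := (D s).acgM
  letI := (D s).fintypeIdx
  letI := (D s).finiteM
  letI := (D s).freeM
  have F := frame_of_splitRed (D s)
  haveI : IsImmersion ((Over.pullback (f s)).map j).left :=
    MorphismProperty.overPullbackMap (P := @IsImmersion) _ j inferInstance
  haveI := isMonHom_map' (f s) j
  haveI : Smooth (Red.bc (f s) U).hom := inferInstanceAs (Smooth (pullback.snd U.hom _))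
  haveI : IsImmersion ((Over.pullback (f s)).map j').left :=
    MorphismProperty.overPullbackMap (P := @IsImmersion) _ j' inferInstance
  haveI := isMonHom_map' (f s) j'
  haveI : Smooth (Red.bc (f s) U').hom := inferInstanceAs (Smooth (pullback.snd U'.hom _))
  have e1 := isStabUnip_of_isTUnip hj (f s) ((D s).split.inv.hom.hom ≫ (e s).hom)
  have e2 := isStabUnip_of_isTUnip hj' (f s) ((D s).split.inv.hom.hom ≫ (e s).hom)
  rw [Category.assoc, ← hD] at e1 e2
  exact F.exists_le_unip e1 e2 fun x => (fibreLe_bc_iff (f s) x).2 (hle _)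

end Groth.Agent.RootBase
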