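import Groth.Agent.RootBase.SolvChart
import Groth.Agent.RootBase.SolvGlobal
import Groth.Agent.RootBase.RCData
import Groth.Agent.RootBase.UnipStabL
import Groth.Agent.MTImage.CartanGeom

/-!
# Subgroups of type (RC): etale charts
-/

set_option autoImplicit false
set_option backward.isDefEq.respectTransparency false
set_option linter.style.haveILetI false
set_option maxHeartbeats 2000000
set_option synthInstance.maxHeartbeats 400000

universe u

open CategoryTheory Limits MonoidalCategory CartesianMonoidalCategory MonObj GrpObj AlgebraicGeometry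
open scoped CategoryTheory.Obj

noncomputable section

namespace Groth.Agent.RootBase

open Groth.Agent.HomDiag Groth.Agent.DynPar Groth.Agent.MTBridge Groth.Agent.RootSys

variable {S : Scheme.{u}}

/-- Iterated changes of base are composite changes of base, naturally. -/
theorem exists_compIso {W W' : Scheme.{u}} {j : W' ⟶ W} {p : W ⟶ S} {ψ : W' ⟶ S} (hψ : j ≫ p = ψ) :
    ∃ e : ∀ X : Over S, Red.bc ψ X ≅ Red.bc j (Red.bc p X),
      (∀ (X : Over S) [GrpObj X], IsMonHom (e X).hom) ∧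
      (∀ {X Y : Over S} (f : X ⟶ Y),
        (Over.pullback ψ).map f ≫ (e Y).hom = (e X).hom ≫ (Over.pullback j).map ((Over.pullback p).map f)) ∧
      ∀ X : Over S, (e X).hom.left ≫ pullback.fst (Red.bc p X).hom j ≫ pullback.fst X.hom p =
        pullback.fst X.hom ψ := by
  choose e he hm using fun X : Over S => Chev.MaxTorusBC.exists_trIso hψ X
  refine ⟨e, fun X _ => hm X, fun {X Y} f => by rw [he, he, MTImage.trIso_natural], fun X => ?_⟩
  have h1 : low p (low j (e X).hom) = (Chev.MaxTorusExt.reIso hψ (Red.bc ψ X)).hom ≫ low ψ (𝟙 (Red.bc ψ X)) := by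
    rw [he, Chev.MaxTorusExt.tr, low, low, low]
    erw [Equiv.symm_apply_apply, Equiv.symm_apply_apply]
  have h2 := congrArg Over.Hom.left h1
  rw [low_left, low_left, Over.comp_left, low_left, Category.assoc] at h2
  rw [h2]
  show 𝟙 _ ≫ (𝟙 _) ≫ _ = _
  rw [Category.id_comp, Category.id_comp]

variable {G H : Over S} [GrpObj G] [GrpObj H]

set_option maxHeartbeats 4000000 in
/-- The closedness condition on geometric fibres makes a constant pattern closed. -/
theorem closed_pattern (hG : Red.IsReductive G) (h : H ⟶ G)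
    (hRC : ∀ (s : S) (D' : Red.SplitRed (Red.geomFibre s G)) (t' : D'.T ⟶ Red.geomFibre s H),
      t' ≫ (Over.pullback (Red.geomPt s)).map h = D'.i →
      ∀ a b c : D'.idx, (∃ v, v ≫ (Over.pullback (Red.geomPt s)).map h = D'.u a) →
        (∃ v, v ≫ (Over.pullback (Red.geomPt s)).map h = D'.u b) → D'.P.root a + D'.P.root b = D'.P.root c →
        ∃ v, v ≫ (Over.pullback (Red.geomPt s)).map h = D'.u c) {W : Scheme.{u}} {q : W ⟶ S}
    (D : Red.SplitRed (Red.bc q G)) (tp : D.T ⟶ Red.bc q H) (htp : tp ≫ (Over.pullback q).map h = D.i)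
    (R' : Set D.idx) (hrs : ∀ a (w : W), InFib ((Over.pullback q).map h) (D.u a) w ↔ a ∈ R')
    (hfac : ∀ a ∈ R', ∃ v, v ≫ (Over.pullback q).map h = D.u a) [LocallyQuasiFinite q]
    [IsImmersion h.left] (w : W) :
    ∀ a b d : D.idx, a ∈ R' → b ∈ R' → D.P.root a + D.P.root b = D.P.root d → d ∈ R' := by
  intro a b d ha hb hab
  obtain ⟨t, ht, htw⟩ := exists_geomPt_iso q w
  haveI := ht
  let τ := inv t ≫ Red.geomPt w
  have hτ : τ ≫ q = Red.geomPt (q w) := by rw [Category.assoc, ← htw, IsIso.inv_hom_id_assoc]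
  obtain ⟨e, hem, hnat, -⟩ := exists_compIso hτ
  obtain ⟨D₁, e₁, eidx, he₁, hi₁, hu₁, hsum₁⟩ := exists_bc_data_sum D τ
  haveI := hem G; haveI := hem H
  haveI : IsMonHom (e G).inv := inferInstance
  haveI : IsMonHom (e G).symm.hom := inferInstanceAs (IsMonHom (e G).inv)
  have hGq : Red.IsReductive (Red.bc τ (Red.bc q G)) := isReductive_bc τ D.reductive
  haveI := hGq.1
  obtain ⟨D₂, e₂, eidx₂, he₂, hi₂, hu₂, hsum₂⟩ := exists_map_data D₁ (e G).symm
    (isReductive_bc _ hG)
  have hnat' : (e H).inv ≫ (Over.pullback (Red.geomPt (q w))).map h =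
      (Over.pullback τ).map ((Over.pullback q).map h) ≫ (e G).inv := by
    rw [Iso.inv_comp_eq, ← Category.assoc, Iso.eq_comp_inv, hnat h]
  have hfwd : ∀ x ∈ R', ∃ v, v ≫ (Over.pullback (Red.geomPt (q w))).map h = D₂.u (eidx₂ (eidx x)) := fun x hx => by
    obtain ⟨v, hv⟩ := hfac x hx
    refine ⟨bcGa τ v ≫ (e H).inv, ?_⟩
    rw [hu₂, hu₁, Category.assoc, hnat', bcGa, bcGa, Category.assoc, ← Category.assoc ((Over.pullback τ).map v),
      ← Functor.map_comp, hv]
    rfl
  obtain ⟨v, hv⟩ := hRC (q w) D₂ (e₂.hom ≫ e₁.hom ≫ (Over.pullback τ).map tp ≫ (e H).inv) (by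
      rw [hi₂, hi₁, Category.assoc, Category.assoc, Category.assoc, hnat', ← Category.assoc ((Over.pullback τ).map tp),
        ← Functor.map_comp, htp]
      simp only [Category.assoc, Iso.symm_hom]) _ _ (eidx₂ (eidx d)) (hfwd a ha) (hfwd b hb)
    ((hsum₂ _ _ _).2 ((hsum₁ _ _ _).2 hab))
  have hv' : (v ≫ (e H).hom) ≫ (Over.pullback τ).map ((Over.pullback q).map h) = D₁.u (eidx d) := by
    rw [hu₂, Iso.symm_hom] at hv
    rw [Category.assoc, ← hnat h, reassoc_of% hv, Iso.inv_hom_id, Category.comp_id]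
  obtain ⟨o⟩ : Nonempty ↥(Spec (CommRingCat.of (AlgebraicClosure (S.residueField (q w))))) := inferInstance
  haveI : IsImmersion ((Over.pullback q).map h).left :=
    MorphismProperty.overPullbackMap (P := @IsImmersion) q h inferInstance
  have h1 := inFib_of_fac_split D₁ _ ⟨_, hv'⟩ o
  rw [hu₁, inFib_bc_iff] at h1
  exact (hrs d _).1 h1

variable {T : Over S} [GrpObj T]

set_option maxHeartbeats 8000000 in
/-- **An etale chart of a subgroup of type (RC)**: the torus is split and the roots of the subgroup form a constant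
closed set. -/
theorem exists_rc_chart (hG : Red.IsReductive G) (i : T ⟶ G) (hT : Red.IsMaximalTorus i) (h : H ⟶ G)
    (hH : RedSub.IsTypeR h) (t : T ⟶ H) (ht : t ≫ h = i)
    (hRC : ∀ (s : S) (D' : Red.SplitRed (Red.geomFibre s G)) (t' : D'.T ⟶ Red.geomFibre s H),
      t' ≫ (Over.pullback (Red.geomPt s)).map h = D'.i →
      ∀ a b c : D'.idx, (∃ v, v ≫ (Over.pullback (Red.geomPt s)).map h = D'.u a) →
        (∃ v, v ≫ (Over.pullback (Red.geomPt s)).map h = D'.u b) → D'.P.root a + D'.P.root b = D'.P.root c →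
        ∃ v, v ≫ (Over.pullback (Red.geomPt s)).map h = D'.u c) (s : S) :
    ∃ (W : Scheme.{u}) (p : W ⟶ S) (_ : Etale p), s ∈ Set.range p.base ∧ Nonempty W ∧
      ∃ (D : Red.SplitRed (Red.bc p G)) (e : D.T ≅ Red.bc p T) (R' : Set D.idx),
        (letI := D.grpT; IsMonHom e.hom) ∧
        (e.hom ≫ (Over.pullback p).map t) ≫ (Over.pullback p).map h = D.i ∧
        RedSub.IsTypeR ((Over.pullback p).map h) ∧
        (∀ a (w : W), InFib ((Over.pullback p).map h) (D.u a) w ↔ a ∈ R') ∧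
        (∀ a ∈ R', ∃ v, v ≫ (Over.pullback p).map h = D.u a) ∧
        ∀ a b d : D.idx, a ∈ R' → b ∈ R' → D.P.root a + D.P.root b = D.P.root d → d ∈ R' := by
  haveI := hG.1
  haveI := hG.2.1
  haveI := hT.1; haveI := hT.2.1
  obtain ⟨⟨hm, himm⟩, hsm, -, -, -⟩ := id hH
  haveI := hm; haveI := himm; haveI := hsm
  haveI : Mono h := Over.mono_of_mono_left h
  haveI : IsMonHom t := MTSplit.isMonHom_of_comp_mono t h i ht
  obtain ⟨U, f, hf, ⟨x₀, hx₀⟩, D, e, hD⟩ := S5543.result hG i hT s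
  haveI := hf
  -- the neighbourhood where the pattern is constant
  have hU := BorelConj.isTypeR_bc h hH f
  obtain ⟨⟨hUm, hUi⟩, hUs, -, hUconn, -⟩ := id hU
  haveI := hUm; haveI := hUi; haveI := hUs
  have htU : (e.hom ≫ (Over.pullback f).map t) ≫ (Over.pullback f).map h = D.i := by
    rw [Category.assoc, ← Functor.map_comp, ht, hD]
  obtain ⟨V, hV, hVc⟩ : ∃ V : U.Opens, x₀ ∈ V ∧ ∀ x ∈ V, ∀ a,
      InFib ((Over.pullback f).map h) (D.u a) x ↔ InFib ((Over.pullback f).map h) (D.u a) x₀ := by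
    letI := D.grpT
    letI := D.acgM
    letI := D.fintypeIdx
    letI := D.finiteM
    letI := D.freeM
    obtain ⟨i4, hcH⟩ := cH_hcH D _ _ htU
    haveI := i4
    exact (frame_of_splitRed D).exists_nhd_const (exists_opp D) hUconn hcH x₀
  obtain ⟨D₁, e₁, eidx, hD₁, hu₁⟩ := exists_bc_data D V.ι
  let p : (V : Scheme.{u}) ⟶ S := V.ι ≫ f
  haveI : Etale p := inferInstanceAs (Etale (V.ι ≫ f))
  have hp := BorelConj.isTypeR_bc h hH p
  obtain ⟨⟨hpm, hpi⟩, hps, -, hpconn, -⟩ := id hp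
  haveI := hpm; haveI := hpi; haveI := hps
  -- move the splitting
  let Φ := (bcComp f V.ι G).symm
  let φ : Red.bc V.ι (Red.bc f G) ≅ Red.bc p G := (Grp.forget _).mapIso Φ
  haveI : IsMonHom φ.hom := Φ.hom.hom.isMonHom_hom
  haveI : IsIso φ.hom.left := inferInstanceAs (IsIso ((Over.forget _).map φ.hom))
  letI := D₁.grpT
  haveI : IsMonHom (Iso.refl D₁.T).hom := inferInstanceAs (IsMonHom (𝟙 _))
  obtain ⟨D₂, e₂, eidx₂, he₂, hi₂, hu₂⟩ : ∃ (D₂ : Red.SplitRed (Red.bc p G)) (e₂ : D₂.T ≅ D₁.T) (eidx₂ : D₁.idx ≃ D₂.idx),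
      (letI := D₂.grpT; IsMonHom e₂.hom) ∧ D₂.i = e₂.hom ≫ D₁.i ≫ φ.hom ∧ ∀ a, D₂.u (eidx₂ a) = D₁.u a ≫ φ.hom := by
    letI := D₁.acgM; letI := D₁.fintypeIdx; letI := D₁.finiteM; letI := D₁.freeM
    refine ⟨{ T := D₁.T, i := D₁.i ≫ φ.hom, M := D₁.M, idx := D₁.idx, P := D₁.P, pairing_eq := D₁.pairing_eq
              u := fun a => D₁.u a ≫ φ.hom, reductive := isReductive_bc p hG
              maximalTorus := MTImage.isMaximalTorus_iso (Iso.refl D₁.T) φ D₁.i (D₁.i ≫ φ.hom) (Category.id_comp _).symm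
                D₁.maximalTorus.2.2.1 D₁.maximalTorus
              split := D₁.split, rootHom := fun a => ?_, refl := fun a => ?_, dim_fibre := fun s => ?_ },
      Iso.refl _, Equiv.refl _, inferInstance, (Category.id_comp _).symm, fun a => rfl⟩
    · obtain ⟨h1, h2, h3⟩ := D₁.rootHom a
      haveI := h1; haveI := h2
      refine ⟨inferInstance, ?_, fun X t x => ?_⟩
      · rw [Over.comp_left]
        infer_instance
      · obtain ⟨y, hy, hy'⟩ := h3 X t x
        refine ⟨y, ?_, hy'⟩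
        rw [← Category.assoc, hy]
        simp only [MonObj.mul_comp, GrpObj.inv_comp, Category.assoc]
    · obtain ⟨n, hn⟩ := D₁.refl a
      refine ⟨n ≫ φ.hom, fun X t => ?_⟩
      have := congrArg (· ≫ φ.hom) (hn X t)
      simp only [MonObj.mul_comp, GrpObj.inv_comp, Category.assoc] at this
      exact this
    · rw [← D₁.dim_fibre s]
      exact (IsHomeomorph.topologicalKrullDim_eq _
        (Scheme.homeoOfIso ((Over.forget _).mapIso ((Over.pullback (Red.geomPt s)).mapIso φ))).isHomeomorph).symm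
  -- the torus and the subgroup
  let ψ : Red.bc V.ι (Red.bc f H) ≅ Red.bc p H := (Grp.forget _).mapIso (bcComp f V.ι H).symm
  let θ : Red.bc V.ι (Red.bc f T) ≅ Red.bc p T := (Grp.forget _).mapIso (bcComp f V.ι T).symm
  have hψ : ψ.hom ≫ (Over.pullback p).map h = (Over.pullback V.ι).map ((Over.pullback f).map h) ≫ φ.hom := by
    simpa [ψ, φ, Φ, bcComp] using ((Over.pullbackComp V.ι f).inv.naturality h).symm
  have hθ : θ.hom ≫ (Over.pullback p).map i = (Over.pullback V.ι).map ((Over.pullback f).map i) ≫ φ.hom := by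
    simpa [θ, φ, Φ, bcComp] using ((Over.pullbackComp V.ι f).inv.naturality i).symm
  let E : D₂.T ≅ Red.bc p T := e₂ ≪≫ e₁ ≪≫ (Over.pullback V.ι).mapIso e ≪≫ θ
  have hE : E.hom ≫ (Over.pullback p).map i = D₂.i := by
    simp only [E, Iso.trans_hom, Functor.mapIso_hom, Category.assoc, hθ, hi₂, hD₁, hD, Functor.map_comp]
  letI := D₂.grpT
  haveI : Mono ((Over.pullback p).map i) :=
    haveI : PreservesLimitsOfShape WalkingCospan (Over.pullback p) :=
      (Adjunction.rightAdjoint_preservesLimits (Over.mapPullbackAdj p)).preservesLimitsOfShape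
    inferInstance
  haveI := isMonHom_map' p i
  haveI := D₂.maximalTorus.1
  haveI hEm : IsMonHom E.hom := MTSplit.isMonHom_of_comp_mono E.hom _ D₂.i hE
  have htp : (E.hom ≫ (Over.pullback p).map t) ≫ (Over.pullback p).map h = D₂.i := by
    rw [Category.assoc, ← Functor.map_comp, ht, hE]
  let R' : Set D₂.idx := {a | InFib ((Over.pullback f).map h) (D.u (eidx.symm (eidx₂.symm a))) x₀}
  haveI : Mono φ.hom := inferInstance
  have hrs : ∀ a (w : (V : Scheme.{u})), InFib ((Over.pullback p).map h) (D₂.u a) w ↔ a ∈ R' := fun a w => by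
    obtain ⟨a, rfl⟩ := eidx₂.surjective a
    obtain ⟨a, rfl⟩ := eidx.surjective a
    rw [hu₂, hu₁, show (Over.pullback p).map h = ψ.inv ≫ (Over.pullback V.ι).map ((Over.pullback f).map h) ≫ φ.hom by
      rw [← hψ, Iso.inv_hom_id_assoc], inFib_map φ.hom ψ.inv, inFib_bc_iff]
    show _ ↔ InFib _ (D.u (eidx.symm (eidx₂.symm (eidx₂ (eidx a))))) x₀
    rw [Equiv.symm_apply_apply, Equiv.symm_apply_apply]
    exact hVc _ w.2 a
  have hfac : ∀ a ∈ R', ∃ v, v ≫ (Over.pullback p).map h = D₂.u a := fun a ha => by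
    letI := D₂.acgM
    letI := D₂.fintypeIdx
    letI := D₂.finiteM
    letI := D₂.freeM
    obtain ⟨i4, hcH⟩ := cH_hcH D₂ _ _ htp
    haveI := i4
    refine (frame_of_splitRed D₂).fac_of_const (exists_opp D₂) hpconn hcH (fun a => ?_) fun w => (hrs a w).2 ha
    by_cases h' : a ∈ R'
    · exact Or.inl fun w => (hrs a w).2 h'
    · exact Or.inr fun w hw => h' ((hrs a w).1 hw)
  haveI : LocallyQuasiFinite p := Weighting.locallyQuasiFinite_of_etale p
  refine ⟨_, p, inferInstance, ⟨⟨x₀, hV⟩, by rw [← hx₀]; rfl⟩, ⟨⟨x₀, hV⟩⟩, D₂, E, R', hEm, htp, hp, hrs, hfac, ?_⟩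
  exact closed_pattern hG h hRC D₂ _ htp R' hrs hfac ⟨x₀, hV⟩

end Groth.Agent.RootBase
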