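import Groth.Agent.RootSys.Basic

/-!
# Closed sets of roots: the symmetric part and a functional adapted to it
-/

set_option autoImplicit false

namespace Groth.Agent.RootBase.RC

open RootPairing Groth.Agent.RootSys

variable {ι M N : Type} [AddCommGroup M] [AddCommGroup N] [Finite ι] {P : RootPairing ι ℤ M N}
  [Module.Finite ℤ M] [Module.Free ℤ M] {R' : Set ι}

/-- The roots of a set whose opposite is not in it. -/
def asymPart (P : RootPairing ι ℤ M N) (R' : Set ι) : Set ι := {b | b ∈ R' ∧ opp P b ∉ R'}

/-- The roots of a set whose opposite is also in it. -/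
def symPart (P : RootPairing ι ℤ M N) (R' : Set ι) : Set ι := {b | b ∈ R' ∧ opp P b ∈ R'}

omit [Finite ι] [Module.Finite ℤ M] [Module.Free ℤ M] in
theorem root_refl_eq (a b : ι) : P.root (P.reflectionPerm a b) = P.root b - P.pairing b a • P.root a := by
  rw [P.root_reflectionPerm, P.reflection_apply_root]

omit [Finite ι] [Module.Finite ℤ M] [Module.Free ℤ M] in
theorem pairing_eq_of_root {a b c : ι} (h : P.root c = P.root b + P.root a) :
    P.pairing c a = P.pairing b a + 2 := by
  have e := congr_arg (P.coroot' a) h
  rwa [map_add, P.root_coroot'_eq_pairing, P.root_coroot'_eq_pairing, P.root_coroot'_eq_pairing, P.pairing_same] at e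

omit [Finite ι] [Module.Finite ℤ M] [Module.Free ℤ M] in
theorem pairing_opp_right (b a : ι) : P.pairing b (opp P a) = -P.pairing b a := by
  rw [P.pairing_reflectionPerm, ← P.root_coroot'_eq_pairing, root_refl_eq, map_sub, map_smul,
    P.root_coroot'_eq_pairing, P.root_coroot'_eq_pairing, P.pairing_same, smul_eq_mul]
  ring

omit [Finite ι] [Module.Finite ℤ M] [Module.Free ℤ M] in
theorem refl_opp_left (a b : ι) : P.reflectionPerm (opp P a) b = P.reflectionPerm a b :=
  P.root.injective (by
    rw [root_refl_eq (P := P) (opp P a) b, root_refl_eq (P := P) a b, root_opp, pairing_opp_right]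
    module)

/-- A closed set is carried to itself along a string in the direction of one of its roots. -/
theorem refl_mem_of_nonpos (hcl : RootD.IsClosedSub P R') {a : ι} (ha : a ∈ R') :
    ∀ (n : ℕ) {b : ι}, b ∈ R' → P.pairing b a = -(n : ℤ) → P.reflectionPerm a b ∈ R' := by
  intro n
  induction n using Nat.strong_induction_on with
  | h n ih =>
    intro b hb hn
    rcases Nat.eq_zero_or_pos n with rfl | hpos
    · rw [show P.reflectionPerm a b = b from P.root.injective (by rw [root_refl_eq, hn]; simp)]
      exact hb
    · by_cases hopp : P.root b = -P.root a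
      · rw [show b = opp P a from P.root.injective (by rw [root_opp, hopp])]
        rw [show P.reflectionPerm a (opp P a) = a from P.reflectionPerm_self a a]
        exact ha
      obtain ⟨c, hc⟩ := add_root_mem (i := b) (j := a) (by omega) hopp
      have hcR : c ∈ R' := hcl hb ha hc
      rcases Nat.lt_or_ge n 2 with h2 | h2
      · rw [show P.reflectionPerm a b = c from P.root.injective (by
          rw [root_refl_eq, hn, show n = 1 by omega, hc]
          simp)]
        exact hcR
      · have hca : P.pairing c a = -((n - 2 : ℕ) : ℤ) := by rw [pairing_eq_of_root hc, hn]; omega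
        refine hcl (ih (n - 2) (by omega) hcR hca) ha ?_
        rw [root_refl_eq, root_refl_eq, hn, hca, hc]
        have e : ((n - 2 : ℕ) : ℤ) = (n : ℤ) - 2 := by omega
        rw [e]
        module

theorem refl_mem (hcl : RootD.IsClosedSub P R') {a b : ι} (ha : a ∈ R') (ha' : opp P a ∈ R') (hb : b ∈ R') :
    P.reflectionPerm a b ∈ R' := by
  rcases le_total (P.pairing b a) 0 with h | h
  · exact refl_mem_of_nonpos hcl ha (P.pairing b a).natAbs hb (by omega)
  · rw [← refl_opp_left]
    refine refl_mem_of_nonpos hcl ha' (P.pairing b a).natAbs hb ?_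
    have e := pairing_opp_right (P := P) b a
    omega

theorem refl_refl (a b : ι) : P.reflectionPerm a (P.reflectionPerm a b) = b :=
  P.reflectionPerm_self a b

theorem opp_refl (a b : ι) : opp P (P.reflectionPerm a b) = P.reflectionPerm a (opp P b) :=
  P.root.injective (by rw [root_opp, P.root_reflectionPerm, P.root_reflectionPerm, root_opp, map_neg])

theorem refl_mem_asym (hcl : RootD.IsClosedSub P R') {a b : ι} (ha : a ∈ symPart P R') (hb : b ∈ asymPart P R') :
    P.reflectionPerm a b ∈ asymPart P R' := by
  refine ⟨refl_mem hcl ha.1 ha.2 hb.1, fun h => hb.2 ?_⟩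
  rw [opp_refl] at h
  have := refl_mem hcl ha.1 ha.2 h
  rwa [refl_refl] at this

/-- In the asymmetric part the reflection of a negative neighbour stays in it. -/
theorem refl_mem_asym' (hcl : RootD.IsClosedSub P R') {c b : ι} (hc : c ∈ asymPart P R') (hb : b ∈ asymPart P R')
    (hneg : P.pairing c b < 0) : P.reflectionPerm c b ∈ asymPart P R' := by
  have hbc : P.pairing b c < 0 := by
    have h1 : 0 < P.pairing (opp P c) b := by rw [pairing_opp_left]; omega
    have h2 := (pairing_pos_comm (P := P)).1 h1
    rw [pairing_opp_right] at h2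
    omega
  refine ⟨refl_mem_of_nonpos hcl hc.1 (P.pairing b c).natAbs hb.1 (by omega), fun h => hb.2 ?_⟩
  have hp : P.pairing (opp P (P.reflectionPerm c b)) c = P.pairing b c := by
    rw [pairing_opp_left, ← P.root_coroot'_eq_pairing, root_refl_eq, map_sub, map_smul, P.root_coroot'_eq_pairing,
      P.root_coroot'_eq_pairing, P.pairing_same, smul_eq_mul]
    ring
  have := refl_mem_of_nonpos hcl hc.1 (P.pairing b c).natAbs h (by omega)
  rwa [opp_refl, refl_refl] at this

/-- **A functional vanishing on the symmetric part and positive on the rest.** -/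
theorem exists_rc_hom (hcl : RootD.IsClosedSub P R') :
    ∃ mu : M →+ ℤ, (∀ a ∈ symPart P R', mu (P.root a) = 0) ∧ ∀ c ∈ asymPart P R', 0 < mu (P.root c) := by
  classical
  haveI := Fintype.ofFinite ι
  let A : Finset ι := Finset.univ.filter (· ∈ asymPart P R')
  have hA : ∀ x, x ∈ A ↔ x ∈ asymPart P R' := fun x => by simp [A]
  refine ⟨(∑ b ∈ A, P.coroot' b).toAddMonoidHom, fun a ha => ?_, fun c hc => ?_⟩
  · show (∑ b ∈ A, P.coroot' b) (P.root a) = 0
    simp only [LinearMap.sum_apply, P.root_coroot'_eq_pairing]
    have h1 : ∑ b ∈ A, P.pairing a b = ∑ b ∈ A, -P.pairing a b := by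
      refine Finset.sum_nbij' (P.reflectionPerm a) (P.reflectionPerm a) (fun b hb => ?_) (fun b hb => ?_)
        (fun b _ => refl_refl a b) (fun b _ => refl_refl a b) fun b _ => ?_
      · exact (hA _).2 (refl_mem_asym hcl ha ((hA b).1 hb))
      · exact (hA _).2 (refl_mem_asym hcl ha ((hA b).1 hb))
      · rw [P.pairing_reflectionPerm, show P.reflectionPerm a a = opp P a from rfl, pairing_opp_left, neg_neg]
    rw [Finset.sum_neg_distrib] at h1
    omega
  · show 0 < (∑ b ∈ A, P.coroot' b) (P.root c)
    simp only [LinearMap.sum_apply, P.root_coroot'_eq_pairing]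
    let g : ι → ℤ := fun b => P.pairing c b
    show 0 < ∑ b ∈ A, g b
    have hg : ∀ b, g (P.reflectionPerm c b) = -g b := fun b => by
      show P.pairing c (P.reflectionPerm c b) = _
      rw [P.pairing_reflectionPerm, show P.reflectionPerm c c = opp P c from rfl, pairing_opp_left]
    let Nn := A.filter (fun b => g b < 0)
    let Pp := Nn.image (P.reflectionPerm c)
    have hsub : insert c (Nn ∪ Pp) ⊆ A := by
      intro x hx
      rcases Finset.mem_insert.1 hx with rfl | hx
      · exact (hA _).2 hc
      rcases Finset.mem_union.1 hx with hx | hx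
      · exact (Finset.mem_filter.1 hx).1
      · obtain ⟨b, hb, rfl⟩ := Finset.mem_image.1 hx
        exact (hA _).2 (refl_mem_asym' hcl hc ((hA b).1 (Finset.mem_filter.1 hb).1) (Finset.mem_filter.1 hb).2)
    have hPp : ∀ x ∈ Pp, 0 < g x := fun x hx => by
      obtain ⟨b, hb, rfl⟩ := Finset.mem_image.1 hx
      rw [hg]
      have := (Finset.mem_filter.1 hb).2
      omega
    have hgc : g c = 2 := P.pairing_same c
    have hcN : c ∉ Nn ∪ Pp := fun hx => by
      rcases Finset.mem_union.1 hx with hx | hx
      · have := (Finset.mem_filter.1 hx).2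
        omega
      · obtain ⟨b, hb, e⟩ := Finset.mem_image.1 hx
        have hbo : b = opp P c := by rw [← refl_refl (P := P) c b, e]
        exact hc.2 (hbo ▸ ((hA b).1 (Finset.mem_filter.1 hb).1).1)
    have hdisj : Disjoint Nn Pp := Finset.disjoint_left.2 fun x hx hx' => by
      have h1 : g x < 0 := (Finset.mem_filter.1 hx).2
      have h2 := hPp x hx'
      omega
    have hsum : ∑ b ∈ insert c (Nn ∪ Pp), g b = 2 := by
      rw [Finset.sum_insert hcN, Finset.sum_union hdisj,
        Finset.sum_image fun x _ y _ h => (P.reflectionPerm c).injective h]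
      simp only [hg, Finset.sum_neg_distrib, hgc]
      omega
    rw [← Finset.sum_sdiff hsub, hsum]
    have : 0 ≤ ∑ b ∈ A \ insert c (Nn ∪ Pp), g b := Finset.sum_nonneg fun b hb => by
      obtain ⟨hbA, hbn⟩ := Finset.mem_sdiff.1 hb
      by_contra hneg
      push Not at hneg
      exact hbn (Finset.mem_insert_of_mem (Finset.mem_union_left _ (Finset.mem_filter.2 ⟨hbA, hneg⟩)))
    omega

end Groth.Agent.RootBase.RC
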