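import Groth.Prelude.Def_AlgGrp
import Mathlib.CategoryTheory.Monoidal.Cartesian.Over
import Mathlib.CategoryTheory.Monoidal.Cartesian.Grp

/-!
# The fixed subgroup of an endomorphism of a separated group
-/

set_option autoImplicit false
set_option backward.isDefEq.respectTransparency false

universe u

noncomputable section

open CategoryTheory CategoryTheory.Limits MonoidalCategory CartesianMonoidalCategory MonObj GrpObj AlgebraicGeometry

namespace Groth.Agent.RootBase

variable {S : Scheme.{u}}

/-- The fixed subgroup of an endomorphism. -/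
theorem exists_fixed_subgrp {G : Over S} [GrpObj G] [IsSeparated G.hom] (φ : G ⟶ G) [IsMonHom φ] :
    ∃ (N : Over S) (_ : GrpObj N) (i : N ⟶ G), IsMonHom i ∧ Mono i ∧ IsClosedImmersion i.left ∧
      ∀ (T : Over S) (g : T ⟶ G), (∃ z : T ⟶ N, z ≫ i = g) ↔ g ≫ φ = g := by
  let N : Over S := equalizer φ (𝟙 G)
  let i : N ⟶ G := equalizer.ι φ (𝟙 G)
  haveI : Mono i := equalizer.ι_mono
  haveI hcl : IsClosedImmersion i.left := isClosedImmersion_equalizer_ι_left φ (𝟙 G)
  have hmem : ∀ (T : Over S) (g : T ⟶ G), (∃ z : T ⟶ N, z ≫ i = g) ↔ g ≫ φ = g := by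
    intro T g
    constructor
    · rintro ⟨z, rfl⟩
      rw [Category.assoc, show i ≫ φ = i ≫ 𝟙 G from equalizer.condition φ (𝟙 G), Category.comp_id]
    · exact fun hg => ⟨equalizer.lift g (by rw [hg, Category.comp_id]), equalizer.lift_ι _ _⟩
  have hiφ : i ≫ φ = i := (hmem N i).1 ⟨𝟙 _, Category.id_comp _⟩
  obtain ⟨μN, hμ⟩ : ∃ z, z ≫ i = (fst N N ≫ i) * (snd N N ≫ i) := (hmem _ _).2 (by
    rw [MonObj.mul_comp, Category.assoc, Category.assoc, hiφ])
  obtain ⟨eN, he⟩ := (hmem (𝟙_ _) η[G]).2 (IsMonHom.one_hom (f := φ))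
  obtain ⟨vN, hv⟩ : ∃ z, z ≫ i = i⁻¹ := (hmem _ _).2 (by rw [GrpObj.inv_comp, hiφ])
  letI inst : GrpObj N :=
    { one := eN
      mul := μN
      inv := vN
      one_mul := by
        rw [← cancel_mono i, Category.assoc, hμ, MonObj.comp_mul, whiskerRight_fst_assoc, he,
          whiskerRight_snd_assoc, toUnit_unique (fst _ N) (toUnit _), ← Hom.one_def, _root_.one_mul,
          leftUnitor_hom]
      mul_one := by
        rw [← cancel_mono i, Category.assoc, hμ, MonObj.comp_mul, whiskerLeft_fst_assoc,
          whiskerLeft_snd_assoc, he, toUnit_unique (snd N _) (toUnit _), ← Hom.one_def, _root_.mul_one,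
          rightUnitor_hom]
      mul_assoc := by
        rw [← cancel_mono i]
        simp only [Category.assoc, hμ, MonObj.comp_mul, whiskerRight_fst_assoc, whiskerRight_snd_assoc,
          whiskerLeft_fst_assoc, whiskerLeft_snd_assoc, associator_hom_fst_assoc,
          associator_hom_snd_fst_assoc, associator_hom_snd_snd_assoc, _root_.mul_assoc]
      left_inv := by
        rw [← cancel_mono i, Category.assoc, hμ, MonObj.comp_mul, lift_fst_assoc, lift_snd_assoc,
          Category.id_comp, hv, inv_mul_cancel, Category.assoc, he]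
        rfl
      right_inv := by
        rw [← cancel_mono i, Category.assoc, hμ, MonObj.comp_mul, lift_fst_assoc, lift_snd_assoc,
          Category.id_comp, hv, mul_inv_cancel, Category.assoc, he]
        rfl }
  have himon : IsMonHom i := ⟨he, by
    change μN ≫ i = _
    rw [hμ, Hom.mul_def]
    congr 1
    try ext1 <;> simp⟩
  exact ⟨N, inst, i, himon, inferInstance, hcl, hmem⟩

end Groth.Agent.RootBase
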