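import Groth.Agent.RootBase.SolvGlobal
import Groth.Agent.AgIsog.Kernel
import Groth.Agent.Chev.CentralMT

/-!
# The unipotent radical of a subgroup of type (R) with solvable fibres
-/

set_option autoImplicit false
set_option backward.isDefEq.respectTransparency false
set_option linter.style.haveILetI false
set_option maxHeartbeats 2000000
set_option synthInstance.maxHeartbeats 400000

universe u

open CategoryTheory Limits MonoidalCategory CartesianMonoidalCategory MonObj GrpObj AlgebraicGeometry
open scoped CategoryTheory.Obj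

noncomputable section

namespace Groth.Agent.RootBase

open Groth.Agent.HomDiag Groth.Agent.MTBridge Groth.Agent.DynPar

variable {S : Scheme.{u}}

/-- Smoothness descends along etale neighbourhoods of the base. -/
theorem smooth_of_etale (X : Over S) (W : S → Scheme.{u}) (p : ∀ s, W s ⟶ S) [∀ s, Etale (p s)]
    (hs : ∀ s, s ∈ Set.range (p s).base) (h : ∀ s, Smooth (Red.bc (p s) X).hom) : Smooth X.hom := by
  let O : S → S.Opens := fun s => ⟨Set.range (p s), (p s).isOpenMap.isOpen_range⟩
  refine IsZariskiLocalAtTarget.of_iSup_eq_top O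
    (eq_top_iff.2 fun y _ => TopologicalSpace.Opens.mem_iSup.2 ⟨y, hs y⟩) fun s => ?_
  let a : W s ⟶ (O s).toScheme :=
    IsOpenImmersion.lift (O s).ι (p s) (by rw [Scheme.Opens.range_ι]; exact le_refl _)
  have ha : a ≫ (O s).ι = p s := IsOpenImmersion.lift_fac _ _ _
  haveI : Etale (a ≫ (O s).ι) := by rw [ha]; infer_instance
  haveI : Etale a := Etale.of_comp a (O s).ι
  haveI : Surjective a := ⟨fun o => by
    obtain ⟨q, hq⟩ := o.2
    refine ⟨q, (O s).ι.isOpenEmbedding.injective ?_⟩
    rw [← Scheme.Hom.comp_apply, ha, hq]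
    rfl⟩
  haveI : MorphismProperty.DescendsAlong (@Smooth : MorphismProperty Scheme.{u})
      (@Surjective ⊓ @Flat ⊓ @QuasiCompact : MorphismProperty Scheme.{u}) := inferInstance
  have hr := isPullback_morphismRestrict X.hom (O s)
  let l := hr.lift (pullback.snd X.hom (p s) ≫ a) (pullback.fst X.hom (p s))
    (by rw [Category.assoc, ha]; exact pullback.condition.symm)
  have hsq : IsPullback (pullback.snd X.hom (p s)) l a (X.hom ∣_ O s) :=
    IsPullback.of_bot (by rw [ha, hr.lift_snd]; exact (IsPullback.of_hasPullback X.hom (p s)).flip)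
      (hr.lift_fst _ _ _).symm hr
  exact MorphismProperty.of_isPullback_of_descendsAlong
    (Q := (@Surjective ⊓ @Flat ⊓ @LocallyOfFinitePresentation : MorphismProperty Scheme.{u})) hsq
    ⟨⟨inferInstance, inferInstance⟩, inferInstance⟩ (h s)

/-- The conditions on a fibre descend from a point above it. -/
theorem hfib_desc {U : Over S} [GrpObj U] {W : Scheme.{u}} (f : W ⟶ S) [LocallyQuasiFinite f] (w : W)
    (h : ConnectedSpace ↥(Red.geomFibre w (Red.bc f U)).left ∧
      Red.HasNoSubtorus (AlgebraicClosure (W.residueField w)) (Red.geomFibre w (Red.bc f U))) :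
    ConnectedSpace ↥(Red.geomFibre (f w) U).left ∧
      Red.HasNoSubtorus (AlgebraicClosure (S.residueField (f w))) (Red.geomFibre (f w) U) := by
  obtain ⟨t, ht, htw⟩ := exists_geomPt_iso f w
  haveI := ht
  obtain ⟨e₁, -, he₁⟩ := Chev.MaxTorusBC.exists_trIso (show Red.geomPt w ≫ f = Red.geomPt w ≫ f from rfl) U
  obtain ⟨e₂, -, he₂⟩ := Chev.MaxTorusBC.exists_trIso htw U
  haveI : IsMonHom e₁.hom := he₁
  haveI : IsMonHom e₂.hom := he₂
  haveI : IsMonHom e₂.inv := inferInstance
  let e : Red.bc t (Red.geomFibre (f w) U) ≅ Red.geomFibre w (Red.bc f U) := e₂.symm ≪≫ e₁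
  haveI : IsMonHom e.hom := inferInstanceAs (IsMonHom (e₂.inv ≫ e₁.hom))
  haveI : IsIso e.inv.left := inferInstanceAs (IsIso ((Over.forget _).map e.inv))
  obtain ⟨hc, hU⟩ := h
  refine ⟨?_, fun T _ k hkm hkmono hT => ?_⟩
  · haveI : ConnectedSpace ↥(Red.geomFibre w (Red.bc f U)).left := hc
    let q : (Red.geomFibre w (Red.bc f U)).left ⟶ (Red.geomFibre (f w) U).left :=
      e.inv.left ≫ pullback.fst (Red.geomFibre (f w) U).hom t
    haveI : IsIso (pullback.fst (Red.geomFibre (f w) U).hom t) := inferInstance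
    haveI : IsIso q := inferInstanceAs (IsIso (_ ≫ _))
    exact q.homeomorph.surjective.connectedSpace q.continuous
  · haveI := hkm; haveI := hkmono
    haveI : IsMonHom ((Over.pullback t).map k) := isMonHom_map' t k
    haveI : PreservesLimitsOfShape WalkingCospan (Over.pullback t) :=
      (Adjunction.rightAdjoint_preservesLimits (Over.mapPullbackAdj t)).preservesLimitsOfShape
    haveI : Mono ((Over.pullback t).map k) := inferInstance
    haveI : IsMonHom ((Over.pullback t).map k ≫ e.hom) := inferInstance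
    haveI : Mono ((Over.pullback t).map k ≫ e.hom) := mono_comp _ _
    exact UniRad.isTrivial_of_pullback t T
      (hU (Red.bc t T) ((Over.pullback t).map k ≫ e.hom) (Chev.Borel.isTorus_bc_scheme T t hT))

variable {G H T : Over S} [GrpObj G] [GrpObj H] [GrpObj T]

set_option maxHeartbeats 8000000 in
/-- **The unipotent radical and the semidirect decomposition.** -/
theorem exists_solvRad (hG : Red.IsReductive G) (i : T ⟶ G) (hT : Red.IsMaximalTorus i) (h : H ⟶ G)
    (hH : RedSub.IsTypeR h) (t : T ⟶ H) (ht : t ≫ h = i) (hsolv : ∀ s : S, Red.IsSolvableGrp (Red.geomFibre s H)) :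
    ∃ (U : Over S) (_ : GrpObj U) (u : U ⟶ H) (r : H ⟶ T), IsMonHom r ∧ t ≫ r = 𝟙 T ∧
      Par.IsUnipotentRadical u ∧ RedSub.KilledByCommutative u ∧ IsIso ((t ⊗ₘ u) ≫ μ[H]) ∧
      ∀ (X : Over S) (z : X ⟶ H), (∃ y, y ≫ u = z) ↔ z ≫ r = 1 := by
  obtain ⟨⟨r, hrm, hrt, hloc⟩, huniq⟩ := exists_solvTorusProj hG i hT h hH t ht hsolv
  choose W p hp hs Uw gUw jw hrad hker using hloc
  haveI := hp
  haveI := hrm
  haveI := hT.1; haveI := hT.2.1
  obtain ⟨⟨hm, himm⟩, hHs, hHq, -, -⟩ := id hH
  haveI := hm; haveI := hHs; haveI := hHq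
  haveI : Mono h := Over.mono_of_mono_left h
  haveI : IsMonHom t := MTSplit.isMonHom_of_comp_mono t h i ht
  obtain ⟨U, _, u, hum, humono, hpb, hmem⟩ := AgIsog.exists_kernel r
  haveI := hum; haveI := humono
  have hur : u ≫ r = 1 := (hmem U u).1 ⟨𝟙 _, Category.id_comp _⟩
  haveI : IsAffineHom T.hom := MTBridge.isAffineHom T (MTBridge.isMultTypeFT_of_isTorus T hT.2.2.1)
  haveI : IsClosedImmersion (η[T] : 𝟙_ (Over S) ⟶ T).left := by
    haveI : IsClosedImmersion ((η[T] : 𝟙_ (Over S) ⟶ T).left ≫ T.hom) := by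
      rw [Over.w]; exact inferInstanceAs (IsClosedImmersion (𝟙 S))
    exact IsClosedImmersion.of_comp _ T.hom
  haveI huc : IsClosedImmersion u.left := MorphismProperty.of_isPullback (P := @IsClosedImmersion) hpb.flip inferInstance
  have hone : ∀ (s : S) {A B : Over S} [GrpObj B], (Over.pullback (p s)).map (1 : A ⟶ B) = 1 := fun s A B _ =>
    mul_eq_left.1 (show (Over.pullback (p s)).map (1 : A ⟶ B) * (Over.pullback (p s)).map 1 = (Over.pullback (p s)).map 1 by
      rw [← Functor.map_mul, _root_.one_mul])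
  -- the kernel on the charts
  have hiso : ∀ s, ∃ e : Uw s ≅ Red.bc (p s) U, IsMonHom e.hom ∧ e.hom ≫ (Over.pullback (p s)).map u = jw s := by
    intro s
    haveI := (hrad s).1; haveI := (hrad s).2.1
    haveI : Mono (jw s) := Over.mono_of_mono_left _
    haveI : PreservesLimitsOfShape WalkingCospan (Over.pullback (p s)) :=
      (Adjunction.rightAdjoint_preservesLimits (Over.mapPullbackAdj (p s))).preservesLimitsOfShape
    haveI : Mono ((Over.pullback (p s)).map u) := inferInstance
    haveI := isMonHom_map' (p s) u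
    obtain ⟨g, hg⟩ := (hker s _ ((Over.pullback (p s)).map u)).2 (by rw [← Functor.map_comp, hur, hone])
    obtain ⟨y, hy⟩ := (hmem _ (low (p s) (jw s))).2 (by
      rw [← low_map, (hker s _ (jw s)).1 ⟨𝟙 _, Category.id_comp _⟩]
      exact toBC_inj (p s) (by
        rw [toBC_low]
        exact (mul_eq_left.1 (show toBC (p s) (1 : (Over.map (p s)).obj (Uw s) ⟶ T) * toBC (p s) 1 = toBC (p s) 1 by
          rw [← toBC_mul, _root_.one_mul])).symm))
    have hy' : toBC (p s) y ≫ (Over.pullback (p s)).map u = jw s := by rw [← toBC_comp, hy, toBC_low]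
    refine ⟨⟨toBC (p s) y, g, ?_, ?_⟩, MTSplit.isMonHom_of_comp_mono _ _ _ hy', hy'⟩
    · rw [← cancel_mono (jw s), Category.assoc, hg, hy', Category.id_comp]
    · rw [← cancel_mono ((Over.pullback (p s)).map u), Category.assoc, hy', hg, Category.id_comp]
  choose e hem he using hiso
  haveI hUs : Smooth U.hom := smooth_of_etale U W p hs fun s => by
    haveI := (hrad s).2.2.2.1
    haveI : IsIso (e s).inv.left := inferInstanceAs (IsIso ((Over.forget _).map (e s).inv))
    rw [← Over.w (e s).inv]
    infer_instance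
  haveI hUq : QuasiCompact U.hom := by rw [← Over.w u]; infer_instance
  have hfib : ∀ s : S, ConnectedSpace ↥(Red.geomFibre s U).left ∧
      Red.HasNoSubtorus (AlgebraicClosure (S.residueField s)) (Red.geomFibre s U) := fun s => by
    obtain ⟨w, hw⟩ := hs s
    haveI : LocallyQuasiFinite (p s) := Weighting.locallyQuasiFinite_of_etale (p s)
    rw [← hw]
    refine hfib_desc (p s) w ?_
    obtain ⟨hc, hn⟩ := (hrad s).2.2.2.2.2.1 w
    haveI := hem s
    let τ := Red.geomPt w
    let q : Red.geomFibre w (Uw s) ≅ Red.geomFibre w (Red.bc (p s) U) := (Over.pullback τ).mapIso (e s)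
    haveI : IsMonHom q.hom := isMonHom_map' τ (e s).hom
    haveI : IsMonHom q.inv := inferInstance
    haveI : IsIso q.hom.left := inferInstanceAs (IsIso ((Over.forget _).map q.hom))
    refine ⟨?_, fun T' _ k hk hkmono hT' => ?_⟩
    · haveI : ConnectedSpace ↥(Red.geomFibre w (Uw s)).left := hc
      exact q.hom.left.homeomorph.surjective.connectedSpace q.hom.left.continuous
    · haveI := hk; haveI := hkmono
      haveI : Mono (k ≫ q.inv) := mono_comp _ _
      exact hn T' (k ≫ q.inv) hT'
  have hrad' : Par.IsUnipotentRadical u := by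
    refine ⟨hum, huc, fun X g n => ?_, hUs, hUq, hfib, fun U' _ u' _ hu'c hnorm hU's hU'q hU'fib => ?_⟩
    · obtain ⟨n', hn'⟩ := (hmem X (g * (n ≫ u) * g⁻¹)).2 (by
        rw [MonObj.mul_comp, MonObj.mul_comp, GrpObj.inv_comp, Category.assoc, hur, MonObj.comp_one,
          _root_.mul_one, mul_inv_cancel])
      exact ⟨n', hn'.symm⟩
    refine (hmem U' u').2 (Over.OverMorphism.ext (hom_ext_etale U'.hom W p hs _ _ fun s => ?_))
    haveI : LocallyQuasiFinite (p s) := Weighting.locallyQuasiFinite_of_etale (p s)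
    haveI := isMonHom_map' (p s) u'
    haveI := hU's; haveI := hU'q
    obtain ⟨g, hg⟩ := (hrad s).2.2.2.2.2.2 (Red.bc (p s) U') ((Over.pullback (p s)).map u')
      (MorphismProperty.overPullbackMap (P := @IsClosedImmersion) (p s) u' hu'c)
      (fun X g n => by
        obtain ⟨n', hn'⟩ := hnorm _ (low (p s) g) (low (p s) n)
        refine ⟨toBC (p s) n', ?_⟩
        rw [← toBC_comp, ← hn', ← low_map, toBC_mul, toBC_mul, toBC_low, toBC_low]
        congr 1
        exact inv_eq_of_mul_eq_one_right (by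
          rw [← toBC_low (p s) g, ← toBC_mul, toBC_low, mul_inv_cancel]
          exact mul_eq_left.1 (show toBC (p s) (1 : (Over.map (p s)).obj X ⟶ H) * toBC (p s) 1 = toBC (p s) 1 by
            rw [← toBC_mul, _root_.one_mul])))
      (inferInstanceAs (Smooth (pullback.snd U'.hom (p s)))) (inferInstanceAs (QuasiCompact (pullback.snd U'.hom (p s))))
      (hfib_bc (p s) hU'fib)
    have h1 : (Over.pullback (p s)).map (u' ≫ r) = (Over.pullback (p s)).map (1 : U' ⟶ T) := by
      rw [hone, Functor.map_comp, ← hg, Category.assoc]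
      have := (hker s _ (jw s)).1 ⟨𝟙 _, Category.id_comp _⟩
      rw [this, MonObj.comp_one]
    have h2 := congrArg (fun q => Over.Hom.left q ≫ pullback.fst T.hom (p s)) h1
    simpa [Over.pullback] using h2
  refine ⟨U, inferInstance, u, r, hrm, hrt, hrad', fun A _ f _ hA => ?_, ?_, hmem⟩
  · haveI : IsMonHom (r ≫ t ≫ f) := inferInstance
    rw [huniq hA f (r ≫ t ≫ f) (by rw [reassoc_of% hrt]), ← Category.assoc, hur, MonObj.one_comp]
  · let φ := (t ⊗ₘ u) ≫ μ[H]
    have hφ : ∀ {X : Over S} (a : X ⟶ T) (b : X ⟶ U), lift a b ≫ φ = (a ≫ t) * (b ≫ u) := fun a b => by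
      show lift a b ≫ (t ⊗ₘ u) ≫ μ[H] = _
      rw [← Category.assoc, lift_map]; rfl
    obtain ⟨b, hb⟩ := (hmem H ((r ≫ t)⁻¹ * 𝟙 H)).2 (by
      rw [MonObj.mul_comp, GrpObj.inv_comp, Category.assoc, hrt, Category.comp_id, Category.id_comp, inv_mul_cancel])
    refine ⟨lift r b, ?_, ?_⟩
    · rw [← cancel_mono (𝟙 (T ⊗ U)), Category.comp_id]
      have hφ1 : φ ≫ r = fst T U := by
        have := hφ (fst T U) (snd T U)
        rw [lift_fst_snd, Category.id_comp] at this
        rw [this, MonObj.mul_comp, Category.assoc, hrt, Category.comp_id, Category.assoc, hur, MonObj.comp_one,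
          _root_.mul_one]
      simp only [Category.comp_id]
      refine CartesianMonoidalCategory.hom_ext _ _ ?_ ?_
      · rw [Category.assoc, lift_fst, hφ1, Category.id_comp]
      · rw [Category.assoc, lift_snd, Category.id_comp, ← cancel_mono u, Category.assoc, hb, MonObj.comp_mul,
          GrpObj.comp_inv, Category.comp_id, ← Category.assoc, hφ1]
        have := hφ (fst T U) (snd T U)
        rw [lift_fst_snd, Category.id_comp] at this
        change (fst T U ≫ t)⁻¹ * φ = _
        rw [this, inv_mul_cancel_left]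
    · rw [hφ, hb, mul_inv_cancel_left]

end Groth.Agent.RootBase
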