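import Groth.Agent.RootBase.RCSplit
import Groth.Agent.RootBase.RCChart
import Groth.Agent.RootBase.SolvRad
import Groth.Agent.AffQuot.Red

/-!
# Gluing the projection of a subgroup of type (RC) onto a Levi subgroup
-/

set_option autoImplicit false
set_option backward.isDefEq.respectTransparency false
set_option linter.style.haveILetI false
set_option maxHeartbeats 4000000
set_option synthInstance.maxHeartbeats 400000

universe u

open CategoryTheory Limits MonoidalCategory CartesianMonoidalCategory MonObj GrpObj AlgebraicGeometry LieS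
open scoped CategoryTheory.Obj

noncomputable section

namespace Groth.Agent.RootBase

open Groth.Agent.HomDiag Groth.Agent.DynPar Groth.Agent.RootSys Groth.Agent.MTBridge

variable {S : Scheme.{u}} {G H T : Over S} [GrpObj G] [GrpObj H] [GrpObj T]

/-- The limit of a point of a closed normal subgroup stays in it. -/
theorem IsRCProj.exists_restrict [IsAffineHom G.hom] {h : H ⟶ G} [IsMonHom h] [IsClosedImmersion h.left] {t : T ⟶ H}
    [IsMonHom t] {π : H ⟶ H} (hπ : IsRCProj h t π) {U' : Over S} [GrpObj U'] (u' : U' ⟶ H) [IsMonHom u']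
    [IsClosedImmersion u'.left] (hn : AlgGrp.IsNormalHom u') : ∃ ρ : U' ⟶ U', ρ ≫ u' = u' ≫ π := by
  haveI : Mono h := Over.mono_of_mono_left h
  haveI : Mono u' := Over.mono_of_mono_left u'
  obtain ⟨lam, hlm, hlim⟩ := hπ.lim
  haveI := hlm
  haveI : IsImmersion (u' ≫ h).left := by rw [Over.comp_left]; infer_instance
  have key : ∀ (B : Type u) [CommRing B] (f : Spec (CommRingCat.of B) ⟶ S) (y : pt B f ⟶ U'),
      ∃ y' : pt B f ⟶ U', y' ≫ u' = (y ≫ u') ≫ π := fun B _ f y => by
    obtain ⟨h1, h2⟩ := hlim B f (y ≫ u')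
    obtain ⟨a, ha⟩ := (mem_PSub f _).1 h1
    obtain ⟨n', hn'⟩ := hn _ (xu f ℤ ≫ lam ≫ t) (qc ℤ f ≫ y)
    have e : n' ≫ u' ≫ h = qn f ℤ ≫ a := by
      rw [ha, orb_apply, ← Category.assoc n', ← hn', MonObj.mul_comp, MonObj.mul_comp, GrpObj.inv_comp]
      simp only [Category.assoc]
    obtain ⟨a', ha'⟩ := exists_fac_orbit (u' ≫ h) f a n' e
    refine ⟨qz f ℤ ≫ a', ?_⟩
    rw [← cancel_mono h, Category.assoc (y ≫ u') π h, h2, lim_eq ha]
    simp only [Category.assoc, ha']
  choose r hr using key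
  obtain ⟨ρ, hρ⟩ := exists_hom_of_pts r fun B B' _ _ f f' h' hf y => by
    rw [← cancel_mono u', hr, Category.assoc (qm h' hf) (r B f y) u', hr]
    simp only [Category.assoc]
  exact ⟨ρ, hom_ext_pts _ _ fun B _ f y => by rw [← Category.assoc, hρ, hr, Category.assoc]⟩

/-- A point killed by the projection and commuting with the torus is trivial. -/
theorem IsRCProj.eq_one_of_comm [IsAffineHom G.hom] {h : H ⟶ G} [IsMonHom h] [IsImmersion h.left] {t : T ⟶ H}
    [IsMonHom t] {π : H ⟶ H} (hπ : IsRCProj h t π) {X : Over S} (g : X ⟶ H) (hg : g ≫ π = 1)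
    (hcomm : ∀ (X' : Over S) (x : X' ⟶ X) (a : X' ⟶ T), (x ≫ g) * (a ≫ t) = (a ≫ t) * (x ≫ g)) : g = 1 := by
  haveI : Mono h := Over.mono_of_mono_left h
  haveI := hπ.hom
  obtain ⟨lam, hlm, hlim⟩ := hπ.lim
  haveI := hlm
  rw [← cancel_mono h, MonObj.one_comp]
  refine hom_ext_pts _ _ fun B _ f y => ?_
  obtain ⟨h1, h2⟩ := hlim B f (y ≫ g)
  have hz : (y ≫ g) ≫ h ∈ ZSub f (lam ≫ t ≫ h) := by
    rw [DynPar.mem_ZSub, orb_apply, mul_inv_eq_iff_eq_mul]
    have e := congrArg (· ≫ h) (hcomm _ (qc ℤ f ≫ y) (xu f ℤ ≫ lam))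
    simp only [MonObj.mul_comp, Category.assoc] at e ⊢
    exact e.symm
  rw [lim_of_mem_ZSub hz] at h2
  rw [MonObj.comp_one, ← Category.assoc, ← h2, Category.assoc y g (π ≫ h), reassoc_of% hg, MonObj.one_comp,
    MonObj.comp_one]

/-- Two maps agree as soon as they do on an etale cover of the base. -/
theorem hom_ext_bc (W : S → Scheme.{u}) (p : ∀ s, W s ⟶ S) [∀ s, Etale (p s)] (hs : ∀ s, s ∈ Set.range (p s).base)
    {X Y : Over S} (a b : X ⟶ Y) (h : ∀ s, (Over.pullback (p s)).map a = (Over.pullback (p s)).map b) : a = b := by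
  refine Over.OverMorphism.ext (hom_ext_etale X.hom W p hs _ _ fun s => ?_)
  have h2 := congrArg (fun q => Over.Hom.left q ≫ pullback.fst Y.hom (p s)) (h s)
  simpa [Over.pullback] using h2

/-- Base change carries trivial maps to trivial maps. -/
theorem map_one_bc {W : Scheme.{u}} (p : W ⟶ S) {A B : Over S} [GrpObj B] :
    (Over.pullback p).map (1 : A ⟶ B) = 1 :=
  mul_eq_left.1 (show (Over.pullback p).map (1 : A ⟶ B) * (Over.pullback p).map 1 = (Over.pullback p).map 1 by
    rw [← Functor.map_mul, _root_.one_mul])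

/-- A fixed subgroup and a kernel after a change of base. -/
theorem mem_bc {W : Scheme.{u}} (p : W ⟶ S) {π : H ⟶ H} {L : Over S} (l : L ⟶ H)
    (hmem : ∀ (X : Over S) (g : X ⟶ H), (∃ z, z ≫ l = g) ↔ g ≫ π = g) (X : Over W) (g : X ⟶ Red.bc p H) :
    (∃ z, z ≫ (Over.pullback p).map l = g) ↔ g ≫ (Over.pullback p).map π = g := by
  refine ⟨?_, fun hg => ?_⟩
  · rintro ⟨z, rfl⟩
    rw [Category.assoc, ← Functor.map_comp, (hmem L l).1 ⟨𝟙 _, Category.id_comp _⟩]
  · obtain ⟨z, hz⟩ := (hmem _ (low p g)).2 (by rw [← low_map, hg])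
    exact ⟨toBC p z, by rw [← toBC_comp, hz, toBC_low]⟩

theorem mem_bc_ker {W : Scheme.{u}} (p : W ⟶ S) {π : H ⟶ H} {U : Over S} (u : U ⟶ H)
    (hmem : ∀ (X : Over S) (g : X ⟶ H), (∃ z, z ≫ u = g) ↔ g ≫ π = 1) (X : Over W) (g : X ⟶ Red.bc p H) :
    (∃ z, z ≫ (Over.pullback p).map u = g) ↔ g ≫ (Over.pullback p).map π = 1 := by
  refine ⟨?_, fun hg => ?_⟩
  · rintro ⟨z, rfl⟩
    rw [Category.assoc, ← Functor.map_comp, (hmem U u).1 ⟨𝟙 _, Category.id_comp _⟩, map_one_bc, MonObj.comp_one]
  · obtain ⟨z, hz⟩ := (hmem _ (low p g)).2 (by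
      rw [← low_map, hg]
      exact toBC_inj p (by rw [toBC_low, toBC_one_hom]))
    exact ⟨toBC p z, by rw [← toBC_comp, hz, toBC_low]⟩

/-- Reductivity of a fibre descends from a point above it. -/
theorem isReductiveOver_desc {L : Over S} [GrpObj L] {W : Scheme.{u}} (f : W ⟶ S) [LocallyQuasiFinite f]
    (h : Red.IsReductive (Red.bc f L)) (w : W) :
    Red.IsReductiveOver (AlgebraicClosure (S.residueField (f w))) (Red.geomFibre (f w) L) := by
  obtain ⟨t, ht, htw⟩ := exists_geomPt_iso f w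
  haveI := ht
  have hτ : (inv t ≫ Red.geomPt w) ≫ f = Red.geomPt (f w) := by rw [Category.assoc, ← htw, IsIso.inv_hom_id_assoc]
  obtain ⟨e, hem, -, -⟩ := exists_compIso hτ
  haveI := hem L
  haveI : IsMonHom (e L).inv := inferInstance
  haveI : IsMonHom (e L).symm.hom := inferInstanceAs (IsMonHom (e L).inv)
  exact RootSys.isReductiveOver_of_isReductive
    (AffQuot.isReductive_of_iso (e L).symm (isReductive_bc (inv t ≫ Red.geomPt w) h))

set_option maxHeartbeats 16000000 in
/-- **The projection on a Levi subgroup of a subgroup of type (RC).** -/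
theorem exists_rcProj (hG : Red.IsReductive G) (i : T ⟶ G) (hT : Red.IsMaximalTorus i) (h : H ⟶ G)
    (hH : RedSub.IsTypeR h) (t : T ⟶ H) (ht : t ≫ h = i)
    (hRC : ∀ (s : S) (D' : Red.SplitRed (Red.geomFibre s G)) (t' : D'.T ⟶ Red.geomFibre s H),
      t' ≫ (Over.pullback (Red.geomPt s)).map h = D'.i →
      ∀ a b c : D'.idx, (∃ v, v ≫ (Over.pullback (Red.geomPt s)).map h = D'.u a) →
        (∃ v, v ≫ (Over.pullback (Red.geomPt s)).map h = D'.u b) → D'.P.root a + D'.P.root b = D'.P.root c →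
        ∃ v, v ≫ (Over.pullback (Red.geomPt s)).map h = D'.u c) :
    IsClosedImmersion h.left ∧ ∃ π : H ⟶ H, IsMonHom π ∧ t ≫ π = t ∧ π ≫ π = π ∧
      ∃ (W : S → Scheme.{u}) (p : ∀ s, W s ⟶ S) (_ : ∀ s, Etale (p s)), (∀ s, s ∈ Set.range (p s).base) ∧
        ∀ s, IsRCProj ((Over.pullback (p s)).map h) ((Over.pullback (p s)).map t) ((Over.pullback (p s)).map π) ∧
          (∀ (U : Over (W s)) [GrpObj U] (u : U ⟶ Red.bc (p s) H) [IsMonHom u] [Mono u], IsClosedImmersion u.left →
            (∀ (X : Over (W s)) (g : X ⟶ Red.bc (p s) H),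
              (∃ z, z ≫ u = g) ↔ g ≫ (Over.pullback (p s)).map π = 1) →
            ∀ w : W s, ConnectedSpace (Red.geomFibre w U).left ∧
              Red.HasNoSubtorus (AlgebraicClosure ((W s).residueField w)) (Red.geomFibre w U)) ∧
          ∀ (L' : Over (W s)) [GrpObj L'] (l' : L' ⟶ Red.bc (p s) H) [IsMonHom l'] [IsImmersion l'.left]
            (tL' : Red.bc (p s) T ⟶ L'), Red.IsReductive L' → tL' ≫ l' = (Over.pullback (p s)).map t →
              l' ≫ (Over.pullback (p s)).map π = l' := by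
  choose W p hp hs hne D e R' he htD hpR hrs hfac hcl using exists_rc_chart hG i hT h hH t ht hRC
  haveI := hp
  haveI := hG.1; haveI := hG.2.1; haveI := hT.1; haveI := hT.2.1
  obtain ⟨⟨hm, himm⟩, hsm, hqc, hconn, -⟩ := id hH
  haveI := hm; haveI := himm; haveI := hsm; haveI := hqc
  haveI : Mono h := Over.mono_of_mono_left h
  haveI : IsMonHom t := MTSplit.isMonHom_of_comp_mono t h i ht
  haveI : ∀ s, IsAffineHom (Red.bc (p s) G).hom := fun s =>
    MorphismProperty.pullback_snd (P := @IsAffineHom) G.hom (p s) inferInstance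
  haveI : ∀ s, IsMonHom ((Over.pullback (p s)).map h) := fun s => isMonHom_map' (p s) h
  haveI : ∀ s, IsMonHom ((Over.pullback (p s)).map t) := fun s => isMonHom_map' (p s) t
  haveI : ∀ s, IsImmersion ((Over.pullback (p s)).map h).left := fun s =>
    MorphismProperty.overPullbackMap (P := @IsImmersion) (p s) h inferInstance
  -- the projection on each chart
  have hex : ∀ s, ∃ π : Red.bc (p s) H ⟶ Red.bc (p s) H,
      IsRCProj ((Over.pullback (p s)).map h) ((Over.pullback (p s)).map t) π ∧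
      IsClosedImmersion ((Over.pullback (p s)).map h).left ∧
      ∀ (U : Over (W s)) [GrpObj U] (u : U ⟶ Red.bc (p s) H) [IsMonHom u] [Mono u], IsClosedImmersion u.left →
        (∀ (X : Over (W s)) (g : X ⟶ Red.bc (p s) H), (∃ z, z ≫ u = g) ↔ g ≫ π = 1) →
        ∀ w : W s, ConnectedSpace (Red.geomFibre w U).left ∧
          Red.HasNoSubtorus (AlgebraicClosure ((W s).residueField w)) (Red.geomFibre w U) := fun s => by
    haveI := hne s
    letI := (D s).grpT
    haveI := he s
    obtain ⟨π, hπ, hc, hU⟩ := exists_rcProj_split (D s) _ (hpR s) _ (htD s) (R' s) (hrs s) (hfac s) (hcl s)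
    haveI : IsMonHom (Iso.refl (Red.bc (p s) G)).hom := inferInstanceAs (IsMonHom (𝟙 (Red.bc (p s) G)))
    haveI : IsMonHom (Iso.refl (Red.bc (p s) H)).hom := inferInstanceAs (IsMonHom (𝟙 (Red.bc (p s) H)))
    exact ⟨π, hπ.of_iso (Iso.refl _) (Iso.refl _) (e s) (by simp) (by simp) (by simp), hc, hU⟩
  haveI : ∀ s, Smooth (Red.bc (p s) H).hom := fun s =>
    MorphismProperty.pullback_snd (P := @Smooth) H.hom (p s) inferInstance
  choose r hrP hclosed hrU using hex
  haveI : ∀ s, IsMonHom (r s) := fun s => (hrP s).hom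
  -- the frames of the charts
  have hfr : ∀ s, ∃ (M : Type) (_ : AddCommGroup M) (_ : Module.Free ℤ M) (_ : Module.Finite ℤ M) (idx : Type)
      (_ : Fintype idx) (c : Red.DS (W s) M ⟶ Red.bc (p s) G) (P : RootPairing idx ℤ M (Module.Dual ℤ M))
      (u : idx → (Red.Ga (W s) ⟶ Red.bc (p s) G)) (E : Red.DS (W s) M ⟶ Red.bc (p s) T),
      Frame c P.root u ∧ IsMonHom E ∧ IsIso E ∧
        E ≫ (Over.pullback (p s)).map t ≫ (Over.pullback (p s)).map h = c := fun s => by
    letI := (D s).grpT; letI := (D s).acgM; letI := (D s).fintypeIdx; letI := (D s).finiteM; letI := (D s).freeM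
    haveI := he s
    haveI : IsMonHom (D s).split.inv.hom.hom := (D s).split.inv.hom.isMonHom_hom
    haveI : IsIso (D s).split.inv.hom.hom :=
      ⟨⟨(D s).split.hom.hom.hom, congrArg (fun f => f.hom.hom) (D s).split.inv_hom_id,
        congrArg (fun f => f.hom.hom) (D s).split.hom_inv_id⟩⟩
    exact ⟨(D s).M, inferInstance, inferInstance, inferInstance, (D s).idx, inferInstance, _, (D s).P, (D s).u,
      (D s).split.inv.hom.hom ≫ (e s).hom, frame_of_splitRed (D s), inferInstance, inferInstance, by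
        rw [← htD s]; simp only [Category.assoc]⟩
  choose MM iM iMf iMg idx iidx c P uu E hF hEm hEi hE using hfr
  haveI := hEm; haveI := hEi
  -- two charts give the same values
  have hcompat : ∀ (s s' : S) (Y : Over S) (l : Y.left ⟶ W s) (l' : Y.left ⟶ W s') (hl : l ≫ p s = Y.hom)
      (hl' : l' ≫ p s' = Y.hom) (y : Y ⟶ H), val (p s) (r s) Y l hl y = val (p s') (r s') Y l' hl' y := by
    intro s s' Y l l' hl hl' y
    letI := iM s; letI := iMf s; letI := iMg s; letI := iidx s
    obtain ⟨e₁, hm₁, hn₁, hf₁⟩ := exists_compIso hl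
    obtain ⟨e₂, hm₂, hn₂, hf₂⟩ := exists_compIso hl'
    let eX : ∀ X : Over S, Red.bc l' (Red.bc (p s') X) ≅ Red.bc l (Red.bc (p s) X) :=
      fun X => (e₂ X).symm ≪≫ e₁ X
    have hem : ∀ (X : Over S) [GrpObj X], IsMonHom (eX X).hom := fun X _ => by
      haveI := hm₁ X; haveI := hm₂ X
      haveI : IsMonHom (e₂ X).inv := inferInstance
      exact inferInstanceAs (IsMonHom ((e₂ X).inv ≫ (e₁ X).hom))
    have hnat : ∀ {X Z : Over S} (f : X ⟶ Z), (eX X).hom ≫ (Over.pullback l).map ((Over.pullback (p s)).map f) =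
        (Over.pullback l').map ((Over.pullback (p s')).map f) ≫ (eX Z).hom := fun {X Z} f => by
      show ((e₂ X).inv ≫ (e₁ X).hom) ≫ _ = _ ≫ (e₂ Z).inv ≫ (e₁ Z).hom
      rw [Category.assoc, ← hn₁, Iso.inv_comp_eq, ← reassoc_of% (hn₂ f), Iso.hom_inv_id_assoc]
    haveI := hem G; haveI := hem H; haveI := hem T
    haveI : IsAffineHom (Red.bc l (Red.bc (p s) G)).hom :=
      MorphismProperty.pullback_snd (P := @IsAffineHom) (Red.bc (p s) G).hom l inferInstance
    haveI : IsAffineHom (Red.bc l' (Red.bc (p s') G)).hom :=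
      MorphismProperty.pullback_snd (P := @IsAffineHom) (Red.bc (p s') G).hom l' inferInstance
    have h2 : IsRCProj ((Over.pullback l).map ((Over.pullback (p s)).map h))
        ((Over.pullback l).map ((Over.pullback (p s)).map t))
        ((eX H).inv ≫ (Over.pullback l').map (r s') ≫ (eX H).hom) :=
      ((hrP s').bc l').of_iso (eX G) (eX H) (eX T) (hnat h) (hnat t) (by rw [Iso.hom_inv_id_assoc])
    haveI := isMonHom_map' l ((Over.pullback (p s)).map h)
    haveI := isMonHom_map' l ((Over.pullback (p s)).map t)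
    haveI : IsImmersion ((Over.pullback l).map ((Over.pullback (p s)).map h)).left :=
      MorphismProperty.overPullbackMap (P := @IsImmersion) l _ inferInstance
    haveI : Smooth (Red.bc l (Red.bc (p s) H)).hom :=
      MorphismProperty.pullback_snd (P := @Smooth) (Red.bc (p s) H).hom l inferInstance
    haveI : IsMonHom (bcHom' l (E s)) := isMonHom_bcHom' l (E s)
    haveI := DynPar.isIso_ej l (MM s)
    haveI : IsIso (bcHom' l (E s)) := inferInstanceAs (IsIso (ej l (MM s) ≫ (Over.pullback l).map (E s)))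
    have key := IsRCProj.unique ((hF s).bc l) (MTImage.isConnected_fibre_bc _ (hpR s).2.2.2.1 l)
      (bcHom' l (E s)) (by
        rw [bcHom', bcHom', Category.assoc, ← Functor.map_comp, ← Functor.map_comp, hE s]) ((hrP s).bc l) h2
    have key' : (e₁ H).hom ≫ (Over.pullback l).map (r s) ≫ (e₁ H).inv =
        (e₂ H).hom ≫ (Over.pullback l').map (r s') ≫ (e₂ H).inv := by
      rw [key]
      simp [eX]
    -- evaluate
    apply Over.OverMorphism.ext
    have ev : ∀ (s₁ : S) (l₁ : Y.left ⟶ W s₁) (hl₁ : l₁ ≫ p s₁ = Y.hom)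
        (e : ∀ X : Over S, Red.bc Y.hom X ≅ Red.bc l₁ (Red.bc (p s₁) X)),
        (∀ X : Over S, (e X).hom.left ≫ pullback.fst (Red.bc (p s₁) X).hom l₁ ≫ pullback.fst X.hom (p s₁) =
          pullback.fst X.hom Y.hom) →
        (val (p s₁) (r s₁) Y l₁ hl₁ y).left = pullback.lift y.left (𝟙 Y.left) (by rw [Over.w y, Category.id_comp]) ≫
          ((e H).hom ≫ (Over.pullback l₁).map (r s₁) ≫ (e H).inv).left ≫ pullback.fst H.hom Y.hom := by
      intro s₁ l₁ hl₁ e hf
      have hinv : (e H).inv.left ≫ pullback.fst H.hom Y.hom =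
          pullback.fst (Red.bc (p s₁) H).hom l₁ ≫ pullback.fst H.hom (p s₁) := by
        rw [← hf H, ← Category.assoc, ← Over.comp_left, Iso.inv_hom_id]
        exact Category.id_comp _
      have hmap : ((Over.pullback l₁).map (r s₁)).left ≫ pullback.fst (Red.bc (p s₁) H).hom l₁ =
          pullback.fst (Red.bc (p s₁) H).hom l₁ ≫ (r s₁).left := pullback.lift_fst _ _ _
      rw [val_left, Over.comp_left, Over.comp_left, Category.assoc, Category.assoc, hinv, reassoc_of% hmap,
        ← Category.assoc (e H).hom.left, ← Category.assoc, Category.assoc]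
      conv_rhs => rw [← Category.assoc]
      refine congrArg (fun q => q ≫ (r s₁).left ≫ pullback.fst H.hom (p s₁)) ?_
      refine pullback.hom_ext ?_ ?_
      · rw [pullback.lift_fst]
        exact ((congrArg (fun q => pullback.lift y.left (𝟙 Y.left) _ ≫ q) (hf H)).trans (pullback.lift_fst _ _ _)).symm
      · have hw : (e H).hom.left ≫ pullback.snd (Red.bc (p s₁) H).hom l₁ = pullback.snd H.hom Y.hom := Over.w (e H).hom
        have hc : pullback.fst (Red.bc (p s₁) H).hom l₁ ≫ pullback.snd H.hom (p s₁) =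
            pullback.snd (Red.bc (p s₁) H).hom l₁ ≫ l₁ := pullback.condition
        rw [pullback.lift_snd, Category.assoc, Category.assoc]
        erw [hc]
        rw [reassoc_of% hw, pullback.lift_snd_assoc, Category.id_comp]
    rw [ev s l hl e₁ hf₁, ev s' l' hl' e₂ hf₂, key']
  -- glue
  obtain ⟨F, hFg⟩ := exists_glue_charts H.hom W p hs (fun s => (r s).left ≫ pullback.fst H.hom (p s))
    fun s s' Z z z' hz => by
      have h1 := congrArg Over.Hom.left (hcompat s s' (Over.mk (z ≫ pullback.fst H.hom (p s) ≫ H.hom))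
        (z ≫ pullback.snd H.hom (p s)) (z' ≫ pullback.snd H.hom (p s'))
        (by rw [Category.assoc, ← pullback.condition]; rfl)
        (by rw [Category.assoc, ← pullback.condition]; exact ((Category.assoc _ _ _).symm.trans (congrArg (· ≫ H.hom) hz.symm)).trans (Category.assoc _ _ _))
        (Over.homMk (z ≫ pullback.fst H.hom (p s))))
      rw [val_left, val_left] at h1
      refine (congrArg (fun q => q ≫ (r s).left ≫ pullback.fst H.hom (p s)) ?_).trans
        (h1.trans (congrArg (fun q => q ≫ (r s').left ≫ pullback.fst H.hom (p s')) ?_))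
      · refine pullback.hom_ext ?_ ?_ <;> simp
      · refine pullback.hom_ext ?_ ?_ <;> simp [hz]
  have hFw : F ≫ H.hom = H.hom := by
    refine hom_ext_etale H.hom W p hs _ _ fun s => ?_
    rw [← Category.assoc, hFg, Category.assoc, pullback.condition, ← Category.assoc]
    rw [show (r s).left ≫ pullback.snd H.hom (p s) = pullback.snd H.hom (p s) from Over.w (r s)]
  let R : H ⟶ H := Over.homMk F hFw
  have hR : ∀ s, (Over.pullback (p s)).map R = r s := fun s => by
    apply Over.OverMorphism.ext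
    refine pullback.hom_ext ?_ ?_
    · exact (pullback.lift_fst _ _ _).trans (hFg s)
    · exact (Over.w ((Over.pullback (p s)).map R)).trans (Over.w (r s)).symm
  have hRm : IsMonHom R := DynPar.isMonHom_of_mul R fun X a a' => hom_ext_bc W p hs _ _ fun s => by
    rw [Functor.map_comp, hR, Functor.map_mul, MonObj.mul_comp, ← hR, ← Functor.map_comp, ← Functor.map_comp,
      ← Functor.map_mul]
  refine ⟨isClosedImmersion_of_etale h W p hs hclosed, R, hRm, hom_ext_bc W p hs _ _ fun s => ?_,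
    hom_ext_bc W p hs _ _ fun s => ?_, W, p, hp, hs, fun s => ?_⟩
  · rw [Functor.map_comp, hR]; exact (hrP s).fix
  · rw [Functor.map_comp, hR]; exact (hrP s).idem
  · rw [hR]
    refine ⟨hrP s, hrU s, fun L' _ l' _ _ tL' hL' htL' => ?_⟩
    letI := iM s; letI := iMf s; letI := iMg s; letI := iidx s
    exact (hrP s).fixed_of_reductive (hF s) (hpR s).2.2.2.1 (E s) (hE s) hL' l' tL' htL'

end Groth.Agent.RootBase
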