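import Groth.Agent.RootBase.RCTransfer
import Groth.Agent.RootBase.RCEq
import Groth.Agent.RootBase.SolvRad
import Groth.Agent.DynPar.Main
import Groth.Agent.AgIsog.Kernel

/-!
# The Levi subgroup of a subgroup of type (RC) containing a maximal torus
-/

set_option autoImplicit false
set_option backward.isDefEq.respectTransparency false
set_option linter.style.haveILetI false
set_option maxHeartbeats 4000000
set_option synthInstance.maxHeartbeats 400000

universe u

open CategoryTheory Limits MonoidalCategory CartesianMonoidalCategory MonObj GrpObj AlgebraicGeometry LieS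
open scoped CategoryTheory.Obj

noncomputable section

namespace Groth.Agent.RootBase

open Groth.Agent.HomDiag Groth.Agent.DynPar Groth.Agent.RootSys Groth.Agent.MTBridge

variable {S : Scheme.{u}} {G H T : Over S} [GrpObj G] [GrpObj H] [GrpObj T]

set_option maxHeartbeats 16000000 in
/-- **Levi subgroups of subgroups of type (RC).** -/
theorem exists_levi_rc (hG : Red.IsReductive G) (h : H ⟶ G) (hH : RedSub.IsTypeR h)
    (hRC : ∀ (s : S) (D' : Red.SplitRed (Red.geomFibre s G)) (t' : D'.T ⟶ Red.geomFibre s H),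
      t' ≫ (Over.pullback (Red.geomPt s)).map h = D'.i →
      ∀ a b c : D'.idx, (∃ v, v ≫ (Over.pullback (Red.geomPt s)).map h = D'.u a) →
        (∃ v, v ≫ (Over.pullback (Red.geomPt s)).map h = D'.u b) → D'.P.root a + D'.P.root b = D'.P.root c →
        ∃ v, v ≫ (Over.pullback (Red.geomPt s)).map h = D'.u c)
    (t : T ⟶ H) [IsMonHom t] (hT : Red.IsMaximalTorus (t ≫ h)) :
    ∃ (L : Over S) (_ : GrpObj L) (l : L ⟶ H) (tL : T ⟶ L), Par.IsLevi l ∧ tL ≫ l = t ∧
      (∀ (L' : Over S) [GrpObj L'] (l' : L' ⟶ H) (tL' : T ⟶ L'), RedSub.IsSubgrp l' → Red.IsReductive L' →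
        tL' ≫ l' = t → ∃ g : L' ⟶ L, g ≫ l = l') ∧
      Red.IsNormalizerOf l l := by
  obtain ⟨hcl, π, hπm, htπ, hππ, W, p, hp, hs, hch⟩ := exists_rcProj hG (t ≫ h) hT h hH t rfl hRC
  haveI := hp; haveI := hπm; haveI := hcl
  haveI := hG.1; haveI := hG.2.1
  obtain ⟨⟨hm, himm⟩, hsm, hqc, -, -⟩ := id hH
  haveI := hm; haveI := himm; haveI := hsm; haveI := hqc
  haveI : IsAffineHom H.hom := by rw [← Over.w h]; infer_instance
  haveI : ∀ s, LocallyQuasiFinite (p s) := fun s => Weighting.locallyQuasiFinite_of_etale (p s)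
  haveI : ∀ s, IsAffineHom (Red.bc (p s) G).hom := fun s =>
    MorphismProperty.pullback_snd (P := @IsAffineHom) G.hom (p s) inferInstance
  haveI : ∀ s, IsMonHom ((Over.pullback (p s)).map h) := fun s => isMonHom_map' (p s) h
  haveI : ∀ s, IsMonHom ((Over.pullback (p s)).map t) := fun s => isMonHom_map' (p s) t
  haveI : ∀ s, IsClosedImmersion ((Over.pullback (p s)).map h).left := fun s =>
    MorphismProperty.overPullbackMap (P := @IsClosedImmersion) (p s) h inferInstance
  -- the fixed subgroup and the kernel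
  obtain ⟨L, _, l, hlm, hlmono, hlc, hl⟩ := exists_fixed_subgrp π
  obtain ⟨U, _, uu, hum, humono, hpb, hu⟩ := AgIsog.exists_kernel π
  haveI := hlm; haveI := hlmono; haveI := hlc; haveI := hum; haveI := humono
  haveI : IsClosedImmersion (η[H] : 𝟙_ (Over S) ⟶ H).left := by
    haveI : IsClosedImmersion ((η[H] : 𝟙_ (Over S) ⟶ H).left ≫ H.hom) := by
      rw [Over.w]; exact inferInstanceAs (IsClosedImmersion (𝟙 S))
    exact IsClosedImmersion.of_comp _ H.hom
  haveI huc : IsClosedImmersion uu.left := MorphismProperty.of_isPullback (P := @IsClosedImmersion) hpb.flip inferInstance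
  have hlπ : l ≫ π = l := (hl L l).1 ⟨𝟙 _, Category.id_comp _⟩
  have huπ : uu ≫ π = 1 := (hu U uu).1 ⟨𝟙 _, Category.id_comp _⟩
  obtain ⟨r, hr⟩ := (hl H π).2 hππ
  have hlr : l ≫ r = 𝟙 L := by rw [← cancel_mono l, Category.assoc, hr, hlπ, Category.id_comp]
  haveI : IsMonHom r := MTSplit.isMonHom_of_comp_mono r l π hr
  obtain ⟨sU, hsU⟩ := (hu H (π⁻¹ * 𝟙 H)).2 (by
    rw [MonObj.mul_comp, GrpObj.inv_comp, hππ, Category.id_comp, inv_mul_cancel])
  have husU : uu ≫ sU = 𝟙 U := by
    rw [← cancel_mono uu, Category.assoc, hsU, MonObj.comp_mul, GrpObj.comp_inv, huπ, Category.comp_id, inv_one,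
      _root_.one_mul, Category.id_comp]
  haveI hLs : Smooth L.hom := DynPar.smooth_of_retract hsm l r hlr
  haveI hUs : Smooth U.hom := DynPar.smooth_of_retract hsm uu sU husU
  haveI : IsAffineHom L.hom := by rw [← Over.w l]; infer_instance
  haveI : IsAffineHom U.hom := by rw [← Over.w uu]; infer_instance
  -- the reductive group
  have hLW : ∀ s, Red.IsReductive (Red.bc (p s) L) := fun s => by
    obtain ⟨L₀, _, l₀, hl₀, hl₀c, hL₀, hmem₀⟩ := (hch s).1.levi
    haveI := hl₀; haveI := hl₀c
    haveI : Mono l₀ := Over.mono_of_mono_left l₀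
    haveI : IsClosedImmersion ((Over.pullback (p s)).map l).left :=
      MorphismProperty.overPullbackMap (P := @IsClosedImmersion) (p s) l inferInstance
    haveI : Mono ((Over.pullback (p s)).map l) := Over.mono_of_mono_left _
    haveI := isMonHom_map' (p s) l
    obtain ⟨a, ha⟩ := (hmem₀ _ ((Over.pullback (p s)).map l)).2 ((mem_bc (p s) l hl _ _).1 ⟨𝟙 _, Category.id_comp _⟩)
    obtain ⟨b, hb⟩ := (mem_bc (p s) l hl _ l₀).2 ((hmem₀ _ _).1 ⟨𝟙 _, Category.id_comp _⟩)
    let e : L₀ ≅ Red.bc (p s) L := ⟨b, a, by rw [← cancel_mono l₀, Category.assoc, ha, hb, Category.id_comp],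
      by rw [← cancel_mono ((Over.pullback (p s)).map l), Category.assoc, hb, ha, Category.id_comp]⟩
    haveI : IsMonHom e.hom := MTSplit.isMonHom_of_comp_mono b _ l₀ hb
    exact AffQuot.isReductive_of_iso e hL₀
  have hLfib : ∀ s : S, Red.IsReductiveOver (AlgebraicClosure (S.residueField s)) (Red.geomFibre s L) := fun s => by
    obtain ⟨w, hw⟩ := hs s
    have := isReductiveOver_desc (p s) (hLW s) w
    revert this
    generalize (p s) w = x at hw ⊢
    subst hw
    exact id
  have hLred : Red.IsReductive L := ⟨inferInstance, hLs, hLfib⟩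
  -- the fibres of the kernel
  have hUfib : ∀ s : S, ConnectedSpace (Red.geomFibre s U).left ∧
      Red.HasNoSubtorus (AlgebraicClosure (S.residueField s)) (Red.geomFibre s U) := fun s => by
    obtain ⟨w, hw⟩ := hs s
    haveI := isMonHom_map' (p s) uu
    haveI : IsClosedImmersion ((Over.pullback (p s)).map uu).left :=
      MorphismProperty.overPullbackMap (P := @IsClosedImmersion) (p s) uu inferInstance
    haveI : Mono ((Over.pullback (p s)).map uu) := Over.mono_of_mono_left _
    have := hfib_desc (p s) w ((hch s).2.1 _ _ inferInstance (mem_bc_ker (p s) uu hu) w)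
    revert this
    generalize (p s) w = x at hw ⊢
    subst hw
    exact id
  -- the unipotent radical
  have hrad : Par.IsUnipotentRadical uu := by
    refine ⟨hum, huc, fun X g n => ?_, hUs, inferInstance, hUfib, fun U' _ u' _ hu'c hn hU's hU'q hU'fib => ?_⟩
    · obtain ⟨n', hn'⟩ := (hu X (g * (n ≫ uu) * g⁻¹)).2 (by
        rw [MonObj.mul_comp, MonObj.mul_comp, GrpObj.inv_comp, Category.assoc, huπ, MonObj.comp_one,
          _root_.mul_one, mul_inv_cancel])
      exact ⟨n', hn'.symm⟩
    haveI := hu'c; haveI := hU's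
    haveI : Mono u' := Over.mono_of_mono_left u'
    haveI : IsAffineHom U'.hom := by rw [← Over.w u']; infer_instance
    haveI : Mono u'.left := inferInstance
    obtain ⟨ρ, hρu⟩ := exists_fac_etale (u' ≫ π) u' W p hs fun s => by
      haveI := isMonHom_map' (p s) u'
      haveI : IsClosedImmersion ((Over.pullback (p s)).map u').left :=
        MorphismProperty.overPullbackMap (P := @IsClosedImmersion) (p s) u' hu'c
      obtain ⟨ρ, hρ⟩ := (hch s).1.exists_restrict ((Over.pullback (p s)).map u')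
        (SubGen.isNormalHom_pullback (p s) H u' hn)
      exact ⟨ρ, by rw [hρ, Functor.map_comp]⟩
    haveI : IsMonHom (u' ≫ π) := inferInstance
    haveI : IsMonHom ρ := MTSplit.isMonHom_of_comp_mono ρ u' _ hρu
    have hρρ : ρ ≫ ρ = ρ := by
      rw [← cancel_mono u', Category.assoc, hρu, reassoc_of% hρu, hππ]
    let φ : U' ⟶ U' := ρ⁻¹ * 𝟙 U'
    have hφρ : φ ≫ ρ = 1 := by
      rw [MonObj.mul_comp, GrpObj.inv_comp, hρρ, Category.id_comp, inv_mul_cancel]
    haveI : IsIso φ := by
      refine ParNorm.isIso_of_geomPts φ fun s => ?_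
      let F := Over.pullback (Red.geomPt s)
      obtain ⟨hc', hn'⟩ := hU'fib s
      haveI := hc'
      haveI : Smooth (Red.geomFibre s U').hom :=
        MorphismProperty.pullback_snd (P := @Smooth) U'.hom (Red.geomPt s) hU's
      haveI : IsAffineHom (Red.geomFibre s U').hom :=
        inferInstanceAs (IsAffineHom (pullback.snd U'.hom (Red.geomPt s)))
      haveI : IsAffine (Red.geomFibre s U').left := isAffine_of_isAffineHom (Red.geomFibre s U').hom
      haveI := isMonHom_map' (Red.geomPt s) l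
      haveI := isMonHom_map' (Red.geomPt s) r
      haveI := isMonHom_map' (Red.geomPt s) u'
      have h1 : F.map u' ≫ F.map r = 1 :=
        eq_one_of_retract (hLfib s) (F.map l) (F.map r)
          ((F.map_comp _ _).symm.trans (by rw [hlr, CategoryTheory.Functor.map_id])) (F.map u')
          (SubGen.isNormalHom_pullback (Red.geomPt s) H u' hn) hn'
      haveI : IsClosedImmersion (F.map u').left := MorphismProperty.overPullbackMap (P := @IsClosedImmersion) _ u' hu'c
      haveI : Mono (F.map u') := Over.mono_of_mono_left _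
      have h2 : F.map ρ = 1 := by
        rw [← cancel_mono (F.map u'), ← F.map_comp, hρu, ← hr, F.map_comp, F.map_comp, ← Category.assoc, h1,
          MonObj.one_comp, MonObj.one_comp]
      have h3 : F.map φ = 𝟙 _ := by
        have h4 : ρ * φ = 𝟙 U' := mul_inv_cancel_left ρ _
        have h5 := (F.homMonoidHom (X := U') (M := U')).map_mul ρ φ
        simp only [Functor.homMonoidHom_apply] at h5
        rw [h4, CategoryTheory.Functor.map_id, h2, _root_.one_mul] at h5
        exact h5.symm
      rw [h3]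
      infer_instance
    have hρ1 : ρ = 1 := by
      rw [← cancel_epi φ, hφρ, MonObj.comp_one]
    refine (hu U' u').2 ?_
    rw [← hρu, hρ1, MonObj.one_comp]
  -- the decomposition
  have hiso : IsIso ((l ⊗ₘ uu) ≫ μ[H]) := by
    let φ := (l ⊗ₘ uu) ≫ μ[H]
    have hφ : ∀ {X : Over S} (a : X ⟶ L) (b : X ⟶ U), lift a b ≫ φ = (a ≫ l) * (b ≫ uu) := fun a b => by
      show lift a b ≫ (l ⊗ₘ uu) ≫ μ[H] = _
      rw [← Category.assoc, lift_map]; rfl
    have hφ0 : φ = (fst L U ≫ l) * (snd L U ≫ uu) := by rw [← hφ, lift_fst_snd, Category.id_comp]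
    have hφπ : φ ≫ π = fst L U ≫ l := by
      rw [hφ0, MonObj.mul_comp, Category.assoc, hlπ, Category.assoc, huπ, MonObj.comp_one, _root_.mul_one]
    refine ⟨lift r sU, ?_, ?_⟩
    · refine CartesianMonoidalCategory.hom_ext _ _ ?_ ?_
      · rw [Category.assoc, lift_fst, Category.id_comp, ← cancel_mono l, Category.assoc, hr]
        exact hφπ
      · rw [Category.assoc, lift_snd, Category.id_comp, ← cancel_mono uu, Category.assoc, hsU, MonObj.comp_mul,
          GrpObj.comp_inv, Category.comp_id]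
        change (φ ≫ π)⁻¹ * φ = _
        rw [hφπ, hφ0, inv_mul_cancel_left]
    · rw [hφ, hr, hsU, mul_inv_cancel_left]
  obtain ⟨tL, htL⟩ := (hl T t).2 htπ
  refine ⟨L, inferInstance, l, tL, ⟨hlm, hlmono, hLred, U, inferInstance, uu, hrad, hiso⟩, htL,
    fun L' _ l' tL' hl' hL' htL' => ?_, hlm, hlmono, fun X g => ⟨?_, fun hg => ?_⟩⟩
  · -- maximality
    obtain ⟨hl'm, hl'i⟩ := hl'
    haveI := hl'm; haveI := hl'i
    refine (hl L' l').2 (hom_ext_bc W p hs _ _ fun s => ?_)
    haveI := isMonHom_map' (p s) l'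
    haveI : IsImmersion ((Over.pullback (p s)).map l').left :=
      MorphismProperty.overPullbackMap (P := @IsImmersion) (p s) l' inferInstance
    rw [Functor.map_comp]
    exact (hch s).2.2 _ _ ((Over.pullback (p s)).map tL') (isReductive_bc (p s) hL')
      (by rw [← Functor.map_comp, htL'])
  · rintro ⟨z, rfl⟩ X' x a
    exact ⟨⟨(x ≫ z) * a * (x ≫ z)⁻¹, by simp only [MonObj.mul_comp, GrpObj.inv_comp, Category.assoc]⟩,
      ⟨(x ≫ z)⁻¹ * a * (x ≫ z), by simp only [MonObj.mul_comp, GrpObj.inv_comp, Category.assoc]⟩⟩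
  · -- the normaliser
    refine (hl X g).2 (inv_mul_eq_one.1 ?_)
    have hg0 : ((g ≫ π)⁻¹ * g) ≫ π = 1 := by
      rw [MonObj.mul_comp, GrpObj.inv_comp, Category.assoc, hππ, inv_mul_cancel]
    have hcomm : ∀ (X' : Over S) (x : X' ⟶ X) (a : X' ⟶ T),
        (x ≫ ((g ≫ π)⁻¹ * g)) * (a ≫ t) = (a ≫ t) * (x ≫ ((g ≫ π)⁻¹ * g)) := fun X' x a => by
      obtain ⟨⟨h', hh'⟩, -⟩ := hg X' x (a ≫ tL)
      have h1 := congrArg (· ≫ π) hh'
      simp only [MonObj.mul_comp, GrpObj.inv_comp, Category.assoc, hlπ] at h1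
      rw [← hh'] at h1
      simp only [Category.assoc, htL] at h1
      rw [mul_inv_eq_iff_eq_mul] at h1
      rw [MonObj.comp_mul, GrpObj.comp_inv]
      exact (mul_left_cancel (a := x ≫ g ≫ π) (by simp only [← _root_.mul_assoc, mul_inv_cancel, _root_.one_mul]
                                                  rw [h1]; group))
    refine hom_ext_bc W p hs _ _ fun s => ?_
    rw [map_one_bc]
    refine (hch s).1.eq_one_of_comm _ (by rw [← Functor.map_comp, hg0, map_one_bc]) fun X' x a => ?_
    rw [← toBC_low (p s) (x ≫ _), low_map, ← toBC_low (p s) (a ≫ _), low_map, ← toBC_mul, hcomm, toBC_mul]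

end Groth.Agent.RootBase
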