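import Groth.Agent.RootBase.RCProj
import Groth.Agent.RootBase.RCEq
import Groth.Agent.Chev.MaxTorusBC

/-!
# Limits along a cocharacter give an idempotent endomorphism of a subgroup
-/

set_option autoImplicit false
set_option backward.isDefEq.respectTransparency false
set_option linter.style.haveILetI false
set_option maxHeartbeats 2000000
set_option synthInstance.maxHeartbeats 400000

universe u

open CategoryTheory Limits MonoidalCategory CartesianMonoidalCategory MonObj GrpObj AlgebraicGeometry LieS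
open scoped CategoryTheory.Obj

noncomputable section

namespace Groth.Agent.RootBase

open Groth.Agent.HomDiag Groth.Agent.DynPar Groth.Agent.RootSys Groth.Agent.MTBridge

variable {S : Scheme.{u}} {G H T : Over S} [GrpObj G] [GrpObj H] [GrpObj T]

/-- **The limit endomorphism of a subgroup with limits.** -/
theorem exists_limProj [IsAffineHom G.hom] (h : H ⟶ G) [IsMonHom h] [IsImmersion h.left] (t : T ⟶ H) [IsMonHom t]
    (hT : Red.IsTorus T) (lam : Red.DS S ℤ ⟶ T) [IsMonHom lam]
    (hle : ∀ (B : Type u) [CommRing B] (f : Spec (CommRingCat.of B) ⟶ S) (y : pt B f ⟶ H),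
      y ≫ h ∈ PSub f (lam ≫ t ≫ h)) :
    ∃ π : H ⟶ H, IsMonHom π ∧ t ≫ π = t ∧ π ≫ π = π ∧
      ∀ (B : Type u) [CommRing B] (f : Spec (CommRingCat.of B) ⟶ S) (y : pt B f ⟶ H),
        y ≫ h ∈ PSub f (lam ≫ t ≫ h) ∧ y ≫ π ≫ h = DynPar.lim (lam ≫ t ≫ h) (y ≫ h) := by
  haveI : Mono h := Over.mono_of_mono_left h
  choose a ha using fun (B : Type u) [CommRing B] (f : Spec (CommRingCat.of B) ⟶ S) (y : pt B f ⟶ H) =>
    exists_orbit lam y (hle B f y)
  have hl : ∀ (B : Type u) [CommRing B] (f : Spec (CommRingCat.of B) ⟶ S) (y : pt B f ⟶ H),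
      (qz f ℤ ≫ a B f y) ≫ h = DynPar.lim (lam ≫ t ≫ h) (y ≫ h) := fun B _ f y => by
    rw [lim_eq (h := a B f y ≫ h) (by rw [reassoc_of% (ha B f y), ← orb_comp, Category.assoc]), Category.assoc]
  obtain ⟨π, hπ⟩ := exists_hom_of_pts (fun B _ f y => qz f ℤ ≫ a B f y) fun B B' _ _ f f' h' hf y => by
    rw [← cancel_mono h, hl, Category.assoc, Category.assoc, qm_lim h' hf (hle B f y), ← hl B f y, Category.assoc]
  have hspec : ∀ (B : Type u) [CommRing B] (f : Spec (CommRingCat.of B) ⟶ S) (y : pt B f ⟶ H),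
      y ≫ π ≫ h = DynPar.lim (lam ≫ t ≫ h) (y ≫ h) := fun B _ f y => by
    rw [← Category.assoc, hπ, hl]
  haveI : IsMonHom π := DynPar.isMonHom_of_mul π fun X x x' => by
    rw [← cancel_mono h]
    refine hom_ext_pts _ _ fun B _ f y => ?_
    rw [Category.assoc (x * x') π h, ← Category.assoc y (x * x'), hspec, MonObj.comp_mul, MonObj.mul_comp,
      lim_mul (hle B f _) (hle B f _), ← hspec, ← hspec, MonObj.mul_comp, MonObj.comp_mul]
    simp only [Category.assoc]
  refine ⟨π, inferInstance, ?_, ?_, fun B _ f y => ⟨hle B f y, hspec B f y⟩⟩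
  · rw [← cancel_mono h]
    refine hom_ext_pts _ _ fun B _ f y => ?_
    rw [Category.assoc t π h, ← Category.assoc y t, hspec, ← Category.assoc y t h]
    refine lim_of_mem_ZSub ?_
    rw [DynPar.mem_ZSub, orb_apply, mul_inv_eq_iff_eq_mul, Category.assoc y t h, ← Category.assoc (xu f ℤ),
      ← Category.assoc (qc ℤ f) y, ← MonObj.mul_comp, RedR1.mul_comm_torus hT, MonObj.mul_comp]
  · rw [← cancel_mono h]
    refine hom_ext_pts _ _ fun B _ f y => ?_
    rw [Category.assoc π π h, ← Category.assoc y π, hspec, Category.assoc y π h, hspec]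
    exact lim_of_mem_ZSub (lim_mem_ZSub (hle B f y))

/-- The fixed subgroup of an idempotent endomorphism of a subgroup of type (R). -/
theorem isTypeR_fixed (hG : Red.IsReductive G) (h : H ⟶ G) (hH : RedSub.IsTypeR h) (t : T ⟶ H) [IsMonHom t]
    (hT : Red.IsMaximalTorus (t ≫ h)) (π : H ⟶ H) (hfix : t ≫ π = t) (hidem : π ≫ π = π) {L : Over S} [GrpObj L]
    (l : L ⟶ H) [IsMonHom l] [IsClosedImmersion l.left]
    (hmem : ∀ (X : Over S) (g : X ⟶ H), (∃ z, z ≫ l = g) ↔ g ≫ π = g) :
    RedSub.IsTypeR (l ≫ h) := by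
  obtain ⟨⟨i1, i2⟩, i3, i4, hconn, -⟩ := hH
  haveI := i1; haveI := i2; haveI := i3; haveI := i4
  haveI := hG.1; haveI := hG.2.1
  haveI : Mono l := Over.mono_of_mono_left l
  obtain ⟨r, hr⟩ := (hmem H π).2 hidem
  have hlr : l ≫ r = 𝟙 L := by
    rw [← cancel_mono l, Category.assoc, hr, (hmem L l).1 ⟨𝟙 _, Category.id_comp _⟩, Category.id_comp]
  haveI : Smooth L.hom := DynPar.smooth_of_retract i3 l r hlr
  haveI : QuasiCompact L.hom := by rw [← Over.w l]; infer_instance
  refine ⟨⟨inferInstance, by rw [Over.comp_left]; infer_instance⟩, inferInstance, inferInstance, fun s => ?_,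
    fun s => ?_⟩
  · have e : L.hom.base ⁻¹' {s} = r.left.base '' (H.hom.base ⁻¹' {s}) := by
      ext x
      refine ⟨fun hx => ⟨l.left.base x, ?_, ?_⟩, ?_⟩
      · show H.hom.base (l.left.base x) ∈ ({s} : Set S)
        rw [← Scheme.Hom.comp_apply, Over.w l]; exact hx
      · rw [← Scheme.Hom.comp_apply, ← Over.comp_left, hlr]; rfl
      · rintro ⟨y, hy, rfl⟩
        show L.hom.base (r.left.base y) ∈ ({s} : Set S)
        rw [← Scheme.Hom.comp_apply, Over.w r]; exact hy
    rw [e]
    exact (hconn s).image _ r.left.continuous.continuousOn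
  · obtain ⟨tL, htL⟩ := (hmem T t).2 hfix
    haveI : IsMonHom tL := MTSplit.isMonHom_of_comp_mono tL l t htL
    refine ⟨Red.geomFibre s T, inferInstance, (Over.pullback (Red.geomPt s)).map tL, isMonHom_map' _ tL, ?_⟩
    rw [← Functor.map_comp, reassoc_of% htL]
    exact Chev.MaxTorusBC.isMaximalTorus_bc (t ≫ h) hT (Red.geomPt s)

end Groth.Agent.RootBase
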