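import Groth.Agent.RootBase.TypeRUnip
import Groth.Agent.RootBase.Dense
import Groth.Agent.S0351
import Groth.Agent.S3951

/-!
# Points of a subgroup of type (R) in the unipotent part of a Borel subgroup
-/

set_option autoImplicit false
set_option backward.isDefEq.respectTransparency false
set_option linter.style.haveILetI false
set_option maxHeartbeats 1000000
set_option synthInstance.maxHeartbeats 400000

universe u

open CategoryTheory Limits MonoidalCategory CartesianMonoidalCategory MonObj GrpObj AlgebraicGeometry LieS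
open scoped CategoryTheory.Obj

noncomputable section

namespace Groth.Agent.RootBase

open Groth.Agent.HomDiag Groth.Agent.DynPar Groth.Agent.RootSys Groth.Agent.MTBridge

variable {S : Scheme.{u}}

/-- Undoing a conjugation in a cell. -/
theorem conj_cell {Γ : Type*} [Group Γ] {s n τ p g : Γ} (hc : s * τ = τ * s) (h : n * (τ * p) = s * g * s⁻¹) :
    (s⁻¹ * n * s⁻¹⁻¹) * (τ * (s⁻¹ * p * s⁻¹⁻¹)) = g := by
  have e : τ = s⁻¹ * τ * s := by rw [_root_.mul_assoc, ← hc, inv_mul_cancel_left]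
  calc _ = (s⁻¹ * n * s) * ((s⁻¹ * τ * s) * (s⁻¹ * p * s)) := by rw [_root_.inv_inv, ← e]
    _ = s⁻¹ * (n * (τ * p)) * s := by simp only [_root_.mul_assoc, mul_inv_cancel_left]
    _ = g := by rw [h]; simp only [_root_.mul_assoc, inv_mul_cancel_left, inv_mul_cancel, _root_.mul_one]

/-- Over a domain, the orbit is dense in the affine line. -/
theorem exists_generic_qn {K : Type u} [CommRing K] [IsDomain K] (f : Spec (CommRingCat.of K) ⟶ S) :
    ∃ gen : (pt (AddMonoidAlgebra K ℤ) (fL f ℤ)).left,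
      ∀ z : (pt (AddMonoidAlgebra K (NN ℤ)) (fL f (NN ℤ))).left, (qn f ℤ).left gen ⤳ z := by
  let gen : PrimeSpectrum (AddMonoidAlgebra K ℤ) := ⟨⊥, Ideal.isPrime_bot⟩
  refine ⟨gen, fun z => ?_⟩
  refine (PrimeSpectrum.le_iff_specializes _ _).1 ?_
  show Ideal.comap (AddMonoidAlgebra.mapDomainRingHom K (NN ℤ).subtype) ⊥ ≤ _
  rw [← RingHom.ker, (RingHom.injective_iff_ker_eq_bot _).1 (qn_injective (Γ := ℤ) (B := K))]
  exact bot_le

section Orbit

variable {G H'' : Over S} [GrpObj G] [GrpObj H'']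

set_option maxHeartbeats 4000000 in
/-- A limit of points of a subgroup lies in it. -/
theorem exists_fac_orbit (h'' : H'' ⟶ G) [IsMonHom h''] [IsImmersion h''.left] {B : Type u} [CommRing B]
    (f : Spec (CommRingCat.of B) ⟶ S) (a : pt (AddMonoidAlgebra B (NN ℤ)) (fL f (NN ℤ)) ⟶ G)
    (w : pt (AddMonoidAlgebra B ℤ) (fL f ℤ) ⟶ H'') (hw : w ≫ h'' = qn f ℤ ≫ a) :
    ∃ a' : pt (AddMonoidAlgebra B (NN ℤ)) (fL f (NN ℤ)) ⟶ H'', a' ≫ h'' = a := by
  have hsub : Set.range a.left ⊆ Set.range h''.left := by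
    rintro _ ⟨q, rfl⟩
    let R := AddMonoidAlgebra B (NN ℤ)
    let P : PrimeSpectrum R := q
    let K := P.asIdeal.ResidueField
    let ev : R →+* K := algebraMap R K
    let h : B →+* K := ev.comp (cC B (NN ℤ))
    let f' : Spec (CommRingCat.of K) ⟶ S := Spec.map (CommRingCat.ofHom h) ≫ f
    let τ : Spec (CommRingCat.of K) ⟶ S := f'
    let F := Over.pullback τ
    haveI : IsImmersion (F.map h'').left :=
      MorphismProperty.overPullbackMap (P := @IsImmersion) τ h'' inferInstance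
    haveI := S0351.result K _ _ (F.map h'')
    let X := pt (AddMonoidAlgebra K (NN ℤ)) (fL f' (NN ℤ))
    let X' := pt (AddMonoidAlgebra K ℤ) (fL f' ℤ)
    let r := qr f (NN ℤ) h (rfl : _ = f')
    let r' := qr f ℤ h (rfl : _ = f')
    obtain ⟨A, hA⟩ : ∃ A : X.left ⟶ pullback G.hom τ, A ≫ pullback.fst G.hom τ = (r ≫ a).left ∧
        A ≫ pullback.snd G.hom τ = Spec.map (CommRingCat.ofHom (cC K (NN ℤ))) :=
      ⟨pullback.lift (r ≫ a).left (Spec.map (CommRingCat.ofHom (cC K (NN ℤ)))) (Over.w (r ≫ a)),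
        pullback.lift_fst _ _ _, pullback.lift_snd _ _ _⟩
    obtain ⟨W, hW⟩ : ∃ W : X'.left ⟶ pullback H''.hom τ, W ≫ pullback.fst H''.hom τ = (r' ≫ w).left ∧
        W ≫ pullback.snd H''.hom τ = Spec.map (CommRingCat.ofHom (cC K ℤ)) :=
      ⟨pullback.lift (r' ≫ w).left (Spec.map (CommRingCat.ofHom (cC K ℤ))) (Over.w (r' ≫ w)),
        pullback.lift_fst _ _ _, pullback.lift_snd _ _ _⟩
    let b : pullback H''.hom τ ⟶ pullback G.hom τ := (F.map h'').left
    have hb1 : b ≫ pullback.fst G.hom τ = pullback.fst H''.hom τ ≫ h''.left := pullback.lift_fst _ _ _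
    have hb2 : b ≫ pullback.snd G.hom τ = pullback.snd H''.hom τ := by
      refine (pullback.lift_snd _ _ _).trans ?_
      simp
    have e : W ≫ b = (qn f' ℤ).left ≫ A := by
      refine pullback.hom_ext ?_ ?_
      · rw [Category.assoc, hb1, reassoc_of% hW.1, Category.assoc, hA.1]
        simp only [← Over.comp_left, Category.assoc, hw]
        rw [← Category.assoc, ← Category.assoc]
        exact congrArg (fun z => (z ≫ a).left) (qr_qd f h _ _)
      · rw [Category.assoc, hb2, hW.2, Category.assoc, hA.2]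
        exact (congrArg (fun z : pt (AddMonoidAlgebra K ℤ) (fL (𝟙 _) ℤ) ⟶ pt K (𝟙 _) => z.left)
          (qn_qc (𝟙 _) (Γ := ℤ))).symm
    obtain ⟨gen, hgen⟩ := exists_generic_qn f'
    have hall : ∀ z, A z ∈ Set.range b := fun z => by
      refine IsClosed.stableUnderSpecialization (b.isClosedEmbedding.isClosed_range) ((hgen z).map A.continuous)
        ⟨W gen, ?_⟩
      rw [← Scheme.Hom.comp_apply, e, Scheme.Hom.comp_apply]
    obtain ⟨ev', hev'⟩ : ∃ ev' : AddMonoidAlgebra K (NN ℤ) →+* K,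
        ev'.comp (AddMonoidAlgebra.mapRingHom _ h) = ev := by
      refine ⟨AddMonoidAlgebra.liftNCRingHom (RingHom.id K) (ev.toMonoidHom.comp (AddMonoidAlgebra.of B _))
        (fun _ _ => Commute.all _ _), AddMonoidAlgebra.ringHom_ext (fun x => ?_) (fun x => ?_)⟩
      · simp [h]
        rfl
      · simp [AddMonoidAlgebra.of]
        rfl
    let z : X.left := PrimeSpectrum.comap ev' ⟨⊥, Ideal.isPrime_bot⟩
    have hz : r.left z = q := by
      refine PrimeSpectrum.ext ?_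
      show Ideal.comap (AddMonoidAlgebra.mapRingHom _ h) (Ideal.comap ev' ⊥) = P.asIdeal
      rw [Ideal.comap_comap, hev', ← RingHom.ker]
      exact Ideal.ker_algebraMap_residueField _
    obtain ⟨o, ho⟩ := hall z
    refine ⟨pullback.fst H''.hom τ o, ?_⟩
    rw [← Scheme.Hom.comp_apply, ← hb1, Scheme.Hom.comp_apply, ho, ← Scheme.Hom.comp_apply, hA.1,
      Over.comp_left, Scheme.Hom.comp_apply, hz]
  let V := h''.left.coborderRange
  have hV : Set.range a.left ⊆ Set.range V.ι := fun x hx => by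
    obtain ⟨y, hy⟩ := hsub hx
    exact ⟨h''.left.liftCoborder y, by rw [← Scheme.Hom.comp_apply, Scheme.Hom.liftCoborder_ι, hy]⟩
  let G' : Over S := Over.mk (V.ι ≫ G.hom)
  let ι' : G' ⟶ G := Over.homMk V.ι rfl
  haveI : IsOpenImmersion ι'.left := inferInstanceAs (IsOpenImmersion V.ι)
  haveI : Mono ι' := Over.mono_of_mono_left ι'
  obtain ⟨a₁, ha₁⟩ := (exists_fac_iff_range ι' a).2 hV
  let j : H'' ⟶ G' := Over.homMk h''.left.liftCoborder (by
    show h''.left.liftCoborder ≫ V.ι ≫ G.hom = H''.hom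
    rw [Scheme.Hom.liftCoborder_ι_assoc, Over.w h''])
  haveI : IsClosedImmersion j.left := inferInstanceAs (IsClosedImmersion h''.left.liftCoborder)
  have hj : j ≫ ι' = h'' := Over.OverMorphism.ext (Scheme.Hom.liftCoborder_ι _)
  obtain ⟨a', ha'⟩ := exists_fac_qn j f a₁ w (by
    rw [← cancel_mono ι', Category.assoc, hj, hw, Category.assoc, ha₁])
  exact ⟨a', by rw [← hj, reassoc_of% ha', ha₁]⟩

omit [GrpObj G] [GrpObj H''] in
set_option maxHeartbeats 2000000 in
/-- An open set containing the limit meets every fibre of the orbit. -/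
theorem exists_orbit_mem_open {B : Type u} [CommRing B] (f : Spec (CommRingCat.of B) ⟶ S)
    (a : pt (AddMonoidAlgebra B (NN ℤ)) (fL f (NN ℤ)) ⟶ G) (V : Set G.left) (hV : IsOpen V)
    (h0 : Set.range (qz f ℤ ≫ a).left ⊆ V) (p : (pt B f).left) :
    ∃ q, (qc ℤ f).left q = p ∧ (qn f ℤ ≫ a).left q ∈ V := by
  let P : PrimeSpectrum B := p
  let K := P.asIdeal.ResidueField
  let h : B →+* K := algebraMap B K
  let f' : Spec (CommRingCat.of K) ⟶ S := Spec.map (CommRingCat.ofHom h) ≫ f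
  let r := qr f (NN ℤ) h (rfl : _ = f')
  let r' := qr f ℤ h (rfl : _ = f')
  obtain ⟨gen, hgen⟩ := exists_generic_qn f'
  let o : (pt K f').left := (⟨⊥, Ideal.isPrime_bot⟩ : PrimeSpectrum K)
  have hp : ∀ o' : (pt K f').left, (qm h (rfl : _ = f')).left o' = p := fun o' => by
    obtain rfl : o' = o := Subsingleton.elim (α := PrimeSpectrum K) _ _
    refine PrimeSpectrum.ext ?_
    show Ideal.comap h ⊥ = P.asIdeal
    rw [← RingHom.ker]
    exact Ideal.ker_algebraMap_residueField _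
  refine ⟨r'.left gen, ?_, ?_⟩
  · rw [← Scheme.Hom.comp_apply, ← Over.comp_left, qr_qc, Over.comp_left, Scheme.Hom.comp_apply]
    exact hp _
  · have hs := ((hgen ((qz f' ℤ).left o)).map (r ≫ a).left.continuous)
    have hmem : (r ≫ a).left ((qz f' ℤ).left o) ∈ V := by
      rw [← Scheme.Hom.comp_apply, ← Over.comp_left, ← Category.assoc, qr_qz, Category.assoc, Over.comp_left,
        Scheme.Hom.comp_apply]
      exact h0 ⟨_, rfl⟩
    have h2 := hs.mem_open hV hmem
    rw [← Scheme.Hom.comp_apply, ← Over.comp_left] at h2 ⊢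
    rw [← Category.assoc] at h2 ⊢
    exact (qr_qd f h (NN ℤ).subtype (rfl : _ = f')) ▸ h2

end Orbit

section Prod

variable {G : Over S} [GrpObj G]

/-- The torus moves products of root groups to products of root groups. -/
theorem exists_conj_prodMap {M : Type} [AddCommGroup M] {c : Red.DS S M ⟶ G} {m : ℕ} {r : Fin m → M}
    {w : Fin m → (Red.Ga S ⟶ G)} (hw : ∀ l, Red.IsRootHom c (Red.chi _ (r l)) (w l)) {X : Over S}
    (s : X ⟶ Red.DS S M) (y : X ⟶ RedSub.pow (Red.Ga S) m) :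
    ∃ y' : X ⟶ RedSub.pow (Red.Ga S) m, y' ≫ RedSub.prodMap (Red.Ga S) m w =
      (s ≫ c) * (y ≫ RedSub.prodMap (Red.Ga S) m w) * (s ≫ c)⁻¹ := by
  choose z hz _ using fun l => (hw l).2.2 X s (y ≫ proj S m l)
  obtain ⟨y', -, hy'⟩ := exists_pow_prod w z
  exact ⟨y', by simp only [hy', hz, comp_prodMap_eq, conj_ofFn_prod]⟩

/-- Part of a list of root homomorphisms. -/
theorem exists_restrict {m : ℕ} (P : Fin m → Prop) [DecidablePred P] :
    ∃ (n : ℕ) (σ : Fin n → Fin m), Function.Injective σ ∧ Set.range σ = {k | P k} ∧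
      ∀ (w : Fin m → (Red.Ga S ⟶ G)), (∀ k, IsMonHom (w k)) → ∀ {X : Over S},
        (∀ y : X ⟶ RedSub.pow (Red.Ga S) n, ∃ Y : X ⟶ RedSub.pow (Red.Ga S) m,
          (∀ k, ¬ P k → Y ≫ proj S m k = 1) ∧
            Y ≫ RedSub.prodMap (Red.Ga S) m w = y ≫ RedSub.prodMap (Red.Ga S) n (fun l => w (σ l))) ∧
        (∀ Y : X ⟶ RedSub.pow (Red.Ga S) m, (∀ k, ¬ P k → Y ≫ proj S m k = 1) →
          ∃ y : X ⟶ RedSub.pow (Red.Ga S) n,
            Y ≫ RedSub.prodMap (Red.Ga S) m w = y ≫ RedSub.prodMap (Red.Ga S) n (fun l => w (σ l))) := by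
  let L := (List.finRange m).filter fun k => decide (P k)
  have hL : L.Nodup := (List.nodup_finRange m).filter _
  have hmem : ∀ k, k ∈ L ↔ P k := fun k => by simp [L]
  let σ : Fin L.length → Fin m := L.get
  have hσ : ∀ k, P k → ∃ l, σ l = k := fun k hk => List.mem_iff_get.1 ((hmem k).2 hk)
  refine ⟨L.length, σ, List.nodup_iff_injective_get.1 hL,
    Set.ext fun k => ⟨fun ⟨l, hl⟩ => hl ▸ (hmem _).1 (L.get_mem l), hσ k⟩, fun w hw X => ?_⟩
  have key : ∀ Y : X ⟶ RedSub.pow (Red.Ga S) m, (∀ k, ¬ P k → Y ≫ proj S m k = 1) →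
      Y ≫ RedSub.prodMap (Red.Ga S) m w = (List.ofFn fun l => (Y ≫ proj S m (σ l)) ≫ w (σ l)).prod := by
    intro Y hY
    rw [comp_prodMap_eq, List.ofFn_eq_map,
      show (List.ofFn fun l => (Y ≫ proj S m (σ l)) ≫ w (σ l)) = L.map fun k => (Y ≫ proj S m k) ≫ w k by
        conv_rhs => rw [← List.ofFn_get L, List.map_ofFn]
        rfl]
    show _ = (((List.finRange m).filter fun k => decide (P k)).map _).prod
    induction List.finRange m with
    | nil => rfl
    | cons k l ih =>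
      by_cases hk : P k
      · rw [List.map_cons, List.prod_cons, List.filter_cons_of_pos (by simpa using hk), List.map_cons,
          List.prod_cons, ih]
      · haveI := hw k
        rw [List.map_cons, List.prod_cons, List.filter_cons_of_neg (by simpa using hk), ih, hY k hk,
          MonObj.one_comp, _root_.one_mul]
  refine ⟨fun y => ?_, fun Y hY => ?_⟩
  · obtain ⟨Y, hYd⟩ := exists_pow (S := S) (X := X) fun k : Fin m =>
      if hk : P k then y ≫ proj S L.length (hσ k hk).choose else 1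
    have hY : ∀ k, ¬ P k → Y ≫ proj S m k = 1 := fun k hk => by rw [hYd, dif_neg hk]
    refine ⟨Y, hY, ?_⟩
    rw [key Y hY, comp_prodMap_eq _ y]
    congr 1
    refine congrArg List.ofFn (funext fun l => ?_)
    have hl : P (σ l) := (hmem _).1 (L.get_mem l)
    rw [hYd, dif_pos hl]
    congr 3
    exact List.nodup_iff_injective_get.1 hL (hσ _ hl).choose_spec
  · obtain ⟨y, -, hy⟩ := exists_pow_prod (fun l => w (σ l)) fun l => Y ≫ proj S m (σ l)
    exact ⟨y, by rw [key Y hY, hy]⟩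

end Prod

variable {G H'' : Over S} [GrpObj G] [GrpObj H'']

set_option maxHeartbeats 16000000 in
/-- **A product of positive root groups lies in a subgroup of type (R) only through the roots of the latter.** -/
theorem coord_eq_one_of_mem [ConnectedSpace S] (D : Red.SplitRed G) (h'' : H'' ⟶ G) (hH'' : RedSub.IsTypeR h'')
    (t'' : D.T ⟶ H'') (ht'' : t'' ≫ h'' = D.i) (R'' : Set D.idx)
    (hR'' : ∀ a : D.idx, (∃ v : Red.Ga S ⟶ H'', v ≫ h'' = D.u a) ↔ a ∈ R'') (b : D.P.Base) {N : ℕ}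
    (e : Fin N → D.idx) (he : RedSub.Enumerates (RedSub.posRoots D.P b) e) {B : Type u} [CommRing B]
    (f : Spec (CommRingCat.of B) ⟶ S) (Y : pt B f ⟶ RedSub.pow (Red.Ga S) N) (g : pt B f ⟶ H'')
    (hg : g ≫ h'' = Y ≫ RedSub.prodMap (Red.Ga S) N fun k => D.u (e k)) (k : Fin N) (hk : e k ∉ R'') :
    Y ≫ proj S N k = 1 := by
  classical
  letI := D.grpT
  letI := D.acgM
  letI := D.fintypeIdx
  letI := D.finiteM
  letI := D.freeM
  obtain ⟨⟨i1, i2⟩, i3, -⟩ := id hH''
  haveI := i1; haveI := i2; haveI := i3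
  haveI : Mono h'' := Over.mono_of_mono_left h''
  obtain ⟨c, hc, F⟩ : ∃ c : Red.DS S D.M ⟶ G, D.split.inv.hom.hom ≫ D.i = c ∧ Frame c D.P.root D.u :=
    ⟨_, rfl, frame_of_splitRed D⟩
  haveI := F.hc.1
  haveI := F.hG.1
  haveI := F.hG.2.1
  haveI : ∀ a, IsMonHom (D.u a) := fun a => (F.hu a).1
  obtain ⟨mu, hmp, hmn, hmu⟩ := exists_pos_hom D.P b
  obtain ⟨N', e', -, he'0⟩ := exists_extend (RedSub.negRoots D.P b) (Fin.elim0 : Fin 0 → D.idx)
    (fun x => x.elim0) fun x => x.elim0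
  let en := Fin.append (Fin.elim0 : Fin 0 → D.idx) e'
  obtain ⟨n, σn, hσn, hrn, resn⟩ := exists_restrict (S := S) (G := G) fun l => en l ∈ R''
  obtain ⟨m, σp, hσp, hrp, resp⟩ := exists_restrict (S := S) (G := G) fun l => e l ∈ R''
  have henum : ∀ {M' m' : ℕ} {P : Set D.idx} (e₁ : Fin M' → D.idx), RedSub.Enumerates P e₁ →
      ∀ σ : Fin m' → Fin M', Function.Injective σ → Set.range σ = {l | e₁ l ∈ R''} →
        RedSub.Enumerates (R'' ∩ P) fun l => e₁ (σ l) := by
    intro M' m' P e₁ he₁ σ hσ hr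
    refine ⟨he₁.1.comp hσ, Set.ext fun a => ⟨?_, ?_⟩⟩
    · rintro ⟨l, rfl⟩
      exact ⟨hr.subset ⟨l, rfl⟩, he₁.2.subset ⟨_, rfl⟩⟩
    · rintro ⟨ha, ha'⟩
      obtain ⟨x, rfl⟩ := he₁.2.ge ha'
      obtain ⟨l, hl⟩ := hr.ge (show x ∈ {l | e₁ l ∈ R''} from ha)
      exact ⟨l, congrArg e₁ hl⟩
  obtain ⟨j, hj, hjo⟩ := exists_cell_split D h'' hH'' t'' ht'' R'' hR'' b (fun l => en (σn l)) (fun l => e (σp l))
    (henum en he'0 σn hσn hrn) (henum e he σp hσp hrp)
  haveI := hjo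
  -- the orbit
  have hposY : Y ≫ RedSub.prodMap (Red.Ga S) N (fun l => D.u (e l)) ∈ USub f (Red.DSmap S mu ≫ c) :=
    prodMap_mem_USub_global mu f (fun l => F.hu (e l)) (fun l => (hmp _).2 (he.2.subset ⟨l, rfl⟩)) Y
  obtain ⟨a, ha0, ha⟩ := (mem_USub f _).1 hposY
  let xs : pt (AddMonoidAlgebra B ℤ) (fL f ℤ) ⟶ Red.DS S D.M := xu f ℤ ≫ Red.DSmap S mu
  let xT : pt (AddMonoidAlgebra B ℤ) (fL f ℤ) ⟶ D.T := xs ≫ D.split.inv.hom.hom
  have hxT : xT ≫ D.i = xs ≫ c := by simp only [xT, Category.assoc, hc]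
  let X := xT ≫ t''
  have hX : X ≫ h'' = xs ≫ c := by simp only [X, Category.assoc, ht'', hxT]
  obtain ⟨wo, hwo⟩ : ∃ wo : pt (AddMonoidAlgebra B ℤ) (fL f ℤ) ⟶ H'', wo = X * (qc ℤ f ≫ g) * X⁻¹ := ⟨_, rfl⟩
  have hwo' : wo ≫ h'' = qn f ℤ ≫ a := by
    rw [ha, orb_apply, hwo, MonObj.mul_comp, MonObj.mul_comp, GrpObj.inv_comp, hX]
    simp only [xs, Category.assoc, hg]
  obtain ⟨a', ha'⟩ := exists_fac_orbit h'' f a wo hwo'
  have ha'0 : qz f ℤ ≫ a' = 1 := by rw [← cancel_mono h'', Category.assoc, ha', ha0, MonObj.one_comp]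
  have hwa : qn f ℤ ≫ a' = wo := by rw [← cancel_mono h'', Category.assoc, ha', hwo']
  obtain ⟨on, hon, hon'⟩ := exists_pow_prod (fun l => D.u (en (σn l))) fun _ : Fin n => (1 : pt B f ⟶ Red.Ga S)
  obtain ⟨op, hop, hop'⟩ := exists_pow_prod (fun l => D.u (e (σp l))) fun _ : Fin m => (1 : pt B f ⟶ Red.Ga S)
  have h1O : lift on (lift (1 : pt B f ⟶ D.T) op) ≫ j = 1 := by
    rw [← cancel_mono h'', Category.assoc, hj, MonObj.one_comp, RedSub.cellMap, MonObj.comp_mul, MonObj.comp_mul,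
      lift_fst_assoc, lift_snd_assoc, lift_fst_assoc, lift_snd_assoc, lift_snd_assoc, hon', hop']
    haveI := D.maximalTorus.1
    simp only [MonObj.one_comp, List.ofFn_const, List.prod_replicate, one_pow, _root_.one_mul]
  -- the point lies in the cell
  have hcell : Set.range g.left ⊆ Set.range j.left := by
    rintro _ ⟨p, rfl⟩
    obtain ⟨q, hq, hqO⟩ := exists_orbit_mem_open f a' _ j.left.isOpenEmbedding.isOpen_range (by
      rw [ha'0, ← h1O, Over.comp_left]
      rintro _ ⟨x, rfl⟩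
      exact ⟨_, rfl⟩) p
    rw [hwa] at hqO
    let O := wo.left ⁻¹ᵁ j.left.opensRange
    let W : Over S := Over.mk (O.ι ≫ (pt (AddMonoidAlgebra B ℤ) (fL f ℤ)).hom)
    let ιW : W ⟶ pt (AddMonoidAlgebra B ℤ) (fL f ℤ) := Over.homMk O.ι rfl
    obtain ⟨v, hv⟩ := (exists_fac_iff_range j (ιW ≫ wo)).2 (by
      rintro _ ⟨x, rfl⟩
      exact x.2)
    obtain ⟨vn, hvn⟩ := exists_conj_prodMap (fun l => F.hu (en (σn l))) (ιW ≫ xs)⁻¹ (v ≫ fst _ _)
    obtain ⟨vp, hvp⟩ := exists_conj_prodMap (fun l => F.hu (e (σp l))) (ιW ≫ xs)⁻¹ (v ≫ snd _ _ ≫ snd _ _)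
    have key : lift vn (lift (v ≫ snd _ _ ≫ fst _ _) vp) ≫ j = ιW ≫ qc ℤ f ≫ g := by
      have h2 := congrArg (fun z => z ≫ h'') hv
      simp only [Category.assoc, hj, hwo, RedSub.cellMap, MonObj.comp_mul, MonObj.mul_comp, GrpObj.inv_comp,
        GrpObj.comp_inv, hX] at h2
      have hcomm : ((ιW ≫ xs ≫ c) : W ⟶ G) * (v ≫ snd _ _ ≫ fst _ _ ≫ D.i) =
          (v ≫ snd _ _ ≫ fst _ _ ≫ D.i) * (ιW ≫ xs ≫ c) := by
        haveI := D.maximalTorus.1
        rw [← hxT]
        simp only [← Category.assoc]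
        rw [← MonObj.mul_comp, ← MonObj.mul_comp, RedR1.mul_comm_torus D.maximalTorus.2.2.1]
      rw [← cancel_mono h'', Category.assoc, Category.assoc, Category.assoc, hj, RedSub.cellMap, MonObj.comp_mul,
        MonObj.comp_mul, lift_fst_assoc, lift_snd_assoc, lift_fst_assoc, lift_snd_assoc, lift_snd_assoc, hvn, hvp]
      simp only [GrpObj.inv_comp, Category.assoc]
      exact conj_cell hcomm h2
    refine ⟨(lift vn (lift (v ≫ snd _ _ ≫ fst _ _) vp)).left ⟨q, hqO⟩, ?_⟩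
    rw [← Scheme.Hom.comp_apply, ← Over.comp_left, key, Over.comp_left, Over.comp_left, Scheme.Hom.comp_apply,
      Scheme.Hom.comp_apply, show ιW.left ⟨q, hqO⟩ = q from rfl, hq]
  obtain ⟨v0, hv0⟩ := (exists_fac_iff_range j g).2 hcell
  -- coordinates in the big cell
  obtain ⟨ho, -⟩ := S3951.result D b en e he'0 he
  haveI := ho
  haveI : Mono (RedSub.cellMap D en e) := Over.mono_of_mono_left _
  obtain ⟨Yn, -, hYn'⟩ := (resn (fun l => D.u (en l)) fun _ => inferInstance).1 (v0 ≫ fst _ _)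
  obtain ⟨Yp, hYp, hYp'⟩ := (resp (fun l => D.u (e l)) fun _ => inferInstance).1 (v0 ≫ snd _ _ ≫ snd _ _)
  obtain ⟨o1, ho1, ho1'⟩ := exists_pow_prod (fun l => D.u (en l)) fun _ : Fin (0 + N') => (1 : pt B f ⟶ Red.Ga S)
  have heq : lift Yn (lift (v0 ≫ snd _ _ ≫ fst _ _) Yp) = lift o1 (lift (1 : pt B f ⟶ D.T) Y) := by
    rw [← cancel_mono (RedSub.cellMap D en e)]
    simp only [RedSub.cellMap, MonObj.comp_mul, lift_fst_assoc, lift_snd_assoc, hYn', hYp', ho1']
    have h2 := congrArg (fun z => z ≫ h'') hv0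
    simp only [Category.assoc, hj, hg, RedSub.cellMap, MonObj.comp_mul] at h2
    haveI := D.maximalTorus.1
    simp only [Category.assoc, h2, MonObj.one_comp, List.ofFn_const, List.prod_replicate, one_pow, _root_.one_mul]
  have hYY : Yp = Y := by simpa using congrArg (fun z => z ≫ snd _ _ ≫ snd _ _) heq
  rw [← hYY]
  exact hYp k hk

end Groth.Agent.RootBase
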