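import Groth.Agent.RootBase.SolvGlobal
import Groth.Agent.RootBase.RCComb
import Groth.Agent.RootBase.SymMain
import Groth.Agent.RootBase.TypeRNorm

/-!
# The projection of a subgroup of type (RC) onto a Levi subgroup
-/

set_option autoImplicit false
set_option backward.isDefEq.respectTransparency false
set_option linter.style.haveILetI false
set_option maxHeartbeats 2000000
set_option synthInstance.maxHeartbeats 400000

universe u

open CategoryTheory Limits MonoidalCategory CartesianMonoidalCategory MonObj GrpObj AlgebraicGeometry LieS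
open scoped CategoryTheory.Obj

noncomputable section

namespace Groth.Agent.RootBase

open Groth.Agent.HomDiag Groth.Agent.DynPar Groth.Agent.RootSys Groth.Agent.MTBridge Groth.Agent.RootBase.RC

variable {S : Scheme.{u}} {G H T : Over S} [GrpObj G] [GrpObj H] [GrpObj T]

/-- The projection on a Levi subgroup: an idempotent endomorphism, given by the limit along a cocharacter of the
torus, whose fixed subgroup is reductive. -/
structure IsRCProj (h : H ⟶ G) (t : T ⟶ H) (π : H ⟶ H) : Prop where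
  hom : IsMonHom π
  fix : t ≫ π = t
  idem : π ≫ π = π
  lim : ∃ lam : Red.DS S ℤ ⟶ T, IsMonHom lam ∧
    ∀ (B : Type u) [CommRing B] (f : Spec (CommRingCat.of B) ⟶ S) (y : pt B f ⟶ H),
      y ≫ h ∈ PSub f (lam ≫ t ≫ h) ∧ y ≫ π ≫ h = DynPar.lim (lam ≫ t ≫ h) (y ≫ h)
  levi : ∃ (L : Over S) (_ : GrpObj L) (l : L ⟶ H), IsMonHom l ∧ IsClosedImmersion l.left ∧ Red.IsReductive L ∧
    ∀ (X : Over S) (g : X ⟶ H), (∃ z, z ≫ l = g) ↔ g ≫ π = g

variable {h : H ⟶ G} {t : T ⟶ H} {π : H ⟶ H}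

theorem IsRCProj.bc [IsAffineHom G.hom] [IsMonHom h] [IsMonHom t] (hπ : IsRCProj h t π) {W : Scheme.{u}}
    (j : W ⟶ S) :
    IsRCProj ((Over.pullback j).map h) ((Over.pullback j).map t) ((Over.pullback j).map π) := by
  haveI := hπ.hom
  obtain ⟨lam, hlm, hlim⟩ := hπ.lim
  obtain ⟨L, _, l, hl, hlc, hLr, hmem⟩ := hπ.levi
  haveI := hlm; haveI := hl; haveI := hlc
  haveI := isMonHom_map' j l
  refine ⟨isMonHom_map' j π, by rw [← Functor.map_comp, hπ.fix], by rw [← Functor.map_comp, hπ.idem],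
    ⟨bcHom' j lam, isMonHom_bcHom' j lam, fun B _ f y => ?_⟩,
    Red.bc j L, inferInstance, (Over.pullback j).map l, inferInstance,
    MorphismProperty.overPullbackMap (P := @IsClosedImmersion) j l hlc,
    isReductive_bc j hLr, fun X g => ⟨?_, fun hg => ?_⟩⟩
  · haveI : IsAffineHom (Red.bc j G).hom := MorphismProperty.pullback_snd (P := @IsAffineHom) G.hom j inferInstance
    haveI : IsMonHom (lam ≫ t ≫ h) := inferInstance
    have hc : bcHom' j lam ≫ (Over.pullback j).map t ≫ (Over.pullback j).map h = bcHom' j (lam ≫ t ≫ h) := by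
      simp only [bcHom', Functor.map_comp, Category.assoc]
    obtain ⟨y, rfl⟩ : ∃ y' : pt B (f ≫ j) ⟶ H, down j rfl y' = y := ⟨up j rfl y, down_up j rfl y⟩
    rw [hc]
    obtain ⟨h1, h2⟩ := hlim B (f ≫ j) y
    refine ⟨?_, ?_⟩
    · rw [← DynPar.down_comp j rfl]
      exact (mem_PSub_down j rfl _).1 h1
    · rw [← Functor.map_comp, ← DynPar.down_comp j rfl, h2, down_lim j rfl h1, DynPar.down_comp j rfl]
  · rintro ⟨z, rfl⟩
    rw [Category.assoc, ← Functor.map_comp, (hmem L l).1 ⟨𝟙 _, Category.id_comp _⟩]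
  · obtain ⟨z, hz⟩ := (hmem _ (low j g)).2 (by rw [← low_map, hg])
    exact ⟨toBC j z, by rw [← toBC_comp, hz, toBC_low]⟩

theorem IsRCProj.of_iso {G' H' T' : Over S} [GrpObj G'] [GrpObj H'] [GrpObj T'] [IsAffineHom G.hom]
    [IsAffineHom G'.hom] (hπ : IsRCProj h t π) (eG : G ≅ G') [IsMonHom eG.hom] (eH : H ≅ H') [IsMonHom eH.hom]
    (eT : T ≅ T') [IsMonHom eT.hom] {h' : H' ⟶ G'} {t' : T' ⟶ H'} {π' : H' ⟶ H'}
    (eh : eH.hom ≫ h' = h ≫ eG.hom) (et : eT.hom ≫ t' = t ≫ eH.hom) (ep : eH.hom ≫ π' = π ≫ eH.hom) :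
    IsRCProj h' t' π' := by
  haveI := hπ.hom
  obtain ⟨lam, hlm, hlim⟩ := hπ.lim
  obtain ⟨L, _, l, hl, hlc, hLr, hmem⟩ := hπ.levi
  haveI := hlm; haveI := hl; haveI := hlc
  haveI : IsMonHom eH.inv := inferInstance
  have ep' : π' = eH.inv ≫ π ≫ eH.hom := by rw [← ep, Iso.inv_hom_id_assoc]
  have eh' : h' = eH.inv ≫ h ≫ eG.hom := by rw [← eh, Iso.inv_hom_id_assoc]
  have et' : t' = eT.inv ≫ t ≫ eH.hom := by rw [← et, Iso.inv_hom_id_assoc]
  refine ⟨ep' ▸ inferInstance, by rw [et', ep']; simp [reassoc_of% hπ.fix],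
    by rw [ep']; simp [reassoc_of% hπ.idem], ⟨lam ≫ eT.hom, inferInstance, fun B _ f y => ?_⟩,
    L, inferInstance, l ≫ eH.hom, inferInstance, ?_, hLr, fun X g => ⟨?_, fun hg => ?_⟩⟩
  · have hc : (lam ≫ eT.hom) ≫ t' ≫ h' = (lam ≫ t ≫ h) ≫ eG.hom := by
      simp only [Category.assoc, reassoc_of% et, eh]
    obtain ⟨h1, h2⟩ := hlim B f (y ≫ eH.inv)
    have hy : y ≫ h' = ((y ≫ eH.inv) ≫ h) ≫ eG.hom := by simp [eh']
    rw [hc, hy]
    refine ⟨comp_mem_PSub f _ eG.hom h1, ?_⟩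
    obtain ⟨a, ha⟩ := (mem_PSub f _).1 h1
    rw [lim_eq (h := a ≫ eG.hom) (by rw [orb_comp, ← ha, Category.assoc]), ← Category.assoc (qz f ℤ),
      ← lim_eq ha, ← h2, ep', eh']
    simp
  · haveI : IsIso eH.hom.left := inferInstanceAs (IsIso ((Over.forget S).map eH.hom))
    rw [Over.comp_left]; infer_instance
  · rintro ⟨z, rfl⟩
    simp only [Category.assoc, ep]
    rw [reassoc_of% ((hmem L l).1 ⟨𝟙 _, Category.id_comp _⟩)]
  · obtain ⟨z, hz⟩ := (hmem X (g ≫ eH.inv)).2 (by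
      rw [ep'] at hg
      rw [← cancel_mono eH.hom]
      simpa using hg)
    exact ⟨z, by rw [← Category.assoc, hz, Category.assoc, Iso.inv_hom_id, Category.comp_id]⟩

variable [IsAffineHom G.hom] [IsMonHom h] [IsImmersion h.left] [IsMonHom t]

omit [IsAffineHom G.hom] in
/-- The orbit of a point of the subgroup extends in it. -/
theorem exists_orbit (lam : Red.DS S ℤ ⟶ T) [IsMonHom lam] {B : Type u} [CommRing B]
    {f : Spec (CommRingCat.of B) ⟶ S} (y : pt B f ⟶ H) (hy : y ≫ h ∈ PSub f (lam ≫ t ≫ h)) :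
    ∃ a' : pt (AddMonoidAlgebra B (NN ℤ)) (fL f (NN ℤ)) ⟶ H, qn f ℤ ≫ a' = orb f (lam ≫ t) y := by
  haveI : Mono h := Over.mono_of_mono_left h
  obtain ⟨a, ha⟩ := (mem_PSub f _).1 hy
  have e : orb f (lam ≫ t) y ≫ h = qn f ℤ ≫ a := by
    rw [ha, ← orb_comp, Category.assoc]
  obtain ⟨a', ha'⟩ := exists_fac_orbit h f a _ e
  exact ⟨a', by rw [← cancel_mono h, Category.assoc, ha', e]⟩

/-- The projection kills exactly the contracted points. -/
theorem mem_USub_iff_proj (lam : Red.DS S ℤ ⟶ T) [IsMonHom lam]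
    (hlim : ∀ (B : Type u) [CommRing B] (f : Spec (CommRingCat.of B) ⟶ S) (y : pt B f ⟶ H),
      y ≫ h ∈ PSub f (lam ≫ t ≫ h) ∧ y ≫ π ≫ h = DynPar.lim (lam ≫ t ≫ h) (y ≫ h))
    {B : Type u} [CommRing B] {f : Spec (CommRingCat.of B) ⟶ S} (y : pt B f ⟶ H) :
    y ∈ USub f (lam ≫ t) ↔ y ≫ π = 1 := by
  haveI : Mono h := Over.mono_of_mono_left h
  obtain ⟨h1, h2⟩ := hlim B f y
  obtain ⟨a', ha'⟩ := exists_orbit lam y h1
  have hl : DynPar.lim (lam ≫ t ≫ h) (y ≫ h) = qz f ℤ ≫ a' ≫ h :=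
    lim_eq (by rw [reassoc_of% ha', ← orb_comp, Category.assoc])
  constructor
  · intro hy
    have h3 := comp_mem_USub f (lam ≫ t) h hy
    rw [Category.assoc] at h3
    rw [← cancel_mono h, Category.assoc, h2, (mem_USub_iff_lim.1 h3).2, MonObj.one_comp]
  · intro hy
    refine (mem_USub f _).2 ⟨a', ?_, ha'⟩
    rw [← cancel_mono h, Category.assoc, ← hl, ← h2, reassoc_of% hy]

end Groth.Agent.RootBase
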