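import Groth.Agent.RootBase.SymBruhat
import Groth.Agent.RootBase.BruhatCell
import Groth.Agent.RedCartan.Global

/-!
# Subgroups with stable root sets are closed
-/

set_option autoImplicit false
set_option backward.isDefEq.respectTransparency false
set_option linter.style.haveILetI false
set_option maxHeartbeats 2000000
set_option synthInstance.maxHeartbeats 400000

universe u

open CategoryTheory Limits MonoidalCategory CartesianMonoidalCategory MonObj GrpObj AlgebraicGeometry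
open scoped CategoryTheory.Obj

noncomputable section

namespace Groth.Agent.RootBase

open Groth.Agent.HomDiag Groth.Agent.DynPar Groth.Agent.RootSys Groth.Agent.MTBridge

variable {S : Scheme.{u}} {G : Over S} [GrpObj G] {M : Type} [AddCommGroup M] {idx : Type}

/-- Left translation by a point of the base. -/
def ltr (g : 𝟙_ (Over S) ⟶ G) : G ⟶ G := (toUnit G ≫ g) * 𝟙 G

theorem comp_ltr (g : 𝟙_ (Over S) ⟶ G) {X : Over S} (x : X ⟶ G) : x ≫ ltr g = (toUnit X ≫ g) * x := by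
  rw [ltr, MonObj.comp_mul, Category.comp_id, ← Category.assoc, toUnit_unique (x ≫ toUnit G) (toUnit X)]

theorem isIso_ltr (g : 𝟙_ (Over S) ⟶ G) : IsIso (ltr g) := by
  refine ⟨ltr g⁻¹, ?_, ?_⟩
  · rw [comp_ltr, ltr, GrpObj.comp_inv, inv_mul_cancel_left]
  · rw [comp_ltr, ltr, GrpObj.comp_inv, mul_inv_cancel_left]

/-- A partial big cell is a closed part of a bigger one. -/
theorem exists_pad_cell {c : Red.DS S M ⟶ G} [IsMonHom c] {n r m q : ℕ} (wn : Fin (n + r) → (Red.Ga S ⟶ G))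
    (wp : Fin (m + q) → (Red.Ga S ⟶ G)) [∀ l, IsMonHom (wn l)] [∀ l, IsMonHom (wp l)]
    [IsSeparated G.hom] [IsOpenImmersion (cellC c wn wp).left] :
    ∃ ιc : RedSub.pow (Red.Ga S) n ⊗ (Red.DS S M ⊗ RedSub.pow (Red.Ga S) m) ⟶
        RedSub.pow (Red.Ga S) (n + r) ⊗ (Red.DS S M ⊗ RedSub.pow (Red.Ga S) (m + q)),
      IsClosedImmersion ιc.left ∧
        ιc ≫ cellC c wn wp = cellC c (fun l => wn (Fin.castAdd r l)) (fun l => wp (Fin.castAdd q l)) := by
  obtain ⟨a, ha⟩ := exists_pow (S := S) (X := RedSub.pow (Red.Ga S) n)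
    (Fin.append (proj S n) fun _ : Fin r => 1)
  obtain ⟨b, hb⟩ := exists_pow (S := S) (X := RedSub.pow (Red.Ga S) m)
    (Fin.append (proj S m) fun _ : Fin q => 1)
  obtain ⟨a', ha'⟩ := exists_pow (S := S) (X := RedSub.pow (Red.Ga S) (n + r)) fun l => proj S (n + r) (Fin.castAdd r l)
  obtain ⟨b', hb'⟩ := exists_pow (S := S) (X := RedSub.pow (Red.Ga S) (m + q)) fun l => proj S (m + q) (Fin.castAdd q l)
  have ea : a ≫ a' = 𝟙 _ := pow_ext fun l => by rw [Category.assoc, ha', ha, Fin.append_left, Category.id_comp]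
  have eb : b ≫ b' = 𝟙 _ := pow_ext fun l => by rw [Category.assoc, hb', hb, Fin.append_left, Category.id_comp]
  obtain ⟨ιc, hιc⟩ : ∃ ιc, ιc = a ⊗ₘ (𝟙 (Red.DS S M) ⊗ₘ b) := ⟨_, rfl⟩
  obtain ⟨ρ, hρ⟩ : ∃ ρ, ρ = a' ⊗ₘ (𝟙 (Red.DS S M) ⊗ₘ b') := ⟨_, rfl⟩
  have e : ιc ≫ ρ = 𝟙 _ := by
    rw [hιc, hρ, tensorHom_comp_tensorHom, tensorHom_comp_tensorHom, ea, eb, Category.id_comp]
    simp
  refine ⟨ιc, ?_, ?_⟩
  · haveI : IsSeparated (RedSub.pow (Red.Ga S) (n + r) ⊗ (Red.DS S M ⊗ RedSub.pow (Red.Ga S) (m + q))).hom := by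
      rw [← Over.w (cellC c wn wp)]
      infer_instance
    haveI : IsSeparated (ρ.left ≫ (RedSub.pow (Red.Ga S) n ⊗ (Red.DS S M ⊗ RedSub.pow (Red.Ga S) m)).hom) := by
      rw [Over.w ρ]
      infer_instance
    haveI := IsSeparated.of_comp ρ.left (RedSub.pow (Red.Ga S) n ⊗ (Red.DS S M ⊗ RedSub.pow (Red.Ga S) m)).hom
    haveI : IsClosedImmersion (ιc.left ≫ ρ.left) := by
      rw [← Over.comp_left, e]
      exact inferInstanceAs (IsClosedImmersion (𝟙 _))
    exact IsClosedImmersion.of_comp ιc.left ρ.left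
  · have hp : ∀ {n r : ℕ} (w : Fin (n + r) → (Red.Ga S ⟶ G)) [∀ l, IsMonHom (w l)]
        (a : RedSub.pow (Red.Ga S) n ⟶ RedSub.pow (Red.Ga S) (n + r)),
        (∀ l, a ≫ proj S (n + r) l = Fin.append (proj S n) (fun _ : Fin r => 1) l) →
        a ≫ RedSub.prodMap (Red.Ga S) (n + r) w = RedSub.prodMap (Red.Ga S) n (fun l => w (Fin.castAdd r l)) := by
      intro n r w _ a ha
      rw [← Category.id_comp (RedSub.prodMap (Red.Ga S) n _), comp_prodMap_eq, comp_prodMap_eq,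
        show (fun l => (a ≫ proj S (n + r) l) ≫ w l) =
          Fin.append (fun l => (𝟙 _ ≫ proj S n l) ≫ w (Fin.castAdd r l))
            (fun _ : Fin r => (1 : RedSub.pow (Red.Ga S) n ⟶ G)) from funext fun l => by
          induction l using Fin.addCases with
          | left l => simp only [ha, Fin.append_left, Category.id_comp]
          | right l => simp only [ha, Fin.append_right, MonObj.one_comp],
        List.ofFn_fin_append, List.prod_append, List.prod_eq_one (l := List.ofFn fun _ : Fin r =>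
          (1 : RedSub.pow (Red.Ga S) n ⟶ G)) (fun x hx => by obtain ⟨_, rfl⟩ := List.mem_ofFn.1 hx; rfl),
        _root_.mul_one]
    rw [hιc, cellC, cellC, MonObj.comp_mul, MonObj.comp_mul]
    simp only [tensorHom_fst_assoc, tensorHom_snd_assoc, Category.assoc, Category.id_comp, hp wn a ha, hp wp b hb]

theorem toBC_one_hom {S' : Scheme.{u}} (τ : S' ⟶ S) {X : Over S'} :
    toBC τ (1 : (Over.map τ).obj X ⟶ G) = 1 :=
  map_one (MonoidHom.mk' (fun z : (Over.map τ).obj X ⟶ G => toBC τ z) (toBC_mul τ))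

/-- The products along a word after a change of base. -/
theorem toBC_wpt {S' : Scheme.{u}} (τ : S' ⟶ S) (n : idx → (𝟙_ (Over S) ⟶ G)) (X : Over S') :
    ∀ l : List idx, wpt X (fun a => toBC τ (toUnit _ ≫ n a)) l = toBC τ (wpt ((Over.map τ).obj X) n l)
  | [] => by simp only [wpt, List.map_nil, List.prod_nil, toBC_one_hom]
  | a :: l => by
    have eX : toUnit X ≫ toBC τ (toUnit _ ≫ n a) = toBC τ (toUnit ((Over.map τ).obj X) ≫ n a) := by
      have e := ((Over.mapPullbackAdj τ).homEquiv_naturality_left (toUnit X) (toUnit _ ≫ n a)).symm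
      rw [← Category.assoc, toUnit_unique ((Over.map τ).map (toUnit X) ≫ toUnit _) (toUnit _)] at e
      exact e
    simp only [wpt, List.map_cons, List.prod_cons, toBC_mul, eX]
    rw [show (l.map fun a => toUnit X ≫ toBC τ (toUnit _ ≫ n a)).prod = _ from toBC_wpt τ n X l]

variable {H : Over S} [GrpObj H] [Module.Free ℤ M] [Module.Finite ℤ M] [Fintype idx] {c : Red.DS S M ⟶ G}
  {P : RootPairing idx ℤ M (Module.Dual ℤ M)} {u : idx → (Red.Ga S ⟶ G)} {h : H ⟶ G} [IsMonHom h]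
  [IsImmersion h.left] [Smooth H.hom] {cH : Red.DS S M ⟶ H} [IsMonHom cH] {R : Set idx} [P.IsReduced]
  {n : idx → (𝟙_ (Over S) ⟶ G)}

omit [P.IsReduced] [Fintype idx] [Module.Free ℤ M] [Module.Finite ℤ M] in
/-- Realisers of all reflections act on the torus by words. -/
theorem wpt_conj_torus' (hP : P.toLinearMap = Module.Dual.eval ℤ M)
    (hn : ∀ a (X : Over S) (t : X ⟶ Red.DS S M),
      cj (n a) (t ≫ c) = RootBase.refl (P.root a) (P.coroot a).toAddMonoidHom t ≫ c) (X : Over S) :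
    ∀ (l : List idx) (t : X ⟶ Red.DS S M),
      wpt X n l * (t ≫ c) * (wpt X n l)⁻¹ = (t ≫ Red.DSmap S (wordRefl P l)) ≫ c
  | [], t => by
    simp only [wpt, List.map_nil, List.prod_nil, _root_.one_mul, inv_one, _root_.mul_one]
    congr 1
    refine ch_ext fun m => ?_
    rw [ch_DSmap]
    rfl
  | a :: l, t => by
    have ih := wpt_conj_torus' hP hn X l t
    have e : wpt X n (a :: l) = (toUnit X ≫ n a) * wpt X n l := by simp only [wpt, List.map_cons, List.prod_cons]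
    rw [e, show (toUnit X ≫ n a) * wpt X n l * (t ≫ c) * ((toUnit X ≫ n a) * wpt X n l)⁻¹ =
      (toUnit X ≫ n a) * (wpt X n l * (t ≫ c) * (wpt X n l)⁻¹) * (toUnit X ≫ n a)⁻¹ by group, ih]
    refine (hn a X _).trans ?_
    congr 1
    refine ch_ext fun m => ?_
    obtain ⟨m, rfl⟩ : ∃ x : M, Multiplicative.ofAdd x = m := ⟨m.toAdd, rfl⟩
    rw [ch_refl, ch_DSmap, ch_DSmap, toAdd_ofAdd, wordRefl_cons, P.reflection_apply]
    show _ = ch t (Multiplicative.ofAdd (wordRefl P l (m - P.toLinearMap m (P.coroot a) • P.root a)))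
    rw [hP]
    rfl

omit [Smooth H.hom] [IsMonHom cH] in
theorem prod_map_comp_hom {n₀ : idx → (𝟙_ (Over S) ⟶ H)} : ∀ (l : List idx),
    (∀ a ∈ l, n₀ a ≫ h = n a) → (l.map n₀).prod ≫ h = (l.map n).prod
  | [], _ => by simp [MonObj.one_comp]
  | a :: l, hl => by
    simp only [List.map_cons, List.prod_cons, MonObj.mul_comp]
    rw [hl a List.mem_cons_self, prod_map_comp_hom l fun b hb => hl b (List.mem_cons_of_mem _ hb)]

set_option maxHeartbeats 8000000 in
/-- **A subgroup with a stable root set is closed.** -/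
theorem SymSub.isClosedImmersion (Y : SymSub c P u h cH R) (B : P.Base)
    (hn : ∀ a (X : Over S) (t : X ⟶ Red.DS S M),
      cj (n a) (t ≫ c) = RootBase.refl (P.root a) (P.coroot a).toAddMonoidHom t ≫ c)
    (hnR : ∀ a ∈ R, ∃ n₀, n₀ ≫ h = n a) : IsClosedImmersion h.left := by
  classical
  refine IsClosedImmersion.of_isPreimmersion h.left ?_
  rw [← isOpen_compl_iff, isOpen_iff_forall_mem_open]
  intro x hx
  haveI : Nonempty S := ⟨G.hom x⟩
  have F := Y.frame
  haveI := F.hc.1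
  haveI := F.hG.1
  haveI : Mono h := Over.mono_of_mono_left h
  haveI : ∀ a, IsMonHom (u a) := fun a => (F.hu a).1
  obtain ⟨mu, hmp, hmn, hmu⟩ := exists_pos_hom P B
  obtain ⟨p₀, e₀, -, he₀⟩ := exists_extend {a | a ∈ R ∧ 0 < (-mu) (P.root a)} (Fin.elim0 : Fin 0 → idx)
    (fun x => x.elim0) fun k => k.elim0
  generalize Fin.append (Fin.elim0 : Fin 0 → idx) e₀ = eR at he₀
  obtain ⟨q₀, f₀, -, hf₀⟩ := exists_extend {a | a ∈ R ∧ 0 < mu (P.root a)} (Fin.elim0 : Fin 0 → idx)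
    (fun x => x.elim0) fun k => k.elim0
  generalize Fin.append (Fin.elim0 : Fin 0 → idx) f₀ = fR at hf₀
  obtain ⟨r, er, -, hen⟩ := exists_extend {a | 0 < (-mu) (P.root a)} eR he₀.1 fun k => (he₀.2.subset ⟨k, rfl⟩).2
  obtain ⟨q, fr, -, hep⟩ := exists_extend {a | 0 < mu (P.root a)} fR hf₀.1 fun k => (hf₀.2.subset ⟨k, rfl⟩).2
  haveI ho := (F.cell mu hmu _ _ _ _ hen hep hen hep).1
  obtain ⟨ιc, hιcc, hιc⟩ := exists_pad_cell (c := c) (fun l => u (Fin.append eR er l)) (fun l => u (Fin.append fR fr l))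
  simp only [Fin.append_left] at hιc
  have hen' : RedSub.Enumerates (RedSub.negRoots P B) (Fin.append eR er) :=
    ⟨hen.1, hen.2.trans (Set.ext fun a => hmn a)⟩
  have hep' : RedSub.Enumerates (RedSub.posRoots P B) (Fin.append fR fr) :=
    ⟨hep.1, hep.2.trans (Set.ext fun a => hmp a)⟩
  -- the chart around the point
  obtain ⟨X', f, hf, ⟨o⟩, hX', hall⟩ := F.exists_allPts (𝟙 G) x
  rw [Category.comp_id] at hall
  obtain ⟨l₀, -, y₀, hy₀⟩ := F.exists_mem_translate Y.hP (fun a _ => hn a) (Fin.append eR er) (Fin.append fR fr)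
    hen' hep' hX' hall
  obtain ⟨g₀, hg₀⟩ : ∃ g, g = (l₀.map n).prod := ⟨_, rfl⟩
  obtain ⟨J, hJ⟩ : ∃ J, J = cellC c (fun l => u (Fin.append eR er l)) (fun l => u (Fin.append fR fr l)) ≫ ltr g₀ :=
    ⟨_, rfl⟩
  haveI := isIso_ltr g₀
  haveI : IsIso (ltr g₀).left := inferInstanceAs (IsIso ((Over.forget _).map (ltr g₀)))
  haveI : IsOpenImmersion J.left := by rw [hJ, Over.comp_left]; infer_instance
  have hxO : x ∈ Set.range J.left := by
    refine ⟨y₀.left o, ?_⟩
    rw [← Scheme.Hom.comp_apply, ← Over.comp_left, hJ, ← Category.assoc, comp_ltr, hg₀, ← wpt_eq, ← hy₀]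
    exact hf o
  by_cases hempty : ∀ z : H.left, h.left z ∉ Set.range J.left
  · exact ⟨Set.range J.left, fun y hy ⟨z, hz⟩ => hempty z (hz ▸ hy), J.left.isOpenEmbedding.isOpen_range, hxO⟩
  -- the points of the subgroup in the chart
  obtain ⟨jc, hjc⟩ : ∃ jc, jc = cellC c (fun l => u (eR l)) (fun l => u (fR l)) := ⟨_, rfl⟩
  rw [← hjc] at hιc
  have key : ∀ z : H.left, h.left z ∈ Set.range J.left →
      h.left z ∈ Set.range (ιc ≫ J).left ∧ ∃ m₀ : 𝟙_ (Over S) ⟶ H, m₀ ≫ h = g₀ := by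
    intro z hzJ
    let s := H.hom z
    let τ := Red.geomPt s
    let W : Over S := Over.mk (pullback.fst h.left J.left ≫ H.hom)
    let a : W ⟶ H := Over.homMk (pullback.fst h.left J.left) rfl
    let b : W ⟶ RedSub.pow (Red.Ga S) _ ⊗ (Red.DS S M ⊗ RedSub.pow (Red.Ga S) _) :=
      Over.homMk (pullback.snd h.left J.left) (by
        show pullback.snd h.left J.left ≫ _ = pullback.fst h.left J.left ≫ H.hom
        rw [← Over.w h, ← Category.assoc (pullback.fst h.left J.left), pullback.condition, Category.assoc, Over.w J])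
    have hab : a ≫ h = b ≫ J := Over.OverMorphism.ext pullback.condition
    obtain ⟨y₁, hy₁⟩ := hzJ
    obtain ⟨w₁, hw₁, -⟩ := Scheme.Pullback.exists_preimage_pullback (f := h.left) (g := J.left) z y₁ hy₁.symm
    obtain ⟨w₂, hw₂, -⟩ := Scheme.Pullback.exists_preimage_pullback (f := W.hom) (g := τ) w₁
      (IsLocalRing.closedPoint _) (by
        show (pullback.fst h.left J.left ≫ H.hom) w₁ = _
        rw [Scheme.Hom.comp_apply, hw₁, MTImage.geomPt_closedPoint])
    haveI := isMonHom_map' τ h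
    haveI : IsImmersion ((Over.pullback τ).map h).left :=
      MorphismProperty.overPullbackMap (P := @IsImmersion) τ h inferInstance
    haveI : Smooth (Red.bc τ H).hom := MorphismProperty.pullback_snd (P := @Smooth) H.hom τ inferInstance
    have Yk := Y.bc τ
    let nk : idx → (𝟙_ _ ⟶ Red.bc τ G) := fun d => toBC τ (toUnit _ ≫ n d)
    have hnk : RealisesAll P (bcHom' τ c) nk := fun d X t => by
      have hinv : ∀ z : (Over.map τ).obj X ⟶ G, toBC τ z⁻¹ = (toBC τ z)⁻¹ := fun z =>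
        map_inv (MonoidHom.mk' (fun z : (Over.map τ).obj X ⟶ G => toBC τ z) (toBC_mul τ)) z
      have eX : toUnit X ≫ nk d = toBC τ (toUnit ((Over.map τ).obj X) ≫ n d) := by
        simpa [wpt] using toBC_wpt τ n X [d]
      have et : ∀ t' : X ⟶ Red.DS _ M, t' ≫ bcHom' τ c = toBC τ (((Over.map τ).map t' ≫ ejPt τ M) ≫ c) := fun t' => by
        rw [bcHom', ← Category.assoc, comp_ej, ← toBC_comp]
      have er : RootBase.refl (P.root d) (P.coroot d).toAddMonoidHom ((Over.map τ).map t ≫ ejPt τ M) =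
          (Over.map τ).map (RootBase.refl (P.root d) (P.coroot d).toAddMonoidHom t) ≫ ejPt τ M := ch_ext fun m => by
        obtain ⟨m, rfl⟩ : ∃ x : M, Multiplicative.ofAdd x = m := ⟨m.toAdd, rfl⟩
        rw [ch_refl, ch_map_ejPt, ch_map_ejPt, ch_refl]
      have e := congrArg (toBC τ) (hn d _ ((Over.map τ).map t ≫ ejPt τ M))
      rw [er] at e
      simp only [cj] at e ⊢
      rw [toBC_mul, toBC_mul, hinv, ← et, ← et, ← eX] at e
      exact e
    have hnkR : ∀ d ∈ R, ∃ n₀, n₀ ≫ (Over.pullback τ).map h = nk d := fun d hd => by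
      obtain ⟨n₀, hn₀⟩ := hnR d hd
      exact ⟨toBC τ (toUnit _ ≫ n₀), by rw [← toBC_comp, Category.assoc, hn₀]⟩
    -- the cell coordinates of the tautological point
    obtain ⟨ζ, hζ, hζe⟩ := exists_cellC_bc τ c (fun l => u (Fin.append eR er l)) (fun l => u (Fin.append fR fr l))
    let Wk := Red.bc τ W
    obtain ⟨g, hg⟩ : ∃ g, g = (Over.pullback τ).map a := ⟨_, rfl⟩
    obtain ⟨yk, hyk⟩ : ∃ yk, yk = (Over.pullback τ).map b ≫ ζ := ⟨_, rfl⟩
    have hgk : g ≫ (Over.pullback τ).map h = wpt Wk nk l₀ *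
        (yk ≫ cellC (bcHom' τ c) (fun l => bcGa τ (u (Fin.append eR er l))) (fun l => bcGa τ (u (Fin.append fR fr l)))) := by
      rw [hg, ← Functor.map_comp, hab, hJ, ← Category.assoc, comp_ltr, hg₀, ← wpt_eq, Functor.map_mul, hyk,
        Category.assoc, hζe, ← Functor.map_comp]
      congr 1
      have e := toBC_wpt τ n Wk l₀
      rw [e, wpt_eq, wpt_eq, toBC, Adjunction.homEquiv_unit, Functor.map_comp, Functor.map_comp, ← Category.assoc]
      congr 1
      rw [← Adjunction.homEquiv_unit]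
      apply ((Over.mapPullbackAdj τ).homEquiv _ _).symm.injective
      exact toUnit_unique _ _
    have hcoord : yk = lift (yk ≫ fst _ _) (lift (yk ≫ snd _ _ ≫ fst _ _) (yk ≫ snd _ _ ≫ snd _ _)) := by
      refine CartesianMonoidalCategory.hom_ext _ _ (by simp) ?_
      refine CartesianMonoidalCategory.hom_ext _ _ (by simp) (by simp)
    rw [hcoord, comp_cellC, comp_prodMap_eq, comp_prodMap_eq] at hgk
    obtain ⟨X₂, f₂, hf₂, ⟨o₂⟩, l, hl, hwr, v, hv, t, w, hw, e⟩ := Yk.exists_word_of_mem hnk hnkR mu hmu l₀ g w₂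
      (prod_mem_Gam (u := fun d => bcGa τ (u d)) (e := Fin.append eR er) (fun k => hen.2.subset ⟨k, rfl⟩) _)
      (prod_mem_Gam (u := fun d => bcGa τ (u d)) (e := Fin.append fR fr) (fun k => hep.2.subset ⟨k, rfl⟩) _) hgk
    -- the two words differ by the torus over the base
    obtain ⟨τc, hτc⟩ := ((RedCartan.centralizer_self_of_isReductive F.hG c F.hc).2.2 (𝟙_ (Over S))
      (g₀⁻¹ * (l.map n).prod)).2 fun X ρ d => by
      rw [MonObj.comp_mul, GrpObj.comp_inv, hg₀, toUnit_unique ρ (toUnit X), ← wpt_eq, ← wpt_eq]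
      obtain ⟨d', hd'⟩ : ∃ d', d' = d ≫ Red.DSmap S (wordRefl P l₀) := ⟨_, rfl⟩
      have h0 := wpt_conj_torus' Y.hP hn X l₀ d
      have h1 := wpt_conj_torus' Y.hP hn X l d
      rw [hwr, ← h0] at h1
      rw [← mul_inv_eq_iff_eq_mul]
      calc _ = (wpt X n l₀)⁻¹ * (wpt X n l * (d ≫ c) * (wpt X n l)⁻¹) * wpt X n l₀ := by group
        _ = d ≫ c := by rw [h1]; group
    obtain ⟨m, hm⟩ : ∃ m : 𝟙_ (Over S) ⟶ H, m ≫ h = (l.map n).prod := by
      choose n₁ hn₁ using hnR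
      refine ⟨(l.map fun d => if hd : d ∈ R then n₁ d hd else 1).prod, prod_map_comp_hom l fun d hd => ?_⟩
      rw [dif_pos (hl d hd), hn₁]
    have hng : (l.map n).prod = g₀ * (τc ≫ c) := by rw [hτc, mul_inv_cancel_left]
    refine ⟨?_, m * (τc ≫ cH)⁻¹, by
      rw [MonObj.mul_comp, GrpObj.inv_comp, Category.assoc, Y.comp, hm, hng, mul_inv_cancel_right]⟩
    -- coordinates in the cell of the subgroup
    haveI : Fintype ↥R := Fintype.ofFinite _
    haveI : IsMonHom (bcHom' τ cH) := isMonHom_bcHom' τ cH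
    choose uS huS using fun d : ↥R => Y.fac d.1 d.2
    have hbu : ∀ d : ↥R, bcGa τ (uS d) ≫ (Over.pullback τ).map h = bcGa τ (u d.1) := fun d => by
      rw [bcGa, bcGa, Category.assoc, ← Functor.map_comp, huS]
    have hu' : ∀ (Ψ : Set idx), (∀ d ∈ Ψ, d ∈ R) → ∀ {z : X₂ ⟶ Red.bc τ G}, z ∈ Gam (fun d => bcGa τ (u d)) Ψ X₂ →
        ∃ z' ∈ Gam (fun d : ↥R => bcGa τ (uS d)) {d | d.1 ∈ Ψ} X₂, z' ≫ (Over.pullback τ).map h = z := by
      intro Ψ hΨ z hz
      induction hz using Subgroup.closure_induction with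
      | mem z hz =>
        obtain ⟨d, hd, x, rfl⟩ := hz
        exact ⟨x ≫ bcGa τ (uS ⟨d, hΨ d hd⟩),
          mem_Gam (u := fun d : ↥R => bcGa τ (uS d)) (Ψ := {d | d.1 ∈ Ψ}) (a := ⟨d, hΨ d hd⟩) hd x,
          by rw [Category.assoc, hbu]⟩
      | one => exact ⟨1, one_mem _, MonObj.one_comp _⟩
      | mul z z' _ _ hz hz' =>
        obtain ⟨z₁, h₁, rfl⟩ := hz
        obtain ⟨z₂, h₂, rfl⟩ := hz'
        exact ⟨z₁ * z₂, mul_mem h₁ h₂, MonObj.mul_comp _ _ _⟩
      | inv z _ hz =>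
        obtain ⟨z₁, h₁, rfl⟩ := hz
        exact ⟨z₁⁻¹, inv_mem h₁, GrpObj.inv_comp _ _⟩
    have hst : ∀ a ∈ R, ∀ b ∈ R, P.reflectionPerm a b ∈ R := fun a ha b hb => Y.stable ha hb
    have F' : Frame (bcHom' τ cH) (subPairing P R hst).root (fun d => bcGa τ (uS d)) :=
      Yk.frameH (fun d => bcGa τ (uS d)) hbu
    have hsplit : ∀ (nu : M →+ ℤ) {p : ℕ} (e' : Fin p → idx),
        RedSub.Enumerates {d | d ∈ R ∧ 0 < nu (P.root d)} e' →
        ∀ {z : X₂ ⟶ Red.bc τ G}, z ∈ Gam (fun d => bcGa τ (u d)) {d | d ∈ R ∧ 0 < nu (P.root d)} X₂ →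
        ∃ y, y ≫ RedSub.prodMap _ p (fun k => bcGa τ (u (e' k))) = z := by
      intro nu p e' he' z hz
      obtain ⟨z', hz', rfl⟩ := hu' _ (fun d hd => hd.1) hz
      obtain ⟨y, hy⟩ := F'.exists_pow_of_mem_Gam nu (fun k => (⟨e' k, (he'.2.subset ⟨k, rfl⟩).1⟩ : ↥R))
        ⟨fun i j hij => he'.1 (congrArg Subtype.val hij), Set.ext fun d => ⟨fun ⟨k, hk⟩ => by
          rw [← hk]; exact (he'.2.subset ⟨k, rfl⟩).2,
          fun hd => by obtain ⟨k, hk⟩ := he'.2.ge ⟨d.2, hd⟩; exact ⟨k, Subtype.ext hk⟩⟩⟩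
        (Gam_mono (fun d hd => hd.2) X₂ hz')
      refine ⟨y, ?_⟩
      rw [hy, Category.assoc, prodMap_comp_hom]
      simp only [hbu]
    obtain ⟨tk, htk⟩ : ∃ tk, tk = toBC τ (toUnit _ ≫ τc ≫ c) := ⟨_, rfl⟩
    obtain ⟨σ, hσ⟩ : ∃ σ, σ ≫ bcHom' τ c = toUnit X₂ ≫ tk := by
      refine ⟨toUnit X₂ ≫ (exists_ch (X := 𝟙_ (Over (Spec (CommRingCat.of (AlgebraicClosure (S.residueField s))))))
        (ch (X := (Over.map τ).obj (𝟙_ (Over (Spec (CommRingCat.of (AlgebraicClosure (S.residueField s)))))))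
          (toUnit _ ≫ τc))).choose, ?_⟩
      rw [htk, bcHom', Category.assoc, ← Category.assoc (Exists.choose _), comp_ej]
      congr 1
      rw [← toBC_comp, ← Category.assoc _ τc c]
      congr 2
      exact ch_ext fun m => by rw [ch_map_ejPt]; exact Exists.choose_spec (exists_ch _) m
    have hN : wpt X₂ nk l = wpt X₂ nk l₀ * (σ ≫ bcHom' τ c) := by
      rw [hσ, htk, toBC_wpt, toBC_wpt, wpt_eq, wpt_eq, hng, MonObj.comp_mul, ← hg₀, toBC_mul]
      congr 1
      have e := ((Over.mapPullbackAdj τ).homEquiv_naturality_left (toUnit X₂) (toUnit _ ≫ τc ≫ c)).symm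
      rw [← Category.assoc ((Over.map τ).map (toUnit X₂)), toUnit_unique ((Over.map τ).map (toUnit X₂) ≫ toUnit _) (toUnit _)] at e
      exact e.symm
    haveI : IsMonHom (bcHom' τ c) := isMonHom_bcHom' τ c
    obtain ⟨yn, hyn⟩ := hsplit (-mu) eR he₀ (Yk.frame.torus_conj_Gam σ hv)
    obtain ⟨yp, hyp⟩ := hsplit mu fR hf₀ hw
    obtain ⟨ζR, hζR, hζRe⟩ := exists_cellC_bc τ c (fun l => u (eR l)) (fun l => u (fR l))
    haveI := hζR
    obtain ⟨q₂, hq₂⟩ : ∃ q₂, q₂ = fromBC τ (lift yn (lift (σ * t) yp) ≫ inv ζR) := ⟨_, rfl⟩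
    have e2 : (f₂ ≫ g) ≫ (Over.pullback τ).map h = toBC τ (q₂ ≫ ιc ≫ J) := by
      have e4 : (lift yn (lift (σ * t) yp) ≫ inv ζR) ≫ (Over.pullback τ).map jc =
          (σ ≫ bcHom' τ c) * v * (σ ≫ bcHom' τ c)⁻¹ * (((σ * t) ≫ bcHom' τ c) * w) := by
        rw [hjc, ← hζRe, Category.assoc, IsIso.inv_hom_id_assoc, comp_cellC, hyn, hyp]
      rw [hJ, ← Category.assoc ιc, hιc, toBC_comp, hq₂, show toBC τ (fromBC τ (lift yn (lift (σ * t) yp) ≫ inv ζR)) = _
        from Equiv.apply_symm_apply _ _, Functor.map_comp, ← Category.assoc (lift yn (lift (σ * t) yp) ≫ inv ζR), e4, e, hN,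
        toBC_wpt, wpt_eq, ← hg₀]
      rw [ltr, Functor.map_mul, (Over.pullback τ).map_id G, MonObj.comp_mul, Category.comp_id, MonObj.mul_comp (M := Red.DS _ M)]
      rw [show ∀ z : X₂ ⟶ Red.bc τ G, z ≫ (Over.pullback τ).map (toUnit G ≫ g₀) =
          toBC τ (toUnit ((Over.map τ).obj X₂) ≫ g₀) from fun z => by
        rw [show z = toBC τ (fromBC τ z) from (Equiv.apply_symm_apply _ _).symm, ← toBC_comp, ← Category.assoc,
          toUnit_unique (fromBC τ z ≫ toUnit G) (toUnit _)]]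
      group
    have e3 : ((Over.map τ).map f₂ ≫ fromBC τ ((Over.pullback τ).map a)) ≫ h = q₂ ≫ ιc ≫ J := by
      apply ((Over.mapPullbackAdj τ).homEquiv _ _).injective
      show toBC τ _ = toBC τ _
      rw [← e2, toBC_comp, hg, ← fromBC_comp, show ∀ z, toBC τ (fromBC τ z) = z from fun z => Equiv.apply_symm_apply _ _]
    refine ⟨q₂.left o₂, ?_⟩
    rw [← Scheme.Hom.comp_apply, ← Over.comp_left, ← e3, Over.comp_left, Scheme.Hom.comp_apply]
    congr 1
    rw [fromBC, Adjunction.homEquiv_counit, Over.comp_left, Over.comp_left, Scheme.Hom.comp_apply, Scheme.Hom.comp_apply]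
    simp only [Over.mapPullbackAdj_counit_app, Over.homMk_left, Over.map_map_left]
    erw [hf₂]
    rw [← Scheme.Hom.comp_apply, show ((Over.pullback τ).map a).left ≫ pullback.fst H.hom τ =
      pullback.fst W.hom τ ≫ a.left from pullback.lift_fst _ _ _, Scheme.Hom.comp_apply]
    show (pullback.fst h.left J.left) (pullback.fst W.hom τ w₂) = z
    rw [hw₂, hw₁]
  push Not at hempty
  obtain ⟨z₁, hz₁⟩ := hempty
  obtain ⟨-, m₀, hm₀⟩ := key z₁ hz₁
  -- the closed part of the chart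
  have hZ : Set.range (ιc ≫ J).left ⊆ Set.range h.left := by
    choose un hun using fun k => Y.fac (eR k) (he₀.2.subset ⟨k, rfl⟩).1
    choose up hup using fun k => Y.fac (fR k) (hf₀.2.subset ⟨k, rfl⟩).1
    have e : ((toUnit _ ≫ m₀) * cellC cH un up) ≫ h = ιc ≫ J := by
      rw [hJ, ← Category.assoc, hιc, hjc, comp_ltr, MonObj.mul_comp, Category.assoc, hm₀]
      congr 1
      simp only [cellC, MonObj.mul_comp, Category.assoc, prodMap_comp_hom, hun, hup, Y.comp]
    rintro _ ⟨p, rfl⟩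
    exact ⟨((toUnit _ ≫ m₀) * cellC cH un up).left p, by rw [← e, Over.comp_left, Scheme.Hom.comp_apply]⟩
  refine ⟨J.left '' (Set.range ιc.left)ᶜ, ?_,
    J.left.isOpenEmbedding.isOpenMap _ ιc.left.isClosedEmbedding.isClosed_range.isOpen_compl, ?_⟩
  · rintro _ ⟨p, hp, rfl⟩ ⟨z, hz⟩
    obtain ⟨⟨p', hp'⟩, -⟩ := key z ⟨p, hz.symm⟩
    rw [Over.comp_left, Scheme.Hom.comp_apply] at hp'
    exact hp ⟨p', J.left.isOpenEmbedding.injective (hp'.trans hz)⟩
  · obtain ⟨p, rfl⟩ := hxO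
    refine ⟨p, fun ⟨p', hp'⟩ => hx (hZ ⟨p', ?_⟩), rfl⟩
    rw [Over.comp_left, Scheme.Hom.comp_apply, hp']

end Groth.Agent.RootBase
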