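import Groth.Agent.RootBase.SymMain
import Groth.Agent.RootBase.SymClosed

/-!
# Symmetric root patterns over an arbitrary base
-/

set_option autoImplicit false
set_option backward.isDefEq.respectTransparency false
set_option linter.style.haveILetI false
set_option maxHeartbeats 2000000
set_option synthInstance.maxHeartbeats 400000

universe u

open CategoryTheory Limits MonoidalCategory CartesianMonoidalCategory MonObj GrpObj AlgebraicGeometry
open scoped CategoryTheory.Obj

noncomputable section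

namespace Groth.Agent.RootBase

open Groth.Agent.HomDiag Groth.Agent.DynPar Groth.Agent.RootSys Groth.Agent.MTBridge

variable {S : Scheme.{u}} {G H : Over S} [GrpObj G] [GrpObj H]

set_option maxHeartbeats 4000000 in
/-- **A subgroup of type (R) with two opposite root groups contains their reflection.** -/
theorem exists_refl_mem_pattern [Nonempty S] (D : Red.SplitRed G) (h : H ⟶ G) (hH : RedSub.IsTypeR h) (t : D.T ⟶ H)
    (ht : t ≫ h = D.i) (a : D.idx) (ha : ∃ v : Red.Ga S ⟶ H, v ≫ h = D.u a)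
    (ha' : ∃ v : Red.Ga S ⟶ H, v ≫ h = D.u (D.P.reflectionPerm a a)) :
    letI := D.grpT
    letI := D.acgM
    ∃ n : 𝟙_ (Over S) ⟶ H, ∀ (X : Over S) (s : X ⟶ D.T),
      (toUnit X ≫ n ≫ h) * (s ≫ D.i) * (toUnit X ≫ n ≫ h)⁻¹ =
        s ≫ D.split.hom.hom.hom ≫ Red.DSmap S (D.P.reflection a).toLinearMap.toAddMonoidHom ≫
          D.split.inv.hom.hom ≫ D.i := by
  letI := D.grpT
  letI := D.acgM
  letI := D.fintypeIdx
  letI := D.finiteM
  letI := D.freeM
  obtain ⟨c, hc, F⟩ : ∃ c : Red.DS S D.M ⟶ G, D.split.inv.hom.hom ≫ D.i = c ∧ Frame c D.P.root D.u :=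
    ⟨_, rfl, frame_of_splitRed D⟩
  haveI := F.hc.1; haveI := F.hc.2.1
  obtain ⟨r, π, hπs, hπa, hker⟩ := F.exists_kernel a
  haveI : IsMonHom (Red.DSmap S π) := MTQuot.isMonHom_DSmap π
  haveI : Mono (Red.DSmap S π) := LieWeight.mono_DSmap π hπs
  haveI : Mono (Red.DSmap S π ≫ c) := mono_comp _ _
  obtain ⟨Z, _, z, hz, hzR, -⟩ := S5550.result D.reductive (Red.DSmap S π ≫ c) (MTCentre.isTorus_DS_scheme S _)
  obtain ⟨tZ, htZ⟩ := (hz.2.2 _ D.i).2 fun X' x g => by
    have e : D.split.hom.hom.hom ≫ c = D.i := by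
      rw [← hc, ← Category.assoc, show D.split.hom.hom.hom ≫ D.split.inv.hom.hom = 𝟙 _ from
        congrArg (fun f => f.hom.hom) D.split.hom_inv_id, Category.id_comp]
    rw [← e, ← Category.assoc x, ← Category.assoc g, ← MonObj.mul_comp, ← MonObj.mul_comp,
      show (x ≫ D.split.hom.hom.hom) * (g ≫ Red.DSmap S π) = (g ≫ Red.DSmap S π) * (x ≫ D.split.hom.hom.hom) from
        ch_ext fun m => by rw [ch_mul, ch_mul, mul_comm]]
  haveI := hz.1; haveI := hz.2.1
  obtain ⟨f, hf⟩ := exists_le_split D z hzR tZ htZ h hH t ht fun d s hd => by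
    obtain ⟨x, w, hxw, hx⟩ := hd
    have h0 : π (D.P.root d) = 0 := weight_eq_zero_of_comm (F.hu d) π x hx fun g => by
      have := (hz.2.2 _ (x ≫ D.u d)).1 ⟨w, hxw.symm⟩ _ (𝟙 _) g
      rwa [Category.id_comp] at this
    refine inFib_of_fac_split D h ?_ s
    rcases hker d h0 with e | e
    · rwa [F.inj e]
    · rwa [show d = D.P.reflectionPerm a a from F.inj (by
        rw [e, D.P.root_reflectionPerm, D.P.reflection_apply_self])]
  obtain ⟨n0, hn0⟩ := D.refl a
  obtain ⟨nZ, hnZ⟩ := (hz.2.2 _ n0).2 fun X' x g => by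
    have h1 := hn0 X' (g ≫ Red.DSmap S π ≫ D.split.inv.hom.hom)
    have e0 : D.split.inv.hom.hom ≫ D.split.hom.hom.hom = 𝟙 _ :=
      congrArg (fun f => f.hom.hom) D.split.inv_hom_id
    have e1 : Red.DSmap S π ≫ Red.DSmap S (D.P.reflection a).toLinearMap.toAddMonoidHom = Red.DSmap S π := by
      refine ch_ext fun m => ?_
      rw [ch_DSmap, ← Category.id_comp (Red.DSmap S π), ch_DSmap, ch_DSmap]
      congr 2
      show π (D.P.reflection a m.toAdd) = π m.toAdd
      rw [D.P.reflection_apply, map_sub, map_zsmul, hπa, smul_zero, sub_zero]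
    simp only [Category.assoc, reassoc_of% e0, reassoc_of% e1, hc] at h1
    rw [toUnit_unique x (toUnit X')]
    exact mul_inv_eq_iff_eq_mul.1 h1
  refine ⟨nZ ≫ f, fun X s => ?_⟩
  rw [Category.assoc, hf, hnZ]
  exact hn0 X s

/-- **The data of a subgroup of type (R) with symmetric roots.** -/
theorem exists_symSub_pattern [Nonempty S] (D : Red.SplitRed G) (h : H ⟶ G) (hH : RedSub.IsTypeR h) (t : D.T ⟶ H)
    (ht : t ≫ h = D.i) (R' : Set D.idx)
    (hrs : ∀ a (s : S), InFib h (D.u a) s ↔ a ∈ R')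
    (hfac : ∀ a ∈ R', ∃ v : Red.Ga S ⟶ H, v ≫ h = D.u a)
    (hsymm : ∀ a ∈ R', D.P.reflectionPerm a a ∈ R') :
    letI := D.grpT; letI := D.acgM; letI := D.fintypeIdx; letI := D.finiteM; letI := D.freeM
    SymSub (D.split.inv.hom.hom ≫ D.i) D.P D.u h (D.split.inv.hom.hom ≫ t) R' := by
  letI := D.grpT
  letI := D.acgM
  letI := D.fintypeIdx
  letI := D.finiteM
  letI := D.freeM
  obtain ⟨⟨i1, i2⟩, i3, -, hconn, -⟩ := id hH
  haveI := i1; haveI := i2
  refine ⟨frame_of_splitRed D, D.pairing_eq, hconn, (cH_hcH D h t ht).2, fun a s => hrs a s,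
    hfac, fun a ha => ?_⟩
  obtain ⟨n, hn⟩ := exists_refl_mem_pattern D h hH t ht a (hfac a ha) (hfac _ (hsymm a ha))
  exact ⟨n, refl_frame D a hn⟩

/-- **Such subgroups are closed reductive subgroups.** -/
theorem isReductive_of_symm_pattern [Nonempty S] (D : Red.SplitRed G) (h : H ⟶ G) (hH : RedSub.IsTypeR h) (t : D.T ⟶ H)
    (ht : t ≫ h = D.i) (R' : Set D.idx)
    (hrs : ∀ a (s : S), InFib h (D.u a) s ↔ a ∈ R')
    (hfac : ∀ a ∈ R', ∃ v : Red.Ga S ⟶ H, v ≫ h = D.u a)
    (hsymm : ∀ a ∈ R', D.P.reflectionPerm a a ∈ R') :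
    IsClosedImmersion h.left ∧ Red.IsReductive H := by
  classical
  have Y := exists_symSub_pattern D h hH t ht R' hrs hfac hsymm
  letI := D.grpT
  letI := D.acgM
  letI := D.fintypeIdx
  letI := D.finiteM
  letI := D.freeM
  obtain ⟨⟨i1, i2⟩, i3, -, -, -⟩ := id hH
  haveI := i1; haveI := i2; haveI := i3
  haveI := (cH_hcH D h t ht).1
  haveI := isReduced_of_splitRed D
  obtain ⟨B⟩ := nonempty_base_split D
  choose nD hnD using fun a => D.refl a
  choose nR hnR using Y.refl
  have hclosed := Y.isClosedImmersion B (n := fun a => if ha : a ∈ R' then nR a ha ≫ h else nD a) (fun a X s => by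
    by_cases ha : a ∈ R'
    · simp only [dif_pos ha]; exact hnR a ha X s
    · simp only [dif_neg ha]; exact refl_frame D a (hnD a) X s) (fun a ha => ⟨nR a ha, by simp only [dif_pos ha]⟩)
  haveI := D.reductive.1
  refine ⟨hclosed, ?_, i3, Y.isReductiveOver_fibre⟩
  haveI := hclosed
  rw [← Over.w h]
  infer_instance

end Groth.Agent.RootBase
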