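import Groth.Agent.RootBase.RCProj
import Groth.Agent.RedCartan.Global
import Groth.Agent.Chev.CharQuot

/-!
# Uniqueness of the projection on a Levi subgroup
-/

set_option autoImplicit false
set_option backward.isDefEq.respectTransparency false
set_option linter.style.haveILetI false
set_option maxHeartbeats 4000000
set_option synthInstance.maxHeartbeats 400000

universe u

open CategoryTheory Limits MonoidalCategory CartesianMonoidalCategory MonObj GrpObj AlgebraicGeometry LieS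
open scoped CategoryTheory.Obj

noncomputable section

namespace Groth.Agent.RootBase

open Groth.Agent.HomDiag Groth.Agent.DynPar Groth.Agent.RootSys Groth.Agent.MTBridge

/-- A root group of weight zero consists of central points. -/
theorem rootHom_mem_ZSub' {R : Type u} [CommRing R] {G : Over (Spec (CommRingCat.of R))} [GrpObj G]
    {M : Type} [AddCommGroup M] {c : Red.DS (Spec (CommRingCat.of R)) M ⟶ G} {a : M}
    {u : Red.Ga (Spec (CommRingCat.of R)) ⟶ G} (hu : Red.IsRootHom c (Red.chi _ a) u) (mu : M →+ ℤ) (ha : mu a = 0)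
    {B : Type u} [CommRing B] {f : Spec (CommRingCat.of B) ⟶ Spec (CommRingCat.of R)}
    (x : pt B f ⟶ Red.Ga (Spec (CommRingCat.of R))) :
    x ≫ u ∈ ZSub f (Red.DSmap (Spec (CommRingCat.of R)) mu ≫ c) := by
  haveI := hu.1
  rw [DynPar.mem_ZSub, orb_apply, ← Category.assoc, ← Category.assoc (qc ℤ f)]
  erw [rootHom_conj_gp hu (xu f ℤ ≫ Red.DSmap _ mu) (qc ℤ f ≫ x)]
  congr 1
  refine gv_inj ?_
  rw [gv_gp]
  rw [chv_DSmap, chv_xu]
  simp only [toAdd_ofAdd, ha]
  exact _root_.one_mul _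

variable {S : Scheme.{u}} {G H T : Over S} [GrpObj G] [GrpObj H] [GrpObj T]
  {M : Type} [AddCommGroup M] [Module.Free ℤ M] [Module.Finite ℤ M] {idx : Type} [Fintype idx]
  {c : Red.DS S M ⟶ G} {P : RootPairing idx ℤ M (Module.Dual ℤ M)} {u : idx → (Red.Ga S ⟶ G)}
  {h : H ⟶ G} [IsMonHom h] [IsImmersion h.left] [Smooth H.hom] {t : T ⟶ H} [IsMonHom t] {π π' : H ⟶ H}

set_option maxHeartbeats 8000000 in
/-- **Opposite root groups of the subgroup are fixed by the projection.** -/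
theorem inFib_fixed_of_sym (F : Frame c P.root u) (hconn : RedSub.HasConnectedFibres H) (e : Red.DS S M ⟶ T)
    [IsIso e] [IsMonHom e] (he : e ≫ t ≫ h = c) (hπ : IsRCProj h t π) {a a' : idx}
    (hopp : P.root a' = -P.root a) {s : S} (ha : InFib h (u a) s) (ha' : InFib h (u a') s)
    {L : Over S} (l : L ⟶ H) (hmem : ∀ (X : Over S) (g : X ⟶ H), (∃ z, z ≫ l = g) ↔ g ≫ π = g) :
    InFib (l ≫ h) (u a) s := by
  haveI := F.hG.1; haveI := F.hc.1
  haveI : IsMonHom (e ≫ t) := inferInstance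
  have hcH : (e ≫ t) ≫ h = c := by rw [Category.assoc, he]
  obtain ⟨v, hv⟩ := (F.inFib_iff hconn hcH a s).1 ha
  obtain ⟨v', hv'⟩ := (F.inFib_iff hconn hcH a' s).1 ha'
  let τ := Red.geomPt s
  let K := AlgebraicClosure (S.residueField s)
  obtain ⟨j1, j2, j3, j4, j5, j6⟩ := sub_fibre F.hG h hconn s
  haveI := j1; haveI := j2; haveI := j3
  haveI : Mono ((Over.pullback τ).map h) := Over.mono_of_mono_left _
  haveI := isMonHom_map' τ t
  have FK := F.bc τ
  haveI : IsMonHom (bcHom' τ c) := isMonHom_bcHom' τ c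
  haveI := DynPar.isIso_ej τ M
  haveI : IsMonHom (bcHom' τ e) := isMonHom_bcHom' τ e
  haveI : IsIso (bcHom' τ e) := inferInstanceAs (IsIso (ej τ M ≫ (Over.pullback τ).map e))
  obtain ⟨lam, hlm, hlim⟩ := (hπ.bc τ).lim
  haveI := hlm
  haveI : IsMonHom (inv (bcHom' τ e)) := inferInstanceAs (IsMonHom (asIso (bcHom' τ e)).inv)
  haveI : AddGroup.FG M := Module.Finite.iff_addGroup_fg.1 inferInstance
  obtain ⟨θ, hθ⟩ := Chev.CharQuot.exists_DSmap (lam ≫ inv (bcHom' τ e))
  have hc₁ : lam ≫ (Over.pullback τ).map t ≫ (Over.pullback τ).map h =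
      Red.DSmap _ θ ≫ bcHom' τ c := by
    rw [← hθ, Category.assoc]
    congr 1
    rw [IsIso.eq_inv_comp, bcHom', bcHom', Category.assoc, ← Functor.map_comp, ← Functor.map_comp, he]
  let y : pt K (𝟙 _) ⟶ Red.Ga (Spec (CommRingCat.of K)) := BGaNotS.gaPt 1
  have hy : y ≠ 1 := fun e1 => by
    have h1 := congrArg Red.gaFn e1
    rw [BGaNotS.gaFn_gaPt, BGaNotS.gaFn_one] at h1
    have h2 := congrArg (Scheme.ΓSpecIso (CommRingCat.of K)).hom h1
    rw [map_one, map_zero] at h2
    exact one_ne_zero h2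
  have hnn : ∀ (b : idx) (w : Red.Ga (Spec (CommRingCat.of K)) ⟶ Red.bc τ H),
      w ≫ (Over.pullback τ).map h = bcGa τ (u b) → 0 ≤ θ (P.root b) := fun b w hw => by
    by_contra hlt
    push Not at hlt
    obtain ⟨h1, -⟩ := hlim K (𝟙 _) (y ≫ w)
    rw [Category.assoc, hw, hc₁] at h1
    have h2 := rootHom_mem_USub' (FK.hu b) (-θ) (by rw [AddMonoidHom.neg_apply]; omega) y
    have h3 : y ≫ bcGa τ (u b) = 1 := eq_one_of_opp (-θ) h2 (by rw [neg_neg]; exact h1)
    haveI := (FK.hu b).1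
    haveI := (FK.hu b).2.1
    haveI : Mono (bcGa τ (u b)) := Over.mono_of_mono_left _
    exact hy ((cancel_mono (bcGa τ (u b))).1 (h3.trans (MonObj.one_comp _).symm))
  have hθa : θ (P.root a) = 0 := by
    have h1 := hnn a v hv
    have h2 := hnn a' v' hv'
    rw [hopp, map_neg] at h2
    omega
  obtain ⟨h1, h2⟩ := hlim K (𝟙 _) (y ≫ v)
  haveI : IsAffineHom (Red.bc τ G).hom := isAffineHom_of_isAffine _
  have hfix : (y ≫ v) ≫ (Over.pullback τ).map π = y ≫ v := by
    rw [← cancel_mono ((Over.pullback τ).map h), Category.assoc _ ((Over.pullback τ).map π), h2]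
    refine lim_of_mem_ZSub ?_
    rw [Category.assoc, hv, hc₁]
    exact rootHom_mem_ZSub' (FK.hu a) θ hθa y
  obtain ⟨w, hw⟩ := (hmem _ (low τ (y ≫ v))).2 (by rw [← low_map, hfix])
  refine ⟨(Over.map τ).map y ≫ gaPush τ, w, ?_, fun e1 => ?_⟩
  · rw [← Category.assoc w l h, hw, ← low_map, Category.assoc y v, hv]
    exact toBC_inj τ (by rw [toBC_low, ← bcGa_eq])
  · have h3 := congrArg Red.gaFn e1
    rw [gaFn_gaPush, BGaNotS.gaFn_gaPt, BGaNotS.gaFn_one] at h3
    have h4 := congrArg (Scheme.ΓSpecIso (CommRingCat.of K)).hom h3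
    rw [map_one, map_zero] at h4
    exact one_ne_zero h4

omit [Smooth H.hom] [IsImmersion h.left] [IsMonHom h] [GrpObj H] in
/-- The fibrewise roots of a reductive subgroup are symmetric. -/
theorem inFib_opp_of_reductive (F : Frame c P.root u) {L : Over S} [GrpObj L] (hL : Red.IsReductive L) (j : L ⟶ G)
    [IsMonHom j] [IsImmersion j.left] (cL : Red.DS S M ⟶ L) [IsMonHom cL] (hcL : cL ≫ j = c) {a : idx} {s : S}
    (ha : InFib j (u a) s) : InFib j (u (P.reflectionPerm a a)) s := by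
  haveI := hL.2.1
  have hconn := RedCartan.isConnected_fibre_of_isReductive hL
  obtain ⟨j1, j2, j3, j4, j5, j6⟩ := sub_fibre F.hG j hconn s
  haveI := j2; haveI := j3
  haveI : IsMonHom (bcHom' (Red.geomPt s) cL) := isMonHom_bcHom' _ _
  have hK : bcHom' (Red.geomPt s) cL ≫ (Over.pullback (Red.geomPt s)).map j = bcHom' (Red.geomPt s) c := by
    rw [bcHom', Category.assoc, ← Functor.map_comp, hcL]
    rfl
  refine (F.inFib_iff hconn hcL _ s).2 ?_
  exact opp_fac_of_reductive (P := P) (F.bc (Red.geomPt s)) hK (isReductive_bc _ hL)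
    ((F.inFib_iff hconn hcL a s).1 ha)

/-- **Reductive subgroups containing the torus are fixed by the projection.** -/
theorem IsRCProj.fixed_of_reductive (F : Frame c P.root u) (hconn : RedSub.HasConnectedFibres H)
    (e : Red.DS S M ⟶ T) [IsIso e] [IsMonHom e] (he : e ≫ t ≫ h = c) (hπ : IsRCProj h t π) {L' : Over S} [GrpObj L']
    (hL' : Red.IsReductive L') (l' : L' ⟶ H) [IsMonHom l'] [IsImmersion l'.left] (tL' : T ⟶ L')
    (htL' : tL' ≫ l' = t) : l' ≫ π = l' := by
  haveI := F.hG.1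
  haveI := hπ.hom
  obtain ⟨L, _, l, hl, hlc, hLr, hmem⟩ := hπ.levi
  haveI := hl; haveI := hlc
  haveI := hL'.2.1; haveI := hLr.2.1
  haveI : Mono h := Over.mono_of_mono_left h
  haveI : Mono l' := Over.mono_of_mono_left l'
  haveI : IsMonHom tL' := MTSplit.isMonHom_of_comp_mono tL' l' t htL'
  haveI : Mono l := Over.mono_of_mono_left l
  obtain ⟨tL, htL⟩ := (hmem T t).2 hπ.fix
  haveI : IsMonHom tL := MTSplit.isMonHom_of_comp_mono tL l t htL
  haveI : IsImmersion (l ≫ h).left := by rw [Over.comp_left]; infer_instance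
  haveI : IsImmersion (l' ≫ h).left := by rw [Over.comp_left]; infer_instance
  obtain ⟨f, hf⟩ := F.exists_le (h := l' ≫ h) (h'' := l ≫ h) (cH := e ≫ tL') (c'' := e ≫ tL)
    (fun a => ⟨P.reflectionPerm a a, by rw [P.root_reflectionPerm, P.reflection_apply_self]⟩)
    (RedCartan.isConnected_fibre_of_isReductive hL') (by rw [Category.assoc, reassoc_of% htL', he])
    (RedCartan.isConnected_fibre_of_isReductive hLr) (by rw [Category.assoc, reassoc_of% htL, he])
    fun a s ha => by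
      have ha' := inFib_opp_of_reductive F hL' (l' ≫ h) (e ≫ tL')
        (by rw [Category.assoc, reassoc_of% htL', he]) ha
      have down : ∀ b, InFib (l' ≫ h) (u b) s → InFib h (u b) s := fun b ⟨x, w, hxw, hx⟩ =>
        ⟨x, w ≫ l', by rw [hxw, Category.assoc], hx⟩
      exact inFib_fixed_of_sym F hconn e he hπ (by rw [P.root_reflectionPerm, P.reflection_apply_self])
        (down a ha) (down _ ha') l hmem
  exact (hmem _ l').1 ⟨f, (cancel_mono h).1 (by rw [Category.assoc]; exact hf)⟩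

/-- **The projection is unique.** -/
theorem IsRCProj.unique (F : Frame c P.root u) (hconn : RedSub.HasConnectedFibres H)
    (e : Red.DS S M ⟶ T) [IsIso e] [IsMonHom e] (he : e ≫ t ≫ h = c) (hπ : IsRCProj h t π) (hπ' : IsRCProj h t π') :
    π = π' := by
  haveI := F.hG.1
  haveI := hπ.hom; haveI := hπ'.hom
  haveI : Mono h := Over.mono_of_mono_left h
  have key : ∀ {ρ ρ' : H ⟶ H}, IsRCProj h t ρ → IsRCProj h t ρ' → ∀ (X : Over S) (g : X ⟶ H), g ≫ ρ' = g →
      g ≫ ρ = g := fun {ρ ρ'} hρ hρ' X g hg => by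
    obtain ⟨L, _, l, hl, hlc, hLr, hmem⟩ := hρ'.levi
    haveI := hl; haveI := hlc
    obtain ⟨tL, htL⟩ := (hmem T t).2 hρ'.fix
    obtain ⟨z, rfl⟩ := (hmem X g).2 hg
    rw [Category.assoc, hρ.fixed_of_reductive F hconn e he hLr l tL htL]
  obtain ⟨lam, hlm, hlim⟩ := hπ.lim
  haveI := hlm
  refine hom_ext_pts _ _ fun B _ f y => ?_
  obtain ⟨h1, h2⟩ := hlim B f y
  obtain ⟨a', ha'⟩ := exists_orbit lam y h1
  have hl : DynPar.lim (lam ≫ t ≫ h) (y ≫ h) = qz f ℤ ≫ a' ≫ h :=
    lim_eq (by rw [reassoc_of% ha', ← orb_comp, Category.assoc])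
  have hqz : qz f ℤ ≫ a' = y ≫ π := by rw [← cancel_mono h, Category.assoc, Category.assoc, h2, hl]
  -- the image under the other projection commutes with the cocharacter
  have hy' : (y ≫ π') ≫ π = y ≫ π' := key hπ hπ' _ _ (by rw [Category.assoc, hπ'.idem])
  obtain ⟨h3, h4⟩ := hlim B f (y ≫ π')
  have hz : (y ≫ π') ≫ h ∈ ZSub f (lam ≫ t ≫ h) := by
    have h5 := lim_mem_ZSub h3
    rwa [← h4, ← Category.assoc (y ≫ π'), hy'] at h5
  have ha'' : (a' ≫ π') ≫ h = qc (NN ℤ) f ≫ (y ≫ π') ≫ h := by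
    refine qn_ext ?_
    have hc : (lam ≫ t) ≫ π' = lam ≫ t := by rw [Category.assoc, hπ'.fix]
    rw [Category.assoc a', reassoc_of% ha', ← Category.assoc (orb f (lam ≫ t) y) π' h, ← orb_comp, hc, ← orb_comp,
      Category.assoc lam, (DynPar.mem_ZSub f _).1 hz, ← Category.assoc (qn f ℤ), qn_qc]
  have h6 := congrArg (qz f ℤ ≫ ·) ha''
  rw [← Category.assoc (qz f ℤ) (qc (NN ℤ) f), qz_qc, Category.id_comp] at h6
  have h7 : (y ≫ π) ≫ π' = y ≫ π' := by
    rw [← cancel_mono h, ← hqz]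
    simpa only [Category.assoc] using h6
  rw [← h7]
  exact (key hπ' hπ _ _ (by rw [Category.assoc, hπ.idem])).symm

end Groth.Agent.RootBase
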