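import Groth.Agent.RootBase.RCLim
import Groth.Agent.RootBase.RCSym
import Groth.Agent.RootBase.RCUnique
import Groth.Agent.RootBase.UPsi
import Groth.Agent.AgIsog.Kernel
import Groth.Agent.ParNorm.Global

/-!
# The Levi decomposition of a subgroup with a closed root pattern: split case
-/

set_option autoImplicit false
set_option backward.isDefEq.respectTransparency false
set_option linter.style.haveILetI false
set_option maxHeartbeats 4000000
set_option synthInstance.maxHeartbeats 400000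

universe u

open CategoryTheory Limits MonoidalCategory CartesianMonoidalCategory MonObj GrpObj AlgebraicGeometry LieS
open scoped CategoryTheory.Obj

noncomputable section

namespace Groth.Agent.RootBase

open Groth.Agent.HomDiag Groth.Agent.DynPar Groth.Agent.RootSys Groth.Agent.MTBridge

variable {S : Scheme.{u}} {G H : Over S} [GrpObj G] [GrpObj H] {M : Type} [AddCommGroup M] {c : Red.DS S M ⟶ G}

/-- Values of a root homomorphism of weight zero commute with the cocharacter, over any base. -/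
theorem rootHom_mem_ZSub_global {a : M} {u : Red.Ga S ⟶ G} (hu : Red.IsRootHom c (Red.chi S a) u) (mu : M →+ ℤ)
    (ha : mu a = 0) {B : Type u} [CommRing B] (f : Spec (CommRingCat.of B) ⟶ S) (x : pt B f ⟶ Red.Ga S) :
    x ≫ u ∈ ZSub f (Red.DSmap S mu ≫ c) := by
  rw [mem_ZSub_down f (Category.id_comp f), bcHom'_DSmap]
  let y : (Over.map f).obj (pt B (𝟙 (Spec (CommRingCat.of B)))) ⟶ Red.Ga S := upId' f (Category.id_comp f) ≫ x
  let x' : pt B (𝟙 (Spec (CommRingCat.of B))) ⟶ Red.Ga (Spec (CommRingCat.of B)) :=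
    BGaNotS.gaPt (W := pt B (𝟙 (Spec (CommRingCat.of B)))) (Red.gaFn y :)
  have hx : (Over.map f).map x' ≫ gaPush f = y := BGaNotS.gaPt_ext (by
    rw [gaFn_gaPush]
    exact BGaNotS.gaFn_gaPt _)
  have e : down f (Category.id_comp f) (x ≫ u) = x' ≫ bcGa f u := by
    rw [bcGa_eq, hx, down]
    simp only [y, Category.assoc]
  rw [e]
  exact rootHom_mem_ZSub' (isRootHom_bc f hu) mu ha x'

omit [GrpObj H] in
/-- A product of two closed immersions. -/
theorem isClosedImmersion_tensorHom {A A' B B' : Over S} (a : A ⟶ A') (b : B ⟶ B') [IsClosedImmersion a.left]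
    [IsClosedImmersion b.left] : IsClosedImmersion (a ⊗ₘ b).left := by
  rw [MonoidalCategory.tensorHom_def, Over.comp_left]
  haveI : IsClosedImmersion (a ▷ B).left := by
    rw [Over.whiskerRight_left]
    exact MorphismProperty.pullback_map (P := @IsClosedImmersion) ‹IsClosedImmersion a.left›
      (inferInstance : IsClosedImmersion (𝟙 _)) (Over.w a).symm (Category.id_comp _).symm
  haveI : IsClosedImmersion (A' ◁ b).left := by
    rw [Over.whiskerLeft_left]
    exact MorphismProperty.pullback_map (P := @IsClosedImmersion) (inferInstance : IsClosedImmersion (𝟙 _))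
      ‹IsClosedImmersion b.left› (Category.id_comp _).symm (Over.w b).symm
  infer_instance

set_option maxHeartbeats 16000000 in
/-- **The split case**: closedness, the projection and the properties of its kernel. -/
theorem exists_rcProj_split [Nonempty S] (D : Red.SplitRed G) (h : H ⟶ G) (hH : RedSub.IsTypeR h) (t : D.T ⟶ H)
    (ht : t ≫ h = D.i) (R' : Set D.idx) (hrs : ∀ a (s : S), InFib h (D.u a) s ↔ a ∈ R')
    (hfac : ∀ a ∈ R', ∃ v : Red.Ga S ⟶ H, v ≫ h = D.u a)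
    (hcl : ∀ a b d : D.idx, a ∈ R' → b ∈ R' → D.P.root a + D.P.root b = D.P.root d → d ∈ R') :
    letI := D.grpT
    ∃ π : H ⟶ H, IsRCProj h t π ∧ IsClosedImmersion h.left ∧
      ∀ (U : Over S) [GrpObj U] (u : U ⟶ H) [IsMonHom u] [Mono u], IsClosedImmersion u.left →
        (∀ (X : Over S) (g : X ⟶ H), (∃ z, z ≫ u = g) ↔ g ≫ π = 1) → ∀ s : S,
          ConnectedSpace (Red.geomFibre s U).left ∧
            Red.HasNoSubtorus (AlgebraicClosure (S.residueField s)) (Red.geomFibre s U) := by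
  classical
  letI := D.grpT
  letI := D.acgM
  letI := D.fintypeIdx
  letI := D.finiteM
  letI := D.freeM
  obtain ⟨⟨i1, i2⟩, i3, i4, hconn, -⟩ := id hH
  haveI := i1; haveI := i2; haveI := i3; haveI := i4
  haveI : Mono h := Over.mono_of_mono_left h
  haveI := D.maximalTorus.1
  haveI : IsMonHom t := MTSplit.isMonHom_of_comp_mono t h D.i ht
  obtain ⟨c, hc, F⟩ : ∃ c : Red.DS S D.M ⟶ G, D.split.inv.hom.hom ≫ D.i = c ∧ Frame c D.P.root D.u :=
    ⟨_, rfl, frame_of_splitRed D⟩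
  haveI := F.hG.1; haveI := F.hG.2.1; haveI := F.hc.1
  haveI : IsSeparated H.hom := by rw [← Over.w h]; infer_instance
  haveI hsinv : IsMonHom D.split.inv.hom.hom := D.split.inv.hom.isMonHom_hom
  obtain ⟨cH, hcm, hcH, hcHt⟩ : ∃ cH : Red.DS S D.M ⟶ H, IsMonHom cH ∧ cH ≫ h = c ∧ D.split.inv.hom.hom ≫ t = cH :=
    ⟨_, (cH_hcH D h t ht).1, (cH_hcH D h t ht).2.trans hc, rfl⟩
  haveI := hcm
  have hopp := exists_opp D
  -- the functional
  have hclP : RootD.IsClosedSub D.P R' := fun a b d ha hb hd => hcl a b d ha hb hd.symm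
  obtain ⟨mu, hmu0, hmup⟩ := RC.exists_rc_hom hclP
  have hmu : ∀ a ∈ R', (a ∈ RC.symPart D.P R' ∧ mu (D.P.root a) = 0) ∨
      (a ∈ RC.asymPart D.P R' ∧ 0 < mu (D.P.root a)) := fun a ha => by
    by_cases h' : RootSys.opp D.P a ∈ R'
    · exact Or.inl ⟨⟨ha, h'⟩, hmu0 a ⟨ha, h'⟩⟩
    · exact Or.inr ⟨⟨ha, h'⟩, hmup a ⟨ha, h'⟩⟩
  obtain ⟨lam, hlam, hlm⟩ : ∃ lam : Red.DS S ℤ ⟶ D.T, lam = Red.DSmap S mu ≫ D.split.inv.hom.hom ∧ IsMonHom lam :=
    ⟨_, rfl, inferInstance⟩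
  haveI := hlm
  obtain ⟨c₁, hc₁, hc₁'⟩ : ∃ c₁, lam ≫ t ≫ h = c₁ ∧ c₁ = Red.DSmap S mu ≫ c :=
    ⟨_, rfl, by rw [hlam, ht, Category.assoc, hc]⟩
  haveI : IsMonHom c₁ := by rw [← hc₁]; infer_instance
  obtain ⟨P, _, p, hP⟩ := exists_isP (G := G) c₁
  obtain ⟨UG, _, uG, hUG⟩ := exists_isU (G := G) c₁
  obtain ⟨Z, _, z, hz, hzc, -⟩ := exists_centralizer_DS (G := G) inferInstance inferInstance c₁
  obtain ⟨d⟩ := exists_leviData hP hUG hz
  haveI := hz.1; haveI := hz.2.1; haveI := hP.1; haveI := hP.2.1; haveI := hUG.1; haveI := hUG.2.1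
  haveI := d.l_hom; haveI := d.iu_hom; haveI := d.r_hom
  haveI : Mono p := Over.mono_of_mono_left p
  haveI : Mono uG := Over.mono_of_mono_left uG
  -- the subgroup has limits
  obtain ⟨tC, htC⟩ := (hz.2.2 _ c).2 fun X' x g => by
    rw [hc₁', ← Category.assoc, ← MonObj.mul_comp, ← MonObj.mul_comp,
      show x * (g ≫ Red.DSmap S mu) = (g ≫ Red.DSmap S mu) * x from ch_ext fun m => by rw [ch_mul, ch_mul, mul_comm]]
  have hC : ∀ a, (∀ s : S, InFib h (D.u a) s) ∨ ∀ s : S, ¬ InFib h (D.u a) s := fun a => by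
    by_cases ha : a ∈ R'
    · exact Or.inl fun s => (hrs a s).2 ha
    · exact Or.inr fun s hs => ha ((hrs a s).1 hs)
  obtain ⟨hp, hhp⟩ := F.exists_le_const hopp hconn hcH hC p (tC ≫ d.l) (by rw [Category.assoc, d.l_p, htC])
    fun a ha => by
      obtain ⟨s⟩ : Nonempty S := inferInstance
      refine (hP.2.2 _ _).2 fun B _ f y => ?_
      show y ≫ D.u a ∈ PSub f c₁
      rw [hc₁']
      rcases hmu a ((hrs a s).1 (ha s)) with ⟨-, h0⟩ | ⟨-, h0⟩
      · exact ZSub_le_PSub f _ (rootHom_mem_ZSub_global (F.hu a) mu h0 f y)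
      · exact USub_le_PSub f _ (rootHom_mem_USub_global (F.hu a) mu h0 f y)
  have hle : ∀ (B : Type u) [CommRing B] (f : Spec (CommRingCat.of B) ⟶ S) (y : pt B f ⟶ H),
      y ≫ h ∈ PSub f (lam ≫ t ≫ h) := fun B _ f y => by
    rw [hc₁]
    exact hP.exists_fac_iff.1 ⟨y ≫ hp, by rw [Category.assoc, hhp]⟩
  obtain ⟨π, hπm, hπfix, hπidem, hlim⟩ := exists_limProj h t D.maximalTorus.2.2.1 lam hle
  haveI := hπm
  -- the fixed subgroup
  obtain ⟨L, _, l, hlm', hlmono, hlc, hlmem⟩ := exists_fixed_subgrp π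
  haveI := hlm'; haveI := hlmono; haveI := hlc
  have hLR : RedSub.IsTypeR (l ≫ h) :=
    isTypeR_fixed F.hG h hH t (by rw [ht]; exact D.maximalTorus) π hπfix hπidem l hlmem
  obtain ⟨tL, htL⟩ := (hlmem _ t).2 hπfix
  have hone : ∀ {X : Over S} (x : X ⟶ Red.Ga S) (a : D.idx), x ≫ D.u a = 1 → x = 1 := fun x a e => by
    haveI := (F.hu a).1
    haveI := (F.hu a).2.1
    haveI : Mono (D.u a) := Over.mono_of_mono_left (D.u a)
    exact (cancel_mono (D.u a)).1 (e.trans (MonObj.one_comp _).symm)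
  have hfacL : ∀ a ∈ RC.symPart D.P R', ∃ v : Red.Ga S ⟶ L, v ≫ l ≫ h = D.u a := fun a ha => by
    obtain ⟨v, hv⟩ := hfac a ha.1
    obtain ⟨w, hw⟩ := (hlmem _ v).2 (by
      rw [← cancel_mono h]
      refine hom_ext_pts _ _ fun B _ f y => ?_
      obtain ⟨-, h2⟩ := hlim B f (y ≫ v)
      rw [Category.assoc v π h, ← Category.assoc y v, h2, Category.assoc y v h]
      refine lim_of_mem_ZSub ?_
      rw [hv, hc₁, hc₁']
      exact rootHom_mem_ZSub_global (F.hu a) mu (hmu0 a ha) f y)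
    exact ⟨w, by rw [← Category.assoc, hw, hv]⟩
  have hrsL : ∀ a (s : S), InFib (l ≫ h) (D.u a) s ↔ a ∈ RC.symPart D.P R' := fun a s => by
    constructor
    · rintro ⟨x, w, hxw, hx⟩
      have haR : a ∈ R' := (hrs a s).1 ⟨x, w ≫ l, by rw [hxw, Category.assoc], hx⟩
      refine (hmu a haR).elim (fun h0 => h0.1) fun h0 => absurd ?_ hx
      let f : Spec (CommRingCat.of (AlgebraicClosure (S.residueField s))) ⟶ S := 𝟙 _ ≫ Red.geomPt s
      obtain ⟨-, h2⟩ := hlim _ f (w ≫ l : pt _ f ⟶ H)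
      have e : (w ≫ l) ≫ π = w ≫ l := (hlmem _ _).1 ⟨w, rfl⟩
      rw [← Category.assoc, e] at h2
      have hU : ((w ≫ l) ≫ h : pt _ f ⟶ G) ∈ USub f (lam ≫ t ≫ h) := by
        rw [Category.assoc, ← hxw, hc₁, hc₁']
        exact rootHom_mem_USub_global (F.hu a) mu h0.2 f x
      refine hone x a ?_
      rw [hxw, ← Category.assoc, h2]
      exact (mem_USub_iff_lim.1 hU).2
    · intro ha
      exact inFib_of_fac_split D (l ≫ h) (hfacL a ha) s
  obtain ⟨hLclosed, hLred⟩ := isReductive_of_symm_pattern D (l ≫ h) hLR tL (by rw [reassoc_of% htL, ht])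
    (RC.symPart D.P R') hrsL hfacL fun a ha =>
      ⟨ha.2, by rw [show RootSys.opp D.P (D.P.reflectionPerm a a) = a from RootSys.opp_opp (P := D.P) a]; exact ha.1⟩
  have hproj : IsRCProj h t π :=
    ⟨hπm, hπfix, hπidem, ⟨lam, hlm, hlim⟩, L, inferInstance, l, hlm', hlc, hLred, hlmem⟩
  -- the contracted part
  have hclA : RootD.IsClosedSub D.P (RC.asymPart D.P R') := fun a b k ha hb hk => by
    refine ⟨hclP ha.1 hb.1 hk, fun h' => ha.2 (hclP h' hb.1 ?_)⟩
    rw [RootSys.root_opp, RootSys.root_opp, hk]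
    abel
  obtain ⟨UΨ, _, v₀, hv₀m, hv₀c, hUΨs, hUΨfib, -, -, hψ⟩ := F.exists_UPsi hclA mu fun a ha => hmup a ha
  haveI := hv₀m; haveI := hv₀c; haveI := hUΨs
  obtain ⟨m, eA', -, hA⟩ := exists_extend (RC.asymPart D.P R') (Fin.elim0 : Fin 0 → D.idx) (fun x => x.elim0)
    fun k => k.elim0
  obtain ⟨eA, heA⟩ : ∃ eA, eA = Fin.append (Fin.elim0 : Fin 0 → D.idx) eA' := ⟨_, rfl⟩
  rw [← heA] at hA
  obtain ⟨ψ, hψv⟩ := hψ eA hA
  choose vA hvA using fun k => hfac _ (hA.2.subset ⟨k, rfl⟩).1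
  obtain ⟨w₀, hw₀, hψw⟩ : ∃ w₀ : UΨ ⟶ H, w₀ ≫ h = v₀ ∧ ψ.hom ≫ w₀ = RedSub.prodMap (Red.Ga S) _ vA := by
    refine ⟨ψ.inv ≫ RedSub.prodMap (Red.Ga S) _ vA, ?_, Iso.hom_inv_id_assoc _ _⟩
    rw [Category.assoc, prodMap_comp_hom, funext hvA, ← hψv, Iso.inv_hom_id_assoc]
  haveI : IsMonHom w₀ := MTSplit.isMonHom_of_comp_mono w₀ h v₀ hw₀
  have hw₀π : w₀ ≫ π = 1 := by
    rw [← cancel_mono h, MonObj.one_comp]
    refine hom_ext_pts _ _ fun B _ f y => ?_
    obtain ⟨-, h2⟩ := hlim B f (y ≫ w₀)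
    rw [Category.assoc w₀ π h, ← Category.assoc y w₀, h2, MonObj.comp_one, Category.assoc y w₀ h, hw₀]
    refine (mem_USub_iff_lim.1 ?_).2
    rw [hc₁, hc₁', show y ≫ v₀ = (y ≫ ψ.inv) ≫ RedSub.prodMap (Red.Ga S) _ fun k => D.u (eA k) by
      rw [← hψv, Category.assoc, Iso.inv_hom_id_assoc]]
    exact prodMap_mem_USub_global mu f (fun k => F.hu (eA k)) (fun k => hmup _ (hA.2.subset ⟨k, rfl⟩)) _
  obtain ⟨U, _, iU, hiUm, hiUmono, hiUpb, hiUmem⟩ := AgIsog.exists_kernel π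
  haveI := hiUm; haveI := hiUmono
  haveI : IsClosedImmersion (η[H] : 𝟙_ (Over S) ⟶ H).left := by
    haveI : IsClosedImmersion ((η[H] : 𝟙_ (Over S) ⟶ H).left ≫ H.hom) := by
      rw [Over.w]; exact inferInstanceAs (IsClosedImmersion (𝟙 S))
    exact IsClosedImmersion.of_comp _ H.hom
  haveI : IsClosedImmersion iU.left := MorphismProperty.of_isPullback (P := @IsClosedImmersion) hiUpb.flip inferInstance
  obtain ⟨sU, hsU⟩ := (hiUmem H (π⁻¹ * 𝟙 H)).2 (by
    rw [MonObj.mul_comp, GrpObj.inv_comp, hπidem, Category.id_comp, inv_mul_cancel])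
  have hiπ : iU ≫ π = 1 := (hiUmem U iU).1 ⟨𝟙 _, Category.id_comp _⟩
  have hUret : iU ≫ sU = 𝟙 U := by
    rw [← cancel_mono iU, Category.assoc, hsU, MonObj.comp_mul, GrpObj.comp_inv, hiπ, inv_one, _root_.one_mul,
      Category.comp_id, Category.id_comp]
  haveI : Smooth U.hom := DynPar.smooth_of_retract i3 iU sU hUret
  have hUconn : ∀ s : S, ConnectedSpace (Red.geomFibre s U).left := fun s => by
    haveI := (sub_fibre F.hG h hconn s).2.2.2.2.2
    exact DynPar.connectedSpace_of_retract ((Over.pullback (Red.geomPt s)).map iU)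
      ((Over.pullback (Red.geomPt s)).map sU) (by rw [← Functor.map_comp, hUret, CategoryTheory.Functor.map_id])
  -- a regular functional close to `mu`
  obtain ⟨nu, hnu, hnuA⟩ : ∃ nu : D.M →+ ℤ, (∀ a, nu (D.P.root a) ≠ 0) ∧
      ∀ a ∈ RC.asymPart D.P R', 0 < nu (D.P.root a) := by
    obtain ⟨nu₀, hnu₀⟩ := F.exists_regular
    let N : ℤ := 1 + ∑ a, |nu₀ (D.P.root a)|
    have hN : ∀ a, |nu₀ (D.P.root a)| < N := fun a => by
      have := Finset.single_le_sum (f := fun a => |nu₀ (D.P.root a)|) (fun b _ => abs_nonneg _) (Finset.mem_univ a)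
      simp only [N]
      omega
    have key : ∀ a, 0 < mu (D.P.root a) → 0 < (N • mu + nu₀) (D.P.root a) := fun a ha => by
      have h1 := hN a
      rw [abs_lt] at h1
      show 0 < N * mu (D.P.root a) + nu₀ (D.P.root a)
      nlinarith
    refine ⟨N • mu + nu₀, fun a => ?_, fun a ha => key a (hmup a ha)⟩
    rcases lt_trichotomy (mu (D.P.root a)) 0 with h0 | h0 | h0
    · have h1 := hN a
      rw [abs_lt] at h1
      show N * mu (D.P.root a) + nu₀ (D.P.root a) ≠ 0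
      nlinarith
    · show N * mu (D.P.root a) + nu₀ (D.P.root a) ≠ 0
      rw [h0, mul_zero, zero_add]
      exact hnu₀ a
    · exact (key a h0).ne'
  obtain ⟨n, en', -, hn⟩ := exists_extend {a | a ∈ R' ∧ 0 < (-nu) (D.P.root a)} (Fin.elim0 : Fin 0 → D.idx)
    (fun x => x.elim0) fun k => k.elim0
  obtain ⟨q, ep', -, hep⟩ := exists_extend {a | a ∈ RC.symPart D.P R' ∧ 0 < nu (D.P.root a)}
    (Fin.elim0 : Fin 0 → D.idx) (fun x => x.elim0) fun k => k.elim0
  obtain ⟨en, hen⟩ : ∃ en, en = Fin.append (Fin.elim0 : Fin 0 → D.idx) en' := ⟨_, rfl⟩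
  obtain ⟨ep, hep'⟩ : ∃ ep, ep = Fin.append (Fin.elim0 : Fin 0 → D.idx) ep' := ⟨_, rfl⟩
  rw [← hen] at hn; rw [← hep'] at hep
  have hposE : RedSub.Enumerates {a | a ∈ R' ∧ 0 < nu (D.P.root a)} (Fin.append ep eA) := by
    refine ⟨fun i j hij => ?_, Set.ext fun a => ⟨?_, fun ha => ?_⟩⟩
    · induction i using Fin.addCases with
      | left i =>
        induction j using Fin.addCases with
        | left j => rw [Fin.append_left, Fin.append_left] at hij; rw [hep.1 hij]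
        | right j =>
          rw [Fin.append_left, Fin.append_right] at hij
          exact absurd (hij ▸ (hep.2.subset ⟨i, rfl⟩).1.2) (hA.2.subset ⟨j, rfl⟩).2
      | right i =>
        induction j using Fin.addCases with
        | left j =>
          rw [Fin.append_right, Fin.append_left] at hij
          exact absurd (hij.symm ▸ (hep.2.subset ⟨j, rfl⟩).1.2) (hA.2.subset ⟨i, rfl⟩).2
        | right j => rw [Fin.append_right, Fin.append_right] at hij; rw [hA.1 hij]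
    · rintro ⟨k, rfl⟩
      induction k using Fin.addCases with
      | left k => rw [Fin.append_left]; exact ⟨(hep.2.subset ⟨k, rfl⟩).1.1, (hep.2.subset ⟨k, rfl⟩).2⟩
      | right k => rw [Fin.append_right]; exact ⟨(hA.2.subset ⟨k, rfl⟩).1, hnuA _ (hA.2.subset ⟨k, rfl⟩)⟩
    · by_cases h' : RootSys.opp D.P a ∈ R'
      · obtain ⟨k, rfl⟩ := hep.2.ge ⟨⟨ha.1, h'⟩, ha.2⟩
        exact ⟨Fin.castAdd _ k, Fin.append_left _ _ _⟩
      · obtain ⟨k, rfl⟩ := hA.2.ge ⟨ha.1, h'⟩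
        exact ⟨Fin.natAdd _ k, Fin.append_right _ _ _⟩
  have hnsym : ∀ k, en k ∈ RC.symPart D.P R' := fun k => by
    obtain ⟨h0, h1⟩ := hn.2.subset ⟨k, rfl⟩
    refine ⟨h0, by_contra fun h' => ?_⟩
    have := hnuA _ ⟨h0, h'⟩
    rw [AddMonoidHom.neg_apply] at h1
    omega
  choose vn hvn using fun k => hfac _ (hnsym k).1
  choose vp hvp using fun k => hfac _ (hep.2.subset ⟨k, rfl⟩).1.1
  have hfixv : ∀ a ∈ RC.symPart D.P R', ∀ v : Red.Ga S ⟶ H, v ≫ h = D.u a → v ≫ π = v := fun a ha v hv => by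
    obtain ⟨w, hw⟩ := hfacL a ha
    rw [show v = w ≫ l by rw [← cancel_mono h, Category.assoc, hw, hv]]
    exact (hlmem _ _).1 ⟨w, rfl⟩
  haveI hcell : IsOpenImmersion (cellC cH vn (Fin.append vp vA)).left :=
    F.isOpenImmersion_cell hconn hcH R' hrs nu hnu en (Fin.append ep eA) hn hposE vn hvn (Fin.append vp vA)
      fun k => by
        induction k using Fin.addCases with
        | left k => rw [Fin.append_left, Fin.append_left]; exact hvp k
        | right k => rw [Fin.append_right, Fin.append_right]; exact hvA k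
  have hcHπ : cH ≫ π = cH := by rw [← hcHt, Category.assoc, hπfix]
  obtain ⟨f, hf⟩ : ∃ f : U ⟶ UΨ, f ≫ v₀ = iU ≫ h := by
    obtain ⟨C, hC⟩ : ∃ C, C = cellC cH vn (Fin.append vp vA) := ⟨_, rfl⟩
    rw [← hC] at hcell
    let Ω : Over S := Over.mk (pullback.fst iU.left C.left ≫ U.hom)
    let j : Ω ⟶ U := Over.homMk (pullback.fst iU.left C.left) rfl
    let κ : Ω ⟶ _ := Over.homMk (U := Ω) (pullback.snd iU.left C.left) (by
      show pullback.snd iU.left C.left ≫ _ = pullback.fst iU.left C.left ≫ U.hom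
      rw [← Over.w C, ← Category.assoc, ← pullback.condition, Category.assoc, Over.w iU])
    have hjκ : j ≫ iU = κ ≫ C := Over.OverMorphism.ext pullback.condition
    haveI : IsOpenImmersion j.left := inferInstanceAs (IsOpenImmersion (pullback.fst iU.left C.left))
    obtain ⟨yA, hyA⟩ := exists_pow (S := S) (X := Ω) fun k => (κ ≫ snd _ _ ≫ snd _ _) ≫ proj S _ (Fin.natAdd _ k)
    obtain ⟨yP, hyP⟩ := exists_pow (S := S) (X := Ω) fun k => (κ ≫ snd _ _ ≫ snd _ _) ≫ proj S _ (Fin.castAdd _ k)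
    have hsplit : (κ ≫ snd _ _ ≫ snd _ _) ≫ RedSub.prodMap (Red.Ga S) _ (Fin.append vp vA) =
        (yP ≫ RedSub.prodMap (Red.Ga S) _ vp) * (yA ≫ RedSub.prodMap (Red.Ga S) _ vA) := by
      rw [comp_prodMap_eq, comp_prodMap_eq, comp_prodMap_eq, ← List.prod_append, ← List.ofFn_fin_append]
      congr 2
      funext k
      induction k using Fin.addCases with
      | left k => rw [Fin.append_left, Fin.append_left, hyP]
      | right k => rw [Fin.append_right, Fin.append_right, hyA]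
    obtain ⟨ℓ, hℓdef⟩ : ∃ ℓ : Ω ⟶ H, ℓ = ((κ ≫ fst _ _) ≫ RedSub.prodMap (Red.Ga S) _ vn) *
        (((κ ≫ snd _ _ ≫ fst _ _) ≫ cH) * (yP ≫ RedSub.prodMap (Red.Ga S) _ vp)) := ⟨_, rfl⟩
    have hκ : κ ≫ C = ℓ * (yA ≫ RedSub.prodMap (Red.Ga S) _ vA) := by
      rw [hC, cellC, hℓdef, MonObj.comp_mul, MonObj.comp_mul]
      simp only [← Category.assoc] at hsplit ⊢
      rw [hsplit]
      simp only [_root_.mul_assoc]
    have hℓ : ℓ ≫ π = ℓ := by
      rw [hℓdef, MonObj.mul_comp, MonObj.mul_comp, Category.assoc _ _ π, Category.assoc _ _ π, Category.assoc yP _ π,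
        prodMap_comp_hom, prodMap_comp_hom, hcHπ, funext fun k => hfixv _ (hnsym k) _ (hvn k),
        funext fun k => hfixv _ (hep.2.subset ⟨k, rfl⟩).1 _ (hvp k)]
    have hA1 : (yA ≫ RedSub.prodMap (Red.Ga S) _ vA) ≫ π = 1 := by
      rw [← hψw, Category.assoc, Category.assoc, hw₀π, MonObj.comp_one, MonObj.comp_one]
    have hℓ1 : ℓ = 1 := by
      have e := congrArg (· ≫ π) (hjκ.trans hκ)
      rwa [Category.assoc, hiπ, MonObj.comp_one, MonObj.mul_comp, hℓ, hA1, _root_.mul_one, eq_comm] at e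
    have hΩ : (yA ≫ ψ.hom) ≫ v₀ = j ≫ iU ≫ h := by
      rw [← Category.assoc j, hjκ, hκ, hℓ1, _root_.one_mul, Category.assoc, Category.assoc, hψv, prodMap_comp_hom,
        funext hvA]
    obtain ⟨y0, hy0⟩ := exists_pow (S := S) (X := 𝟙_ (Over S)) fun _ : Fin (0 + n) => 1
    obtain ⟨y1, hy1⟩ := exists_pow (S := S) (X := 𝟙_ (Over S)) fun _ : Fin (0 + q + (0 + m)) => 1
    have hvm : ∀ (w : Red.Ga S ⟶ H) a, w ≫ h = D.u a → IsMonHom w := fun w a hw => by
      haveI := (F.hu a).1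
      exact MTSplit.isMonHom_of_comp_mono w h _ hw
    have he : (1 : 𝟙_ (Over S) ⟶ U) ≫ iU = lift y0 (lift 1 y1) ≫ C := by
      rw [hC, comp_cellC, prodMap_one _ (fun k => hvm _ _ (hvn k)) y0 hy0, prodMap_one _ (fun k => by
        induction k using Fin.addCases with
        | left k => rw [Fin.append_left]; exact hvm _ _ (hvp k)
        | right k => rw [Fin.append_right]; exact hvm _ _ (hvA k)) y1 hy1, MonObj.one_comp, MonObj.one_comp,
        _root_.one_mul, _root_.one_mul]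
    let e : 𝟙_ (Over S) ⟶ Ω := Over.homMk (U := 𝟙_ (Over S))
      (pullback.lift (1 : 𝟙_ (Over S) ⟶ U).left (lift y0 (lift 1 y1)).left (congrArg Over.Hom.left he)) (by
        show _ ≫ pullback.fst _ _ ≫ U.hom = _
        rw [← Category.assoc, pullback.lift_fst]
        exact Over.w (1 : 𝟙_ (Over S) ⟶ U))
    haveI : IsImmersion v₀.left := inferInstance
    exact exists_fac_of_open (iU ≫ h) (ParNorm.isConnected_fibre U hUconn) v₀ j e
      (Over.OverMorphism.ext (pullback.lift_fst _ _ _)) (yA ≫ ψ.hom) hΩ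
  haveI : Mono v₀ := Over.mono_of_mono_left v₀
  haveI : IsMonHom f := MTSplit.isMonHom_of_comp_mono f v₀ (iU ≫ h) hf
  obtain ⟨g, hg⟩ := (hiUmem UΨ w₀).2 hw₀π
  have hgf : g ≫ f = 𝟙 UΨ := by
    rw [← cancel_mono v₀, Category.assoc, hf, reassoc_of% hg, hw₀, Category.id_comp]
  have hfg : f ≫ g = 𝟙 U := by
    rw [← cancel_mono iU, Category.assoc, hg, ← cancel_mono h, Category.assoc, hw₀, hf, Category.id_comp]
  -- closedness
  obtain ⟨r₀, hr₀⟩ := (hlmem H π).2 hπidem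
  obtain ⟨lZ, hlZ⟩ : ∃ lZ : L ⟶ Z, lZ ≫ z = l ≫ h := by
    refine ⟨l ≫ hp ≫ d.r, hom_ext_pts _ _ fun B _ f y => ?_⟩
    obtain ⟨-, h2⟩ := hlim B f (y ≫ l)
    rw [← Category.assoc (y ≫ l), Category.assoc y l π, (hlmem L l).1 ⟨𝟙 _, Category.id_comp _⟩, hc₁] at h2
    simp only [← Category.assoc]
    rw [h2, Category.assoc (((y ≫ l) ≫ hp)) d.r z, d.lim_spec, Category.assoc (y ≫ l) hp p, hhp]
  obtain ⟨aU, haU⟩ : ∃ aU : UΨ ⟶ UG, aU ≫ uG = v₀ := by
    refine hUG.exists_le v₀ fun B _ f y => ?_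
    rw [show y ≫ v₀ = (y ≫ ψ.inv) ≫ RedSub.prodMap (Red.Ga S) _ fun k => D.u (eA k) by
      rw [← hψv, Category.assoc, Iso.inv_hom_id_assoc], hc₁']
    exact prodMap_mem_USub_global mu f (fun k => F.hu (eA k)) (fun k => hmup _ (hA.2.subset ⟨k, rfl⟩)) _
  haveI : IsClosedImmersion lZ.left := by
    haveI : IsClosedImmersion (lZ.left ≫ z.left) := by rw [← Over.comp_left, hlZ]; exact hLclosed
    exact IsClosedImmersion.of_comp _ z.left
  haveI : IsClosedImmersion aU.left := by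
    haveI : IsClosedImmersion (aU.left ≫ uG.left) := by rw [← Over.comp_left, haU]; exact hv₀c
    exact IsClosedImmersion.of_comp _ uG.left
  haveI : IsClosedImmersion (lZ ⊗ₘ aU).left := isClosedImmersion_tensorHom lZ aU
  haveI := d.iso
  obtain ⟨Φ, hΦ⟩ : ∃ Φ : H ⟶ L ⊗ UΨ, Φ = lift r₀ (sU ≫ f) := ⟨_, rfl⟩
  obtain ⟨Ψ', hΨ'⟩ : ∃ Ψ' : L ⊗ UΨ ⟶ H, Ψ' = (fst _ _ ≫ l) * (snd _ _ ≫ w₀) := ⟨_, rfl⟩
  have hΨπ : Ψ' ≫ π = fst _ _ ≫ l := by
    rw [hΨ', MonObj.mul_comp, Category.assoc, (hlmem L l).1 ⟨𝟙 _, Category.id_comp _⟩, Category.assoc, hw₀π,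
      MonObj.comp_one, _root_.mul_one]
  have hfw : f ≫ w₀ = iU := by rw [← cancel_mono h, Category.assoc, hw₀, hf]
  haveI : IsIso Φ := ⟨Ψ', by
      rw [hΦ, hΨ', MonObj.comp_mul, lift_fst_assoc, lift_snd_assoc, hr₀, Category.assoc, hfw, hsU,
        mul_inv_cancel_left],
    by
      haveI : Mono w₀ := mono_of_mono_fac hw₀
      rw [hΦ]
      refine CartesianMonoidalCategory.hom_ext _ _ ?_ ?_
      · rw [Category.assoc, lift_fst, Category.id_comp, ← cancel_mono l, Category.assoc, hr₀, hΨπ]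
      · rw [Category.assoc, lift_snd, Category.id_comp, ← cancel_mono w₀, Category.assoc, Category.assoc, hfw, hsU,
          MonObj.comp_mul, GrpObj.comp_inv, Category.comp_id, hΨπ, hΨ', inv_mul_cancel_left]⟩
  haveI : IsIso Φ.left := inferInstanceAs (IsIso ((Over.forget S).map Φ))
  haveI : IsIso ((d.l ⊗ₘ d.iu) ≫ μ).left := inferInstanceAs (IsIso ((Over.forget S).map ((d.l ⊗ₘ d.iu) ≫ μ)))
  have hclosed : IsClosedImmersion h.left := by
    have e : h = ((Φ ≫ (lZ ⊗ₘ aU)) ≫ (d.l ⊗ₘ d.iu) ≫ μ) ≫ p := by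
      rw [show (d.l ⊗ₘ d.iu) ≫ μ = (fst _ _ ≫ d.l) * (snd _ _ ≫ d.iu) by rw [Hom.mul_def]; congr 1,
        MonObj.comp_mul, MonObj.mul_comp]
      simp only [Category.assoc, tensorHom_fst_assoc, tensorHom_snd_assoc, d.l_p, d.iu_p, hlZ, haU]
      rw [hΦ, lift_fst_assoc, lift_snd_assoc, reassoc_of% hr₀, Category.assoc, hf, ← Category.assoc sU, hsU,
        MonObj.mul_comp, GrpObj.inv_comp, Category.id_comp, mul_inv_cancel_left]
    rw [e]
    simp only [Over.comp_left]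
    infer_instance
  refine ⟨π, hproj, hclosed, fun U' _ u' _ _ _ hu'mem s => ?_⟩
  obtain ⟨a, ha⟩ := (hiUmem U' u').2 ((hu'mem U' u').1 ⟨𝟙 _, Category.id_comp _⟩)
  obtain ⟨b, hb⟩ := (hu'mem UΨ w₀).2 hw₀π
  have hab : (a ≫ f) ≫ b = 𝟙 U' := by
    rw [← cancel_mono u', Category.assoc, hb, Category.assoc, hfw, ha, Category.id_comp]
  have hba : b ≫ a ≫ f = 𝟙 UΨ := by
    rw [← cancel_mono v₀]
    simp only [Category.assoc, hf, Category.id_comp]
    rw [reassoc_of% ha, reassoc_of% hb, hw₀]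
  haveI : IsMonHom a := MTSplit.isMonHom_of_comp_mono a iU u' ha
  let τ := Red.geomPt s
  let E : Red.geomFibre s U' ≅ Red.geomFibre s UΨ := (Over.pullback τ).mapIso ⟨a ≫ f, b, hab, hba⟩
  haveI : IsMonHom E.hom := isMonHom_map' τ (a ≫ f)
  haveI : IsMonHom E.inv := inferInstance
  haveI : IsIso E.inv.left := inferInstanceAs (IsIso ((Over.forget _).map E.inv))
  refine ⟨?_, fun T' _ k hk hkmono hT' => ?_⟩
  · haveI : ConnectedSpace ↥(Red.geomFibre s UΨ).left := (hUΨfib s).1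
    exact E.inv.left.homeomorph.surjective.connectedSpace E.inv.left.continuous
  · haveI := hk; haveI := hkmono
    haveI : Mono (k ≫ E.hom) := mono_comp _ _
    exact (hUΨfib s).2 T' (k ≫ E.hom) hT'

end Groth.Agent.RootBase
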