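import Groth.Agent.RootBase.RCGlobal
import Groth.Agent.BorelConj.TypeRConj
import Groth.Agent.RootSys.GaBC

/-!
# The condition (RC) after a change of base, and closedness of subgroups of type (RC)
-/

set_option autoImplicit false
set_option backward.isDefEq.respectTransparency false
set_option linter.style.haveILetI false
set_option maxHeartbeats 4000000
set_option synthInstance.maxHeartbeats 400000

universe u

open CategoryTheory Limits MonoidalCategory CartesianMonoidalCategory MonObj GrpObj AlgebraicGeometry LieS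
open scoped CategoryTheory.Obj

noncomputable section

namespace Groth.Agent.RootBase

open Groth.Agent.HomDiag Groth.Agent.DynPar Groth.Agent.RootSys Groth.Agent.MTBridge

variable {S : Scheme.{u}} {G H : Over S} [GrpObj G] [GrpObj H]

/-- A factorisation after an isomorphic change of base gives a factorisation. -/
theorem exists_fac_of_isIso_bc {W : Scheme.{u}} (j : W ⟶ S) [IsIso j] {A B C : Over S} (β : B ⟶ C) (α : A ⟶ C)
    (v : Red.bc j A ⟶ Red.bc j B) (hv : v ≫ (Over.pullback j).map β = (Over.pullback j).map α) :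
    ∃ v' : A ⟶ B, v' ≫ β = α := by
  haveI : IsIso (pullback.fst A.hom j) := inferInstance
  have hB : ((Over.pullback j).map β).left ≫ pullback.fst C.hom j = pullback.fst B.hom j ≫ β.left :=
    pullback.lift_fst _ _ _
  have hA : ((Over.pullback j).map α).left ≫ pullback.fst C.hom j = pullback.fst A.hom j ≫ α.left :=
    pullback.lift_fst _ _ _
  have hvw : v.left ≫ pullback.snd B.hom j = pullback.snd A.hom j := Over.w v
  refine ⟨Over.homMk (inv (pullback.fst A.hom j) ≫ v.left ≫ pullback.fst B.hom j) ?_, Over.OverMorphism.ext ?_⟩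
  · rw [Category.assoc, Category.assoc, pullback.condition, reassoc_of% hvw, IsIso.inv_comp_eq, pullback.condition]
  · show (inv (pullback.fst A.hom j) ≫ v.left ≫ pullback.fst B.hom j) ≫ β.left = α.left
    rw [Category.assoc, Category.assoc, ← hB, ← Category.assoc v.left, ← Over.comp_left, hv, hA,
      IsIso.inv_hom_id_assoc]

set_option maxHeartbeats 8000000 in
/-- The condition on geometric fibres passes to quasi-finite schemes over the base. -/
theorem hRC_bc (hG : Red.IsReductive G) (h : H ⟶ G)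
    (hRC : ∀ (s : S) (D' : Red.SplitRed (Red.geomFibre s G)) (t' : D'.T ⟶ Red.geomFibre s H),
      t' ≫ (Over.pullback (Red.geomPt s)).map h = D'.i →
      ∀ a b c : D'.idx, (∃ v, v ≫ (Over.pullback (Red.geomPt s)).map h = D'.u a) →
        (∃ v, v ≫ (Over.pullback (Red.geomPt s)).map h = D'.u b) → D'.P.root a + D'.P.root b = D'.P.root c →
        ∃ v, v ≫ (Over.pullback (Red.geomPt s)).map h = D'.u c) {W : Scheme.{u}} (q : W ⟶ S) [LocallyQuasiFinite q]
    (w : W) (D' : Red.SplitRed (Red.geomFibre w (Red.bc q G))) (t' : D'.T ⟶ Red.geomFibre w (Red.bc q H))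
    (ht' : t' ≫ (Over.pullback (Red.geomPt w)).map ((Over.pullback q).map h) = D'.i) :
    ∀ a b c : D'.idx, (∃ v, v ≫ (Over.pullback (Red.geomPt w)).map ((Over.pullback q).map h) = D'.u a) →
      (∃ v, v ≫ (Over.pullback (Red.geomPt w)).map ((Over.pullback q).map h) = D'.u b) →
      D'.P.root a + D'.P.root b = D'.P.root c →
      ∃ v, v ≫ (Over.pullback (Red.geomPt w)).map ((Over.pullback q).map h) = D'.u c := by
  intro a b c ha hb hab
  obtain ⟨t, ht, htw⟩ := exists_geomPt_iso q w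
  haveI := ht
  let τ := inv t ≫ Red.geomPt w
  have hτ : τ ≫ q = Red.geomPt (q w) := by rw [Category.assoc, ← htw, IsIso.inv_hom_id_assoc]
  obtain ⟨e, hem, hnat, -⟩ := exists_compIso hτ
  obtain ⟨eA, heAm, heAn, -⟩ := exists_compIso (j := inv t) (p := Red.geomPt w) (ψ := τ) rfl
  haveI := hem G; haveI := hem H; haveI := heAm (Red.bc q G)
  haveI : IsMonHom (e G).inv := inferInstance
  haveI : IsMonHom (eA (Red.bc q G)).inv := inferInstance
  let φ : Red.bc (inv t) (Red.geomFibre w (Red.bc q G)) ≅ Red.geomFibre (q w) G :=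
    (eA (Red.bc q G)).symm ≪≫ (e G).symm
  let ψ : Red.bc (inv t) (Red.geomFibre w (Red.bc q H)) ≅ Red.geomFibre (q w) H :=
    (eA (Red.bc q H)).symm ≪≫ (e H).symm
  haveI : IsMonHom φ.hom := inferInstanceAs (IsMonHom ((eA (Red.bc q G)).inv ≫ (e G).inv))
  have hψ : ψ.hom ≫ (Over.pullback (Red.geomPt (q w))).map h =
      (Over.pullback (inv t)).map ((Over.pullback (Red.geomPt w)).map ((Over.pullback q).map h)) ≫ φ.hom := by
    show ((eA _).inv ≫ (e H).inv) ≫ _ = _ ≫ (eA _).inv ≫ (e G).inv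
    rw [Category.assoc, Iso.inv_comp_eq, ← reassoc_of% (heAn ((Over.pullback q).map h)), Iso.hom_inv_id_assoc,
      Iso.inv_comp_eq, ← Category.assoc, Iso.eq_comp_inv, hnat h]
  obtain ⟨D₁, e₁, eidx, he₁, hi₁, hu₁, hsum₁⟩ := exists_bc_data_sum D' (inv t)
  obtain ⟨D₂, e₂, eidx₂, he₂, hi₂, hu₂, hsum₂⟩ := exists_map_data D₁ φ (isReductive_bc _ hG)
  have hfwd : ∀ x, (∃ v, v ≫ (Over.pullback (Red.geomPt w)).map ((Over.pullback q).map h) = D'.u x) →
      ∃ v, v ≫ (Over.pullback (Red.geomPt (q w))).map h = D₂.u (eidx₂ (eidx x)) := by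
    rintro x ⟨v, hv⟩
    refine ⟨bcGa (inv t) v ≫ ψ.hom, ?_⟩
    rw [hu₂, hu₁, Category.assoc, hψ, bcGa, bcGa, Category.assoc, ← Category.assoc ((Over.pullback (inv t)).map v),
      ← Functor.map_comp, hv]
    rfl
  obtain ⟨v, hv⟩ := hRC (q w) D₂ (e₂.hom ≫ e₁.hom ≫ (Over.pullback (inv t)).map t' ≫ ψ.hom) (by
      rw [hi₂, hi₁, Category.assoc, Category.assoc, Category.assoc, hψ,
        ← Category.assoc ((Over.pullback (inv t)).map t'), ← Functor.map_comp, ht']
      simp only [Category.assoc]) _ _ (eidx₂ (eidx c)) (hfwd a ha) (hfwd b hb)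
    ((hsum₂ _ _ _).2 ((hsum₁ _ _ _).2 hab))
  haveI := isIso_gaBC (S := Spec (CommRingCat.of (AlgebraicClosure (W.residueField w)))) (inv t)
  refine exists_fac_of_isIso_bc (inv t) _ _ (inv (gaBC (inv t)) ≫ v ≫ ψ.inv) ?_
  rw [hu₂, hu₁, bcGa] at hv
  simp only [Category.assoc]
  rw [IsIso.inv_comp_eq, ← cancel_mono φ.hom]
  simp only [Category.assoc, ← hψ, Iso.inv_hom_id_assoc]
  exact hv.trans (Category.assoc _ _ _)

/-- **A subgroup of type (RC) is closed.** -/
theorem isClosedImmersion_of_typeRC (hG : Red.IsReductive G) (h : H ⟶ G) (hH : RedSub.IsTypeR h)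
    (hRC : ∀ (s : S) (D' : Red.SplitRed (Red.geomFibre s G)) (t' : D'.T ⟶ Red.geomFibre s H),
      t' ≫ (Over.pullback (Red.geomPt s)).map h = D'.i →
      ∀ a b c : D'.idx, (∃ v, v ≫ (Over.pullback (Red.geomPt s)).map h = D'.u a) →
        (∃ v, v ≫ (Over.pullback (Red.geomPt s)).map h = D'.u b) → D'.P.root a + D'.P.root b = D'.P.root c →
        ∃ v, v ≫ (Over.pullback (Red.geomPt s)).map h = D'.u c) : IsClosedImmersion h.left := by
  haveI := hG.1; haveI := hG.2.1
  have key : ∀ s : S, ∃ (W : Scheme.{u}) (f : W ⟶ S) (_ : Etale f), s ∈ Set.range f.base ∧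
      IsClosedImmersion ((Over.pullback f).map h).left := fun s => by
    obtain ⟨A, _, u, hu, ⟨a, ha⟩, -, C, _, v, hv, hvs, T, _, iT, hiT, r, ⟨E⟩⟩ :=
      Groth.Agent.S3002.result S G (RedCartan.isConnected_fibre_of_isReductive hG) s (hG.2.2 s)
    haveI := hu; haveI := hv
    obtain ⟨u₁, hu₁⟩ := hvs.surj a
    let f₁ := v ≫ u
    haveI : Etale f₁ := inferInstanceAs (Etale (v ≫ u))
    have hf₁ : f₁ u₁ = s := by rw [Scheme.Hom.comp_apply, hu₁, ha]
    have hG₁ := isReductive_bc f₁ hG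
    have hiD := RootBase.isMaximalTorus_DS hiT E
    have hH₁ := BorelConj.isTypeR_bc h hH f₁
    obtain ⟨⟨k1, k2⟩, k3, -, -, k4⟩ := id hH₁
    haveI := k1; haveI := k2; haveI := k3
    haveI : Mono ((Over.pullback f₁).map h) := Over.mono_of_mono_left _
    obtain ⟨T₀, _, t₀, -, ht₀⟩ := k4 u₁
    obtain ⟨U₂, f₂, hf₂, i₁, t₁, h₂, hi₁, ht₁⟩ :=
      BorelConj.exists_torus_le_of_mono hG₁ _ hiD ((Over.pullback f₁).map h) (Red.geomPt u₁) t₀ ht₀
    haveI := hf₂
    haveI := hG₁.1; haveI := hG₁.2.1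
    rw [MTImage.geomPt_closedPoint] at h₂
    obtain ⟨u₂, hu₂⟩ := h₂
    haveI : LocallyQuasiFinite f₁ := FpqcDescent.locallyQuasiFinite_of_etale f₁
    haveI : LocallyQuasiFinite f₂ := FpqcDescent.locallyQuasiFinite_of_etale f₂
    have hc := (exists_rcProj (isReductive_bc f₂ hG₁) i₁ hi₁ _ (BorelConj.isTypeR_bc _ hH₁ f₂) t₁ ht₁
      (hRC_bc hG₁ _ (hRC_bc hG h hRC f₁) f₂)).1
    obtain ⟨e, -, hn, -⟩ := exists_compIso (j := f₂) (p := f₁) (ψ := f₂ ≫ f₁) rfl
    refine ⟨U₂, f₂ ≫ f₁, inferInstance, ⟨u₂, ?_⟩, ?_⟩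
    · exact (Scheme.Hom.comp_apply _ f₁ _).trans ((congrArg f₁ hu₂).trans hf₁)
    · haveI : IsIso (e G).inv.left := inferInstanceAs (IsIso ((Over.forget _).map (e G).inv))
      haveI : IsIso (e H).hom.left := inferInstanceAs (IsIso ((Over.forget _).map (e H).hom))
      have e1 : (Over.pullback (f₂ ≫ f₁)).map h =
          (e H).hom ≫ (Over.pullback f₂).map ((Over.pullback f₁).map h) ≫ (e G).inv := by
        rw [← reassoc_of% (hn h), Iso.hom_inv_id, Category.comp_id]
      rw [e1, Over.comp_left, Over.comp_left]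
      haveI := hc
      infer_instance
  choose W f hf hs hc using key
  haveI := hf
  exact isClosedImmersion_of_etale h W f hs hc

end Groth.Agent.RootBase
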