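import Groth.Agent.RootBase.PtsCover
import Groth.Agent.RootBase.PinSys
import Groth.Agent.RootBase.Chev

/-!
# Root groups generated by two root groups
-/

set_option autoImplicit false
set_option backward.isDefEq.respectTransparency false
set_option linter.style.haveILetI false
set_option maxHeartbeats 1000000
set_option synthInstance.maxHeartbeats 400000

universe u

open CategoryTheory Limits MonoidalCategory CartesianMonoidalCategory MonObj GrpObj AlgebraicGeometry LieS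
open scoped CategoryTheory.Obj

noncomputable section

namespace Groth.Agent.RootBase

open Groth.Agent.HomDiag Groth.Agent.DynPar Groth.Agent.RootSys Groth.Agent.MTBridge

variable {S : Scheme.{u}} {G : Over S} [GrpObj G]

/-- The value of a root homomorphism at a coordinate. -/
def ev (v : Red.Ga S ⟶ G) {X : Over S} (r : Γ(X.left, ⊤)) : X ⟶ G := BGaNotS.gaPt r ≫ v

theorem comp_eq_ev (v : Red.Ga S ⟶ G) {X : Over S} (z : X ⟶ Red.Ga S) : z ≫ v = ev v (Red.gaFn z) :=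
  congrArg (· ≫ v) (BGaNotS.gaPt_ext (BGaNotS.gaFn_gaPt _).symm)

theorem comp_ev (v : Red.Ga S ⟶ G) {X Y : Over S} (q : Y ⟶ X) (r : Γ(X.left, ⊤)) :
    q ≫ ev v r = ev v (q.left.appTop r) := by
  rw [ev, ← Category.assoc, comp_eq_ev, BGaNotS.gaFn_comp, BGaNotS.gaFn_gaPt]

theorem ev_add (v : Red.Ga S ⟶ G) [IsMonHom v] {X : Over S} (r s : Γ(X.left, ⊤)) :
    ev v (r + s) = ev v r * ev v s := by
  show _ = (BGaNotS.gaPt r ≫ v) * (BGaNotS.gaPt s ≫ v)
  rw [← MonObj.mul_comp, comp_eq_ev v (_ * _), BGaNotS.gaFn_mul, BGaNotS.gaFn_gaPt, BGaNotS.gaFn_gaPt]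

theorem ev_zero (v : Red.Ga S ⟶ G) [IsMonHom v] {X : Over S} : ev v (0 : Γ(X.left, ⊤)) = 1 := by
  have h := ev_add v (0 : Γ(X.left, ⊤)) 0
  rw [add_zero] at h
  exact mul_eq_left.1 h.symm

theorem ev_neg (v : Red.Ga S ⟶ G) [IsMonHom v] {X : Over S} (r : Γ(X.left, ⊤)) : ev v (-r) = (ev v r)⁻¹ :=
  eq_inv_of_mul_eq_one_left (by rw [← ev_add, neg_add_cancel, ev_zero])

/-- A root group lies in a family of subgroups of points. -/
def PtsGroup.Has (Q : PtsGroup G) (v : Red.Ga S ⟶ G) : Prop :=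
  ∀ (X : Over S) (r : Γ(X.left, ⊤)), ev v r ∈ Q.mem X

theorem PtsGroup.Has.comp' {Q : PtsGroup G} {v : Red.Ga S ⟶ G} (h : Q.Has v) {X : Over S} (z : X ⟶ Red.Ga S) :
    z ≫ v ∈ Q.mem X := by rw [comp_eq_ev]; exact h X _

theorem isUnit_app {X : Over S} {κ : Γ(S, ⊤)} (h : Sgn κ) : IsUnit (X.hom.appTop κ) :=
  (IsUnit.of_mul_eq_one κ h.sq_eq_one).map X.hom.appTop.hom

variable {M : Type} [AddCommGroup M] [Module.Free ℤ M] [Module.Finite ℤ M]
  {c : Red.DS S M ⟶ G} {idx : Type} [Fintype idx] {P : RootPairing idx ℤ M (Module.Dual ℤ M)} [P.IsReduced]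
  {u : idx → (Red.Ga S ⟶ G)}

theorem li_of_det {a b d e : idx} (hli : ∀ x y : ℤ, x • P.root a + y • P.root b = 0 → x = 0 ∧ y = 0)
    {i j i' j' : ℤ} (hd : P.root d = i • P.root a + j • P.root b) (he : P.root e = i' • P.root a + j' • P.root b)
    (hdet : i * j' - i' * j ≠ 0) : ∀ x y : ℤ, x • P.root d + y • P.root e = 0 → x = 0 ∧ y = 0 := by
  intro x y h
  rw [hd, he] at h
  obtain ⟨h1, h2⟩ := hli (x * i + y * i') (x * j + y * j') (by rw [← h]; module)
  constructor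
  · refine (mul_eq_zero.1 (?_ : x * (i * j' - i' * j) = 0)).resolve_right hdet
    linear_combination j' * h1 - i' * h2
  · refine (mul_eq_zero.1 (?_ : y * (i * j' - i' * j) = 0)).resolve_right hdet
    linear_combination i * h2 - j * h1

/-- The word of a formula in coordinates. -/
theorem Formula.word_ev {a b : idx} {n : ℕ} {e : Fin n → idx} {i j : Fin n → ℕ} {C : Fin n → Γ(S, ⊤)}
    (hf : Formula P u a b e i j C) {X : Over S} (x y : Γ(X.left, ⊤)) :
    (ev (u b) y)⁻¹ * (ev (u a) x * ev (u b) y * (ev (u a) x)⁻¹) =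
      (List.ofFn fun k => ev (u (e k)) (X.hom.appTop (C k) * x ^ (i k) * y ^ (j k))).prod :=
  hf.eq X (BGaNotS.gaPt x) (BGaNotS.gaPt y) _ fun k => by
    rw [BGaNotS.gaFn_gaPt, BGaNotS.gaFn_gaPt, BGaNotS.gaFn_gaPt]

theorem Formula.word_mem {a b : idx} {n : ℕ} {e : Fin n → idx} {i j : Fin n → ℕ} {C : Fin n → Γ(S, ⊤)}
    (hf : Formula P u a b e i j C) {Q : PtsGroup G} (ha : Q.Has (u a)) (hb : Q.Has (u b)) {X : Over S}
    (x y : Γ(X.left, ⊤)) :
    (List.ofFn fun k => ev (u (e k)) (X.hom.appTop (C k) * x ^ (i k) * y ^ (j k))).prod ∈ Q.mem X := by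
  rw [← hf.word_ev x y]
  exact mul_mem (inv_mem (hb X y)) (mul_mem (mul_mem (ha X x) (hb X y)) (inv_mem (ha X x)))

theorem combine2 {H : Type*} [Group H] (A B B' : H) : (A * B)⁻¹ * (A * B') = B⁻¹ * B' := by group

theorem combine4 {H : Type*} [Group H] {B C D B' C' D' : H} (A : H) (h1 : C * B' = B' * C) (h2 : D * B' = B' * D)
    (h3 : D * C' = C' * D) (h4 : C * B = B * C) (h5 : D * B = B * D) (h6 : D * C = C * D) :
    (A * (B * (C * D)))⁻¹ * (A * (B' * (C' * D'))) = (B⁻¹ * B') * ((C⁻¹ * C') * (D⁻¹ * D')) := by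
  have e1 : C⁻¹ * (B⁻¹ * B') = (B⁻¹ * B') * C⁻¹ :=
    (((show Commute C B from h4).inv_right.mul_right h1).inv_left).eq
  have e2 : D⁻¹ * (B⁻¹ * B') = (B⁻¹ * B') * D⁻¹ :=
    (((show Commute D B from h5).inv_right.mul_right h2).inv_left).eq
  have e3 : D⁻¹ * (C⁻¹ * C') = (C⁻¹ * C') * D⁻¹ :=
    (((show Commute D C from h6).inv_right.mul_right h3).inv_left).eq
  calc (A * (B * (C * D)))⁻¹ * (A * (B' * (C' * D'))) = D⁻¹ * (C⁻¹ * (B⁻¹ * B')) * (C' * D') := by group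
    _ = D⁻¹ * ((B⁻¹ * B') * C⁻¹) * (C' * D') := by rw [e1]
    _ = (D⁻¹ * (B⁻¹ * B')) * (C⁻¹ * C') * D' := by group
    _ = ((B⁻¹ * B') * D⁻¹) * (C⁻¹ * C') * D' := by rw [e2]
    _ = (B⁻¹ * B') * (D⁻¹ * (C⁻¹ * C')) * D' := by group
    _ = (B⁻¹ * B') * ((C⁻¹ * C') * D⁻¹) * D' := by rw [e3]
    _ = _ := by group

theorem word_central {H : Type*} [Group H] {E C D : H} (h : D * E = E * D) :
    (C * D)⁻¹ * (E * (C * D) * E⁻¹) = D⁻¹ * (C⁻¹ * (E * C * E⁻¹)) * D := by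
  have e : D * E⁻¹ = E⁻¹ * D := ((show Commute D E from h).inv_right).eq
  calc (C * D)⁻¹ * (E * (C * D) * E⁻¹) = D⁻¹ * C⁻¹ * E * C * (D * E⁻¹) := by group
    _ = D⁻¹ * C⁻¹ * E * C * (E⁻¹ * D) := by rw [e]
    _ = _ := by group

variable {Q : PtsGroup G}

/-- One root. -/
theorem Frame.plane_one (F : Frame c P.root u) (hC : IsChevalley P u) {a b t : idx}
    (hli : ∀ x y : ℤ, x • P.root a + y • P.root b = 0 → x = 0 ∧ y = 0)
    (hbot : P.root b - P.root a ∉ Set.range P.root) (ht : P.root t = P.root a + P.root b)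
    (hall : ∀ (d : idx) (p q : ℕ), 1 ≤ p → 1 ≤ q → P.root d = (p : ℤ) • P.root a + (q : ℤ) • P.root b → d = t)
    (ha : Q.Has (u a)) (hb : Q.Has (u b)) : Q.Has (u t) := by
  obtain ⟨C, hf⟩ := F.exists_formula' hli ![t] ![1] ![1] (Function.injective_of_subsingleton _)
    (fun k => ⟨le_of_eq (by fin_cases k; rfl), le_of_eq (by fin_cases k; rfl), by fin_cases k; simp [ht]⟩)
    fun d p q hp hq hd => ⟨0, (hall d p q hp hq hd).symm⟩
  obtain ⟨κ, hκ, hκc⟩ := F.coef_one hC hli hbot ht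
  have hC0 : C 0 = κ := F.coef_eq hli (by simp [ht]) (hf.isCoef 0 rfl) hκc
  intro X r
  obtain ⟨v, hv⟩ := isUnit_app (X := X) hκ
  have h := hf.word_mem ha hb (X := X) (((v⁻¹ : (Γ(X.left, ⊤))ˣ) : Γ(X.left, ⊤)) * r) 1
  simpa [List.ofFn_succ, hC0, ← hv, ← mul_assoc] using h

/-- Two roots. -/
theorem Frame.plane_two (F : Frame c P.root u) (hC : IsChevalley P u) {a b t₁ t₂ : idx}
    (hli : ∀ x y : ℤ, x • P.root a + y • P.root b = 0 → x = 0 ∧ y = 0)
    (hbot : P.root b - P.root a ∉ Set.range P.root) (ht₁ : P.root t₁ = P.root a + P.root b)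
    (ht₂ : P.root t₂ = (2 : ℤ) • P.root a + P.root b)
    (hall : ∀ (d : idx) (p q : ℕ), 1 ≤ p → 1 ≤ q → P.root d = (p : ℤ) • P.root a + (q : ℤ) • P.root b →
      (p = 1 ∧ q = 1) ∨ (p = 2 ∧ q = 1))
    (ha : Q.Has (u a)) (hb : Q.Has (u b)) : Q.Has (u t₁) ∧ Q.Has (u t₂) := by
  haveI := (F.hu t₁).1
  haveI := (F.hu t₂).1
  have hne : Function.Injective (![t₁, t₂] : Fin 2 → idx) := by
    have h12 : t₁ ≠ t₂ := fun h => by
      rw [h, ht₂] at ht₁
      obtain ⟨h1, -⟩ := hli 1 0 (by linear_combination (norm := module) ht₁)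
      omega
    intro p q; fin_cases p <;> fin_cases q <;> simp [h12, h12.symm]
  obtain ⟨C, hf⟩ := F.exists_formula' hli ![t₁, t₂] ![1, 2] ![1, 1] hne
    (fun k => ⟨by fin_cases k <;> simp, by fin_cases k <;> simp, by fin_cases k <;> simp [ht₁, ht₂]⟩)
    fun d p q hp hq hd => by
      rcases hall d p q hp hq hd with ⟨rfl, rfl⟩ | ⟨rfl, rfl⟩
      · exact ⟨0, P.root.injective (by simp [hd, ht₁])⟩
      · exact ⟨1, P.root.injective (by simp [hd, ht₂])⟩
  obtain ⟨κ₁, hκ₁, hκ₁c⟩ := F.coef_one hC hli hbot ht₁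
  obtain ⟨κ₂, hκ₂, hκ₂c⟩ := F.coef_bottom hC hli hbot (i := 2) one_le_two (by rw [ht₂]; rfl)
  have hC₁ : C 0 = κ₁ := F.coef_eq hli (by simp [ht₁]) (hf.isCoef 0 rfl) hκ₁c
  have hC₂ : C 1 = κ₂ := F.coef_eq hli (by simp [ht₂]) (hf.isCoef 1 rfl) hκ₂c
  have hW : ∀ (X : Over S) (x y : Γ(X.left, ⊤)),
      ev (u t₁) (X.hom.appTop κ₁ * x * y) * ev (u t₂) (X.hom.appTop κ₂ * x ^ 2 * y) ∈ Q.mem X := fun X x y => by
    have h := hf.word_mem ha hb (X := X) x y
    simpa [List.ofFn_succ, hC₁, hC₂] using h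
  have h2 : Q.Has (u t₂) := fun X r => by
    obtain ⟨X', q, e, -, hfl, hsu, hqc, he, he', -, -, -⟩ := exists_two_units X
    haveI := hfl; haveI := hsu; haveI := hqc
    refine Q.descent q ?_
    rw [comp_ev]
    obtain ⟨v, hv⟩ := ((isUnit_app (X := X') hκ₂).mul he).mul he'
    have h := mul_mem (inv_mem (hW X' 1 (e * (((v⁻¹ : (Γ(X'.left, ⊤))ˣ) : Γ(X'.left, ⊤)) * q.left.appTop r))))
      (hW X' e (((v⁻¹ : (Γ(X'.left, ⊤))ˣ) : Γ(X'.left, ⊤)) * q.left.appTop r))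
    rw [_root_.mul_one, _root_.mul_assoc (X'.hom.appTop κ₁) e, combine2, ← ev_neg, ← ev_add] at h
    convert h using 2
    linear_combination (-(q.left.appTop r)) * Units.mul_inv v +
      (((v⁻¹ : (Γ(X'.left, ⊤))ˣ) : Γ(X'.left, ⊤)) * q.left.appTop r) * hv
  refine ⟨fun X r => ?_, h2⟩
  obtain ⟨v, hv⟩ := isUnit_app (X := X) hκ₁
  have h := mul_mem (hW X (((v⁻¹ : (Γ(X.left, ⊤))ˣ) : Γ(X.left, ⊤)) * r) 1)
    (inv_mem (h2 X (X.hom.appTop κ₂ * (((v⁻¹ : (Γ(X.left, ⊤))ˣ) : Γ(X.left, ⊤)) * r) ^ 2 * 1)))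
  rw [mul_inv_cancel_right] at h
  convert h using 2
  linear_combination (-r) * Units.mul_inv v + (((v⁻¹ : (Γ(X.left, ⊤))ˣ) : Γ(X.left, ⊤)) * r) * hv

/-- Four roots. -/
theorem Frame.plane_three (F : Frame c P.root u) (hC : IsChevalley P u) {a b t₁ t₂ t₃ t₄ : idx}
    (hli : ∀ x y : ℤ, x • P.root a + y • P.root b = 0 → x = 0 ∧ y = 0)
    (hbot : P.root b - P.root a ∉ Set.range P.root) (ht₁ : P.root t₁ = P.root a + P.root b)
    (ht₂ : P.root t₂ = (2 : ℤ) • P.root a + P.root b) (ht₃ : P.root t₃ = (3 : ℤ) • P.root a + P.root b)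
    (ht₄ : P.root t₄ = (3 : ℤ) • P.root a + (2 : ℤ) • P.root b)
    (hall : ∀ (d : idx) (p q : ℕ), 1 ≤ p → 1 ≤ q → P.root d = (p : ℤ) • P.root a + (q : ℤ) • P.root b →
      (q = 1 ∧ p ≤ 3) ∨ (p = 3 ∧ q = 2))
    (ha : Q.Has (u a)) (hb : Q.Has (u b)) :
    Q.Has (u t₁) ∧ Q.Has (u t₂) ∧ Q.Has (u t₃) ∧ Q.Has (u t₄) := by
  haveI := (F.hu t₁).1
  haveI := (F.hu t₂).1
  haveI := (F.hu t₃).1
  haveI := (F.hu t₄).1
  have hno : ∀ (p q : ℕ), 1 ≤ p → 1 ≤ q → ¬((q = 1 ∧ p ≤ 3) ∨ (p = 3 ∧ q = 2)) →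
      (p : ℤ) • P.root a + (q : ℤ) • P.root b ∉ Set.range P.root :=
    fun p q hp hq h ⟨d, hd⟩ => h (hall d p q hp hq hd)
  have ht₂' : P.root t₂ = (2 : ℤ) • P.root a + (1 : ℤ) • P.root b := by rw [ht₂, one_smul]
  have ht₃' : P.root t₃ = (3 : ℤ) • P.root a + (1 : ℤ) • P.root b := by rw [ht₃, one_smul]
  have hb' : P.root b = (0 : ℤ) • P.root a + (1 : ℤ) • P.root b := by rw [zero_smul, one_smul, zero_add]
  have c23 : ∀ (X : Over S) (r s : Γ(X.left, ⊤)), ev (u t₃) r * ev (u t₂) s = ev (u t₂) s * ev (u t₃) r :=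
    fun X r s => F.commute (li_of_det hli ht₃' ht₂' (by norm_num))
      (by rw [ht₂, ht₃]; convert hno 5 2 (by omega) (by omega) (by omega) using 2; push_cast; module) _ _
  have c24 : ∀ (X : Over S) (r s : Γ(X.left, ⊤)), ev (u t₄) r * ev (u t₂) s = ev (u t₂) s * ev (u t₄) r :=
    fun X r s => F.commute (li_of_det hli ht₄ ht₂' (by norm_num))
      (by rw [ht₂, ht₄]; convert hno 5 3 (by omega) (by omega) (by omega) using 2; push_cast; module) _ _
  have c34 : ∀ (X : Over S) (r s : Γ(X.left, ⊤)), ev (u t₄) r * ev (u t₃) s = ev (u t₃) s * ev (u t₄) r :=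
    fun X r s => F.commute (li_of_det hli ht₄ ht₃' (by norm_num))
      (by rw [ht₃, ht₄]; convert hno 6 3 (by omega) (by omega) (by omega) using 2; push_cast; module) _ _
  have cb4 : ∀ (X : Over S) (r s : Γ(X.left, ⊤)), ev (u t₄) r * ev (u b) s = ev (u b) s * ev (u t₄) r :=
    fun X r s => F.commute (li_of_det hli ht₄ hb' (by norm_num))
      (by rw [ht₄]; convert hno 3 3 (by omega) (by omega) (by omega) using 2; push_cast; module) _ _
  have hne : Function.Injective (![t₁, t₂, t₃, t₄] : Fin 4 → idx) := by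
    have key : ∀ (p q p' q' : ℤ) {x y : idx}, P.root x = p • P.root a + q • P.root b →
        P.root y = p' • P.root a + q' • P.root b → x = y → p = p' ∧ q = q' := fun p q p' q' x y hx hy e => by
      obtain ⟨h1, h2⟩ := hli (p - p') (q - q') (by rw [sub_smul, sub_smul, ← sub_eq_zero.2 (hx.symm.trans (e ▸ hy))]; module)
      omega
    have ht₁' : P.root t₁ = (1 : ℤ) • P.root a + (1 : ℤ) • P.root b := by rw [ht₁, one_smul, one_smul]
    intro p q hpq
    fin_cases p <;> fin_cases q <;> first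
      | rfl
      | (exfalso; simp at hpq; first
          | (have h := key _ _ _ _ ht₁' ht₂' hpq; omega) | (have h := key _ _ _ _ ht₂' ht₁' hpq; omega)
          | (have h := key _ _ _ _ ht₁' ht₃' hpq; omega) | (have h := key _ _ _ _ ht₃' ht₁' hpq; omega)
          | (have h := key _ _ _ _ ht₁' ht₄ hpq; omega) | (have h := key _ _ _ _ ht₄ ht₁' hpq; omega)
          | (have h := key _ _ _ _ ht₂' ht₃' hpq; omega) | (have h := key _ _ _ _ ht₃' ht₂' hpq; omega)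
          | (have h := key _ _ _ _ ht₂' ht₄ hpq; omega) | (have h := key _ _ _ _ ht₄ ht₂' hpq; omega)
          | (have h := key _ _ _ _ ht₃' ht₄ hpq; omega) | (have h := key _ _ _ _ ht₄ ht₃' hpq; omega))
  obtain ⟨C, hf⟩ := F.exists_formula' hli ![t₁, t₂, t₃, t₄] ![1, 2, 3, 3] ![1, 1, 1, 2] hne
    (fun k => ⟨by fin_cases k <;> simp, by fin_cases k <;> simp, by
      fin_cases k <;> simp [ht₁, ht₂, ht₃, ht₄]⟩)
    fun d p q hp hq hd => by
      rcases hall d p q hp hq hd with ⟨rfl, hp3⟩ | ⟨rfl, rfl⟩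
      · interval_cases p
        · exact ⟨0, P.root.injective (by simp [hd, ht₁])⟩
        · exact ⟨1, P.root.injective (by simp [hd, ht₂])⟩
        · exact ⟨2, P.root.injective (by simp [hd, ht₃])⟩
      · exact ⟨3, P.root.injective (by simp [hd, ht₄])⟩
  obtain ⟨κ₁, hκ₁, hκ₁c⟩ := F.coef_one hC hli hbot ht₁
  obtain ⟨κ₂, hκ₂, hκ₂c⟩ := F.coef_bottom hC hli hbot (i := 2) one_le_two (by rw [ht₂]; rfl)
  obtain ⟨κ₃, hκ₃, hκ₃c⟩ := F.coef_bottom hC hli hbot (i := 3) (by omega) (by rw [ht₃]; rfl)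
  have hC₁ : C 0 = κ₁ := F.coef_eq hli (by simp [ht₁]) (hf.isCoef 0 rfl) hκ₁c
  have hC₂ : C 1 = κ₂ := F.coef_eq hli (by simp [ht₂]) (hf.isCoef 1 rfl) hκ₂c
  have hC₃ : C 2 = κ₃ := F.coef_eq hli (by simp [ht₃]) (hf.isCoef 2 rfl) hκ₃c
  have hW : ∀ (X : Over S) (x y : Γ(X.left, ⊤)),
      ev (u t₁) (X.hom.appTop κ₁ * x * y) * (ev (u t₂) (X.hom.appTop κ₂ * x ^ 2 * y) *
        (ev (u t₃) (X.hom.appTop κ₃ * x ^ 3 * y) * ev (u t₄) (X.hom.appTop (C 3) * x ^ 3 * y ^ 2))) ∈ Q.mem X :=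
    fun X x y => by
      have h := hf.word_mem ha hb (X := X) x y
      simpa [List.ofFn_succ, hC₁, hC₂, hC₃] using h
  -- prescribed coordinates at the two middle roots
  have hmid : ∀ (X : Over S) (x₁ x₂ : Γ(X.left, ⊤)), IsUnit x₁ → IsUnit (x₁ - 1) → IsUnit x₂ → IsUnit (x₂ - 1) →
      IsUnit (x₂ - x₁) → ∀ r s : Γ(X.left, ⊤), ∃ w, ev (u t₂) r * ev (u t₃) s * ev (u t₄) w ∈ Q.mem X := by
    intro X x₁ x₂ h1 h1' h2 h2' h12 r s
    obtain ⟨v, hv⟩ := ((((((isUnit_app (X := X) hκ₂).mul (isUnit_app (X := X) hκ₃)).mul h1).mul h1').mul h2).mul h2').mul h12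
    have hh : ∀ (x y : Γ(X.left, ⊤)), ∃ w, ev (u t₂) (X.hom.appTop κ₂ * (x ^ 2 - x) * y) *
        ev (u t₃) (X.hom.appTop κ₃ * (x ^ 3 - x) * y) * ev (u t₄) w ∈ Q.mem X := fun x y => by
      refine ⟨X.hom.appTop (C 3) * x ^ 3 * y ^ 2 - X.hom.appTop (C 3) * (x * y) ^ 2, ?_⟩
      have h := mul_mem (inv_mem (hW X 1 (x * y))) (hW X x y)
      rw [show X.hom.appTop κ₁ * 1 * (x * y) = X.hom.appTop κ₁ * x * y by ring,
        combine4 _ (c23 X _ _) (c24 X _ _) (c34 X _ _) (c23 X _ _) (c24 X _ _) (c34 X _ _),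
        ← ev_neg, ← ev_neg, ← ev_neg, ← ev_add, ← ev_add, ← ev_add, ← _root_.mul_assoc] at h
      convert h using 4 <;> ring
    let i := ((v⁻¹ : (Γ(X.left, ⊤))ˣ) : Γ(X.left, ⊤))
    obtain ⟨w₁, m₁⟩ := hh x₁ ((r * (X.hom.appTop κ₃ * (x₂ ^ 3 - x₂)) - s * (X.hom.appTop κ₂ * (x₂ ^ 2 - x₂))) * i)
    obtain ⟨w₂, m₂⟩ := hh x₂ ((s * (X.hom.appTop κ₂ * (x₁ ^ 2 - x₁)) - r * (X.hom.appTop κ₃ * (x₁ ^ 3 - x₁))) * i)
    refine ⟨w₁ + w₂, ?_⟩
    have h := mul_mem m₁ m₂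
    have e : ∀ (p q p' q' : Γ(X.left, ⊤)), ev (u t₂) p * ev (u t₃) q * ev (u t₄) w₁ *
        (ev (u t₂) p' * ev (u t₃) q' * ev (u t₄) w₂) =
          ev (u t₂) (p + p') * ev (u t₃) (q + q') * ev (u t₄) (w₁ + w₂) := fun p q p' q' => by
      rw [ev_add, ev_add, ev_add]
      calc _ = ev (u t₂) p * ev (u t₃) q * (ev (u t₄) w₁ * ev (u t₂) p') * ev (u t₃) q' * ev (u t₄) w₂ := by group
        _ = ev (u t₂) p * (ev (u t₃) q * ev (u t₂) p') * (ev (u t₄) w₁ * ev (u t₃) q') * ev (u t₄) w₂ := by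
          rw [c24]; group
        _ = _ := by rw [c34, c23]; group
    rw [e] at h
    convert h using 4
    · linear_combination (-r) * Units.mul_inv v + (r * i) * hv
    · linear_combination (-s) * Units.mul_inv v + (s * i) * hv
  have hmid' : ∀ (X : Over S) (r s : Γ(X.left, ⊤)), ∃ (X' : Over S) (q : X' ⟶ X) (w : Γ(X'.left, ⊤)),
      Flat q.left ∧ Surjective q.left ∧ QuasiCompact q.left ∧
        ev (u t₂) (q.left.appTop r) * ev (u t₃) (q.left.appTop s) * ev (u t₄) w ∈ Q.mem X' := fun X r s => by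
    obtain ⟨X', q, x₁, x₂, hfl, hsu, hqc, h1, h1', h2, h2', h12⟩ := exists_two_units X
    obtain ⟨w, hw⟩ := hmid X' x₁ x₂ h1 h1' h2 h2' h12 (q.left.appTop r) (q.left.appTop s)
    exact ⟨X', q, w, hfl, hsu, hqc, hw⟩
  -- the last root
  have hlib : ∀ x y : ℤ, x • P.root b + y • P.root t₃ = 0 → x = 0 ∧ y = 0 :=
    li_of_det hli hb' ht₃' (by norm_num)
  have hbot3 : P.root t₃ - P.root b ∉ Set.range P.root := fun ⟨d, hd⟩ =>
    not_multiple P (d := a) (e := d) (q := 3) (by omega) (by rw [hd, ht₃]; module)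
  have ht₄' : P.root t₄ = P.root b + P.root t₃ := by rw [ht₄, ht₃]; module
  obtain ⟨C', hf'⟩ := F.exists_formula' hlib ![t₄] ![1] ![1] (Function.injective_of_subsingleton _)
    (fun k => ⟨le_of_eq (by fin_cases k; rfl), le_of_eq (by fin_cases k; rfl), by fin_cases k; simp [ht₄']⟩)
    fun d p q hp hq hd => by
      rcases hall d (3 * q) (p + q) (by omega) (by omega) (by rw [hd, ht₃]; push_cast; module) with h | h
      · omega
      · exact ⟨0, P.root.injective (by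
          rw [hd, show p = 1 by omega, show q = 1 by omega]; simp [ht₄'])⟩
  obtain ⟨κ₄, hκ₄, hκ₄c⟩ := F.coef_one hC hlib hbot3 ht₄'
  have hC₄ : C' 0 = κ₄ := F.coef_eq hlib (by simp [ht₄']) (hf'.isCoef 0 rfl) hκ₄c
  have h4 : Q.Has (u t₄) := fun X r => by
    obtain ⟨v, hv⟩ := isUnit_app (X := X) hκ₄
    obtain ⟨X', q, w, hfl, hsu, hqc, hm⟩ := hmid' X 0 (((v⁻¹ : (Γ(X.left, ⊤))ˣ) : Γ(X.left, ⊤)) * r)
    haveI := hfl; haveI := hsu; haveI := hqc
    refine Q.descent q ?_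
    rw [map_zero, ev_zero, _root_.one_mul] at hm
    have h := mul_mem (inv_mem hm) (mul_mem (mul_mem (hb X' 1) hm) (inv_mem (hb X' 1)))
    rw [word_central (cb4 X' _ _), hf'.word_ev] at h
    simp only [List.ofFn_succ, List.ofFn_zero, List.prod_cons, List.prod_nil, _root_.mul_one, hC₄,
      Matrix.cons_val_fin_one, pow_one] at h
    rw [← ev_neg, ← ev_add, ← ev_add] at h
    rw [comp_ev]
    convert h using 2
    rw [show -w + X'.hom.appTop κ₄ * q.left.appTop (((v⁻¹ : (Γ(X.left, ⊤))ˣ) : Γ(X.left, ⊤)) * r) + w =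
      X'.hom.appTop κ₄ * q.left.appTop (((v⁻¹ : (Γ(X.left, ⊤))ˣ) : Γ(X.left, ⊤)) * r) by ring]
    rw [show X'.hom.appTop κ₄ = q.left.appTop (v : Γ(X.left, ⊤)) by
      rw [hv, ← CommRingCat.comp_apply, ← Scheme.Hom.comp_appTop, Over.w q], ← map_mul, ← _root_.mul_assoc,
      Units.mul_inv, _root_.one_mul]
  have hpair : ∀ (X : Over S) (r s : Γ(X.left, ⊤)), ev (u t₂) r * ev (u t₃) s ∈ Q.mem X := fun X r s => by
    obtain ⟨X', q, w, hfl, hsu, hqc, hm⟩ := hmid' X r s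
    haveI := hfl; haveI := hsu; haveI := hqc
    refine Q.descent q ?_
    rw [MonObj.comp_mul, comp_ev, comp_ev]
    exact (Subgroup.mul_mem_cancel_right _ (h4 X' w)).1 hm
  have h2 : Q.Has (u t₂) := fun X r => by simpa [ev_zero] using hpair X r 0
  have h3 : Q.Has (u t₃) := fun X r => by simpa [ev_zero] using hpair X 0 r
  refine ⟨fun X r => ?_, h2, h3, h4⟩
  obtain ⟨v, hv⟩ := isUnit_app (X := X) hκ₁
  have h := hW X (((v⁻¹ : (Γ(X.left, ⊤))ˣ) : Γ(X.left, ⊤)) * r) 1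
  have h' := (Subgroup.mul_mem_cancel_right _ (mul_mem (h2 X _) (mul_mem (h3 X _) (h4 X _)))).1 h
  convert h' using 2
  linear_combination (-r) * Units.mul_inv v + (((v⁻¹ : (Γ(X.left, ⊤))ˣ) : Γ(X.left, ⊤)) * r) * hv

/-- **The root groups of the roots of a plane between two roots.** -/
theorem Frame.plane_has (F : Frame c P.root u) (hC : IsChevalley P u) (hcor : ∀ x y, P.coroot x (P.root y) = P.pairing y x)
    {a b d : idx} (hli : ∀ x y : ℤ, x • P.root a + y • P.root b = 0 → x = 0 ∧ y = 0)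
    (hbot : P.root b - P.root a ∉ Set.range P.root) {i j : ℕ} (hi : 1 ≤ i) (hj : 1 ≤ j)
    (hd : P.root d = (i : ℤ) • P.root a + (j : ℤ) • P.root b) (ha : Q.Has (u a)) (hb : Q.Has (u b)) :
    Q.Has (u d) := by
  obtain ⟨p₀, q₀, hpq, hle, htop, hb₀⟩ := exists_chain P hli
  obtain rfl : p₀ = 0 := by
    by_contra h
    obtain ⟨e, he⟩ := (hb₀ 1).2 (by omega)
    exact hbot ⟨e, by rw [he]; module⟩
  have hbot' : P.root a - P.root b ∉ Set.range P.root := fun h => hbot (by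
    rw [← neg_sub]; exact P.neg_mem_range_root_iff.2 h)
  have h1 := P.pairingIn_pairingIn_mem_set_of_isCrystal_of_isRed' (i := a) (j := b)
    (fun h => by obtain ⟨h2, -⟩ := hli 1 (-1) (by rw [h]; module); omega)
    (fun h => by obtain ⟨h2, -⟩ := hli 1 1 (by rw [h]; module); omega)
  simp only [pairingIn_int, Set.mem_insert_iff, Set.mem_singleton_iff, Prod.mk.injEq] at h1
  obtain ⟨p₁, q₁, hpq₁, hle₁, htop₁, hb₁⟩ := exists_chain P (li_symm P hli)
  obtain rfl : p₁ = 0 := by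
    by_contra h
    obtain ⟨e, he⟩ := (hb₁ 1).2 (by omega)
    exact hbot' ⟨e, by rw [he]; module⟩
  have main : ∀ (x y t : idx), (∀ r s : ℤ, r • P.root x + s • P.root y = 0 → r = 0 ∧ s = 0) →
      P.root y - P.root x ∉ Set.range P.root → P.pairing x y = max (P.pairing y x) (-1) →
      (P.pairing y x = 0 ∨ P.pairing y x = -1 ∨ P.pairing y x = -2 ∨ P.pairing y x = -3) →
      ∀ (k l : ℕ), 1 ≤ k → 1 ≤ l → P.root t = (k : ℤ) • P.root x + (l : ℤ) • P.root y →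
      Q.Has (u x) → Q.Has (u y) → Q.Has (u t) := by
    intro x y t hxy hby hm hk k l hk1 hl1 ht hx hy
    have hco : ∀ (e : idx) (p q : ℕ), 1 ≤ p → 1 ≤ q → P.root e = (p : ℤ) • P.root x + (q : ℤ) • P.root y →
        ((q : ℤ) = 1 ∧ (p : ℤ) ≤ -P.pairing y x) ∨ ((p = 3 ∧ q = 2) ∧ P.pairing y x = -3) :=
      fun e p q hp hq he => combos hxy hby hk rfl hm hp hq he
    have hkl := hco t k l hk1 hl1 ht
    obtain ⟨p', q', hpq', -, htop', hb'⟩ := exists_chain P hxy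
    obtain rfl : p' = 0 := by
      by_contra h
      obtain ⟨e, he⟩ := (hb' 1).2 (by omega)
      exact hby ⟨e, by rw [he]; module⟩
    have hroot : ∀ n : ℕ, (n : ℤ) ≤ -P.pairing y x → ∃ e, P.root e = (n : ℤ) • P.root x + P.root y :=
      fun n hn => (htop' n).2 (by omega)
    obtain ⟨t₁, ht₁⟩ := hroot 1 (by omega)
    rw [Nat.cast_one, one_smul] at ht₁
    rcases hk with h | h | h | h
    · omega
    · have := F.plane_one hC hxy hby ht₁ (fun e p q hp hq he => P.root.injective (by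
        have := hco e p q hp hq he
        rw [he, ht₁, show p = 1 by omega, show q = 1 by omega, Nat.cast_one, one_smul, one_smul])) hx hy
      obtain rfl : t = t₁ := P.root.injective (by
        rw [ht, ht₁, show k = 1 by omega, show l = 1 by omega, Nat.cast_one, one_smul, one_smul])
      exact this
    · obtain ⟨t₂, ht₂⟩ := hroot 2 (by omega)
      obtain ⟨m₁, m₂⟩ := F.plane_two hC hxy hby ht₁ ht₂ (fun e p q hp hq he => by
        have := hco e p q hp hq he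
        omega) hx hy
      obtain rfl : l = 1 := by omega
      rcases (show k = 1 ∨ k = 2 by omega) with rfl | rfl
      · rwa [show t = t₁ from P.root.injective (by rw [ht, ht₁, Nat.cast_one, one_smul, one_smul])]
      · rwa [show t = t₂ from P.root.injective (by rw [ht, ht₂, Nat.cast_one, one_smul])]
    · obtain ⟨t₂, ht₂⟩ := hroot 2 (by omega)
      obtain ⟨t₃, ht₃⟩ := hroot 3 (by omega)
      have ht₄ : P.root (P.reflectionPerm y t₃) = (3 : ℤ) • P.root x + (2 : ℤ) • P.root y := by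
        rw [root_refl, ← hcor y t₃, ht₃, map_add, map_zsmul, hcor, hcor, P.pairing_same, hm, h]
        norm_num
        module
      obtain ⟨m₁, m₂, m₃, m₄⟩ := F.plane_three hC hxy hby ht₁ ht₂ ht₃ ht₄ (fun e p q hp hq he => by
        have := hco e p q hp hq he
        omega) hx hy
      rcases (show (k = 1 ∧ l = 1) ∨ (k = 2 ∧ l = 1) ∨ (k = 3 ∧ l = 1) ∨ (k = 3 ∧ l = 2) by omega) with
        ⟨rfl, rfl⟩ | ⟨rfl, rfl⟩ | ⟨rfl, rfl⟩ | ⟨rfl, rfl⟩
      · rwa [show t = t₁ from P.root.injective (by rw [ht, ht₁, Nat.cast_one, one_smul, one_smul])]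
      · rwa [show t = t₂ from P.root.injective (by rw [ht, ht₂, Nat.cast_one, one_smul])]
      · rwa [show t = t₃ from P.root.injective (by rw [ht, ht₃, Nat.cast_one, one_smul])]
      · rwa [show t = P.reflectionPerm y t₃ from P.root.injective (by rw [ht, ht₄]; rfl)]
  by_cases hcase : P.pairing a b = max (P.pairing b a) (-1)
  · exact main a b d hli hbot hcase (by omega) i j hi hj hd ha hb
  · exact main b a d (li_symm P hli) hbot' (by omega) (by omega) j i hj hi (by rw [hd, add_comm]) hb ha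

end Groth.Agent.RootBase
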