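import Groth.Agent.RootBase.SimpleGen
import Groth.Agent.RootBase.Iso
import Groth.Agent.RootBase.Bruhat
import Groth.Agent.S8472

/-!
# The simple root groups generate the positive ones
-/

set_option autoImplicit false
set_option backward.isDefEq.respectTransparency false
set_option linter.style.haveILetI false
set_option maxHeartbeats 1000000
set_option synthInstance.maxHeartbeats 400000

universe u

open CategoryTheory Limits MonoidalCategory CartesianMonoidalCategory MonObj GrpObj AlgebraicGeometry LieS
open scoped CategoryTheory.Obj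

noncomputable section

namespace Groth.Agent.RootBase

open Groth.Agent.HomDiag Groth.Agent.DynPar Groth.Agent.RootSys Groth.Agent.MTBridge

variable {S : Scheme.{u}} {G : Over S} [GrpObj G]

/-- A Chevalley system through the simple root homomorphisms of a pinning. -/
theorem exists_isChevalley [Nonempty S] (D : Red.Pinning G) :
    letI := D.grpT
    letI := D.acgM
    letI := D.fintypeIdx
    letI := D.finiteM
    letI := D.freeM
    ∃ v : D.idx → (Red.Ga S ⟶ G), Frame (D.split.inv.hom.hom ≫ D.i) D.P.root v ∧ IsChevalley D.P v ∧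
      ∀ a ∈ D.base.support, v a = D.u a := by
  letI := D.grpT
  letI := D.acgM
  letI := D.fintypeIdx
  letI := D.finiteM
  letI := D.freeM
  haveI := isReduced_of_splitRed D.toSplitRed
  obtain ⟨u₁, w, H, h₁, hp⟩ := exists_dualised (coroot_apply_root D.pairing_eq) (frame_of_splitRed D.toSplitRed)
    (hasRefl_of_splitRed D.toSplitRed) D.base
  have hinv : D.split.hom.hom.hom ≫ D.split.inv.hom.hom = 𝟙 _ := congrArg (fun z => z.hom.hom) D.split.hom_inv_id
  let D' : Red.Pinning G :=
    { D with
      u := u₁
      rootHom := fun a => ⟨(H.frame.hu a).1, (H.frame.hu a).2.1, fun X t x => by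
        obtain ⟨y, hy, hy'⟩ := (H.frame.hu a).2.2 X (t ≫ D.split.hom.hom.hom) x
        rw [Category.assoc, reassoc_of% hinv] at hy
        rw [Category.assoc] at hy'
        exact ⟨y, hy, hy'⟩⟩ }
  let avc : D.idx → (Red.Gm S ⟶ D.T) := fun a =>
    Red.DSmap S (D.P.coroot a).toAddMonoidHom ≫ D.split.inv.hom.hom
  obtain ⟨v, hv, hsimp, hdual⟩ := S8472.result S (eOne _) (BGaNotS.gaFn_gaPt _) G D' avc (fun _ => rfl)
    (fun a ha X x y hxy => by
      obtain ⟨x', y', z, h1, h2, h3, h4⟩ := hp a ha X x y hxy
      exact ⟨x', y', z, h1, h2, h3, by simpa only [avc, Category.assoc] using h4⟩)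
  choose vd hvd₁ hvd₂ hvd₃ using hdual
  obtain ⟨F, hC⟩ := chevalley_setup D'.toSplitRed (eOne _) (BGaNotS.gaFn_gaPt _) avc (fun _ => rfl) v vd hv
    (fun r => ⟨hvd₁ r, hvd₂ r⟩) _ (fun _ => rfl) hvd₃
  exact ⟨v, F, hC, fun a ha => (hsimp a ha).trans (h₁ a ha)⟩

/-- The positive root groups lie in a family of subgroups of points containing the simple ones. -/
theorem pos_has [Nonempty S] (D : Red.Pinning G) (Q : PtsGroup G) (h : ∀ a ∈ D.base.support, Q.Has (D.u a)) :
    ∀ b ∈ RedSub.posRoots D.P D.base, Q.Has (D.u b) := by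
  letI := D.grpT
  letI := D.acgM
  letI := D.fintypeIdx
  letI := D.finiteM
  letI := D.freeM
  haveI := isReduced_of_splitRed D.toSplitRed
  obtain ⟨v, F, hC, hsimp⟩ := exists_isChevalley D
  have hcor := coroot_apply_root D.pairing_eq
  have key : ∀ (N : ℕ) (i : D.idx), D.base.height i = N → D.base.IsPos i → Q.Has (v i) := by
    intro N
    induction N using Nat.strong_induction_on with
    | _ N ih =>
      intro i hN hpos
      by_cases his : i ∈ D.base.support
      · rw [hsimp i his]; exact h i his
      obtain ⟨j, hj, hji⟩ := hpos.exists_mem_support_pos_pairingIn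
      rw [D.P.zero_lt_pairingIn_iff'] at hji
      have hne : i ≠ j := fun e => his (e ▸ hj)
      obtain ⟨e, he⟩ := D.P.root_sub_root_mem_of_pairingIn_pos hji hne
      have hli : ∀ x y : ℤ, x • D.P.root j + y • D.P.root i = 0 → x = 0 ∧ y = 0 := by
        refine LinearIndependent.pair_iff.1 (RootPairing.IsReduced.linearIndependent D.P hne.symm fun hji' => ?_)
        have hij : i = D.P.reflectionPerm j j := D.P.root.injective (by rw [root_opp, hji', neg_neg])
        have h2 := (RootPairing.Base.IsPos.neg_iff_not D.base j).1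
        letI := D.P.indexNeg
        exact h2 (show D.base.IsPos (-j) by rw [show (-j : D.idx) = D.P.reflectionPerm j j from rfl, ← hij]; exact hpos)
          (RootPairing.Base.isPos_of_mem_support hj)
      obtain ⟨p, q, -, -, -, hb₀⟩ := exists_chain D.P hli
      have hp : 1 ≤ p := (hb₀ 1).1 ⟨e, by rw [he]; module⟩
      obtain ⟨c, hc⟩ := (hb₀ p).2 le_rfl
      have hc' : D.P.root c = D.P.root i + (-(p : ℤ)) • D.P.root j := by rw [hc, add_comm]
      have hcpos : D.base.IsPos c := hpos.add_zsmul hne hj hc'
      have hch : D.base.height c = (N : ℤ) - p := by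
        rw [D.base.height_add_zsmul hc', hN, D.base.height_one_of_mem_support hj]; simp [sub_eq_add_neg]
      have hcp : 0 < D.base.height c := (RootPairing.Base.isPos_iff _).1 hcpos
      have hi' : D.P.root i = ((p : ℕ) : ℤ) • D.P.root j + ((1 : ℕ) : ℤ) • D.P.root c := by
        rw [hc']; push_cast; module
      refine F.plane_has hC hcor (li_add (i := -(p : ℤ)) hli one_ne_zero (by rw [hc]; module)) ?_ hp le_rfl hi'
        (by rw [hsimp j hj]; exact h j hj) (ih _ (by omega) c (Int.toNat_of_nonneg hcp.le).symm hcpos)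
      rintro ⟨f, hf⟩
      have := (hb₀ (p + 1)).1 ⟨f, by rw [hf, hc]; push_cast; module⟩
      omega
  intro b hb X r
  have hbp : D.base.IsPos b := (RootSys.mem_posRoots_iff D.base b).1 hb
  obtain ⟨x, hx⟩ := F.rootHom_range ((frame_of_splitRed D.toSplitRed).hu b) (BGaNotS.gaPt r)
  rw [ev, ← hx]
  exact (key _ b (Int.toNat_of_nonneg ((RootPairing.Base.isPos_iff _).1 hbp).le).symm hbp).comp' x

end Groth.Agent.RootBase
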