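import Groth.Agent.RootBase.SolvT
import Groth.Agent.RootBase.SplitMap
import Groth.Agent.RootBase.UnipStabL
import Groth.Agent.BorelConj.TypeR
import Groth.Agent.RedR1.Weyl
import Groth.Agent.S5522
import Groth.Agent.S5543

/-!
# Subgroups of type (R) with solvable fibres: etale charts
-/

set_option autoImplicit false
set_option backward.isDefEq.respectTransparency false
set_option linter.style.haveILetI false
set_option maxHeartbeats 2000000
set_option synthInstance.maxHeartbeats 400000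

universe u

open CategoryTheory Limits MonoidalCategory CartesianMonoidalCategory MonObj GrpObj AlgebraicGeometry
open scoped CategoryTheory.Obj

noncomputable section

namespace Groth.Agent.RootBase

open Groth.Agent.HomDiag Groth.Agent.DynPar Groth.Agent.MTBridge Groth.Agent.RootSys

variable {S : Scheme.{u}} {G H : Over S}

/-- Meeting in a fibre is invariant under isomorphisms. -/
theorem inFib_map {G' H' : Over S} (φ : G ⟶ G') [Mono φ] (e : H' ⟶ H) [IsIso e] (h : H ⟶ G)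
    (v : Red.Ga S ⟶ G) (s : S) : InFib (e ≫ h ≫ φ) (v ≫ φ) s ↔ InFib h v s := by
  constructor
  · rintro ⟨x, w, hxw, hx⟩
    exact ⟨x, w ≫ e, (cancel_mono φ).1 (by simpa only [Category.assoc] using hxw), hx⟩
  · rintro ⟨x, w, hxw, hx⟩
    exact ⟨x, w ≫ inv e, by simp only [Category.assoc, IsIso.inv_hom_id_assoc, reassoc_of% hxw], hx⟩

variable [GrpObj G] [GrpObj H]

/-- A solvable fibre puts a constant root pattern in a positive system. -/
theorem exists_base_of_solvable (D : Red.SplitRed G) (h : H ⟶ G) (hH : RedSub.IsTypeR h) (t : D.T ⟶ H)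
    (ht : t ≫ h = D.i) (R' : Set D.idx) (hrs : ∀ a (s : S), InFib h (D.u a) s ↔ a ∈ R') (s : S)
    (hsol : Red.IsSolvableGrp (Red.geomFibre s H)) : ∃ b : D.P.Base, R' ⊆ RedSub.posRoots D.P b := by
  letI := D.grpT
  letI := D.acgM
  letI := D.fintypeIdx
  letI := D.finiteM
  letI := D.freeM
  obtain ⟨⟨i1, i2⟩, i3, -, hconn, -⟩ := hH
  haveI := i1; haveI := i2; haveI := i3
  obtain ⟨c, hc, F⟩ : ∃ c : Red.DS S D.M ⟶ G, D.split.inv.hom.hom ≫ D.i = c ∧ Frame c D.P.root D.u :=
    ⟨_, rfl, frame_of_splitRed D⟩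
  haveI := F.hc.1
  obtain ⟨cH, i4, hcH⟩ : ∃ cH : Red.DS S D.M ⟶ H, IsMonHom cH ∧ cH ≫ h = c :=
    ⟨_, (cH_hcH D h t ht).1, (cH_hcH D h t ht).2.trans hc⟩
  haveI := i4
  let τ := Red.geomPt s
  obtain ⟨j1, j2, j3, j4, j5, j6⟩ := sub_fibre F.hG h hconn s
  haveI := j1; haveI := j2; haveI := j3; haveI := j4; haveI := j5; haveI := j6
  haveI : IsMonHom (bcHom' τ c) := isMonHom_bcHom' τ c
  haveI : IsMonHom (bcHom' τ cH) := isMonHom_bcHom' τ cH
  have FK := F.bc τ
  have hcK : bcHom' τ cH ≫ (Over.pullback τ).map h = bcHom' τ c := by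
    rw [bcHom', Category.assoc, ← Functor.map_comp, hcH]
    rfl
  have hfac : ∀ a, (∃ w, w ≫ (Over.pullback τ).map h = bcGa τ (D.u a)) ↔ a ∈ R' := fun a =>
    (F.inFib_iff hconn hcH a s).symm.trans (hrs a s)
  haveI : Smooth (Red.bc τ G).hom := MorphismProperty.pullback_snd (P := @Smooth) G.hom τ F.hG.2.1
  haveI : ConnectedSpace (Red.bc τ G).left := (F.hG.2.2 s).2.2.1
  haveI : Nonempty S := ⟨s⟩
  obtain ⟨mu, -, hpos⟩ := FK.exists_regular_of_solvable hcK hsol
  obtain ⟨b, hb⟩ := S5522.result D {a | 0 < mu (D.P.root a)}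
    (fun a b c ha hb hab => by
      show 0 < mu (D.P.root c)
      rw [← hab, map_add]
      exact add_pos ha hb)
    (asymm_of_pos D mu fun a ha => ha)
  exact ⟨b, fun a ha => hb (hpos a ((hfac a).2 ha))⟩

/-- Solvable geometric fibres stay solvable after a quasi-finite base change. -/
theorem isSolvableGrp_bc_fibre {W : Scheme.{u}} (f : W ⟶ S) [LocallyQuasiFinite f] (w : W)
    (hsol : Red.IsSolvableGrp (Red.geomFibre (f w) H)) : Red.IsSolvableGrp (Red.geomFibre w (Red.bc f H)) := by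
  obtain ⟨t, ht, htw⟩ := exists_geomPt_iso f w
  obtain ⟨e₁, -, he₁⟩ := Chev.MaxTorusBC.exists_trIso (show Red.geomPt w ≫ f = Red.geomPt w ≫ f from rfl) H
  obtain ⟨e₂, -, he₂⟩ := Chev.MaxTorusBC.exists_trIso htw H
  haveI : IsMonHom e₁.hom := he₁
  haveI : IsMonHom e₂.hom := he₂
  haveI : IsMonHom e₂.inv := inferInstance
  let e : Red.bc t (Red.geomFibre (f w) H) ≅ Red.geomFibre w (Red.bc f H) := e₂.symm ≪≫ e₁
  haveI : IsMonHom e.hom := inferInstanceAs (IsMonHom (e₂.inv ≫ e₁.hom))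
  haveI : IsMonHom e.inv := inferInstance
  exact isSolvableGrp_of_isIso e.hom (BPair.isSolvableGrp_bc _ hsol)

variable {T : Over S} [GrpObj T]

set_option maxHeartbeats 8000000 in
/-- **An etale chart of a subgroup of type (R) with solvable fibres**: the torus is split and the roots of the
subgroup are constant and positive. -/
theorem exists_solv_chart (hG : Red.IsReductive G) (i : T ⟶ G) (hT : Red.IsMaximalTorus i) (h : H ⟶ G)
    (hH : RedSub.IsTypeR h) (t : T ⟶ H) (ht : t ≫ h = i) (hsolv : ∀ s : S, Red.IsSolvableGrp (Red.geomFibre s H))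
    (s : S) :
    ∃ (W : Scheme.{u}) (p : W ⟶ S) (_ : Etale p), s ∈ Set.range p.base ∧
      ∃ (D : Red.SplitRed (Red.bc p G)) (e : D.T ≅ Red.bc p T) (R' : Set D.idx) (b : D.P.Base),
        (letI := D.grpT; IsMonHom e.hom) ∧
        (e.hom ≫ (Over.pullback p).map t) ≫ (Over.pullback p).map h = D.i ∧
        RedSub.IsTypeR ((Over.pullback p).map h) ∧
        (∀ a (w : W), InFib ((Over.pullback p).map h) (D.u a) w ↔ a ∈ R') ∧
        (∀ a ∈ R', ∃ v, v ≫ (Over.pullback p).map h = D.u a) ∧ R' ⊆ RedSub.posRoots D.P b := by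
  haveI := hG.1
  haveI := hG.2.1
  haveI := hT.1; haveI := hT.2.1
  obtain ⟨⟨hm, himm⟩, hsm, -, -, -⟩ := id hH
  haveI := hm; haveI := himm; haveI := hsm
  haveI : Mono h := Over.mono_of_mono_left h
  haveI : IsMonHom t := MTSplit.isMonHom_of_comp_mono t h i ht
  obtain ⟨U, f, hf, ⟨x₀, hx₀⟩, D, e, hD⟩ := S5543.result hG i hT s
  haveI := hf
  -- the neighbourhood where the pattern is constant
  have hU := BorelConj.isTypeR_bc h hH f
  obtain ⟨⟨hUm, hUi⟩, hUs, -, hUconn, -⟩ := id hU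
  haveI := hUm; haveI := hUi; haveI := hUs
  have htU : (e.hom ≫ (Over.pullback f).map t) ≫ (Over.pullback f).map h = D.i := by
    rw [Category.assoc, ← Functor.map_comp, ht, hD]
  obtain ⟨V, hV, hVc⟩ : ∃ V : U.Opens, x₀ ∈ V ∧ ∀ x ∈ V, ∀ a,
      InFib ((Over.pullback f).map h) (D.u a) x ↔ InFib ((Over.pullback f).map h) (D.u a) x₀ := by
    letI := D.grpT
    letI := D.acgM
    letI := D.fintypeIdx
    letI := D.finiteM
    letI := D.freeM
    obtain ⟨i4, hcH⟩ := cH_hcH D _ _ htU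
    haveI := i4
    exact (frame_of_splitRed D).exists_nhd_const (exists_opp D) hUconn hcH x₀
  obtain ⟨D₁, e₁, eidx, hD₁, hu₁⟩ := exists_bc_data D V.ι
  let p : (V : Scheme.{u}) ⟶ S := V.ι ≫ f
  haveI : Etale p := inferInstanceAs (Etale (V.ι ≫ f))
  have hp := BorelConj.isTypeR_bc h hH p
  obtain ⟨⟨hpm, hpi⟩, hps, -, hpconn, -⟩ := id hp
  haveI := hpm; haveI := hpi; haveI := hps
  -- move the splitting
  let Φ := (bcComp f V.ι G).symm
  let φ : Red.bc V.ι (Red.bc f G) ≅ Red.bc p G := (Grp.forget _).mapIso Φ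
  haveI : IsMonHom φ.hom := Φ.hom.hom.isMonHom_hom
  haveI : IsIso φ.hom.left := inferInstanceAs (IsIso ((Over.forget _).map φ.hom))
  letI := D₁.grpT
  haveI : IsMonHom (Iso.refl D₁.T).hom := inferInstanceAs (IsMonHom (𝟙 _))
  obtain ⟨D₂, e₂, eidx₂, he₂, hi₂, hu₂⟩ : ∃ (D₂ : Red.SplitRed (Red.bc p G)) (e₂ : D₂.T ≅ D₁.T) (eidx₂ : D₁.idx ≃ D₂.idx),
      (letI := D₂.grpT; IsMonHom e₂.hom) ∧ D₂.i = e₂.hom ≫ D₁.i ≫ φ.hom ∧ ∀ a, D₂.u (eidx₂ a) = D₁.u a ≫ φ.hom := by
    letI := D₁.acgM; letI := D₁.fintypeIdx; letI := D₁.finiteM; letI := D₁.freeM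
    refine ⟨{ T := D₁.T, i := D₁.i ≫ φ.hom, M := D₁.M, idx := D₁.idx, P := D₁.P, pairing_eq := D₁.pairing_eq
              u := fun a => D₁.u a ≫ φ.hom, reductive := isReductive_bc p hG
              maximalTorus := MTImage.isMaximalTorus_iso (Iso.refl D₁.T) φ D₁.i (D₁.i ≫ φ.hom) (Category.id_comp _).symm
                D₁.maximalTorus.2.2.1 D₁.maximalTorus
              split := D₁.split, rootHom := fun a => ?_, refl := fun a => ?_, dim_fibre := fun s => ?_ },
      Iso.refl _, Equiv.refl _, inferInstance, (Category.id_comp _).symm, fun a => rfl⟩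
    · obtain ⟨h1, h2, h3⟩ := D₁.rootHom a
      haveI := h1; haveI := h2
      refine ⟨inferInstance, ?_, fun X t x => ?_⟩
      · rw [Over.comp_left]
        infer_instance
      · obtain ⟨y, hy, hy'⟩ := h3 X t x
        refine ⟨y, ?_, hy'⟩
        rw [← Category.assoc, hy]
        simp only [MonObj.mul_comp, GrpObj.inv_comp, Category.assoc]
    · obtain ⟨n, hn⟩ := D₁.refl a
      refine ⟨n ≫ φ.hom, fun X t => ?_⟩
      have := congrArg (· ≫ φ.hom) (hn X t)
      simp only [MonObj.mul_comp, GrpObj.inv_comp, Category.assoc] at this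
      exact this
    · rw [← D₁.dim_fibre s]
      exact (IsHomeomorph.topologicalKrullDim_eq _
        (Scheme.homeoOfIso ((Over.forget _).mapIso ((Over.pullback (Red.geomPt s)).mapIso φ))).isHomeomorph).symm
  -- the torus and the subgroup
  let ψ : Red.bc V.ι (Red.bc f H) ≅ Red.bc p H := (Grp.forget _).mapIso (bcComp f V.ι H).symm
  let θ : Red.bc V.ι (Red.bc f T) ≅ Red.bc p T := (Grp.forget _).mapIso (bcComp f V.ι T).symm
  have hψ : ψ.hom ≫ (Over.pullback p).map h = (Over.pullback V.ι).map ((Over.pullback f).map h) ≫ φ.hom := by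
    simpa [ψ, φ, Φ, bcComp] using ((Over.pullbackComp V.ι f).inv.naturality h).symm
  have hθ : θ.hom ≫ (Over.pullback p).map i = (Over.pullback V.ι).map ((Over.pullback f).map i) ≫ φ.hom := by
    simpa [θ, φ, Φ, bcComp] using ((Over.pullbackComp V.ι f).inv.naturality i).symm
  let E : D₂.T ≅ Red.bc p T := e₂ ≪≫ e₁ ≪≫ (Over.pullback V.ι).mapIso e ≪≫ θ
  have hE : E.hom ≫ (Over.pullback p).map i = D₂.i := by
    simp only [E, Iso.trans_hom, Functor.mapIso_hom, Category.assoc, hθ, hi₂, hD₁, hD, Functor.map_comp]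
  letI := D₂.grpT
  haveI : Mono ((Over.pullback p).map i) :=
    haveI : PreservesLimitsOfShape WalkingCospan (Over.pullback p) :=
      (Adjunction.rightAdjoint_preservesLimits (Over.mapPullbackAdj p)).preservesLimitsOfShape
    inferInstance
  haveI := isMonHom_map' p i
  haveI := D₂.maximalTorus.1
  haveI hEm : IsMonHom E.hom := MTSplit.isMonHom_of_comp_mono E.hom _ D₂.i hE
  have htp : (E.hom ≫ (Over.pullback p).map t) ≫ (Over.pullback p).map h = D₂.i := by
    rw [Category.assoc, ← Functor.map_comp, ht, hE]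
  let R' : Set D₂.idx := {a | InFib ((Over.pullback f).map h) (D.u (eidx.symm (eidx₂.symm a))) x₀}
  haveI : Mono φ.hom := inferInstance
  have hrs : ∀ a (w : (V : Scheme.{u})), InFib ((Over.pullback p).map h) (D₂.u a) w ↔ a ∈ R' := fun a w => by
    obtain ⟨a, rfl⟩ := eidx₂.surjective a
    obtain ⟨a, rfl⟩ := eidx.surjective a
    rw [hu₂, hu₁, show (Over.pullback p).map h = ψ.inv ≫ (Over.pullback V.ι).map ((Over.pullback f).map h) ≫ φ.hom by
      rw [← hψ, Iso.inv_hom_id_assoc], inFib_map φ.hom ψ.inv, inFib_bc_iff]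
    show _ ↔ InFib _ (D.u (eidx.symm (eidx₂.symm (eidx₂ (eidx a))))) x₀
    rw [Equiv.symm_apply_apply, Equiv.symm_apply_apply]
    exact hVc _ w.2 a
  have hfac : ∀ a ∈ R', ∃ v, v ≫ (Over.pullback p).map h = D₂.u a := fun a ha => by
    letI := D₂.acgM
    letI := D₂.fintypeIdx
    letI := D₂.finiteM
    letI := D₂.freeM
    obtain ⟨i4, hcH⟩ := cH_hcH D₂ _ _ htp
    haveI := i4
    refine (frame_of_splitRed D₂).fac_of_const (exists_opp D₂) hpconn hcH (fun a => ?_) fun w => (hrs a w).2 ha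
    by_cases h' : a ∈ R'
    · exact Or.inl fun w => (hrs a w).2 h'
    · exact Or.inr fun w hw => h' ((hrs a w).1 hw)
  haveI : LocallyQuasiFinite p := Weighting.locallyQuasiFinite_of_etale p
  obtain ⟨b, hb⟩ := exists_base_of_solvable D₂ _ hp _ htp R' hrs ⟨x₀, hV⟩
    (isSolvableGrp_bc_fibre p _ (hsolv _))
  exact ⟨_, p, inferInstance, ⟨⟨x₀, hV⟩, by rw [← hx₀]; rfl⟩, D₂, E, R', b, hEm, htp, hp, hrs, hfac, hb⟩

end Groth.Agent.RootBase
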