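import Groth.Agent.RootBase.SolvRad
import Groth.Agent.RedCartan.Global
import Groth.Agent.S4116

/-!
# Conjugacy of the maximal tori of a subgroup of type (R) with solvable fibres
-/

set_option autoImplicit false
set_option backward.isDefEq.respectTransparency false
set_option linter.style.haveILetI false
set_option maxHeartbeats 4000000
set_option synthInstance.maxHeartbeats 400000

universe u

open CategoryTheory Limits MonoidalCategory CartesianMonoidalCategory MonObj GrpObj AlgebraicGeometry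
open scoped CategoryTheory.Obj

noncomputable section

namespace Groth.Agent.RootBase

variable {S : Scheme.{u}} {G H T : Over S} [GrpObj G] [GrpObj H] [GrpObj T]

/-- A maximal torus of a group lying in a subgroup is maximal in the subgroup. -/
theorem isMaximalTorus_inner (h : H ⟶ G) [IsMonHom h] [Mono h] (t : T ⟶ H) [IsMonHom t]
    (hT : Red.IsMaximalTorus (t ≫ h)) : Red.IsMaximalTorus t := by
  haveI := hT.2.1
  refine ⟨inferInstance, mono_of_mono t h, hT.2.2.1, fun s T' _ j _ _ f hT' hf => ?_⟩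
  let τ := Red.geomPt s
  haveI : PreservesLimitsOfShape WalkingCospan (Over.pullback τ) :=
    (Adjunction.rightAdjoint_preservesLimits (Over.mapPullbackAdj τ)).preservesLimitsOfShape
  haveI : IsMonHom ((Over.pullback τ).map h) := DynPar.isMonHom_map' τ h
  haveI : Mono ((Over.pullback τ).map h) := inferInstance
  haveI : IsMonHom (j ≫ (Over.pullback τ).map h) := inferInstance
  haveI : Mono (j ≫ (Over.pullback τ).map h) := mono_comp _ _
  exact hT.2.2.2 s T' (j ≫ (Over.pullback τ).map h) f hT' (by rw [reassoc_of% hf, Functor.map_comp])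

set_option maxHeartbeats 8000000 in
/-- **A unique point of the unipotent radical conjugates one maximal torus onto another.** -/
theorem existsUnique_conj_tori {T' U : Over S} [GrpObj T'] [GrpObj U] (hG : Red.IsReductive G) (h : H ⟶ G)
    (hH : RedSub.IsTypeR h) (hsolv : ∀ s : S, Red.IsSolvableGrp (Red.geomFibre s H)) (uU : U ⟶ H)
    (hU : Par.IsUnipotentRadical uU) (t : T ⟶ H) (t' : T' ⟶ H) [IsMonHom t] [IsMonHom t']
    (hT : Red.IsMaximalTorus (t ≫ h)) (hT' : Red.IsMaximalTorus (t' ≫ h)) :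
    ∃! u : 𝟙_ (Over S) ⟶ U, RedSub.ConjEq t t' (u ≫ uU) := by
  haveI := hG.1; haveI := hG.2.1
  obtain ⟨⟨hm, himm⟩, hHs, hHq, -, -⟩ := id hH
  haveI := hm; haveI := himm; haveI := hHs; haveI := hHq
  haveI : Mono h := Over.mono_of_mono_left h
  haveI : IsSeparated H.hom := by rw [← Over.w h]; infer_instance
  obtain ⟨U₀, _, u₀, r, hrm, hrt, hrad₀, -, -, hmem⟩ :=
    exists_solvRad hG (t ≫ h) hT h hH t rfl hsolv
  haveI := hrm
  haveI := hU.1; haveI := hU.2.1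
  haveI : Mono uU := Over.mono_of_mono_left uU
  obtain ⟨a, ha⟩ := (haveI := hrad₀.1; hU.2.2.2.2.2.2 U₀ u₀ hrad₀.2.1 hrad₀.2.2.1 hrad₀.2.2.2.1 hrad₀.2.2.2.2.1
    hrad₀.2.2.2.2.2.1)
  obtain ⟨b, hb⟩ := hrad₀.2.2.2.2.2.2 U uU hU.2.1 hU.2.2.1 hU.2.2.2.1 hU.2.2.2.2.1 hU.2.2.2.2.2.1
  have hker : ∀ (X : Over S) (z : X ⟶ H), (∃ y : X ⟶ U, y ≫ uU = z) ↔ z ≫ r = 1 := fun X z =>
    ⟨fun ⟨y, hy⟩ => (hmem X z).1 ⟨y ≫ b, by rw [Category.assoc, hb, hy]⟩, fun hz => by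
      obtain ⟨y, hy⟩ := (hmem X z).2 hz
      exact ⟨y ≫ a, by rw [Category.assoc, ha, hy]⟩⟩
  have hcomm : ∀ {X : Over S} (x y : X ⟶ T), x * y = y * x := fun x y => RedR1.mul_comm_torus hT.2.2.1 x y
  -- a point of the radical normalising the torus is trivial
  have huniq : ∀ (X : Over S) (v : X ⟶ U), (∀ (X' : Over S) (x : X' ⟶ X) (d : X' ⟶ T),
      ∃ d' : X' ⟶ T, (x ≫ v ≫ uU) * (d ≫ t) * (x ≫ v ≫ uU)⁻¹ = d' ≫ t) → v = 1 := by
    intro X v hv
    have hvr : (v ≫ uU) ≫ r = 1 := (hker X _).1 ⟨v, rfl⟩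
    obtain ⟨τ, hτ⟩ := ((RedCartan.centralizer_self_of_isReductive hG (t ≫ h) hT).2.2 X ((v ≫ uU) ≫ h)).2
      fun X' x d => by
        obtain ⟨d', hd'⟩ := hv X' x d
        have e1 := congrArg (fun q => q ≫ r) hd'
        simp only [MonObj.mul_comp, GrpObj.inv_comp, Category.assoc, hrt, Category.comp_id] at e1
        rw [hcomm (x ≫ v ≫ uU ≫ r) d, mul_inv_cancel_right] at e1
        rw [← e1] at hd'
        have e2 := congrArg (fun q => q ≫ h) (mul_inv_eq_iff_eq_mul.1 hd')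
        simp only [MonObj.mul_comp, Category.assoc] at e2 ⊢
        exact e2
    have e : τ ≫ t = v ≫ uU := by rw [← cancel_mono h, Category.assoc, hτ]
    rw [← e, Category.assoc, hrt, Category.comp_id] at hvr
    rw [hvr, MonObj.one_comp] at e
    rw [← cancel_mono uU, ← e, MonObj.one_comp]
  -- the transporter
  have hTi := isMaximalTorus_inner h t hT
  have hTi' := isMaximalTorus_inner h t' hT'
  haveI := hTi.2.1; haveI := hTi'.2.1
  obtain ⟨P, j, hj, hPs, hP⟩ := MTImage.exists_transporterEq_tori T T' H hTi.2.2.1 hTi'.2.2.1 t t'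
  haveI := hPs; haveI := hj
  haveI : Mono j := Over.mono_of_mono_left j
  haveI : Surjective P.hom := ⟨fun s => by
    obtain ⟨g₀, hg₀⟩ := MTImage.exists_geom_transport t hTi t' hTi' s
    obtain ⟨p₀, -⟩ := (hP _ g₀).2 fun X x => hg₀ X x
    obtain ⟨S', e, he, ⟨y, hy⟩, ⟨σ⟩⟩ := MTBridge.exists_etale_point s p₀
    refine ⟨σ.left y, ?_⟩
    rw [← Scheme.Hom.comp_apply, Over.w σ]
    simpa using hy⟩
  obtain ⟨Φ, hΦ⟩ := (hker P (j * (j ≫ r ≫ t)⁻¹)).2 (by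
    rw [MonObj.mul_comp, GrpObj.inv_comp, Category.assoc, Category.assoc, hrt, Category.comp_id, mul_inv_cancel])
  -- the unipotent part conjugates as the point does
  have hΦc : ∀ (X : Over S) (p : X ⟶ P),
      (∀ d : X ⟶ T, ∃ d' : X ⟶ T', (p ≫ Φ ≫ uU) * (d ≫ t) * (p ≫ Φ ≫ uU)⁻¹ = d' ≫ t') ∧
      (∀ d' : X ⟶ T', ∃ d : X ⟶ T, (p ≫ Φ ≫ uU)⁻¹ * (d' ≫ t') * (p ≫ Φ ≫ uU) = d ≫ t) := by
    intro X p
    have hp := (hP X (p ≫ j)).1 ⟨p, rfl⟩ X (𝟙 X)
    simp only [Category.id_comp] at hp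
    have e : p ≫ Φ ≫ uU = (p ≫ j) * ((p ≫ j ≫ r) ≫ t)⁻¹ := by
      rw [hΦ, MonObj.comp_mul, GrpObj.comp_inv]; simp only [Category.assoc]
    refine ⟨fun d => ?_, fun d' => ?_⟩
    · obtain ⟨d', hd'⟩ := hp.1 d
      refine ⟨d', ?_⟩
      have h1 : ((p ≫ j ≫ r) ≫ t)⁻¹ * (d ≫ t) = (d ≫ t) * ((p ≫ j ≫ r) ≫ t)⁻¹ := by
        rw [← GrpObj.inv_comp, ← MonObj.mul_comp, ← MonObj.mul_comp, hcomm]
      rw [e, _root_.mul_inv_rev, _root_.inv_inv, ← hd']
      simp only [_root_.mul_assoc]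
      rw [← _root_.mul_assoc ((p ≫ j ≫ r) ≫ t)⁻¹, h1]
      group
    · obtain ⟨d, hd⟩ := hp.2 d'
      refine ⟨d, ?_⟩
      have h1 : ((p ≫ j ≫ r) ≫ t) * (d ≫ t) = (d ≫ t) * ((p ≫ j ≫ r) ≫ t) := by
        rw [← MonObj.mul_comp, ← MonObj.mul_comp, hcomm]
      rw [e, _root_.mul_inv_rev, _root_.inv_inv]
      calc ((p ≫ j ≫ r) ≫ t) * (p ≫ j)⁻¹ * (d' ≫ t') * ((p ≫ j) * ((p ≫ j ≫ r) ≫ t)⁻¹)
          = ((p ≫ j ≫ r) ≫ t) * ((p ≫ j)⁻¹ * (d' ≫ t') * (p ≫ j)) * ((p ≫ j ≫ r) ≫ t)⁻¹ := by group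
        _ = d ≫ t := by rw [hd, h1, mul_inv_cancel_right]
  -- two conjugating points of the radical agree
  have hagree : ∀ (X : Over S) (v w : X ⟶ U),
      (∀ (X' : Over S) (x : X' ⟶ X) (d : X' ⟶ T), ∃ d' : X' ⟶ T', (x ≫ v ≫ uU) * (d ≫ t) * (x ≫ v ≫ uU)⁻¹ = d' ≫ t') →
      (∀ (X' : Over S) (x : X' ⟶ X) (d' : X' ⟶ T'), ∃ d : X' ⟶ T, (x ≫ w ≫ uU)⁻¹ * (d' ≫ t') * (x ≫ w ≫ uU) = d ≫ t) →
      v = w := by
    intro X v w hv hw
    refine (inv_mul_eq_one.1 (huniq X (w⁻¹ * v) fun X' x d => ?_)).symm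
    obtain ⟨d', hd'⟩ := hv X' x d
    obtain ⟨d'', hd''⟩ := hw X' x d'
    refine ⟨d'', ?_⟩
    rw [MonObj.mul_comp, GrpObj.inv_comp, MonObj.comp_mul, GrpObj.comp_inv, ← hd'', ← hd']
    group
  have hconst : ∀ (X : Over S) (p p' : X ⟶ P), p ≫ Φ = p' ≫ Φ := fun X p p' => hagree X _ _
    (fun X' x d => by simpa only [Category.assoc] using (hΦc X' (x ≫ p)).1 d)
    (fun X' x d => by simpa only [Category.assoc] using (hΦc X' (x ≫ p')).2 d)
  -- descend to the base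
  obtain ⟨u, hu⟩ : ∃ u : 𝟙_ (Over S) ⟶ U, toUnit P ≫ u = Φ := by
    have hcond : ∀ {Z : Scheme.{u}} (g₁ g₂ : Z ⟶ P.left), g₁ ≫ P.hom = g₂ ≫ P.hom →
        g₁ ≫ Φ.left = g₂ ≫ Φ.left := fun {Z} g₁ g₂ hg => by
      have := congrArg Over.Hom.left
        (hconst (Over.mk (g₁ ≫ P.hom)) (Over.homMk g₁) (Over.homMk g₂ hg.symm))
      simpa using this
    haveI : EffectiveEpi P.hom := inferInstance
    refine ⟨Over.homMk (EffectiveEpi.desc P.hom Φ.left hcond) ((cancel_epi P.hom).1 ?_), Over.OverMorphism.ext ?_⟩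
    · rw [EffectiveEpi.fac_assoc, Over.w Φ]
      exact (Category.comp_id _).symm
    · exact EffectiveEpi.fac P.hom Φ.left hcond
  obtain ⟨w, hw⟩ : ∃ w : 𝟙_ (Over S) ⟶ P, w ≫ j = u ≫ uU := by
    obtain ⟨w', hw'⟩ := (hP P (Φ ≫ uU)).2 fun X' x => by
      simpa only [Category.assoc] using hΦc X' x
    have hw'' : w'.left ≫ j.left = P.hom ≫ (u ≫ uU).left := by
      rw [← Over.comp_left, hw', ← hu, Category.assoc, Over.comp_left, Over.toUnit_left]
    haveI : EffectiveEpi P.hom := inferInstance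
    have hcond : ∀ {Z : Scheme.{u}} (g₁ g₂ : Z ⟶ P.left), g₁ ≫ P.hom = g₂ ≫ P.hom →
        g₁ ≫ w'.left = g₂ ≫ w'.left := fun g₁ g₂ hg => by
      rw [← cancel_mono j.left, Category.assoc, Category.assoc, hw'', reassoc_of% hg]
    refine ⟨Over.homMk (EffectiveEpi.desc P.hom w'.left hcond) ((cancel_epi P.hom).1 ?_), Over.OverMorphism.ext ?_⟩
    · rw [EffectiveEpi.fac_assoc, Over.w w']
      exact (Category.comp_id _).symm
    · rw [Over.comp_left, ← cancel_epi P.hom, ← Category.assoc]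
      show (P.hom ≫ EffectiveEpi.desc P.hom w'.left hcond) ≫ j.left = _
      rw [EffectiveEpi.fac, hw'']
  refine ⟨u, (hP _ _).1 ⟨w, hw⟩, fun v hv => hagree _ _ _ (fun X' x d => (hv X' x).1 d)
    (fun X' x d => ((hP _ _).1 ⟨w, hw⟩ X' x).2 d)⟩

end Groth.Agent.RootBase
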