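import Groth.Agent.RootBase.TypeRSolvable
import Groth.Agent.RootBase.TypeRSplit

/-!
# Solvability of the fibres of a subgroup of type (R) read on its roots
-/

set_option autoImplicit false
set_option backward.isDefEq.respectTransparency false
set_option linter.style.haveILetI false
set_option maxHeartbeats 1000000
set_option synthInstance.maxHeartbeats 400000

universe u

open CategoryTheory Limits MonoidalCategory CartesianMonoidalCategory MonObj GrpObj AlgebraicGeometry
open scoped CategoryTheory.Obj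

noncomputable section

namespace Groth.Agent.RootBase

open Groth.Agent.HomDiag Groth.Agent.DynPar Groth.Agent.RootSys Groth.Agent.MTBridge

variable {S : Scheme.{u}} {G H : Over S} [GrpObj G] [GrpObj H]

/-- Solvable at a fibre gives a positive functional, and without opposite roots every fibre is solvable. -/
theorem solvable_split [ConnectedSpace S] (D : Red.SplitRed G) (h : H ⟶ G) (hH : RedSub.IsTypeR h)
    (t : D.T ⟶ H) (ht : t ≫ h = D.i) (R' : Set D.idx)
    (hR' : ∀ a : D.idx, (∃ v : Red.Ga S ⟶ H, v ≫ h = D.u a) ↔ a ∈ R') (s : S) :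
    letI := D.acgM
    (Red.IsSolvableGrp (Red.geomFibre s H) →
        ∃ mu : D.M →+ ℤ, (∀ a, mu (D.P.root a) ≠ 0) ∧ ∀ a ∈ R', 0 < mu (D.P.root a)) ∧
      ((∀ a ∈ R', D.P.reflectionPerm a a ∉ R') → Red.IsSolvableGrp (Red.geomFibre s H)) := by
  have hrs := rootSet_iff D h hH t ht hR'
  letI := D.grpT
  letI := D.acgM
  letI := D.fintypeIdx
  letI := D.finiteM
  letI := D.freeM
  obtain ⟨⟨i1, i2⟩, i3, -, hconn, -⟩ := hH
  haveI := i1; haveI := i2; haveI := i3
  obtain ⟨c, hc, F⟩ : ∃ c : Red.DS S D.M ⟶ G, D.split.inv.hom.hom ≫ D.i = c ∧ Frame c D.P.root D.u :=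
    ⟨_, rfl, frame_of_splitRed D⟩
  haveI := F.hc.1
  obtain ⟨cH, i4, hcH⟩ : ∃ cH : Red.DS S D.M ⟶ H, IsMonHom cH ∧ cH ≫ h = c :=
    ⟨_, (cH_hcH D h t ht).1, (cH_hcH D h t ht).2.trans hc⟩
  haveI := i4
  let τ := Red.geomPt s
  obtain ⟨j1, j2, j3, j4, j5, j6⟩ := sub_fibre F.hG h hconn s
  haveI := j1; haveI := j2; haveI := j3; haveI := j4; haveI := j5; haveI := j6
  haveI : IsMonHom (bcHom' τ c) := isMonHom_bcHom' τ c
  haveI : IsMonHom (bcHom' τ cH) := isMonHom_bcHom' τ cH
  have FK := F.bc τ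
  have hcK : bcHom' τ cH ≫ (Over.pullback τ).map h = bcHom' τ c := by
    rw [bcHom', Category.assoc, ← Functor.map_comp, hcH]
    rfl
  have hfac : ∀ a, (∃ w, w ≫ (Over.pullback τ).map h = bcGa τ (D.u a)) ↔ a ∈ R' := fun a =>
    (F.inFib_iff hconn hcH a s).symm.trans (hrs a s)
  refine ⟨fun hsol => ?_, fun has => ?_⟩
  · haveI : Smooth (Red.bc τ G).hom := MorphismProperty.pullback_snd (P := @Smooth) G.hom τ F.hG.2.1
    haveI : ConnectedSpace (Red.bc τ G).left := (F.hG.2.2 s).2.2.1
    obtain ⟨mu, hmu, hpos⟩ := FK.exists_regular_of_solvable hcK hsol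
    exact ⟨mu, hmu, fun a ha => hpos a ((hfac a).2 ha)⟩
  · refine FK.isSolvableGrp_of_asymm hcK fun a a' haa' h1 h2 => ?_
    have e : a' = D.P.reflectionPerm a a := F.inj (by
      rw [haa', D.P.root_reflectionPerm, D.P.reflection_apply_self])
    exact has a ((hfac a).1 h1) (e ▸ (hfac a').1 h2)

/-- The roots positive for a functional without zeros are asymmetric. -/
theorem asymm_of_pos (D : Red.SplitRed G) {R' : Set D.idx} :
    letI := D.acgM
    ∀ mu : D.M →+ ℤ, (∀ a ∈ R', 0 < mu (D.P.root a)) → ∀ a ∈ R', D.P.reflectionPerm a a ∉ R' := by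
  letI := D.acgM
  intro mu hpos a ha hr
  have h1 := hpos a ha
  have h2 := hpos _ hr
  rw [D.P.root_reflectionPerm, D.P.reflection_apply_self, map_neg] at h2
  omega

end Groth.Agent.RootBase
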