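import Groth.Agent.RootBase.SplitBC
import Groth.Agent.RootBase.PtsCover
import Groth.Agent.RootBase.Gen
import Groth.Agent.RootBase.TypeRUnip
import Groth.Agent.RootBase.TypeRSolvMain
import Groth.Agent.RootBase.TypeRLocal

/-!
# The torus part of a subgroup of type (R) with solvable fibres: split case
-/

set_option autoImplicit false
set_option backward.isDefEq.respectTransparency false
set_option linter.style.haveILetI false
set_option maxHeartbeats 2000000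
set_option synthInstance.maxHeartbeats 400000

universe u

open CategoryTheory Limits MonoidalCategory CartesianMonoidalCategory MonObj GrpObj AlgebraicGeometry
open scoped CategoryTheory.Obj

noncomputable section

namespace Groth.Agent.RootBase

open Groth.Agent.HomDiag Groth.Agent.MTBridge
open Groth.Agent.DynPar (bcHom' ej ejPt isReductive_bc isMonHom_bcHom' isMonHom_ej comp_ej bcHom'_DSmap)

variable {S S' : Scheme.{u}} {G : Over S} [GrpObj G]

/-- A splitting changes base, with its torus and root homomorphisms. -/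
theorem exists_bc_data (D : Red.SplitRed G) (j : S' ⟶ S) :
    ∃ (D' : Red.SplitRed (Red.bc j G)) (e : D'.T ≅ Red.bc j D.T) (eidx : D.idx ≃ D'.idx),
      D'.i = e.hom ≫ (Over.pullback j).map D.i ∧ ∀ a, D'.u (eidx a) = RootSys.bcGa j (D.u a) := by
  letI := D.grpT; letI := D.acgM; letI := D.fintypeIdx; letI := D.finiteM; letI := D.freeM
  haveI := D.reductive.1
  haveI := D.reductive.2.1
  haveI := DynPar.isIso_ej j D.M
  haveI : IsMonHom (ej j D.M) := isMonHom_ej j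
  let c := D.split.inv.hom.hom ≫ D.i
  have hinv : D.split.inv.hom.hom ≫ D.split.hom.hom.hom = 𝟙 _ := congrArg (fun z => z.hom.hom) D.split.inv_hom_id
  let E : Grp.mk (Red.bc j D.T) ≅ Grp.mk (Red.DS S' D.M) := bcMapIso j D.split ≪≫ (grpIso (ej j D.M)).symm
  have hE : E.inv.hom.hom ≫ (Over.pullback j).map D.i = bcHom' j c := by
    rw [bcHom', show c = D.split.inv.hom.hom ≫ D.i from rfl, Functor.map_comp]
    exact Category.assoc _ _ _
  have hEi : E.hom.hom.hom ≫ E.inv.hom.hom = 𝟙 _ := congrArg (fun a => a.hom.hom) E.hom_inv_id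
  have hu : ∀ a, Red.IsRootHom c (Red.chi S (D.P.root a)) (D.u a) := fun a => by
    obtain ⟨h1, h2, h3⟩ := D.rootHom a
    refine ⟨h1, h2, fun X t x => ?_⟩
    obtain ⟨y, hy, hy'⟩ := h3 X (t ≫ D.split.inv.hom.hom) x
    simp only [Category.assoc] at hy
    rw [Category.assoc, reassoc_of% hinv] at hy'
    exact ⟨y, hy, hy'⟩
  refine ⟨{ T := Red.bc j D.T, i := (Over.pullback j).map D.i, M := D.M, idx := D.idx, P := D.P
            pairing_eq := D.pairing_eq, u := fun a => RootSys.bcGa j (D.u a)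
            reductive := isReductive_bc j D.reductive
            maximalTorus := Chev.MaxTorusBC.isMaximalTorus_bc D.i D.maximalTorus j, split := E
            rootHom := fun a => ⟨(RootSys.isRootHom_bc j (hu a)).1, (RootSys.isRootHom_bc j (hu a)).2.1, fun X t x => ?_⟩
            refl := fun a => ?_
            dim_fibre := fun x => ?_ }, Iso.refl _, Equiv.refl _, (Category.id_comp _).symm, fun a => rfl⟩
  · obtain ⟨y, hy, hy'⟩ := (RootSys.isRootHom_bc j (hu a)).2.2 X (t ≫ E.hom.hom.hom) x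
    rw [← hE, Category.assoc, ← Category.assoc E.hom.hom.hom, hEi, Category.id_comp] at hy
    rw [Category.assoc] at hy'
    exact ⟨y, hy, hy'⟩
  · obtain ⟨n, hn⟩ := D.refl a
    refine ⟨toBC j (toUnit _ ≫ n), fun X t => ?_⟩
    have h1 : toUnit X ≫ toBC j (toUnit _ ≫ n) = toBC j (toUnit ((Over.map j).obj X) ≫ n) := by
      rw [comp_toBC, ← Category.assoc, comp_toUnit]
    have h2 : ∀ d : Red.DS S D.M ⟶ G, (t ≫ E.hom.hom.hom) ≫ bcHom' j d =
        toBC j (((Over.map j).map (t ≫ E.hom.hom.hom) ≫ ejPt j D.M) ≫ d) := fun d => by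
      rw [bcHom', ← Category.assoc, comp_ej, ← toBC_comp]
    have hinv' : ∀ z : (Over.map j).obj X ⟶ G, toBC j z⁻¹ = (toBC j z)⁻¹ := fun z =>
      map_inv (MonoidHom.mk' (fun z : (Over.map j).obj X ⟶ G => toBC j z) (toBC_mul j)) z
    have ht : t ≫ (Over.pullback j).map D.i = (t ≫ E.hom.hom.hom) ≫ bcHom' j c := by
      rw [← hE, Category.assoc, ← Category.assoc E.hom.hom.hom, hEi, Category.id_comp]
    have hn' := hn _ (((Over.map j).map (t ≫ E.hom.hom.hom) ≫ ejPt j D.M) ≫ D.split.inv.hom.hom)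
    simp only [Category.assoc, reassoc_of% hinv] at hn'
    rw [h1, ht, hE, ← bcHom'_DSmap, ← Category.assoc t, h2, h2, ← toBC_mul, ← hinv', ← toBC_mul]
    simp only [c, Category.assoc]
    exact congrArg _ hn'
  · rw [← D.dim_fibre (j x)]
    refine (IsHomeomorph.topologicalKrullDim_eq _ (Scheme.homeoOfIso
        ((Over.forget _).mapIso ((Over.pullbackComp (Red.geomPt x) j).app G).symm)).isHomeomorph).trans ?_
    show topologicalKrullDim ↥(Red.bc (Red.geomPt x ≫ j) G).left = _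
    rw [MTImage.dim_bc_point, MTImage.dim_geomFibre, Scheme.Hom.comp_apply, MTImage.geomPt_closedPoint]

/-- A flat quasi-compact cover with an invertible `z ^ k - 1`. -/
theorem exists_unit_cover_left (X : Over S) {k : ℤ} (hk : k ≠ 0) :
    ∃ (X' : Over S) (q : X' ⟶ X) (z : X' ⟶ Red.Gm S), Flat q.left ∧ Surjective q.left ∧ QuasiCompact q.left ∧
      IsUnit (ch z (Multiplicative.ofAdd k) - 1) := by
  let n := k.natAbs
  have hn : n ≠ 0 := Int.natAbs_ne_zero.2 hk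
  obtain ⟨X', q, r, hq, hq', hq'', hr⟩ := exists_value_cover_qc X
    (Polynomial.X * (Polynomial.X ^ n - Polynomial.C 1)) fun Q hQ => by
      haveI := hQ
      haveI : IsDomain (Γ(X.left, ⊤) ⧸ Q) := Ideal.Quotient.isDomain _
      rw [Polynomial.map_mul, Polynomial.map_sub, Polynomial.map_pow, Polynomial.map_X, Polynomial.map_C, map_one]
      exact mul_ne_zero Polynomial.X_ne_zero (Polynomial.X_pow_sub_C_ne_zero (Nat.pos_of_ne_zero hn) 1)
  simp only [Polynomial.eval₂_mul, Polynomial.eval₂_sub, Polynomial.eval₂_X_pow, Polynomial.eval₂_X,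
    Polynomial.eval₂_C, Polynomial.eval₂_one, map_one] at hr
  obtain ⟨⟨v, rfl⟩, hr2⟩ := IsUnit.mul_iff.1 hr
  let z : X' ⟶ Red.Gm S := GmPts.ptOfUnit v
  refine ⟨X', q, z, hq, hq', hq'', ?_⟩
  have h1 : (ch z).toHomUnits (Multiplicative.ofAdd (1 : ℤ)) = v := Units.ext (by
    rw [MonoidHom.coe_toHomUnits, ← RootIntrinsic.gmFn_eq_ch]
    exact GmPts.gmFn_ptOfUnit v)
  have h2 : (ch z).toHomUnits (Multiplicative.ofAdd k) = v ^ k := by
    rw [← h1, ← map_zpow]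
    congr 1
    exact Multiplicative.toAdd.injective (by simp)
  rw [show ch z (Multiplicative.ofAdd k) = ((v ^ k : (Γ(X'.left, ⊤))ˣ) : Γ(X'.left, ⊤)) from
    congrArg Units.val h2]
  rcases Int.natAbs_eq k with h | h
  · rw [h, zpow_natCast, Units.val_pow_eq_pow_val]; exact hr2
  · rw [h, zpow_neg, zpow_natCast]
    have e : ((v ^ n)⁻¹ : (Γ(X'.left, ⊤))ˣ).val - 1 = -((v ^ n)⁻¹ : (Γ(X'.left, ⊤))ˣ).val * ((v : Γ(X'.left, ⊤)) ^ n - 1) := by
      rw [← Units.val_pow_eq_pow_val]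
      linear_combination Units.inv_mul (v ^ n)
    rw [e]
    exact (Units.isUnit _).neg.mul hr2

variable {H : Over S} [GrpObj H] {M : Type} [AddCommGroup M] [Module.Free ℤ M] [Module.Finite ℤ M]
  {idx : Type} [Fintype idx] {root : idx → M} {c : Red.DS S M ⟶ G} {u : idx → (Red.Ga S ⟶ G)}

/-- A natural family of homomorphisms on points into a commutative group kills the root groups. -/
theorem killed_root {S₀ : Scheme.{u}} (f : S ⟶ S₀) {A : Over S₀} [GrpObj A]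
    (hA : ∀ (Z : Over S₀) (x y : Z ⟶ A), x * y = y * x) (F : Frame c root u) (h : H ⟶ G) [IsMonHom h] [Mono h]
    (cH : Red.DS S M ⟶ H) (hcH : cH ≫ h = c) {a : idx} (v : Red.Ga S ⟶ H) (hv : v ≫ h = u a) {X : Over S}
    (χ : ∀ (X' : Over S), (X' ⟶ X) → ((X' ⟶ H) →* ((Over.map f).obj X' ⟶ A)))
    (hχ : ∀ (X'' X' : Over S) (p : X'' ⟶ X') (q : X' ⟶ X) (y : X' ⟶ H),
      χ X'' (p ≫ q) (p ≫ y) = (Over.map f).map p ≫ χ X' q y)
    (y : X ⟶ Red.Ga S) : χ X (𝟙 X) (y ≫ v) = 1 := by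
  haveI := F.hc.1
  haveI := (F.hu a).1
  haveI : IsMonHom v := MTSplit.isMonHom_of_comp_mono v h (u a) hv
  obtain ⟨mu, hmu⟩ := DynPar.exists_hom_ne_zero {root a}
  obtain ⟨X', q, z, hq, hq', hq'', hz⟩ :=
    exists_unit_cover_left X (hmu _ (Finset.mem_singleton_self _) (F.ne a))
  haveI := hq; haveI := hq'; haveI := hq''
  obtain ⟨w, hw⟩ := hz
  let t : X' ⟶ Red.DS S M := z ≫ Red.DSmap S mu
  obtain ⟨x, hx⟩ : ∃ x : X' ⟶ Red.Ga S, Red.gaFn x = (w⁻¹ : (Γ(X'.left, ⊤))ˣ) * Red.gaFn (q ≫ y) :=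
    ⟨BGaNotS.gaPt _, BGaNotS.gaFn_gaPt _⟩
  obtain ⟨y', hy, hy'⟩ := (F.hu a).2.2 X' t x
  have e : y' = (q ≫ y) * x := BGaNotS.gaPt_ext (by
    rw [hy', RootIntrinsic.gmFn_chi, BGaNotS.gaFn_mul, hx, show ch t (Multiplicative.ofAdd (root a)) =
      ch z (Multiplicative.ofAdd (mu (root a))) from ch_DSmap mu z _,
      ← sub_add_cancel (ch z (Multiplicative.ofAdd (mu (root a)))) 1, ← hw, add_mul, _root_.one_mul,
      ← _root_.mul_assoc, Units.mul_inv, _root_.one_mul])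
  have hH : ((q ≫ y) ≫ v) * (x ≫ v) = (t ≫ cH) * (x ≫ v) * (t ≫ cH)⁻¹ := by
    rw [← cancel_mono h, ← MonObj.mul_comp (q ≫ y), ← e, Category.assoc, hv, hy, MonObj.mul_comp, MonObj.mul_comp,
      GrpObj.inv_comp, Category.assoc x, hv, Category.assoc t, hcH]
  have h1 := congrArg (χ X' q) hH
  rw [map_mul, map_mul, map_mul, map_inv, hA _ (χ X' q (t ≫ cH)), mul_inv_cancel_right, mul_eq_right,
    Category.assoc] at h1
  have h2 := hχ X' X q (𝟙 X) (y ≫ v)
  rw [Category.comp_id, h1] at h2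
  haveI : Epi ((Over.map f).map q).left := by
    rw [Over.map_map_left]
    exact Flat.epi_of_flat_of_surjective q.left
  haveI : Epi ((Over.map f).map q) := (Over.forget S₀).epi_of_epi_map (inferInstanceAs (Epi ((Over.map f).map q).left))
  rw [← cancel_epi ((Over.map f).map q), MonObj.comp_one]
  exact h2.symm

/-- A product with a normal subgroup on the right gives a homomorphism onto the other factor. -/
theorem exists_retraction {T U : Over S} [GrpObj T] [GrpObj U] (t : T ⟶ H) [IsMonHom t] (i : U ⟶ H) [IsMonHom i]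
    (hn : AlgGrp.IsNormalHom i) [IsIso ((t ⊗ₘ i) ≫ μ[H])] :
    ∃ r : H ⟶ T, IsMonHom r ∧ t ≫ r = 𝟙 T ∧ ∀ (X : Over S) (z : X ⟶ H), (∃ y, y ≫ i = z) ↔ z ≫ r = 1 := by
  let φ : T ⊗ U ⟶ H := (t ⊗ₘ i) ≫ μ[H]
  have hφ : ∀ {X : Over S} (a : X ⟶ T) (b : X ⟶ U), lift a b ≫ φ = (a ≫ t) * (b ≫ i) := fun a b => by
    show lift a b ≫ (t ⊗ₘ i) ≫ μ[H] = _
    rw [← Category.assoc, lift_map]; rfl
  have hr : ∀ {X : Over S} (a : X ⟶ T) (b : X ⟶ U), ((a ≫ t) * (b ≫ i)) ≫ inv φ ≫ fst T U = a := fun a b => by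
    rw [← hφ, Category.assoc, IsIso.hom_inv_id_assoc, lift_fst]
  refine ⟨inv φ ≫ fst T U, MTBridge.isMonHom_of_points _ fun X p p' => ?_, ?_, fun X z => ⟨?_, fun hz => ?_⟩⟩
  · obtain ⟨a, b, rfl⟩ : ∃ a b, (a ≫ t) * (b ≫ i) = p :=
      ⟨(p ≫ inv φ) ≫ fst _ _, (p ≫ inv φ) ≫ snd _ _, by
        rw [← hφ, ← comp_lift, lift_fst_snd, Category.comp_id, Category.assoc, IsIso.inv_hom_id, Category.comp_id]⟩
    obtain ⟨a', b', rfl⟩ : ∃ a b, (a ≫ t) * (b ≫ i) = p' :=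
      ⟨(p' ≫ inv φ) ≫ fst _ _, (p' ≫ inv φ) ≫ snd _ _, by
        rw [← hφ, ← comp_lift, lift_fst_snd, Category.comp_id, Category.assoc, IsIso.inv_hom_id, Category.comp_id]⟩
    obtain ⟨b₁, hb₁⟩ := hn X (a' ≫ t)⁻¹ b
    have e : (a ≫ t) * (b ≫ i) * ((a' ≫ t) * (b' ≫ i)) = ((a * a') ≫ t) * ((b₁ * b') ≫ i) := by
      rw [MonObj.mul_comp, MonObj.mul_comp, ← hb₁]
      group
    rw [e, hr, hr, hr]
  · have := hr (𝟙 T) (1 : T ⟶ U)
    rwa [MonObj.one_comp, _root_.mul_one, Category.id_comp] at this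
  · rintro ⟨y, rfl⟩
    have := hr (1 : X ⟶ T) y
    rwa [MonObj.one_comp, _root_.one_mul] at this
  · refine ⟨z ≫ inv φ ≫ snd T U, ?_⟩
    have e : (z ≫ inv φ) ≫ φ = z := by rw [Category.assoc, IsIso.inv_hom_id, Category.comp_id]
    have e2 := hφ ((z ≫ inv φ) ≫ fst T U) ((z ≫ inv φ) ≫ snd T U)
    rw [← comp_lift, lift_fst_snd, Category.comp_id, e] at e2
    conv_rhs => rw [e2]
    rw [Category.assoc z _ (fst T U), hz, MonObj.one_comp, _root_.one_mul]
    simp only [Category.assoc]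

variable (D : Red.SplitRed G) (h : H ⟶ G) (hH : RedSub.IsTypeR h) (t : D.T ⟶ H) (ht : t ≫ h = D.i)

include hH ht in
/-- **Split case**: a retraction onto the torus, through which natural homomorphisms to commutative groups factor. -/
theorem split_torus_part (R' : Set D.idx) (hrs : ∀ a (s : S), InFib h (D.u a) s ↔ a ∈ R')
    (hfac : ∀ a ∈ R', ∃ v : Red.Ga S ⟶ H, v ≫ h = D.u a) (b : D.P.Base) (hb : R' ⊆ RedSub.posRoots D.P b) :
    letI := D.grpT
    (∃ (U : Over S) (_ : GrpObj U) (i : U ⟶ H) (r : H ⟶ D.T), Par.IsUnipotentRadical i ∧ IsIso ((t ⊗ₘ i) ≫ μ[H]) ∧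
      IsMonHom r ∧ t ≫ r = 𝟙 D.T ∧ ∀ (X : Over S) (z : X ⟶ H), (∃ y, y ≫ i = z) ↔ z ≫ r = 1) ∧
      ∀ {S₀ : Scheme.{u}} (f : S ⟶ S₀) {A : Over S₀} [GrpObj A],
        (∀ (Z : Over S₀) (x y : Z ⟶ A), x * y = y * x) → ∀ (X : Over S)
        (χ χ' : ∀ (X' : Over S), (X' ⟶ X) → ((X' ⟶ H) →* ((Over.map f).obj X' ⟶ A))),
        (∀ (X'' X' : Over S) (p : X'' ⟶ X') (q : X' ⟶ X) (y : X' ⟶ H),
          χ X'' (p ≫ q) (p ≫ y) = (Over.map f).map p ≫ χ X' q y) →
        (∀ (X'' X' : Over S) (p : X'' ⟶ X') (q : X' ⟶ X) (y : X' ⟶ H),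
          χ' X'' (p ≫ q) (p ≫ y) = (Over.map f).map p ≫ χ' X' q y) →
        (∀ a : X ⟶ D.T, χ X (𝟙 X) (a ≫ t) = χ' X (𝟙 X) (a ≫ t)) →
        ∀ y : X ⟶ H, χ X (𝟙 X) y = χ' X (𝟙 X) y := by
  classical
  letI := D.grpT
  letI := D.acgM
  letI := D.fintypeIdx
  letI := D.finiteM
  letI := D.freeM
  obtain ⟨⟨hm, himm⟩, -, -, -, -⟩ := id hH
  haveI := hm; haveI := himm
  haveI : Mono h := Over.mono_of_mono_left h
  obtain ⟨hcm, hcH⟩ := cH_hcH D h t ht
  haveI := hcm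
  haveI := D.maximalTorus.1
  haveI : IsMonHom t := MTSplit.isMonHom_of_comp_mono t h D.i ht
  have F := frame_of_splitRed D
  obtain ⟨U, _, i, him, -, -, hrad, hiso, hprod⟩ := exists_unipRad_pattern D h hH t ht R' hrs hfac b hb
  haveI := him
  haveI := hiso
  obtain ⟨r, hr⟩ := exists_retraction t i hrad.2.2.1
  refine ⟨⟨U, inferInstance, i, r, hrad, hiso, hr⟩, ?_⟩
  intro S₀ f A _ hA X χ χ' hχ hχ' hT y
  obtain ⟨m, e, -, he⟩ := exists_extend R' (Fin.elim0 : Fin 0 → D.idx) (fun x => x.elim0) fun k => k.elim0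
  obtain ⟨ψ, hψ⟩ := hprod _ he
  choose v hv using fun l => hfac _ (he.2.subset ⟨l, rfl⟩)
  have hi : i = ψ.inv ≫ RedSub.prodMap (Red.Ga S) _ v := by
    rw [← cancel_epi ψ.hom, Iso.hom_inv_id_assoc, ← cancel_mono h, Category.assoc, hψ, prodMap_comp_hom]
    simp only [hv]
  obtain ⟨p, hp⟩ : ∃ p, p ≫ (t ⊗ₘ i) ≫ μ[H] = y := ⟨y ≫ inv ((t ⊗ₘ i) ≫ μ[H]), by simp⟩
  have e1 : y = ((p ≫ fst _ _) ≫ t) * ((p ≫ snd _ _) ≫ i) := by
    rw [← hp, ← Category.assoc, show p ≫ (t ⊗ₘ i) = lift ((p ≫ fst _ _) ≫ t) ((p ≫ snd _ _) ≫ i) by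
      apply CartesianMonoidalCategory.hom_ext <;> simp]
    rfl
  have key : ∀ (θ : ∀ (X' : Over S), (X' ⟶ X) → ((X' ⟶ H) →* ((Over.map f).obj X' ⟶ A))),
      (∀ (X'' X' : Over S) (p : X'' ⟶ X') (q : X' ⟶ X) (y : X' ⟶ H),
        θ X'' (p ≫ q) (p ≫ y) = (Over.map f).map p ≫ θ X' q y) → θ X (𝟙 X) ((p ≫ snd _ _) ≫ i) = 1 :=
    fun θ hθ => by
      rw [hi, ← Category.assoc, comp_prodMap_eq, map_list_prod, List.map_ofFn]
      refine List.prod_eq_one fun g hg => ?_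
      obtain ⟨l, rfl⟩ := List.mem_ofFn.1 hg
      exact killed_root f hA F h _ hcH (v l) (hv l) θ hθ _
  rw [e1, map_mul, map_mul, key χ hχ, key χ' hχ', hT]

end Groth.Agent.RootBase
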