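import Groth.Agent.RootBase.SplitMap
import Groth.Agent.RootBase.IsoSplit

/-!
# The type of a fibre from a splitting after a change of base
-/

set_option autoImplicit false
set_option backward.isDefEq.respectTransparency false
set_option linter.style.haveILetI false
set_option maxHeartbeats 1000000
set_option synthInstance.maxHeartbeats 400000

universe u

open CategoryTheory Limits MonoidalCategory CartesianMonoidalCategory MonObj GrpObj AlgebraicGeometry
open scoped CategoryTheory.Obj

noncomputable section

namespace Groth.Agent.RootBase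

open Groth.Agent.HomDiag Groth.Agent.MTBridge

/-- The geometric fibre at the image of a point has the type of a splitting over the source. -/
theorem nonempty_equiv_fibre {S W : Scheme.{u}} (f : W ⟶ S) (w : W) {G : Over S} [GrpObj G] (hG : Red.IsReductive G)
    (D : Red.SplitRed (Red.bc f G)) (E : Red.SplitRed (Red.geomFibre (f w) G)) :
    Nonempty (RootPairing.Equiv E.P D.P) := by
  set K := AlgebraicClosure (W.residueField w)
  set k := AlgebraicClosure (S.residueField (f w))
  let r : S.residueField (f w) →+* K :=
    (algebraMap (W.residueField w) K).comp (Scheme.Hom.residueFieldMap f w).hom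
  letI : Algebra (S.residueField (f w)) K := r.toAlgebra
  let ι' : k →ₐ[S.residueField (f w)] K := IsAlgClosed.lift
  let q := Spec.map (CommRingCat.ofHom ι'.toRingHom)
  have hq : q ≫ Red.geomPt (f w) = Red.geomPt w ≫ f := by
    rw [Red.geomPt, Red.geomPt, Category.assoc, ← Scheme.Hom.SpecMap_residueFieldMap_fromSpecResidueField,
      ← Spec.map_comp_assoc, ← Spec.map_comp_assoc]
    congr 2
    ext x
    exact ι'.commutes x
  obtain ⟨F₁, ⟨p₁⟩⟩ := exists_bc_comp (Red.geomPt w) (rfl : Red.geomPt w ≫ f = Red.geomPt w ≫ f) hG D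
  obtain ⟨F₂, ⟨p₂⟩⟩ := exists_bc_comp q hq hG E
  obtain ⟨c⟩ := nonempty_equiv_of_algClosed F₂ F₁
  exact ⟨RootPairing.Equiv.comp p₁ (RootPairing.Equiv.comp c (RootPairing.Equiv.symm _ _ p₂))⟩

/-- A point over which two splittings are comparable. -/
theorem nonempty_equiv_pair {S W : Scheme.{u}} (f : W ⟶ S) (w w' : W) {G : Over S} [GrpObj G] (hG : Red.IsReductive G)
    (D : Red.SplitRed (Red.bc f G)) (E : Red.SplitRed (Red.geomFibre (f w) G))
    (E' : Red.SplitRed (Red.geomFibre (f w') G)) : Nonempty (RootPairing.Equiv E.P E'.P) := by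
  obtain ⟨e⟩ := nonempty_equiv_fibre f w hG D E
  obtain ⟨e'⟩ := nonempty_equiv_fibre f w' hG D E'
  exact ⟨RootPairing.Equiv.comp (RootPairing.Equiv.symm _ _ e') e⟩

end Groth.Agent.RootBase
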