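import Groth.Agent.RootBase.Coef

/-!
# The coefficients along a root string
-/

set_option autoImplicit false
set_option backward.isDefEq.respectTransparency false
set_option linter.style.haveILetI false
set_option maxHeartbeats 1000000
set_option synthInstance.maxHeartbeats 400000

universe u

open CategoryTheory Limits MonoidalCategory CartesianMonoidalCategory MonObj GrpObj AlgebraicGeometry LieS
open scoped CategoryTheory.Obj

noncomputable section

namespace Groth.Agent.RootBase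

open Groth.Agent.HomDiag Groth.Agent.DynPar Groth.Agent.RootSys Groth.Agent.MTBridge

variable {S : Scheme.{u}} {G : Over S} [GrpObj G] {M : Type} [AddCommGroup M] [Module.Free ℤ M] [Module.Finite ℤ M]
  {c : Red.DS S M ⟶ G} {idx : Type} [Fintype idx] {P : RootPairing idx ℤ M (Module.Dual ℤ M)}
  {u : idx → (Red.Ga S ⟶ G)}

theorem li_add {a b : idx} (hli : ∀ x y : ℤ, x • P.root a + y • P.root b = 0 → x = 0 ∧ y = 0) {e : idx} {i j : ℤ}
    (hj : j ≠ 0) (he : P.root e = i • P.root a + j • P.root b) :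
    ∀ x y : ℤ, x • P.root a + y • P.root e = 0 → x = 0 ∧ y = 0 := fun x y h => by
  obtain ⟨h1, h2⟩ := hli (x + y * i) (y * j) (by rw [← h, he]; module)
  have hy : y = 0 := (mul_eq_zero.1 h2).resolve_right hj
  exact ⟨by rw [hy, zero_mul, add_zero] at h1; exact h1, hy⟩

theorem li_neg {a a' b : idx} (hli : ∀ x y : ℤ, x • P.root a + y • P.root b = 0 → x = 0 ∧ y = 0)
    (ha' : P.root a' = -P.root a) : ∀ x y : ℤ, x • P.root a' + y • P.root b = 0 → x = 0 ∧ y = 0 := fun x y h => by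
  obtain ⟨h1, h2⟩ := hli (-x) y (by rw [ha', smul_neg] at h; rw [neg_smul]; exact h)
  exact ⟨by omega, h2⟩

/-- Roots whose sum is no root commute. -/
theorem Frame.word_eq_one [P.IsReduced] (F : Frame c P.root u) {a b : idx}
    (hli : ∀ x y : ℤ, x • P.root a + y • P.root b = 0 → x = 0 ∧ y = 0)
    (hab : P.root a + P.root b ∉ Set.range P.root) {X : Over S} (x y : X ⟶ Red.Ga S) :
    word (u a) (u b) x y = 1 := by
  obtain ⟨C, hf⟩ := F.exists_formula' hli (n := 0) Fin.elim0 Fin.elim0 Fin.elim0 (fun k => k.elim0) (fun k => k.elim0)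
    fun d p q hp hq h => absurd h (not_root_of_add_notMem P hli hab p q d hp hq)
  rw [hf.eq X x y Fin.elim0 fun k => k.elim0, List.ofFn_zero, List.prod_nil]

/-- The conjugate by a product of root elements. -/
theorem Frame.coef_top [P.IsReduced] (F : Frame c P.root u) {a a' b t : idx} {m : ℕ} (hm : 1 ≤ m)
    (hli : ∀ x y : ℤ, x • P.root a + y • P.root b = 0 → x = 0 ∧ y = 0) (ha' : P.root a' = -P.root a)
    (ht : P.root t = (m : ℤ) • P.root a + P.root b) (hta : P.root a + P.root t ∉ Set.range P.root) (et ε : Γ(S, ⊤))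
    (hn : ((eOne (𝟙_ (Over S)) ≫ u a) * (eC (𝟙_ (Over S)) et ≫ u a') * (eOne (𝟙_ (Over S)) ≫ u a)) *
        (eOne (𝟙_ (Over S)) ≫ u b) *
        ((eOne (𝟙_ (Over S)) ≫ u a) * (eC (𝟙_ (Over S)) et ≫ u a') * (eOne (𝟙_ (Over S)) ≫ u a))⁻¹ =
      eC (𝟙_ (Over S)) ε ≫ u t) :
    IsCoef P u a b t m ε ∧
    (∀ (d : idx) (i : ℕ) (κ κ' : Γ(S, ⊤)), 1 ≤ i → i < m → P.root d = (i : ℤ) • P.root a + P.root b →
      IsCoef P u a b d i κ → IsCoef P u a' t d (m - i) κ' → κ = κ' * (-et) ^ (m - i) * ε) ∧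
    ∀ κ' : Γ(S, ⊤), IsCoef P u a' t b m κ' → κ' * (-et) ^ m * ε = 1 := by
  let U := 𝟙_ (Over S)
  have hlat : ∀ x y : ℤ, x • P.root a + y • P.root t = 0 → x = 0 ∧ y = 0 :=
    li_add (i := (m : ℤ)) hli one_ne_zero (by rw [ht, one_smul])
  have hlat' : ∀ x y : ℤ, x • P.root a' + y • P.root t = 0 → x = 0 ∧ y = 0 := li_neg hlat ha'
  have hcomm : (eOne U ≫ u a) * (eC U ε ≫ u t) = (eC U ε ≫ u t) * (eOne U ≫ u a) := by
    have h := F.word_eq_one hlat hta (eOne U) (eC U ε)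
    rw [word] at h
    exact (mul_inv_eq_iff_eq_mul.1 (inv_mul_eq_one.1 h).symm)
  -- the fundamental identity
  have hneg : eC U (-et) = (eC U et)⁻¹ := by
    refine eq_inv_of_mul_eq_one_left (BGaNotS.gaPt_ext ?_)
    rw [BGaNotS.gaFn_mul, BGaNotS.gaFn_one, eC, eC, BGaNotS.gaFn_gaPt, BGaNotS.gaFn_gaPt, ← map_add, neg_add_cancel,
      map_zero]
  have key : (eOne U ≫ u a) * (eOne U ≫ u b) * (eOne U ≫ u a)⁻¹ =
      (eC U (-et) ≫ u a') * (eC U ε ≫ u t) * (eC U (-et) ≫ u a')⁻¹ := by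
    haveI := (F.hu a').1
    rw [hneg, GrpObj.inv_comp, _root_.inv_inv]
    calc (eOne U ≫ u a) * (eOne U ≫ u b) * (eOne U ≫ u a)⁻¹
        = (eC U et ≫ u a')⁻¹ * ((eOne U ≫ u a)⁻¹ * (((eOne U ≫ u a) * (eC U et ≫ u a') * (eOne U ≫ u a)) *
            (eOne U ≫ u b) * ((eOne U ≫ u a) * (eC U et ≫ u a') * (eOne U ≫ u a))⁻¹) * (eOne U ≫ u a)) *
            (eC U et ≫ u a') := by group
      _ = (eC U et ≫ u a')⁻¹ * (eC U ε ≫ u t) * (eC U et ≫ u a') := by
          rw [hn, _root_.mul_assoc (eOne U ≫ u a)⁻¹, ← hcomm, inv_mul_cancel_left]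
  obtain ⟨lam, N, L, hN, ha, hb, haL, hbL, hL⟩ := exists_plane P hli
  have ha'0 : lam (P.root a') = 0 := by rw [ha', map_neg, ha, neg_zero]
  have ha'L : P.root a' ∈ L := by rw [ha']; exact neg_mem haL
  have htN : lam (P.root t) = N := by rw [ht, map_add, map_zsmul, ha, hb, smul_zero, zero_add]
  have htL : P.root t ∈ L := by rw [ht]; exact add_mem (zsmul_mem haL _) hbL
  -- read at a root of the string
  have hread : ∀ (d : idx) (i : ℕ), P.root d = (i : ℤ) • P.root a + P.root b →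
      ∃ Dom π, IsLevel u P.root lam L d Dom π ∧ lam (P.root d) = N := fun d i hd => by
    have h1 : lam (P.root d) = N := by rw [hd, map_add, map_zsmul, ha, hb, smul_zero, zero_add]
    obtain ⟨Dom, π, h⟩ := F.exists_level lam N hN L hL d (by rw [hd]; exact add_mem (zsmul_mem haL _) hbL) h1
    exact ⟨Dom, π, h, h1⟩
  have hd' : ∀ (d : idx) (i : ℕ), i ≤ m → P.root d = (i : ℤ) • P.root a + P.root b →
      P.root d = ((m - i : ℕ) : ℤ) • P.root a' + P.root t := fun d i hi hd => by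
    rw [hd, ha', ht, Nat.cast_sub hi]; module
  refine ⟨?_, fun d i κ κ' hi him hd hκ hκ' => ?_, fun κ' hκ' => ?_⟩
  · obtain ⟨κ, hκ⟩ := F.exists_coef hli hm ht
    obtain ⟨Dom, π, h, hdN⟩ := hread t m ht
    have e1 := (F.pi_conj hli hN ha (hb.symm ▸ hN) haL hbL hdN ⟨1, by rw [hb, _root_.mul_one]⟩ h (eOne U) (eOne U)).2.1 m κ hm ht hκ
    rw [key, (F.pi_conj hlat' hN ha'0 (htN.symm ▸ hN) ha'L htL hdN ⟨1, by rw [htN, _root_.mul_one]⟩ h (eC U (-et)) (eC U ε)).2.2.1 rfl] at e1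
    simp only [eC, eOne, BGaNotS.gaFn_gaPt, one_pow, _root_.mul_one, U, appTop_unit] at e1
    exact e1 ▸ hκ
  · obtain ⟨Dom, π, h, hdN⟩ := hread d i hd
    have e1 := (F.pi_conj hli hN ha (hb.symm ▸ hN) haL hbL hdN ⟨1, by rw [hb, _root_.mul_one]⟩ h (eOne U) (eOne U)).2.1 i κ hi hd hκ
    rw [key, (F.pi_conj hlat' hN ha'0 (htN.symm ▸ hN) ha'L htL hdN ⟨1, by rw [htN, _root_.mul_one]⟩ h (eC U (-et)) (eC U ε)).2.1
      (m - i) κ' (by omega) (hd' d i him.le hd) hκ'] at e1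
    simp only [eC, eOne, BGaNotS.gaFn_gaPt, one_pow, _root_.mul_one, U, appTop_unit] at e1
    exact e1.symm
  · have hd0 : P.root b = ((0 : ℕ) : ℤ) • P.root a + P.root b := by rw [Nat.cast_zero, zero_smul, zero_add]
    obtain ⟨Dom, π, h, hdN⟩ := hread b 0 hd0
    have e1 := (F.pi_conj hli hN ha (hb.symm ▸ hN) haL hbL hdN ⟨1, by rw [hb, _root_.mul_one]⟩ h (eOne U) (eOne U)).2.2.1 rfl
    rw [key, (F.pi_conj hlat' hN ha'0 (htN.symm ▸ hN) ha'L htL hdN ⟨1, by rw [htN, _root_.mul_one]⟩ h (eC U (-et)) (eC U ε)).2.1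
      m κ' hm (hd' b 0 (by omega) hd0) hκ'] at e1
    simp only [eC, eOne, BGaNotS.gaFn_gaPt, one_pow, _root_.mul_one, U, appTop_unit] at e1
    exact e1

/-- The coefficients of a string form an exponential. -/
theorem Frame.coef_comp (F : Frame c P.root u) {a b d : idx}
    (hli : ∀ x y : ℤ, x • P.root a + y • P.root b = 0 → x = 0 ∧ y = 0) {I : ℕ} (hI : 1 ≤ I)
    (hd : P.root d = (I : ℤ) • P.root a + P.root b) {κ : Γ(S, ⊤)} (hκ : IsCoef P u a b d I κ)
    (mid : Fin (I - 1) → idx) (hmid : ∀ q, P.root (mid q) = ((q.val + 1 : ℕ) : ℤ) • P.root a + P.root b)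
    (K K' : Fin (I - 1) → Γ(S, ⊤)) (hK : ∀ q, IsCoef P u a b (mid q) (q.val + 1) (K q))
    (hK' : ∀ q, IsCoef P u a (mid q) d (I - 1 - q.val) (K' q)) :
    Polynomial.C κ * (Polynomial.X + 1) ^ I = Polynomial.C κ * Polynomial.X ^ I + Polynomial.C κ +
      ∑ q, Polynomial.C (K q * K' q) * Polynomial.X ^ (I - 1 - q.val) := by
  classical
  refine sub_eq_zero.1 (eq_zero_of_eval _ fun X x => ?_)
  simp only [Polynomial.eval₂_sub, Polynomial.eval₂_add, Polynomial.eval₂_mul, Polynomial.eval₂_pow,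
    Polynomial.eval₂_X, Polynomial.eval₂_C, Polynomial.eval₂_one, Polynomial.eval₂_finsetSum, map_mul]
  rw [sub_eq_zero]
  obtain ⟨lam, N, L, hN, ha, hb, haL, hbL, hL⟩ := exists_plane P hli
  have hdN : lam (P.root d) = N := by rw [hd, map_add, map_zsmul, ha, hb, smul_zero, zero_add]
  obtain ⟨Dom, π, h⟩ := F.exists_level lam N hN L hL d (by rw [hd]; exact add_mem (zsmul_mem haL _) hbL) hdN
  obtain ⟨n, e, i, j, C, hf⟩ := F.exists_formula hli
  let o := eOne X
  let z : Fin n → (X ⟶ Red.Ga S) := fun k =>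
    BGaNotS.gaPt (X.hom.appTop (C k) * Red.gaFn o ^ i k * Red.gaFn o ^ j k)
  have hin : (o ≫ u a) * (o ≫ u b) * (o ≫ u a)⁻¹ = (o ≫ u b) * (List.ofFn fun k => z k ≫ u (e k)).prod := by
    rw [← hf.eq X o o z fun k => BGaNotS.gaFn_gaPt _, word, mul_inv_cancel_left]
  have hsum : ((x * o) ≫ u a) * (o ≫ u b) * ((x * o) ≫ u a)⁻¹ =
      ((x ≫ u a) * (o ≫ u b) * (x ≫ u a)⁻¹) *
        (List.ofFn fun k => (x ≫ u a) * (z k ≫ u (e k)) * (x ≫ u a)⁻¹).prod := by
    haveI := (F.hu a).1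
    rw [← conj_ofFn_prod, MonObj.mul_comp]
    have := hin
    calc (x ≫ u a) * (o ≫ u a) * (o ≫ u b) * ((x ≫ u a) * (o ≫ u a))⁻¹
        = (x ≫ u a) * ((o ≫ u a) * (o ≫ u b) * (o ≫ u a)⁻¹) * (x ≫ u a)⁻¹ := by group
      _ = _ := by rw [hin]; group
  have hbz : ∃ w : ℤ, lam (P.root b) = N * w := ⟨1, by rw [hb, _root_.mul_one]⟩
  have hek : ∀ k, 0 < lam (P.root (e k)) ∧ P.root (e k) ∈ L ∧
      (∀ p q : ℤ, p • P.root a + q • P.root (e k) = 0 → p = 0 ∧ q = 0) ∧
      ∃ w : ℤ, lam (P.root (e k)) = N * w := fun k => by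
    obtain ⟨hi, hj, hk⟩ := hf.hij k
    refine ⟨?_, by rw [hk]; exact add_mem (zsmul_mem haL _) (zsmul_mem hbL _),
      li_add hli (by omega) hk, ⟨j k, ?_⟩⟩
    · rw [hk, map_add, map_zsmul, map_zsmul, ha, hb, smul_zero, zero_add, smul_eq_mul]
      have : (1 : ℤ) ≤ j k := by omega
      positivity
    · rw [hk, map_add, map_zsmul, map_zsmul, ha, hb, smul_zero, zero_add, smul_eq_mul, mul_comm]
  have hc := fun k => F.pi_conj (hek k).2.2.1 hN ha (hek k).1 haL (hek k).2.1 hdN (hek k).2.2.2 h x (z k)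
  obtain ⟨hP1, hP2⟩ := h.map_prod (fun k => (x ≫ u a) * (z k ≫ u (e k)) * (x ≫ u a)⁻¹) fun k => (hc k).1
  obtain ⟨hQ0, hQ1, -, -⟩ := F.pi_conj hli hN ha (hb.symm ▸ hN) haL hbL hdN hbz h x o
  obtain ⟨-, hR1, -, -⟩ := F.pi_conj hli hN ha (hb.symm ▸ hN) haL hbL hdN hbz h (x * o) o
  have e1 := hR1 I κ hI hd hκ
  rw [hsum, h.map_mul X _ _ hQ0 hP1, hP2, hQ1 I κ hI hd hκ] at e1
  simp only [o, eOne, BGaNotS.gaFn_mul, BGaNotS.gaFn_gaPt, _root_.mul_one] at e1
  rw [← e1, add_assoc]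
  congr 1
  -- the surviving terms
  have hg : ∀ q : Option (Fin (I - 1)), ∃ k, e k = (q.elim d mid) := fun q => by
    cases q with
    | none => exact hf.hall d I 1 hI le_rfl (by rw [Nat.cast_one, one_smul]; exact hd)
    | some q => exact hf.hall (mid q) (q.val + 1) 1 (by omega) le_rfl (by rw [Nat.cast_one, one_smul]; exact hmid q)
  choose g hg using hg
  have hgi : Function.Injective g := fun q q' hq => by
    have e2 := congrArg (fun k => P.root (e k)) hq
    simp only [hg] at e2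
    cases q with
    | none => cases q' with
      | none => rfl
      | some q' =>
        simp only [Option.elim_none, Option.elim_some, hd, hmid] at e2
        obtain ⟨h3, -⟩ := hli ((I : ℤ) - (q'.val + 1 : ℕ)) 0 (by linear_combination (norm := module) e2)
        omega
    | some q => cases q' with
      | none =>
        simp only [Option.elim_none, Option.elim_some, hd, hmid] at e2
        obtain ⟨h3, -⟩ := hli ((I : ℤ) - (q.val + 1 : ℕ)) 0 (by linear_combination (norm := module) -(1 : ℤ) • e2)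
        omega
      | some q' =>
        simp only [Option.elim_some, hmid] at e2
        obtain ⟨h3, -⟩ := hli ((q.val : ℤ) - q'.val) 0 (by push_cast at e2; linear_combination (norm := module) e2)
        exact congrArg some (Fin.ext (by omega))
  rw [← Fintype.sum_of_injective g hgi
    (fun q => π X ((x ≫ u a) * (z (g q) ≫ u (e (g q))) * (x ≫ u a)⁻¹))
    (fun k => π X ((x ≫ u a) * (z k ≫ u (e k)) * (x ≫ u a)⁻¹)) ?_ (fun _ => rfl), Fintype.sum_option]
  · congr 1
    · rw [(hc (g none)).2.2.1 (hg none)]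
      obtain ⟨h3, h4⟩ := exponents_eq hli (hf.hij (g none)).2.2
        (show P.root (e (g none)) = (I : ℤ) • P.root a + ((1 : ℕ) : ℤ) • P.root b by
          rw [Nat.cast_one, one_smul, hg]; exact hd)
      have hC : C (g none) = κ := F.coef_eq hli hd
        (by have := hf.isCoef (g none) h4; rw [hg, h3] at this; exact this) hκ
      simp [z, o, eOne, BGaNotS.gaFn_gaPt, hC]
    · refine Finset.sum_congr rfl fun q _ => ?_
      obtain ⟨h3, h4⟩ := exponents_eq hli (hf.hij (g (some q))).2.2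
        (show P.root (e (g (some q))) = ((q.val + 1 : ℕ) : ℤ) • P.root a + ((1 : ℕ) : ℤ) • P.root b by
          rw [Nat.cast_one, one_smul, hg]; exact hmid q)
      have hC : C (g (some q)) = K q := F.coef_eq hli (hmid q)
        (by have := hf.isCoef (g (some q)) h4; rw [hg, h3] at this; exact this) (hK q)
      rw [(hc (g (some q))).2.1 (I - 1 - q.val) (K' q) (by omega) ?_ (by rw [hg]; exact hK' q)]
      · simp only [z, o, eOne, BGaNotS.gaFn_gaPt, one_pow, _root_.mul_one, hC]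
        ring
      · rw [hg, Option.elim_some, hmid, hd, Nat.cast_sub (show q.val ≤ I - 1 by omega), Nat.cast_sub hI]
        push_cast
        module
  · intro k hk
    by_cases hkd : e k = d
    · exact absurd ⟨none, hf.inj ((hg none).trans hkd.symm)⟩ hk
    refine (hc k).2.2.2 fun p hp => ?_
    obtain ⟨hi, hj, hkr⟩ := hf.hij k
    have h5 := hp
    rw [hkr, hd] at h5
    obtain ⟨h6, h7⟩ := hli ((p : ℤ) + i k - I) ((j k : ℤ) - 1) (by linear_combination (norm := module) -(1 : ℤ) • h5)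
    have hp0 : p ≠ 0 := fun hp0 => by
      rw [hp0, Nat.cast_zero, zero_smul, zero_add] at hp
      exact hkd (P.root.injective hp.symm)
    refine hk ⟨some ⟨i k - 1, by omega⟩, hf.inj ?_⟩
    rw [hg, Option.elim_some]
    refine P.root.injective ?_
    rw [hmid, hkr, show ((j k : ℕ) : ℤ) = 1 by omega, one_smul]
    congr 2
    show ((i k - 1 + 1 : ℕ) : ℤ) = _
    omega

end Groth.Agent.RootBase
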