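import Groth.Agent.RootBase.BruhatOrbit
import Groth.Agent.RootSys.BaseExists
import Mathlib.LinearAlgebra.RootSystem.Reduced

/-!
# The root datum of a set of roots stable under its reflections
-/

set_option autoImplicit false
set_option backward.isDefEq.respectTransparency false
set_option linter.style.haveILetI false
set_option maxHeartbeats 1000000

noncomputable section

namespace Groth.Agent.RootBase

variable {idx M : Type} [AddCommGroup M] (P : RootPairing idx ℤ M (Module.Dual ℤ M)) (R : Set idx)
  (hst : ∀ a ∈ R, ∀ b ∈ R, P.reflectionPerm a b ∈ R)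

/-- The datum of a stable set of roots. -/
def subPairing : RootPairing ↥R ℤ M (Module.Dual ℤ M) where
  toLinearMap := P.toLinearMap
  root := (Function.Embedding.subtype _).trans P.root
  coroot := (Function.Embedding.subtype _).trans P.coroot
  root_coroot_two a := P.root_coroot_two a.1
  reflectionPerm a :=
    { toFun := fun b => ⟨P.reflectionPerm a.1 b.1, hst a.1 a.2 b.1 b.2⟩
      invFun := fun b => ⟨P.reflectionPerm a.1 b.1, hst a.1 a.2 b.1 b.2⟩
      left_inv := fun b => Subtype.ext (P.reflectionPerm_self a.1 b.1)
      right_inv := fun b => Subtype.ext (P.reflectionPerm_self a.1 b.1) }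
  reflectionPerm_root a b := P.reflectionPerm_root a.1 b.1
  reflectionPerm_coroot a b := P.reflectionPerm_coroot a.1 b.1

@[simp] theorem subPairing_root (a : ↥R) : (subPairing P R hst).root a = P.root a.1 := rfl

@[simp] theorem subPairing_coroot (a : ↥R) : (subPairing P R hst).coroot a = P.coroot a.1 := rfl

theorem subPairing_refl (a b : ↥R) : ((subPairing P R hst).reflectionPerm a b).1 = P.reflectionPerm a.1 b.1 := rfl

instance [P.IsReduced] : (subPairing P R hst).IsReduced := by
  refine ⟨fun i j h => ?_⟩
  exact RootPairing.IsReduced.eq_or_eq_neg (P := P) i.1 j.1 h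

theorem wperm_sub : ∀ (l : List ↥R) (x : ↥R),
    (wperm (subPairing P R hst) l x).1 = wperm P (l.map Subtype.val) x.1
  | [], x => by simp [wperm]
  | a :: l, x => by
    rw [List.map_cons, wperm_cons, wperm_cons, Equiv.Perm.mul_apply, Equiv.Perm.mul_apply,
      subPairing_refl, wperm_sub l x]

include hst in
theorem wperm_stable (l : List ↥R) {x : idx} (hx : x ∈ R) :
    wperm P (l.map Subtype.val) x ∈ R := by
  rw [← wperm_sub P R hst l ⟨x, hx⟩]
  exact Subtype.coe_prop _

include hst in
/-- The inverse permutation keeps the set. -/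
theorem wperm_stable_symm (l : List ↥R) {x : idx} (hx : x ∈ R) :
    (wperm P (l.map Subtype.val)).symm x ∈ R := by
  have h : (wperm P (l.map Subtype.val)).symm = wperm P (l.reverse.map Subtype.val) := by
    rw [List.map_reverse]
    refine Equiv.ext fun y => (Equiv.symm_apply_eq _).2 ?_
    rw [← Equiv.Perm.mul_apply]
    have h1 := wperm_reverse_mul (P := P) (l.map Subtype.val).reverse
    rw [List.reverse_reverse] at h1
    rw [h1]
    rfl
  rw [h]
  exact wperm_stable P R hst l.reverse hx

variable [Fintype idx] [Module.Free ℤ M] [Module.Finite ℤ M] [P.IsReduced]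

include hst in
/-- The datum of a stable set of roots has a base. -/
theorem nonempty_subBase (hP : P.toLinearMap = Module.Dual.eval ℤ M) :
    Nonempty (subPairing P R hst).Base := by
  classical
  haveI : Fintype ↥R := Fintype.ofFinite _
  obtain ⟨ν, hν⟩ := DynPar.exists_hom_ne_zero (Λ := Module.Dual ℤ M) (Finset.univ.image fun a => P.coroot a)
  obtain ⟨ξ, hξ⟩ := (Module.evalEquiv ℤ M).surjective ν.toIntLinearMap
  refine RootSys.nonempty_base ξ fun a h => ?_
  have hne : P.coroot a.1 ≠ 0 := fun h0 => by
    have h2 := P.root_coroot_two a.1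
    rw [h0, map_zero] at h2
    omega
  refine hν _ (Finset.mem_image_of_mem _ (Finset.mem_univ a.1)) hne ?_
  have h1 : ν (P.coroot a.1) = P.coroot a.1 ξ := by
    have := congrArg (fun f => f (P.coroot a.1)) hξ
    simpa using this.symm
  rw [h1]
  simpa [RootPairing.coroot', RootPairing.root', subPairing, hP] using h

/-- **A word sending the positive roots of a base to the positive side of a functional.** -/
theorem exists_word_pos {Q : RootPairing idx ℤ M (Module.Dual ℤ M)} [Q.IsReduced] (B : Q.Base) (mu : M →+ ℤ)
    (hmu : ∀ i, mu (Q.root i) ≠ 0) :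
    ∃ l : List idx, (∀ a ∈ l, a ∈ B.support) ∧ ∀ i, B.IsPos i → 0 < mu (Q.root (wperm Q l i)) := by
  have key : ∀ (n : ℕ) (l : List idx), (∀ a ∈ l, a ∈ B.support) →
      {i | B.IsPos i ∧ mu (Q.root (wperm Q l i)) < 0}.ncard = n →
        ∃ l : List idx, (∀ a ∈ l, a ∈ B.support) ∧ ∀ i, B.IsPos i → 0 < mu (Q.root (wperm Q l i)) := by
    intro n
    induction n using Nat.strong_induction_on with
    | h n ih =>
      intro l hl hn
      by_cases hs : ∀ j ∈ B.support, 0 < mu (Q.root (wperm Q l j))
      · refine ⟨l, hl, fun i hi => hi.induction_on_add (p := fun i => 0 < mu (Q.root (wperm Q l i))) hs ?_⟩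
        intro x y z e hx hy
        have e1 : Q.root (wperm Q l z) = Q.root (wperm Q l x) + Q.root (wperm Q l y) := by
          simp only [wperm]
          rw [prod_reflectionPerm_apply, prod_reflectionPerm_apply, prod_reflectionPerm_apply, RootSys.groot_smul,
            RootSys.groot_smul, RootSys.groot_smul, e, smul_add]
        rw [e1, map_add]
        exact add_pos hx (hs y hy)
      · push Not at hs
        obtain ⟨j, hj, hbad⟩ := hs
        have hbad' : mu (Q.root (wperm Q l j)) < 0 := lt_of_le_of_ne hbad (hmu _)
        refine ih _ ?_ (l ++ [j]) (fun a ha => (List.mem_append.1 ha).elim (hl a)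
          fun h => List.mem_singleton.1 h ▸ hj) rfl
        have happ : ∀ i, wperm Q (l ++ [j]) i = wperm Q l (Q.reflectionPerm j i) := fun i => by
          rw [wperm_append, Equiv.Perm.mul_apply]
          simp [wperm]
        rw [← hn, ← Set.ncard_image_of_injective {i | B.IsPos i ∧ mu (Q.root (wperm Q (l ++ [j]) i)) < 0}
          (Q.reflectionPerm j).injective]
        refine lt_of_le_of_lt (Set.ncard_le_ncard ?_ (Set.toFinite _))
          (Set.ncard_sdiff_singleton_lt_of_mem (a := j)
            (show j ∈ {i | B.IsPos i ∧ mu (Q.root (wperm Q l i)) < 0} from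
              ⟨RootPairing.Base.isPos_of_mem_support hj, hbad'⟩) (Set.toFinite _))
        rintro _ ⟨i, ⟨hi, hbi⟩, rfl⟩
        rw [happ] at hbi
        have hij : i ≠ j := fun h => by
          subst h
          rw [wperm_opp, root_opp, map_neg] at hbi
          omega
        exact ⟨⟨hi.reflectionPerm hj hij, hbi⟩, (refl_posAway hj ⟨hi, hij⟩).2⟩
  exact key _ [] (fun _ h => absurd h List.not_mem_nil) rfl

end Groth.Agent.RootBase
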