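import Groth.Agent.RootBase.SymSub

/-!
# Bruhat cells of a subgroup with a stable root set inside translates of the big cell
-/

set_option autoImplicit false
set_option backward.isDefEq.respectTransparency false
set_option linter.style.haveILetI false
set_option maxHeartbeats 2000000
set_option synthInstance.maxHeartbeats 400000

universe u

open CategoryTheory Limits MonoidalCategory CartesianMonoidalCategory MonObj GrpObj AlgebraicGeometry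
open scoped CategoryTheory.Obj

noncomputable section

namespace Groth.Agent.RootBase

open Groth.Agent.HomDiag Groth.Agent.DynPar

section Gen

variable {S : Scheme.{u}} {G : Over S} [GrpObj G] {M : Type} [AddCommGroup M] {idx : Type}
  {u : idx → (Red.Ga S ⟶ G)}

/-- The groups of root points map along homomorphisms. -/
theorem Gam_map {H : Over S} [GrpObj H] {h : H ⟶ G} [IsMonHom h] {idx' : Type} {ι' : idx' → idx}
    {u' : idx' → (Red.Ga S ⟶ H)} (hu' : ∀ a, u' a ≫ h = u (ι' a)) {Ψ' : Set idx'} {Ψ : Set idx}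
    (hΨ : ∀ a ∈ Ψ', ι' a ∈ Ψ) {X : Over S} {v : X ⟶ H} (hv : v ∈ Gam u' Ψ' X) : v ≫ h ∈ Gam u Ψ X := by
  induction hv using Subgroup.closure_induction with
  | mem v hv =>
    obtain ⟨b, hb, y, rfl⟩ := hv
    rw [Category.assoc, hu']
    exact mem_Gam (hΨ b hb) y
  | one => rw [MonObj.one_comp]; exact one_mem _
  | mul a b _ _ ha hb => rw [MonObj.mul_comp]; exact mul_mem ha hb
  | inv a _ ha => rw [GrpObj.inv_comp]; exact inv_mem ha

/-- Points of a diagonalisable group commute. -/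
theorem torus_conj_self {c : Red.DS S M ⟶ G} [IsMonHom c] {X : Over S} (a b : X ⟶ Red.DS S M) :
    (a ≫ c) * (b ≫ c) * (a ≫ c)⁻¹ = b ≫ c := by
  rw [← MonObj.mul_comp, show a * b = b * a from ch_ext fun m => by rw [ch_mul, ch_mul, mul_comm], MonObj.mul_comp,
    mul_inv_cancel_right]

/-- The groups of root points are functorial in the test object. -/
theorem Gam_comp {Ψ : Set idx} {X X' : Over S} (ρ : X' ⟶ X) {v : X ⟶ G} (hv : v ∈ Gam u Ψ X) :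
    ρ ≫ v ∈ Gam u Ψ X' := by
  induction hv using Subgroup.closure_induction with
  | mem v hv =>
    obtain ⟨b, hb, y, rfl⟩ := hv
    rw [← Category.assoc]
    exact mem_Gam hb _
  | one => rw [MonObj.comp_one]; exact one_mem _
  | mul a b _ _ ha hb => rw [MonObj.comp_mul]; exact mul_mem ha hb
  | inv a _ ha => rw [GrpObj.comp_inv]; exact inv_mem ha

variable {P : RootPairing idx ℤ M (Module.Dual ℤ M)} {R : Set idx}

theorem wperm_mem_of_stable (hst : ∀ a ∈ R, ∀ b ∈ R, P.reflectionPerm a b ∈ R) {l : List idx}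
    (hl : ∀ a ∈ l, a ∈ R) {x : idx} (hx : x ∈ R) : wperm P l x ∈ R ∧ (wperm P l).symm x ∈ R := by
  have e : (l.pmap Subtype.mk hl).map Subtype.val = l := by rw [List.map_pmap, List.pmap_eq_map, List.map_id']
  constructor
  · rw [← e]; exact wperm_stable P R hst _ hx
  · rw [← e]; exact wperm_stable_symm P R hst _ hx

end Gen

variable {k : Type u} [Field k] [IsAlgClosed k] {G H : Over (Spec (CommRingCat.of k))} [GrpObj G] [GrpObj H]
  {M : Type} [AddCommGroup M] [Module.Free ℤ M] [Module.Finite ℤ M] {idx : Type} [Fintype idx]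
  {c : Red.DS (Spec (CommRingCat.of k)) M ⟶ G} {P : RootPairing idx ℤ M (Module.Dual ℤ M)}
  {u : idx → (Red.Ga (Spec (CommRingCat.of k)) ⟶ G)}
  {h : H ⟶ G} [IsMonHom h] [IsImmersion h.left] [Smooth H.hom]
  {cH : Red.DS (Spec (CommRingCat.of k)) M ⟶ H} [IsMonHom cH] {R : Set idx}
  {n : idx → (𝟙_ (Over (Spec (CommRingCat.of k))) ⟶ G)}

local notation "S₀" => Spec (CommRingCat.of k)

omit [IsAlgClosed k] in
/-- A point of the big cell normalising the torus is the point of the torus. -/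
theorem Frame.eq_torus_of_cell (F : Frame c P.root u) (mu : M →+ ℤ) (hmu : ∀ a, mu (P.root a) ≠ 0) {X : Over S₀}
    {N v w : X ⟶ G} {t : X ⟶ Red.DS S₀ M} (hv : v ∈ Gam u {b | 0 < (-mu) (P.root b)} X)
    (hw : w ∈ Gam u {b | 0 < mu (P.root b)} X) (e : N = v * ((t ≫ c) * w))
    (hN : ∀ (X' : Over S₀) (ρ : X' ⟶ X) (s : X' ⟶ Red.DS S₀ M),
      ∃ s' : X' ⟶ Red.DS S₀ M, (ρ ≫ N) * (s ≫ c) * (ρ ≫ N)⁻¹ = s' ≫ c) : N = t ≫ c := by
  obtain ⟨p, en₀, -, hn⟩ := exists_extend {i | 0 < (-mu) (P.root i)} (Fin.elim0 : Fin 0 → idx) (fun x => x.elim0)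
    fun k => k.elim0
  obtain ⟨q, ep₀, -, hp⟩ := exists_extend {i | 0 < mu (P.root i)} (Fin.elim0 : Fin 0 → idx) (fun x => x.elim0)
    fun k => k.elim0
  generalize Fin.append (Fin.elim0 : Fin 0 → idx) en₀ = en at hn
  generalize Fin.append (Fin.elim0 : Fin 0 → idx) ep₀ = ep at hp
  obtain ⟨y, hy⟩ := F.exists_pow_of_mem_Gam (-mu) en hn hv
  obtain ⟨y', hy'⟩ := F.exists_pow_of_mem_Gam mu ep hp hw
  have ho := (F.cell mu hmu _ _ _ _ hn hp hn hp).1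
  haveI := F.hc.1
  have hc : lift y (lift t y') ≫ cellC c (fun l => u (en l)) (fun l => u (ep l)) = N := by
    rw [comp_cellC, e, hy, hy']
  have key := S5509.torus_of_normalizes F en ep ho mu hmu y t y' fun X' ρ s => by rw [hc]; exact hN X' ρ s
  rwa [hc] at key

theorem wpt_map {w' : ↥R → (𝟙_ (Over S₀) ⟶ H)} (hw' : ∀ a, w' a ≫ h = n a.1) (X : Over S₀) :
    ∀ l : List ↥R, wpt X w' l ≫ h = wpt X n (l.map Subtype.val)
  | [] => by simp [wpt, MonObj.one_comp]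
  | a :: l => by
    simp only [wpt, List.map_cons, List.prod_cons, MonObj.mul_comp, Category.assoc, hw']
    rw [show (l.map fun a => toUnit X ≫ w' a).prod ≫ h = _ from wpt_map hw' X l]

variable [P.IsReduced]

/-- **Mixed Bruhat double cosets of the subgroup.** -/
theorem SymSub.exists_mixed (Y : SymSub c P u h cH R) (hn : RealisesAll P c n)
    (hnR : ∀ a ∈ R, ∃ n₀, n₀ ≫ h = n a) (mu nu : M →+ ℤ) (hmu : ∀ a, mu (P.root a) ≠ 0)
    (hnu : ∀ a, nu (P.root a) ≠ 0) {X : Over S₀} (g : X ⟶ H) (p : X.left) :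
    ∃ (X' : Over S₀) (f : X' ⟶ X), (∀ z, f.left z = p) ∧ Nonempty X'.left ∧
      ∃ l : List idx, (∀ a ∈ l, a ∈ R) ∧ ∃ v ∈ Gam u {a | a ∈ R ∧ 0 < (-nu) (P.root a)} X',
        ∃ t : X' ⟶ Red.DS S₀ M, ∃ w ∈ Gam u {a | a ∈ R ∧ 0 < mu (P.root a)} X',
          (f ≫ g) ≫ h = v * wpt X' n l * ((t ≫ c) * w) := by
  classical
  haveI : Nonempty ↥(Spec (CommRingCat.of k)) := inferInstanceAs (Nonempty (PrimeSpectrum k))
  haveI : Fintype ↥R := Fintype.ofFinite _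
  haveI : Mono h := Over.mono_of_mono_left h
  have hst : ∀ a ∈ R, ∀ b ∈ R, P.reflectionPerm a b ∈ R := fun a ha b hb => Y.stable ha hb
  choose u' hu' using fun a : ↥R => Y.fac a.1 a.2
  choose w' hw' using fun a : ↥R => hnR a.1 a.2
  let Q := subPairing P R hst
  have F : Frame cH Q.root u' := Y.frameH u' hu'
  obtain ⟨B⟩ := nonempty_subBase P R hst Y.hP
  have hR : Realises cH B w' := fun a _ X t => by
    rw [← cancel_mono h]
    simp only [cj, MonObj.mul_comp, GrpObj.inv_comp, Category.assoc, hw', Y.comp]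
    exact hn a.1 X t
  obtain ⟨X', f, hf, hne, hX', hall⟩ := F.exists_allPts g p
  obtain ⟨l₁, hl₁, h₁⟩ := exists_word_pos B mu fun i => hmu i.1
  obtain ⟨l₂, hl₂, h₂⟩ := exists_word_pos B nu fun i => hnu i.1
  obtain ⟨N₁, hN₁⟩ : ∃ N, N = wpt X' w' l₁ := ⟨_, rfl⟩
  obtain ⟨N₂, hN₂⟩ : ∃ N, N = wpt X' w' l₂ := ⟨_, rfl⟩
  have hP' : Q.toLinearMap = Module.Dual.eval ℤ M := Y.hP
  have hmem : N₂⁻¹ * (f ≫ g) * N₁ ∈ AllPts cH u' X' :=
    mul_mem (mul_mem (inv_mem (hN₂ ▸ F.wpt_mem_allPts hP' hR X' hl₂)) hall) (hN₁ ▸ F.wpt_mem_allPts hP' hR X' hl₁)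
  obtain ⟨l, hl, v₀, hv₀, b₀, hb₀, e⟩ := F.allPts_subset_oppCells hP' hR hX' hmem
  obtain ⟨t₀, x₀, hx₀, rfl⟩ := F.exists_torus_unip hb₀
  -- the word
  have hl₁r : ∀ a ∈ l₁.reverse, a ∈ B.support := fun a ha => hl₁ a (List.mem_reverse.1 ha)
  obtain ⟨τ, hτ⟩ := F.wpt_reverse hP' hR X' l₁ hl₁
  have hm₁ := F.wmoves_word hP' hR X' l₁ hl₁
  have hm₂ := F.wmoves_word hP' hR X' l₂ hl₂
  obtain ⟨τ', hτ'⟩ := (F.wmoves_word hP' hR X' l₁.reverse hl₁r).torus' τ⁻¹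
  obtain ⟨t₁, ht₁⟩ := hm₁.torus t₀
  rw [← hN₁] at hm₁ hτ ht₁
  rw [← hN₂] at hm₂
  have hv : N₂ * v₀ * N₂⁻¹ ∈ Gam u' {b | 0 < (-nu) (Q.root b)} X' := hm₂.conj_Gam (fun b hb => by
    show 0 < (-nu) (Q.root (wperm Q l₂ b))
    have h3 := h₂ _ ((RootSys.isPos_opp_iff B b).2 hb)
    rw [wperm_opp, root_opp, map_neg] at h3
    rw [AddMonoidHom.neg_apply]
    exact h3) hv₀
  have hw : N₁ * x₀ * N₁⁻¹ ∈ Gam u' {b | 0 < mu (Q.root b)} X' :=
    hm₁.conj_Gam (fun b hb => h₁ b hb) hx₀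
  haveI := F.hc.1
  have eH : f ≫ g = (N₂ * v₀ * N₂⁻¹) * wpt X' w' (l₂ ++ l ++ l₁.reverse) * (((τ' * t₁) ≫ cH) * (N₁ * x₀ * N₁⁻¹)) := by
    have e1 : wpt X' w' (l₂ ++ l ++ l₁.reverse) = N₂ * wpt X' w' l * wpt X' w' l₁.reverse := by
      simp only [hN₂, wpt, List.map_append, List.prod_append]
    rw [e1, MonObj.mul_comp, ← hτ', GrpObj.inv_comp, ← ht₁,
      show f ≫ g = N₂ * (N₂⁻¹ * (f ≫ g) * N₁) * N₁⁻¹ by group, e, ← hτ]
    group
  refine ⟨X', f, hf, hne, (l₂ ++ l ++ l₁.reverse).map Subtype.val, fun a ha => ?_, _,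
    Gam_map (ι' := Subtype.val) (Ψ := {a | a ∈ R ∧ 0 < (-nu) (P.root a)}) hu' (fun a ha => ⟨a.2, ha⟩) hv, τ' * t₁, _,
    Gam_map (ι' := Subtype.val) (Ψ := {a | a ∈ R ∧ 0 < mu (P.root a)}) hu' (fun a ha => ⟨a.2, ha⟩) hw, ?_⟩
  · obtain ⟨a', -, rfl⟩ := List.mem_map.1 ha
    exact a'.2
  · have key : ∀ (a b d : X' ⟶ H) (s : X' ⟶ Red.DS S₀ M),
        (a * b * ((s ≫ cH) * d)) ≫ h = (a ≫ h) * (b ≫ h) * ((s ≫ c) * (d ≫ h)) := fun a b d s => by
      rw [MonObj.mul_comp, MonObj.mul_comp, MonObj.mul_comp, Category.assoc, Y.comp]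
    rw [← wpt_map hw', eH, key]

set_option maxHeartbeats 8000000 in
/-- **A point of the subgroup in a translate of the big cell lies in a translate of the subgroup's cell.** -/
theorem SymSub.exists_word_of_mem (Y : SymSub c P u h cH R) (hn : RealisesAll P c n)
    (hnR : ∀ a ∈ R, ∃ n₀, n₀ ≫ h = n a) (mu : M →+ ℤ) (hmu : ∀ a, mu (P.root a) ≠ 0) (l₀ : List idx)
    {X : Over S₀} (g : X ⟶ H) (p : X.left) {v₀ w₀ : X ⟶ G} {t₀ : X ⟶ Red.DS S₀ M}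
    (hv₀ : v₀ ∈ Gam u {b | 0 < (-mu) (P.root b)} X) (hw₀ : w₀ ∈ Gam u {b | 0 < mu (P.root b)} X)
    (hg : g ≫ h = wpt X n l₀ * (v₀ * ((t₀ ≫ c) * w₀))) :
    ∃ (X' : Over S₀) (f : X' ⟶ X), (∀ z, f.left z = p) ∧ Nonempty X'.left ∧
      ∃ l : List idx, (∀ a ∈ l, a ∈ R) ∧ wordRefl P l = wordRefl P l₀ ∧
        ∃ v ∈ Gam u {a | a ∈ R ∧ 0 < (-mu) (P.root a)} X', ∃ t : X' ⟶ Red.DS S₀ M,
          ∃ w ∈ Gam u {a | a ∈ R ∧ 0 < mu (P.root a)} X',
            (f ≫ g) ≫ h = wpt X' n l * (v * ((t ≫ c) * w)) := by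
  classical
  haveI : Nonempty ↥(Spec (CommRingCat.of k)) := inferInstanceAs (Nonempty (PrimeSpectrum k))
  have F := Y.frame
  haveI := F.hc.1
  haveI : Mono c := F.hc.2.1
  let nu : M →+ ℤ := mu.comp (wordRefl P l₀)
  have hnu' : ∀ a, nu (P.root a) = mu (P.root ((wperm P l₀).symm a)) := fun a => by
    show mu (wordRefl P l₀ (P.root a)) = _
    rw [wordRefl_root]
  obtain ⟨X', f, hf, hne, l, hl, v, hv, t, w, hw, e⟩ := Y.exists_mixed hn hnR mu nu hmu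
    (fun a => by rw [hnu']; exact hmu _) g p
  have hm₀ := F.wmoves_list Y.hP hn X' l₀
  have hm := F.wmoves_list Y.hP hn X' l
  obtain ⟨N₀, hN₀⟩ : ∃ N, N = wpt X' n l₀ := ⟨_, rfl⟩
  obtain ⟨N, hN⟩ : ∃ N, N = wpt X' n l := ⟨_, rfl⟩
  rw [← hN₀] at hm₀
  rw [← hN] at hm e
  have hz : N₀⁻¹ * v * N₀ ∈ Gam u {b | 0 < (-mu) (P.root b)} X' := by
    have h1 := (hm₀.inv).conj_Gam (Ψ' := {b | 0 < (-mu) (P.root b)}) (fun a ha => by
      show 0 < (-mu) (P.root ((wperm P l₀).symm a))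
      have h2 : 0 < (-nu) (P.root a) := ha.2
      rw [AddMonoidHom.neg_apply, hnu'] at h2
      rwa [AddMonoidHom.neg_apply]) hv
    rwa [_root_.inv_inv] at h1
  have hv₀' := Gam_comp (u := u) f hv₀
  have hw₀' := Gam_comp (u := u) f hw₀
  have hg' : (f ≫ g) ≫ h = N₀ * ((f ≫ v₀) * (((f ≫ t₀) ≫ c) * (f ≫ w₀))) := by
    rw [Category.assoc, hg, MonObj.comp_mul, MonObj.comp_mul, MonObj.comp_mul, hN₀, comp_wpt, Category.assoc]
  have hw' : (t ≫ c) * ((f ≫ w₀) * w⁻¹) * (t ≫ c)⁻¹ ∈ Gam u {b | 0 < mu (P.root b)} X' :=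
    F.torus_conj_Gam t (mul_mem hw₀' (inv_mem (Gam_mono (fun a ha => ha.2) X' hw)))
  have hnorm : N₀⁻¹ * N = (((f ≫ t₀) * t⁻¹) ≫ c) := by
    refine F.eq_torus_of_cell mu hmu (mul_mem (inv_mem hz) hv₀') hw' ?_ fun X'' ρ s => ?_
    · rw [MonObj.mul_comp, GrpObj.inv_comp,
        show N₀⁻¹ * N = N₀⁻¹ * v⁻¹ * (v * N * ((t ≫ c) * w)) * w⁻¹ * (t ≫ c)⁻¹ by group, ← e, hg']
      group
    · obtain ⟨s', hs'⟩ := ((F.wmoves_list Y.hP hn X'' l₀).inv.mul (F.wmoves_list Y.hP hn X'' l)).torus s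
      exact ⟨s', by rw [MonObj.comp_mul, GrpObj.comp_inv, hN, hN₀, comp_wpt, comp_wpt]; exact hs'⟩
  obtain ⟨τ, hτ⟩ : ∃ τ, τ = (f ≫ t₀) * t⁻¹ := ⟨_, rfl⟩
  rw [← hτ] at hnorm
  have hwr : wordRefl P l = wordRefl P l₀ := by
    refine DSmap_inj (S := S₀) (T := X') ?_
    rw [← cancel_mono c]
    obtain ⟨s, hs⟩ : ∃ s, s = fst (Red.DS S₀ M) X' := ⟨_, rfl⟩
    obtain ⟨ρ, hρ⟩ : ∃ ρ, ρ = snd (Red.DS S₀ M) X' := ⟨_, rfl⟩
    rw [← hs, ← wpt_conj_torus_all Y.hP hn _ l s, ← wpt_conj_torus_all Y.hP hn _ l₀ s, ← comp_wpt ρ n l, ← comp_wpt ρ n l₀,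
      ← hN, ← hN₀, show N = N₀ * (τ ≫ c) by rw [← hnorm]; group, MonObj.comp_mul]
    have hcomm : (ρ ≫ τ ≫ c) * (s ≫ c) * (ρ ≫ τ ≫ c)⁻¹ = s ≫ c := by
      rw [← Category.assoc]
      exact torus_conj_self (ρ ≫ τ) s
    calc _ = (ρ ≫ N₀) * ((ρ ≫ τ ≫ c) * (s ≫ c) * (ρ ≫ τ ≫ c)⁻¹) * (ρ ≫ N₀)⁻¹ := by group
      _ = _ := by rw [hcomm]
  have hperm : ∀ a, (wperm P l).symm a = (wperm P l₀).symm a := fun a => P.root.injective (by
    rw [← wordRefl_root, ← wordRefl_root, hwr])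
  have hst : ∀ a ∈ R, ∀ b ∈ R, P.reflectionPerm a b ∈ R := fun a ha b hb => Y.stable ha hb
  refine ⟨X', f, hf, hne, l, hl, hwr, N⁻¹ * v * N, ?_, t, w, hw, by rw [e, ← hN]; group⟩
  have h1 := (hm.inv).conj_Gam (Ψ' := {a | a ∈ R ∧ 0 < (-mu) (P.root a)}) (fun a ha => by
    refine ⟨(wperm_mem_of_stable hst hl ha.1).2, ?_⟩
    have h2 : 0 < (-nu) (P.root a) := ha.2
    rw [AddMonoidHom.neg_apply, hnu', ← hperm] at h2
    rwa [AddMonoidHom.neg_apply]) hv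
  rwa [_root_.inv_inv] at h1

end Groth.Agent.RootBase
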