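import Groth.Agent.RootBase.TypeROpen
import Groth.Agent.MTImage.CartanTransporterMain

/-!
# Inclusions between subgroups of type (R) through their root groups
-/

set_option autoImplicit false
set_option backward.isDefEq.respectTransparency false
set_option linter.style.haveILetI false
set_option maxHeartbeats 1000000
set_option synthInstance.maxHeartbeats 400000

universe u

open CategoryTheory Limits MonoidalCategory CartesianMonoidalCategory MonObj GrpObj AlgebraicGeometry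
open scoped CategoryTheory.Obj

noncomputable section

namespace Groth.Agent.RootBase

open Groth.Agent.HomDiag Groth.Agent.DynPar Groth.Agent.RootSys Groth.Agent.MTBridge

variable {S : Scheme.{u}} {G H : Over S} [GrpObj G] [GrpObj H]

/-- A non-zero point of a root group in the subgroup puts its image in the locus. -/
theorem inFib_of_pt {h : H ⟶ G} [IsImmersion h.left] {v : Red.Ga S ⟶ G} {X : Over S} (x : X ⟶ Red.Ga S)
    (w : X ⟶ H) (hxw : x ≫ v = w ≫ h) (o : X.left)
    (ho : x.left o ∈ (Red.Ga S).left.basicOpen (Red.gaFn (𝟙 (Red.Ga S)))) : InFib h v (X.hom o) := by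
  let J : Over S := Over.mk (pullback.fst v.left h.left ≫ (Red.Ga S).hom)
  let i : J ⟶ Red.Ga S := Over.homMk (pullback.fst v.left h.left) rfl
  let wJ : J ⟶ H := Over.homMk (pullback.snd v.left h.left) (by
    show pullback.snd _ _ ≫ H.hom = pullback.fst _ _ ≫ (Red.Ga S).hom
    rw [← Over.w h, ← Category.assoc, ← pullback.condition, Category.assoc, Over.w v])
  haveI : IsImmersion (pullback.fst v.left h.left) :=
    MorphismProperty.pullback_fst (P := @IsImmersion) _ _ inferInstance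
  haveI := smooth_Ga S
  haveI : LocallyOfFiniteType J.hom := inferInstanceAs (LocallyOfFiniteType (_ ≫ _))
  let m : X.left ⟶ J.left := pullback.lift x.left w.left (congrArg (fun f => f.left) hxw)
  have hmx : m ≫ pullback.fst v.left h.left = x.left := pullback.lift_fst _ _ _
  have hmJ : m ≫ J.hom = X.hom := by
    show m ≫ pullback.fst _ _ ≫ _ = _
    rw [← Category.assoc, hmx, Over.w x]
  obtain ⟨q, hq⟩ := exists_GP_of_mem (X := J) (i.left ⁻¹ᵁ (Red.Ga S).left.basicOpen (Red.gaFn (𝟙 (Red.Ga S))))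
    (q := m o) (by
      show i.left (m o) ∈ (Red.Ga S).left.basicOpen (Red.gaFn (𝟙 (Red.Ga S)))
      rw [show i.left (m o) = x.left o by rw [← Scheme.Hom.comp_apply]; exact congrArg (fun f => f o) hmx]
      exact ho) (s := X.hom o) (by rw [← Scheme.Hom.comp_apply, hmJ])
  exact ⟨q ≫ i, q ≫ wJ, by rw [Category.assoc, Category.assoc, show i ≫ v = wJ ≫ h from
    Over.OverMorphism.ext pullback.condition], (gaPt_mem_basicOpen_iff _).2 fun o => hq o⟩

/-- The functions of points of the additive group through a change of base. -/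
theorem gaPush_mem_basicOpen {S' : Scheme.{u}} (τ : S' ⟶ S) {X : Over S'} (x : X ⟶ Red.Ga S') (o : X.left) :
    ((Over.map τ).map x ≫ gaPush τ).left o ∈ (Red.Ga S).left.basicOpen (Red.gaFn (𝟙 (Red.Ga S))) ↔
      x.left o ∈ (Red.Ga S').left.basicOpen (Red.gaFn (𝟙 (Red.Ga S'))) := by
  have h1 : ∀ {T : Scheme.{u}} {W : Over T} (y : W ⟶ Red.Ga T),
      y.left ⁻¹ᵁ (Red.Ga T).left.basicOpen (Red.gaFn (𝟙 (Red.Ga T))) = W.left.basicOpen (Red.gaFn y) := fun y => by
    rw [Scheme.preimage_basicOpen_top, ← BGaNotS.gaFn_comp, Category.comp_id]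
  show o ∈ ((Over.map τ).map x ≫ gaPush τ).left ⁻¹ᵁ (Red.Ga S).left.basicOpen (Red.gaFn (𝟙 (Red.Ga S))) ↔
    o ∈ x.left ⁻¹ᵁ (Red.Ga S').left.basicOpen (Red.gaFn (𝟙 (Red.Ga S')))
  rw [h1, h1, gaFn_gaPush]
  rfl

/-- **The locus of a root group in a subgroup is compatible with base change.** -/
theorem inFib_bc_iff {h : H ⟶ G} [IsImmersion h.left] (v : Red.Ga S ⟶ G) {S' : Scheme.{u}} (τ : S' ⟶ S) (s' : S') :
    InFib ((Over.pullback τ).map h) (bcGa τ v) s' ↔ InFib h v (τ s') := by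
  haveI : IsImmersion ((Over.pullback τ).map h).left :=
    MorphismProperty.overPullbackMap (P := @IsImmersion) τ h inferInstance
  constructor
  · rintro ⟨x, w, hxw, hx⟩
    obtain ⟨o⟩ : Nonempty (GP s').left := inferInstance
    let w' : (Over.map τ).obj (GP s') ⟶ H := ((Over.mapPullbackAdj τ).homEquiv (GP s') H).symm w
    have h1 : ((Over.map τ).map x ≫ gaPush τ) ≫ v = w' ≫ h := by
      apply ((Over.mapPullbackAdj τ).homEquiv _ _).injective
      show toBC τ _ = toBC τ _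
      rw [← bcGa_eq, hxw, toBC_comp]
      congr 1
      exact (Equiv.apply_symm_apply _ _).symm
    have h2 := inFib_of_pt _ _ h1 o ((gaPush_mem_basicOpen τ x o).2 ((gaPt_mem_basicOpen_iff x).1 hx o))
    rwa [show ((Over.map τ).obj (GP s')).hom o = τ s' by
      show ((GP s').hom ≫ τ) o = _
      rw [Scheme.Hom.comp_apply]
      congr 1
      exact GP_range (𝟙 (GP s')) o] at h2
  · rintro ⟨x, w, hxw, hx⟩
    let φ := Red.geomPt s' ≫ τ
    obtain ⟨ρ, hρ⟩ := MTImage.exists_lift_geomPt φ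
    have hs : φ (IsLocalRing.closedPoint _) = τ s' := by
      rw [Scheme.Hom.comp_apply, MTImage.geomPt_closedPoint]
    have key : ∀ t, t = τ s' → (∃ (x : GP t ⟶ Red.Ga S) (w : GP t ⟶ H), x ≫ v = w ≫ h ∧ x ≠ 1) :=
      fun t ht => by subst ht; exact ⟨x, w, hxw, hx⟩
    obtain ⟨x₀, w₀, hxw₀, hx₀⟩ := key _ hs
    let m : (Over.map τ).obj (GP s') ⟶ GP (φ (IsLocalRing.closedPoint _)) := Over.homMk ρ (by
      show ρ ≫ 𝟙 _ ≫ Red.geomPt _ = (𝟙 _ ≫ Red.geomPt s') ≫ τ
      rw [Category.id_comp, Category.id_comp]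
      exact hρ)
    let x₁ : GP s' ⟶ Red.Ga S' := BGaNotS.gaPt (W := GP s') (Red.gaFn (m ≫ x₀) :)
    have hx₁ : (Over.map τ).map x₁ ≫ gaPush τ = m ≫ x₀ := BGaNotS.gaPt_ext (by
      rw [gaFn_gaPush]; exact BGaNotS.gaFn_gaPt _)
    refine ⟨x₁, toBC τ (m ≫ w₀), ?_, (gaPt_mem_basicOpen_iff x₁).2 fun o => ?_⟩
    · rw [bcGa_eq, hx₁, Category.assoc, hxw₀, ← toBC_comp, Category.assoc]
    · rw [← gaPush_mem_basicOpen τ x₁ o, hx₁, Over.comp_left, Scheme.Hom.comp_apply]
      exact (gaPt_mem_basicOpen_iff x₀).1 hx₀ _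

/-- **A subgroup containing an open neighbourhood of the unit of a subgroup with connected fibres contains it.** -/
theorem exists_fac_of_open {H'' : Over S} [GrpObj H''] (h : H ⟶ G) [IsMonHom h] [Smooth H.hom]
    (hconn : RedSub.HasConnectedFibres H) (h'' : H'' ⟶ G) [IsMonHom h''] [IsImmersion h''.left] {Ω : Over S}
    (j : Ω ⟶ H) [IsOpenImmersion j.left] (e : 𝟙_ (Over S) ⟶ Ω) (he : e ≫ j = 1)
    (φ : Ω ⟶ H'') (hφ : φ ≫ h'' = j ≫ h) : ∃ f : H ⟶ H'', f ≫ h'' = h := by
  haveI : GeometricallyIrreducible H.hom := GrpField.geometricallyIrreducible_of_connected_fibres H hconn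
  haveI : Smooth (fst H H).left := inferInstanceAs (Smooth (Limits.pullback.fst H.hom H.hom))
  haveI : GeometricallyIrreducible (fst H H).left :=
    inferInstanceAs (GeometricallyIrreducible (Limits.pullback.fst H.hom H.hom))
  let V : (H ⊗ H).left.Opens := (snd H H).left ⁻¹ᵁ j.left.opensRange
  let W : (H ⊗ H).left.Opens := V ⊓ (RedR1.transl (𝟙 H)).left ⁻¹ᵁ V
  let X' : Over S := Over.mk (W.ι ≫ (H ⊗ H).hom)
  let w : X' ⟶ H ⊗ H := Over.homMk W.ι
  obtain ⟨c, hc⟩ : ∃ c, c ≫ j = w ≫ snd H H := by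
    rw [exists_fac_iff_range]
    rintro _ ⟨p, rfl⟩
    exact p.2.1
  obtain ⟨d, hd⟩ : ∃ d, d ≫ j = w ≫ RedR1.transl (𝟙 H) ≫ snd H H := by
    rw [exists_fac_iff_range]
    rintro _ ⟨p, rfl⟩
    exact p.2.2
  let a : X' ⟶ H := w ≫ fst H H
  haveI : Flat a.left := inferInstanceAs (Flat (W.ι ≫ (fst H H).left))
  haveI : LocallyOfFinitePresentation a.left :=
    inferInstanceAs (LocallyOfFinitePresentation (W.ι ≫ (fst H H).left))
  haveI : Surjective a.left := by
    refine ⟨fun p => ?_⟩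
    let F : Set (H ⊗ H).left := (fst H H).left ⁻¹' {p}
    have hF : IsPreirreducible F := by
      have e := Scheme.Hom.range_fiberι (fst H H).left p
      rw [show F = Set.range ((fst H H).left.fiberι p) from e.symm]
      exact (IrreducibleSpace.isIrreducible_univ _).2.image _ (Scheme.Hom.continuous _).continuousOn |> fun h => by
        rwa [Set.image_univ] at h
    have hne : ∀ g : H ⟶ H, (F ∩ ((RedR1.transl g).left ⁻¹' (V : Set (H ⊗ H).left))).Nonempty := fun g => by
      let q0 := (lift (𝟙 H) (1 : H ⟶ H) ≫ RedR1.transl g⁻¹).left p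
      have e1 : (lift (𝟙 H) (1 : H ⟶ H) ≫ RedR1.transl g⁻¹) ≫ fst H H = 𝟙 H := by simp [RedR1.transl]
      have e2 : (lift (𝟙 H) (1 : H ⟶ H) ≫ RedR1.transl g⁻¹) ≫ RedR1.transl g ≫ snd H H = 1 := by
        rw [Category.assoc, ← Category.assoc (RedR1.transl g⁻¹), RedR1.transl_transl, inv_mul_cancel,
          RedR1.transl_one]
        simp
      refine ⟨q0, congrArg (fun f : H ⟶ H => f.left p) e1, ?_⟩
      have h1 : ∃ b : H ⟶ Ω, b ≫ j = 1 := ⟨toUnit H ≫ e, by rw [Category.assoc, he, MonObj.comp_one]⟩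
      rw [exists_fac_iff_range, ← e2] at h1
      exact h1 ⟨p, rfl⟩
    have h1 := hne 1
    rw [RedR1.transl_one] at h1
    obtain ⟨q, hqF, hqV, hqT⟩ := hF _ _ V.isOpen ((V.isOpen).preimage (Scheme.Hom.continuous _)) h1 (hne (𝟙 H))
    exact ⟨⟨q, hqV, hqT⟩, hqF⟩
  have ha : a = (c ≫ j)⁻¹ * (d ≫ j) := by
    rw [hd, hc]
    simp [a, RedR1.transl, MonObj.comp_mul]
  let k : X' ⟶ H'' := (c ≫ φ)⁻¹ * (d ≫ φ)
  have hk : k ≫ h'' = a ≫ h := by
    rw [ha, MonObj.mul_comp, MonObj.mul_comp, GrpObj.inv_comp, GrpObj.inv_comp]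
    simp only [Category.assoc, hφ]
  haveI : EffectiveEpi a.left := inferInstance
  have hdesc : ∀ {Z : Scheme.{u}} (g₁ g₂ : Z ⟶ X'.left), g₁ ≫ a.left = g₂ ≫ a.left →
      g₁ ≫ k.left = g₂ ≫ k.left := fun g₁ g₂ hg => by
    rw [← cancel_mono h''.left, Category.assoc, Category.assoc, ← Over.comp_left, hk, Over.comp_left,
      reassoc_of% hg]
  let f₀ := EffectiveEpi.desc a.left k.left hdesc
  have hf₀ : f₀ ≫ h''.left = h.left := by
    haveI : Epi a.left := inferInstance
    rw [← cancel_epi a.left, EffectiveEpi.fac_assoc, ← Over.comp_left, hk, Over.comp_left]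
  exact ⟨Over.homMk f₀ (by rw [← Over.w h'', ← Category.assoc, hf₀, Over.w h]), Over.OverMorphism.ext hf₀⟩

variable {M : Type} [AddCommGroup M] [Module.Free ℤ M] [Module.Finite ℤ M]
  {c : Red.DS S M ⟶ G} {idx : Type} [Fintype idx] {root : idx → M} {u : idx → (Red.Ga S ⟶ G)} {h : H ⟶ G}
  [IsMonHom h] [IsImmersion h.left] [Smooth H.hom] {cH : Red.DS S M ⟶ H} [IsMonHom cH]

/-- The root groups in the subgroup in every fibre, with a constant pattern. -/
theorem Frame.fac_of_const (F : Frame c root u) (hopp : ∀ a, ∃ a', root a' = -root a)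
    (hconn : RedSub.HasConnectedFibres H) (hcH : cH ≫ h = c)
    (hC : ∀ a, (∀ s : S, InFib h (u a) s) ∨ ∀ s : S, ¬ InFib h (u a) s) {a : idx}
    (ha : ∀ s : S, InFib h (u a) s) : ∃ v, v ≫ h = u a := by
  obtain ⟨a', ha'⟩ := hopp a
  exact F.fac_of_inFib hconn hcH ha' ha (hC a')

omit [IsMonHom h] [Smooth H.hom] [IsImmersion h.left] [GrpObj H] in
/-- A root group in the subgroup lies in it in every fibre. -/
theorem Frame.inFib_of_fac (F : Frame c root u) {a : idx} (ha : ∃ v, v ≫ h = u a) (s : S) : InFib h (u a) s := by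
  obtain ⟨v, hv⟩ := ha
  refine ⟨BGaNotS.gaPt 1, BGaNotS.gaPt 1 ≫ v, by rw [Category.assoc, hv], fun e => ?_⟩
  have h1 := congrArg Red.gaFn e
  rw [BGaNotS.gaFn_gaPt, BGaNotS.gaFn_one] at h1
  have h2 := congrArg (Scheme.ΓSpecIso (CommRingCat.of (AlgebraicClosure (S.residueField s)))).hom h1
  rw [map_one, map_zero] at h2
  exact one_ne_zero h2

/-- Over a connected base the pattern is constant. -/
theorem Frame.const_of_connected [PreconnectedSpace S] (F : Frame c root u) (hopp : ∀ a, ∃ a', root a' = -root a)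
    (hconn : RedSub.HasConnectedFibres H) (hcH : cH ≫ h = c) (a : idx) :
    (∀ s : S, InFib h (u a) s) ∨ ∀ s : S, ¬ InFib h (u a) s := by
  obtain ⟨a', ha'⟩ := hopp a
  rcases isClopen_iff.1 (⟨F.isClosed_inFib hconn hcH a, F.isOpen_inFib hconn hcH ha'⟩ :
    IsClopen {s : S | InFib h (u a) s}) with h0 | h0
  · exact Or.inr fun s hs => (Set.eq_empty_iff_forall_notMem.1 h0 s hs)
  · exact Or.inl fun s => h0.ge (Set.mem_univ s)

/-- Near each point the pattern is constant. -/
theorem Frame.exists_nhd_const (F : Frame c root u) (hopp : ∀ a, ∃ a', root a' = -root a)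
    (hconn : RedSub.HasConnectedFibres H) (hcH : cH ≫ h = c) (s : S) :
    ∃ U : S.Opens, s ∈ U ∧ ∀ t ∈ U, ∀ a, InFib h (u a) t ↔ InFib h (u a) s := by
  classical
  choose op hop using hopp
  let A : idx → Set S := fun a =>
    if InFib h (u a) s then {t | InFib h (u a) t} else {t | InFib h (u a) t}ᶜ
  have hA : ∀ a, IsOpen (A a) := fun a => by
    show IsOpen (if InFib h (u a) s then _ else _)
    split
    · exact F.isOpen_inFib hconn hcH (hop a)
    · exact (F.isClosed_inFib hconn hcH a).isOpen_compl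
  refine ⟨⟨⋂ a, A a, isOpen_iInter_of_finite hA⟩, Set.mem_iInter.2 fun a => ?_, fun t ht a => ?_⟩
  · show s ∈ if InFib h (u a) s then {t | InFib h (u a) t} else {t | InFib h (u a) t}ᶜ
    split <;> assumption
  · have h1 : t ∈ A a := Set.mem_iInter.1 ht a
    change t ∈ if InFib h (u a) s then {t | InFib h (u a) t} else {t | InFib h (u a) t}ᶜ at h1
    split at h1
    · exact iff_of_true h1 ‹_›
    · exact iff_of_false h1 ‹_›

/-- **The cell of a subgroup with a constant pattern is an open immersion.** -/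
theorem Frame.isOpenImmersion_cell (F : Frame c root u) (hconn : RedSub.HasConnectedFibres H) (hcH : cH ≫ h = c)
    (R : Set idx) (hR : ∀ a (s : S), InFib h (u a) s ↔ a ∈ R) (mu : M →+ ℤ) (hmu : ∀ a, mu (root a) ≠ 0)
    {n m : ℕ} (en : Fin n → idx) (ep : Fin m → idx)
    (hn : RedSub.Enumerates {a | a ∈ R ∧ 0 < (-mu) (root a)} en)
    (hp : RedSub.Enumerates {a | a ∈ R ∧ 0 < mu (root a)} ep)
    (vn : Fin n → (Red.Ga S ⟶ H)) (hvn : ∀ l, vn l ≫ h = u (en l))
    (vp : Fin m → (Red.Ga S ⟶ H)) (hvp : ∀ l, vp l ≫ h = u (ep l)) :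
    IsOpenImmersion (cellC cH vn vp).left := by
  classical
  haveI := F.hc.1
  haveI : ∀ b, IsMonHom (u b) := fun b => (F.hu b).1
  haveI : Mono h := Over.mono_of_mono_left h
  -- monomorphism: extend the enumerations
  obtain ⟨N, rn, -, hN⟩ := exists_extend {b | 0 < (-mu) (root b)} en hn.1 fun l => (hn.2.subset ⟨l, rfl⟩).2
  obtain ⟨P, rp, -, hP⟩ := exists_extend {b | 0 < mu (root b)} ep hp.1 fun l => (hp.2.subset ⟨l, rfl⟩).2
  have ho := (F.cell mu hmu _ _ _ _ hN hP hN hP).1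
  haveI : Mono (cellC c (fun l => u (Fin.append en rn l)) (fun l => u (Fin.append ep rp l))) := by
    haveI := ho; exact Over.mono_of_mono_left _
  have hcomp : cellC cH vn vp ≫ h = cellC c (fun l => u (en l)) (fun l => u (ep l)) := by
    simp only [cellC, MonObj.mul_comp, Category.assoc, prodMap_comp_hom, hvn, hvp, hcH]
  haveI hmono : Mono (cellC c (fun l => u (en l)) (fun l => u (ep l))) := ⟨fun {X} f g e => by
    have key : ∀ {n r : ℕ} (e' : Fin n → idx) (r' : Fin r → idx) (w : X ⟶ RedSub.pow (Red.Ga S) n),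
        ∃ w' : X ⟶ RedSub.pow (Red.Ga S) (n + r),
          w' ≫ RedSub.prodMap (Red.Ga S) (n + r) (fun l => u (Fin.append e' r' l)) =
            w ≫ RedSub.prodMap (Red.Ga S) n (fun l => u (e' l)) ∧
          ∀ l, w' ≫ proj S (n + r) (Fin.castAdd r l) = w ≫ proj S n l := by
      intro n r e' r' w
      obtain ⟨w', hw'⟩ := exists_pow (S := S) (X := X) (Fin.append (fun l => w ≫ proj S n l) fun _ : Fin r => 1)
      refine ⟨w', ?_, fun l => by rw [hw', Fin.append_left]⟩
      rw [comp_prodMap_eq, comp_prodMap_eq,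
        show (fun l => (w' ≫ proj S (n + r) l) ≫ u (Fin.append e' r' l)) =
          Fin.append (fun l => (w ≫ proj S n l) ≫ u (e' l)) (fun _ : Fin r => (1 : X ⟶ G)) from funext fun l => by
            induction l using Fin.addCases with
            | left l => simp only [hw', Fin.append_left]
            | right l => simp only [hw', Fin.append_right, MonObj.one_comp],
        List.ofFn_fin_append, List.prod_append, List.prod_eq_one (l := List.ofFn fun _ : Fin r => (1 : X ⟶ G))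
          (fun x hx => by obtain ⟨_, rfl⟩ := List.mem_ofFn.1 hx; rfl), _root_.mul_one]
    have hsplit : ∀ f : X ⟶ RedSub.pow (Red.Ga S) n ⊗ (Red.DS S M ⊗ RedSub.pow (Red.Ga S) m),
        f = lift (f ≫ fst _ _) (lift (f ≫ snd _ _ ≫ fst _ _) (f ≫ snd _ _ ≫ snd _ _)) := fun f => by
      refine CartesianMonoidalCategory.hom_ext _ _ (by simp) ?_
      refine CartesianMonoidalCategory.hom_ext _ _ (by simp) (by simp)
    obtain ⟨fn, hfn, hfn'⟩ := key en rn (f ≫ fst _ _)
    obtain ⟨fp, hfp, hfp'⟩ := key ep rp (f ≫ snd _ _ ≫ snd _ _)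
    obtain ⟨gn, hgn, hgn'⟩ := key en rn (g ≫ fst _ _)
    obtain ⟨gp', hgp, hgp'⟩ := key ep rp (g ≫ snd _ _ ≫ snd _ _)
    rw [hsplit f, hsplit g, comp_cellC, comp_cellC, ← hfn, ← hfp, ← hgn, ← hgp, ← comp_cellC, ← comp_cellC,
      cancel_mono] at e
    have e1 : fn = gn := by simpa using congrArg (fun w => w ≫ fst _ _) e
    have e2 : f ≫ snd _ _ ≫ fst _ _ = g ≫ snd _ _ ≫ fst _ _ := by
      simpa using congrArg (fun w => w ≫ snd _ _ ≫ fst _ _) e
    have e3 : fp = gp' := by simpa using congrArg (fun w => w ≫ snd _ _ ≫ snd _ _) e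
    have h1 : f ≫ fst _ _ = g ≫ fst _ _ := pow_ext fun l => by rw [← hfn', ← hgn', e1]
    have h3 : f ≫ snd _ _ ≫ snd _ _ = g ≫ snd _ _ ≫ snd _ _ := pow_ext fun l => by rw [← hfp', ← hgp', e3]
    rw [hsplit f, hsplit g, h1, e2, h3]⟩
  haveI : Mono (cellC cH vn vp ≫ h) := by rw [hcomp]; exact hmono
  haveI : Mono (cellC cH vn vp) := mono_of_mono _ h
  haveI : Mono (cellC cH vn vp).left := inferInstanceAs (Mono ((Over.forget S).map (cellC cH vn vp)))
  haveI := smooth_powGa S n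
  haveI := smooth_powGa S m
  haveI : Smooth (Red.DS S M).hom := MTImage.smooth_torus F.hc.2.2.1
  haveI : Smooth (RedSub.pow (Red.Ga S) n ⊗ (Red.DS S M ⊗ RedSub.pow (Red.Ga S) m)).hom := by
    show Smooth (pullback.fst (RedSub.pow (Red.Ga S) n).hom
      (pullback.fst (Red.DS S M).hom (RedSub.pow (Red.Ga S) m).hom ≫ (Red.DS S M).hom) ≫
        (RedSub.pow (Red.Ga S) n).hom)
    infer_instance
  have hbcGa : ∀ (s : S) (v : Red.Ga S ⟶ H),
      bcGa (Red.geomPt s) v ≫ (Over.pullback (Red.geomPt s)).map h = bcGa (Red.geomPt s) (v ≫ h) := fun s v => by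
    rw [bcGa, bcGa, Functor.map_comp, Category.assoc]
  haveI : Smooth (cellC cH vn vp).left := smooth_of_geomPts _ fun s => by
    let τ := Red.geomPt s
    obtain ⟨i1, i2, i3, i4, i5, i6⟩ := sub_fibre F.hG h hconn s
    haveI := i1; haveI := i2; haveI := i3; haveI := i4; haveI := i5; haveI := i6
    haveI : IsMonHom (bcHom' τ c) := isMonHom_bcHom' τ c
    haveI : IsMonHom (bcHom' τ cH) := isMonHom_bcHom' τ cH
    have hcK : bcHom' τ cH ≫ (Over.pullback τ).map h = bcHom' τ c := by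
      rw [bcHom', Category.assoc, ← Functor.map_comp, hcH]
      rfl
    obtain ⟨ζ, hζ, hζe⟩ := exists_cellC_bc τ cH vn vp
    haveI := hζ
    have hmem : ∀ a, (∃ w, w ≫ (Over.pullback τ).map h = bcGa τ (u a)) ↔ a ∈ R := fun a =>
      (F.inFib_iff hconn hcH a s).symm.trans (hR a s)
    haveI := (F.bc τ).isOpenImmersion_sub_cell hcK mu hmu en ep (by simpa only [hmem] using hn)
      (by simpa only [hmem] using hp) (fun l => bcGa τ (vn l)) (fun l => by rw [hbcGa, hvn])
      (fun l => bcGa τ (vp l)) (fun l => by rw [hbcGa, hvp])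
    haveI : IsIso ζ.left := inferInstanceAs (IsIso ((Over.forget _).map ζ))
    rw [← hζe, Over.comp_left]
    infer_instance
  exact IsOpenImmersion.of_flat_of_mono _

/-- A functional without zeros on the roots. -/
theorem Frame.exists_regular (F : Frame c root u) : ∃ mu : M →+ ℤ, ∀ b, mu (root b) ≠ 0 := by
  classical
  obtain ⟨mu, hmu⟩ := DynPar.exists_hom_ne_zero (Finset.univ.image root)
  exact ⟨mu, fun b => hmu _ (Finset.mem_image_of_mem _ (Finset.mem_univ b)) (F.ne b)⟩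

/-- **Inclusion through the root groups, for a constant pattern.** -/
theorem Frame.exists_le_const (F : Frame c root u) (hopp : ∀ a, ∃ a', root a' = -root a)
    (hconn : RedSub.HasConnectedFibres H) (hcH : cH ≫ h = c)
    (hC : ∀ a, (∀ s : S, InFib h (u a) s) ∨ ∀ s : S, ¬ InFib h (u a) s) {H'' : Over S} [GrpObj H''] (h'' : H'' ⟶ G)
    [IsMonHom h''] [IsImmersion h''.left] (c'' : Red.DS S M ⟶ H'') (hc'' : c'' ≫ h'' = c)
    (hR : ∀ a, (∀ s : S, InFib h (u a) s) → ∃ v, v ≫ h'' = u a) : ∃ f : H ⟶ H'', f ≫ h'' = h := by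
  classical
  haveI := F.hc.1
  obtain ⟨mu, hmu⟩ := F.exists_regular
  let R : Set idx := {a | ∀ s : S, InFib h (u a) s}
  have hRi : ∀ a (s : S), InFib h (u a) s ↔ a ∈ R := fun a s =>
    ⟨fun h0 => (hC a).elim id fun h1 => absurd h0 (h1 s), fun h0 => h0 s⟩
  obtain ⟨n, en', -, hn⟩ := exists_extend {a | a ∈ R ∧ 0 < (-mu) (root a)} (Fin.elim0 : Fin 0 → idx)
    (fun x => x.elim0) fun k => k.elim0
  obtain ⟨m, ep', -, hp⟩ := exists_extend {a | a ∈ R ∧ 0 < mu (root a)} (Fin.elim0 : Fin 0 → idx)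
    (fun x => x.elim0) fun k => k.elim0
  let en := Fin.append (Fin.elim0 : Fin 0 → idx) en'
  let ep := Fin.append (Fin.elim0 : Fin 0 → idx) ep'
  choose vn hvn using fun l => F.fac_of_const hopp hconn hcH hC (hn.2.subset ⟨l, rfl⟩).1
  choose vp hvp using fun l => F.fac_of_const hopp hconn hcH hC (hp.2.subset ⟨l, rfl⟩).1
  choose wn hwn using fun l => hR (en l) (hn.2.subset ⟨l, rfl⟩).1
  choose wp hwp using fun l => hR (ep l) (hp.2.subset ⟨l, rfl⟩).1
  haveI := F.isOpenImmersion_cell hconn hcH R hRi mu hmu en ep hn hp vn hvn vp hvp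
  obtain ⟨y0, hy0⟩ := exists_pow (S := S) (X := 𝟙_ (Over S)) fun _ : Fin (0 + n) => 1
  obtain ⟨y1, hy1⟩ := exists_pow (S := S) (X := 𝟙_ (Over S)) fun _ : Fin (0 + m) => 1
  haveI : Mono h := Over.mono_of_mono_left h
  have hvm : ∀ (w : Red.Ga S ⟶ H) a, w ≫ h = u a → IsMonHom w := fun w a hw => by
    haveI := (F.hu a).1
    exact MTSplit.isMonHom_of_comp_mono w h _ hw
  refine exists_fac_of_open h hconn h'' (cellC cH vn vp) (lift y0 (lift 1 y1)) ?_ (cellC c'' wn wp) ?_
  · rw [comp_cellC, prodMap_one _ (fun k => hvm _ _ (hvn k)) y0 hy0, prodMap_one _ (fun k => hvm _ _ (hvp k)) y1 hy1,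
      MonObj.one_comp, _root_.one_mul, _root_.one_mul]
  · simp only [cellC, MonObj.mul_comp, Category.assoc, prodMap_comp_hom, hvn, hvp, hwn, hwp, hcH, hc'', en, ep]

end Groth.Agent.RootBase
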