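import Groth.Agent.RootBase.UnipStab
import Groth.Agent.RootBase.TypeRMain
import Groth.Agent.RootBase.TypeRNorm
import Groth.Agent.RootBase.Borel
import Groth.Agent.ParNorm.Global
import Groth.Agent.SmNeutral.Core

/-!
# Unipotent subgroups normalised by the torus, over a connected base
-/

set_option autoImplicit false
set_option backward.isDefEq.respectTransparency false
set_option linter.style.haveILetI false
set_option maxHeartbeats 1000000
set_option synthInstance.maxHeartbeats 400000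

universe u

open CategoryTheory Limits MonoidalCategory CartesianMonoidalCategory MonObj GrpObj AlgebraicGeometry LieS
open scoped CategoryTheory.Obj

noncomputable section

namespace Groth.Agent.RootBase

open Groth.Agent.HomDiag Groth.Agent.DynPar Groth.Agent.RootSys Groth.Agent.MTBridge

variable {S : Scheme.{u}} {G : Over S} [GrpObj G] {M : Type} [AddCommGroup M] [Module.Free ℤ M] [Module.Finite ℤ M]
  {c : Red.DS S M ⟶ G} {idx : Type} [Fintype idx] {root : idx → M} {u : idx → (Red.Ga S ⟶ G)}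

section Closed

variable {H : Over S} [GrpObj H]

/-- **The locus where a root group lies in the subgroup is closed, given the description of its points.** -/
theorem Frame.isClosed_inFib_of_iff (F : Frame c root u) (h : H ⟶ G) [IsMonHom h] [IsImmersion h.left] (a : idx)
    (hiff : ∀ s, InFib h (u a) s ↔ ∃ w, w ≫ (Over.pullback (Red.geomPt s)).map h = bcGa (Red.geomPt s) (u a)) :
    IsClosed {s : S | InFib h (u a) s} := by
  haveI := (F.hu a).1
  haveI := smooth_Ga S
  let p := (Red.Ga S).hom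
  let L : Set (Red.Ga S).left := Set.range (pullback.fst (u a).left h.left)
  haveI : IsImmersion (pullback.fst (u a).left h.left) :=
    MorphismProperty.pullback_fst (P := @IsImmersion) _ _ inferInstance
  have hL : IsLocallyClosed L := (pullback.fst (u a).left h.left).isLocallyClosed_range
  let D := (Red.Ga S).left.basicOpen (Red.gaFn (𝟙 (Red.Ga S)))
  have hwhole : ∀ t, InFib h (u a) t → (p : (Red.Ga S).left → S) ⁻¹' {t} ⊆ L := by
    intro t ht q hq
    let τ := Red.geomPt t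
    obtain ⟨w, hw⟩ := (hiff t).1 ht
    haveI := isIso_gaBC (S := S) τ
    have hw' : (inv (gaBC τ) ≫ w) ≫ (Over.pullback τ).map h = (Over.pullback τ).map (u a) := by
      rw [Category.assoc, hw, bcGa, IsIso.inv_hom_id_assoc]
    have h2 := congrArg (fun f => f.left ≫ pullback.fst G.hom τ) hw'
    simp [Over.pullback] at h2
    obtain ⟨z, hz, -⟩ := Scheme.Pullback.exists_preimage_pullback (f := (Red.Ga S).hom) (g := τ) q
      (IsLocalRing.closedPoint _) (by rw [MTImage.geomPt_closedPoint]; exact hq)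
    let m : (Red.bc τ (Red.Ga S)).left ⟶ pullback (u a).left h.left :=
      pullback.lift (pullback.fst _ _) ((inv (gaBC τ) ≫ w).left ≫ pullback.fst H.hom τ) (by
        simpa [Category.assoc] using h2.symm)
    refine ⟨m z, ?_⟩
    rw [← Scheme.Hom.comp_apply, pullback.lift_fst]
    exact hz
  refine isClosed_of_closure_subset fun s hs => ?_
  obtain ⟨O, hO, hOL⟩ : ∃ O : (Red.Ga S).left.Opens, (O : Set (Red.Ga S).left) = coborder L ∧
      (O : Set (Red.Ga S).left) ∩ closure L = L := ⟨⟨coborder L, hL.isOpen_coborder⟩, rfl, coborder_inter_closure⟩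
  -- the fibre of the point lies in the closure
  have hfib : (p : (Red.Ga S).left → S) ⁻¹' {s} ⊆ closure L := by
    have hopen : IsOpenMap p := p.isOpenMap
    intro q hq
    have : q ∈ closure ((p : (Red.Ga S).left → S) ⁻¹' {t | InFib h (u a) t}) := by
      rw [← hopen.preimage_closure_eq_closure_preimage p.continuous]
      show p q ∈ closure {t | InFib h (u a) t}
      rw [show p q = s from hq]
      exact hs
    exact closure_mono (fun r hr => hwhole _ hr rfl) this
  -- the unit and a non-zero point lie in the two open sets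
  let τ := Red.geomPt s
  let K := AlgebraicClosure (S.residueField s)
  have hone : ∀ o, (1 : GP s ⟶ Red.Ga S).left o ∈ O := fun o => by
    have h1 : (1 : GP s ⟶ Red.Ga S).left o ∈ L := by
      refine ⟨(pullback.lift (1 : GP s ⟶ Red.Ga S).left (1 : GP s ⟶ H).left (by
        rw [← Over.comp_left, ← Over.comp_left, MonObj.one_comp, MonObj.one_comp]) : _ ⟶ _) o, ?_⟩
      rw [← Scheme.Hom.comp_apply, pullback.lift_fst]
    rw [← SetLike.mem_coe, hO]
    exact subset_coborder h1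
  let x₁ : GP s ⟶ Red.Ga S := BGaNotS.gaPt 1
  have hx₁ : x₁ ≠ 1 := fun e => by
    have h1 := congrArg Red.gaFn e
    rw [BGaNotS.gaFn_gaPt, BGaNotS.gaFn_one] at h1
    have h2 := congrArg (Scheme.ΓSpecIso (CommRingCat.of K)).hom h1
    rw [map_one, map_zero] at h2
    exact one_ne_zero h2
  have hD : ∀ o, x₁.left o ∈ D := (gaPt_mem_basicOpen_iff x₁).1 hx₁
  -- the geometric fibre is irreducible
  obtain ⟨r1, r2⟩ := ga_field K
  haveI := r1; haveI := r2
  haveI := RedR1.smooth_ga K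
  haveI := RedR1.connectedSpace_ga K
  haveI : IsIso (gaBC (S := S) τ) := isIso_gaBC τ
  haveI : IsAffine Red.GaZ.left := isAffine_Spec _
  haveI : IsAffineHom (Red.Ga (Spec (CommRingCat.of K))).hom :=
    MorphismProperty.pullback_snd (P := @IsAffineHom) Red.GaZ.hom _ (isAffineHom_of_isAffine _)
  haveI : IsAffine (Red.Ga (Spec (CommRingCat.of K))).left :=
    isAffine_of_isAffineHom (Red.Ga (Spec (CommRingCat.of K))).hom
  haveI : IsIntegral (Red.Ga (Spec (CommRingCat.of K))).left :=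
    RGDev.isIntegral_of_smooth_connected (Red.Ga (Spec (CommRingCat.of K))).hom
  let π : (Red.Ga (Spec (CommRingCat.of K))).left ⟶ (Red.Ga S).left :=
    (gaBC (S := S) τ).left ≫ pullback.fst (Red.Ga S).hom τ
  let o₀ : (GP s).left := (IsLocalRing.closedPoint K : ↥(Spec (CommRingCat.of K)))
  have hπ : ∀ x : GP s ⟶ Red.Ga S, ∃ y, x.left o₀ = π y := fun x => by
    refine ⟨(toBC τ x ≫ inv (gaBC (S := S) τ)).left o₀, ?_⟩
    have : (toBC τ x ≫ inv (gaBC (S := S) τ)).left ≫ π = x.left := by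
      rw [← Category.assoc, ← Over.comp_left, Category.assoc, IsIso.inv_hom_id, Category.comp_id]
      conv_rhs => rw [← show fromBC τ (toBC τ x) = x from Equiv.symm_apply_apply _ _]
      generalize toBC τ x = z
      simp [fromBC, Adjunction.homEquiv_counit]
    rw [← Scheme.Hom.comp_apply, this]
    rfl
  obtain ⟨y₁, hy₁⟩ := hπ x₁
  obtain ⟨y₀, hy₀⟩ := hπ 1
  obtain ⟨y, hyO, hyD⟩ := nonempty_preirreducible_inter (O.2.preimage π.continuous) (D.2.preimage π.continuous)
    ⟨y₀, show π y₀ ∈ O by rw [← hy₀]; exact hone _⟩ ⟨y₁, show π y₁ ∈ D by rw [← hy₁]; exact hD _⟩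
  have hys : p (π y) = s := by
    show (Red.Ga S).hom ((pullback.fst (Red.Ga S).hom τ) ((gaBC (S := S) τ).left y)) = s
    rw [← Scheme.Hom.comp_apply, pullback.condition, Scheme.Hom.comp_apply,
      Subsingleton.elim (α := ↥(Spec (CommRingCat.of K)))
        ((pullback.snd (Red.Ga S).hom τ) ((gaBC (S := S) τ).left y)) (IsLocalRing.closedPoint _),
      MTImage.geomPt_closedPoint]
  have hyL : π y ∈ L := hOL.le ⟨hyO, hfib hys⟩
  -- a geometric point of the intersection
  let J : Over S := Over.mk (pullback.fst (u a).left h.left ≫ (Red.Ga S).hom)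
  let i : J ⟶ Red.Ga S := Over.homMk (pullback.fst (u a).left h.left) rfl
  let wJ : J ⟶ H := Over.homMk (pullback.snd (u a).left h.left) (by
    show pullback.snd _ _ ≫ H.hom = pullback.fst _ _ ≫ (Red.Ga S).hom
    rw [← Over.w h, ← Category.assoc, ← pullback.condition, Category.assoc, Over.w (u a)])
  haveI : LocallyOfFiniteType i.left := inferInstanceAs (LocallyOfFiniteType (pullback.fst (u a).left h.left))
  haveI : LocallyOfFiniteType J.hom := inferInstanceAs (LocallyOfFiniteType (_ ≫ _))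
  obtain ⟨j, hj⟩ := hyL
  obtain ⟨q, hq⟩ := exists_GP_of_mem (X := J) (i.left ⁻¹ᵁ D) (q := j)
    (show i.left j ∈ D by rw [show i.left j = π y from hj]; exact hyD) (s := s) (by
      show (pullback.fst (u a).left h.left ≫ (Red.Ga S).hom) j = s
      rw [Scheme.Hom.comp_apply, hj]; exact hys)
  exact ⟨q ≫ i, q ≫ wJ, by rw [Category.assoc, Category.assoc, show i ≫ u a = wJ ≫ h from
    Over.OverMorphism.ext pullback.condition], (gaPt_mem_basicOpen_iff _).2 fun o => hq o⟩

end Closed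

omit [Module.Free ℤ M] [Module.Finite ℤ M] in
/-- The torus scales the coordinates of a product of root groups. -/
theorem exists_conj_coord {m : ℕ} {r : Fin m → M} {w : Fin m → (Red.Ga S ⟶ G)}
    (hw : ∀ l, Red.IsRootHom c (Red.chi _ (r l)) (w l)) {X : Over S} (s : X ⟶ Red.DS S M)
    (y : X ⟶ RedSub.pow (Red.Ga S) m) :
    ∃ y' : X ⟶ RedSub.pow (Red.Ga S) m,
      (∀ l, Red.gaFn (y' ≫ proj S m l) = ch s (Multiplicative.ofAdd (r l)) * Red.gaFn (y ≫ proj S m l)) ∧
      y' ≫ RedSub.prodMap (Red.Ga S) m w = (s ≫ c) * (y ≫ RedSub.prodMap (Red.Ga S) m w) * (s ≫ c)⁻¹ := by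
  choose z hz hz' using fun l => (hw l).2.2 X s (y ≫ proj S m l)
  obtain ⟨y', hy, hy'⟩ := exists_pow_prod w z
  refine ⟨y', fun l => ?_, by simp only [hy', hz, comp_prodMap_eq, conj_ofFn_prod]⟩
  rw [hy, hz', RootIntrinsic.gmFn_chi]

/-- The dimension of the affine space over an algebraically closed field. -/
theorem dim_powGa (k : Type u) [Field k] (m : ℕ) :
    topologicalKrullDim ↥(RedSub.pow (Red.Ga (Spec (CommRingCat.of k))) m).left = (m : WithBot ℕ∞) := by
  obtain ⟨Y, -, hY⟩ := exists_powPt k m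
  haveI : IsIso Y.left := inferInstanceAs (IsIso ((Over.forget _).map Y))
  rw [← IsHomeomorph.topologicalKrullDim_eq _ (Y.left.homeomorph).isHomeomorph]
  show topologicalKrullDim ↥(Spec (CommRingCat.of (MvPolynomial (Fin m) k))) = _
  rw [show topologicalKrullDim ↥(Spec (CommRingCat.of (MvPolynomial (Fin m) k))) =
    topologicalKrullDim (PrimeSpectrum (MvPolynomial (Fin m) k)) from rfl,
    PrimeSpectrum.topologicalKrullDim_eq_ringKrullDim, MvPolynomial.ringKrullDim_of_isNoetherianRing,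
    ringKrullDim_eq_zero_of_field, zero_add, Nat.card_fin]

omit [Module.Free ℤ M] [Module.Finite ℤ M] in
/-- A shorter list of coordinates inside a longer one. -/
theorem exists_pad_coord : ∀ (N m : ℕ) (hm : m ≤ N),
    ∃ (i : RedSub.pow (Red.Ga S) m ⟶ RedSub.pow (Red.Ga S) N) (r : RedSub.pow (Red.Ga S) N ⟶ RedSub.pow (Red.Ga S) m),
      i ≫ r = 𝟙 _ ∧ (∀ l, r ≫ proj S m l = proj S N (Fin.castLE hm l)) ∧
      ∀ w : Fin N → (Red.Ga S ⟶ G), (∀ l, IsMonHom (w l)) →
        i ≫ RedSub.prodMap (Red.Ga S) N w = RedSub.prodMap (Red.Ga S) m fun l => w (Fin.castLE hm l)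
  | N, 0, _ => by
    obtain ⟨o, ho⟩ := exists_origin (S := S) (G := G) N
    exact ⟨o, toUnit _, toUnit_unique _ _, fun l => l.elim0, fun w hw => (ho w hw).trans rfl⟩
  | N + 1, m + 1, hm => by
    obtain ⟨i, r, hir, hr, hi⟩ := exists_pad_coord N m (Nat.le_of_succ_le_succ hm)
    refine ⟨𝟙 _ ⊗ₘ i, 𝟙 _ ⊗ₘ r, ?_, fun l => ?_, fun w hw => ?_⟩
    · rw [tensorHom_comp_tensorHom, Category.id_comp, hir]
      exact id_tensorHom_id _ _
    · induction l using Fin.cases with
      | zero =>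
        show (𝟙 (Red.Ga S) ⊗ₘ r) ≫ fst _ _ = fst _ _
        rw [tensorHom_fst, Category.comp_id]
      | succ l =>
        show (𝟙 (Red.Ga S) ⊗ₘ r) ≫ snd _ _ ≫ proj S m l =
          snd _ _ ≫ proj S N (Fin.castLE (Nat.le_of_succ_le_succ hm) l)
        rw [tensorHom_snd_assoc, hr]
    · show (𝟙 (Red.Ga S) ⊗ₘ i) ≫ ((fst _ _ ≫ w 0) * (snd _ _ ≫ RedSub.prodMap (Red.Ga S) N fun k => w k.succ)) =
        (fst _ _ ≫ w (Fin.castLE hm 0)) * (snd _ _ ≫ RedSub.prodMap (Red.Ga S) m fun k => w (Fin.castLE hm k.succ))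
      rw [MonObj.comp_mul, tensorHom_fst_assoc, tensorHom_snd_assoc, Category.id_comp, hi _ fun l => hw l.succ]
      rfl

/-- A section of the second projection from an affine group is a closed immersion. -/
theorem isClosedImmersion_section {T X : Over S} [IsAffineHom T.hom] (a : X ⟶ T) :
    IsClosedImmersion (lift a (𝟙 X)).left := by
  haveI : IsAffineHom (snd T X).left :=
    MorphismProperty.pullback_snd (P := @IsAffineHom) T.hom X.hom inferInstance
  haveI : IsClosedImmersion ((lift a (𝟙 X)).left ≫ (snd T X).left) := by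
    rw [← Over.comp_left, lift_snd]; exact inferInstanceAs (IsClosedImmersion (𝟙 _))
  exact IsClosedImmersion.of_comp _ (snd T X).left

/-- Conjugating a cell point by an element commuting with its middle factor. -/
theorem conj_cell' {Γ : Type*} [Group Γ] {s n τ p : Γ} (hc : Commute s τ) :
    (s * n * s⁻¹) * (τ * (s * p * s⁻¹)) = s * (n * (τ * p)) * s⁻¹ := by
  calc _ = s * n * (s⁻¹ * (τ * s)) * p * s⁻¹ := by simp only [_root_.mul_assoc]
    _ = _ := by rw [← hc.eq, inv_mul_cancel_left]; simp only [_root_.mul_assoc]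

omit [Module.Free ℤ M] [Module.Finite ℤ M] in
/-- The orbit of a coordinate of weight `k`. -/
theorem gaFn_orbit_coord {B : Type u} [CommRing B] (f : Spec (CommRingCat.of B) ⟶ S) (mu : M →+ ℤ) (m : M)
    (hm : 0 < mu m) (x : pt B f ⟶ Red.Ga S) :
    ch (xu f ℤ ≫ Red.DSmap S mu) (Multiplicative.ofAdd m) * Red.gaFn (qc ℤ f ≫ x) =
      Red.gaFn (qn f ℤ ≫ (BGaNotS.gaPt ((Scheme.ΓSpecIso (CommRingCat.of (AddMonoidAlgebra B (NN ℤ)))).inv
        (AddMonoidAlgebra.single (⟨mu m, hm.le⟩ : NN ℤ) 1 *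
          cC B (NN ℤ) ((Scheme.ΓSpecIso (CommRingCat.of B)).hom (Red.gaFn x)))) :
            pt (AddMonoidAlgebra B (NN ℤ)) (fL f (NN ℤ)) ⟶ Red.Ga S)) := by
  let eZ := Scheme.ΓSpecIso (CommRingCat.of (AddMonoidAlgebra B ℤ))
  apply (ConcreteCategory.bijective_of_isIso eZ.hom).1
  have hch : eZ.hom (ch (xu f ℤ ≫ Red.DSmap S mu) (Multiplicative.ofAdd m)) = AddMonoidAlgebra.single (mu m) 1 := by
    show chv (xu f ℤ ≫ Red.DSmap S mu) (Multiplicative.ofAdd m) = _
    rw [chv_DSmap, chv_xu]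
    rfl
  let eB := Scheme.ΓSpecIso (CommRingCat.of B)
  let eN := Scheme.ΓSpecIso (CommRingCat.of (AddMonoidAlgebra B (NN ℤ)))
  have hq : eZ.hom (Red.gaFn (qc ℤ f ≫ x)) = cC B ℤ (eB.hom (Red.gaFn x)) := by
    rw [BGaNotS.gaFn_comp, qc, qm_left]
    exact ConcreteCategory.congr_hom (Scheme.ΓSpecIso_naturality (CommRingCat.ofHom (cC B ℤ))) (Red.gaFn x)
  rw [map_mul, hch, hq, BGaNotS.gaFn_comp, qn, qd, qm_left, BGaNotS.gaFn_gaPt]
  refine Eq.symm ((ConcreteCategory.congr_hom (Scheme.ΓSpecIso_naturality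
    (CommRingCat.ofHom (AddMonoidAlgebra.mapDomainRingHom B (NN ℤ).subtype))) _).trans ?_)
  show AddMonoidAlgebra.mapDomainRingHom B (NN ℤ).subtype (eN.hom (eN.inv _)) = _
  rw [show ∀ z, eN.hom (eN.inv z) = z from fun z => ConcreteCategory.congr_hom eN.inv_hom_id z, map_mul]
  congr 1
  · exact AddMonoidAlgebra.mapDomain_single
  · show AddMonoidAlgebra.mapDomain _ (AddMonoidAlgebra.single 0 _) = AddMonoidAlgebra.single 0 _
    rw [AddMonoidAlgebra.mapDomain_single, map_zero]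

/-- The orbit of a coordinate of positive weight vanishes at zero. -/
theorem qz_orbit_coord {B : Type u} [CommRing B] (f : Spec (CommRingCat.of B) ⟶ S) {k : ℤ} (hk : 0 < k)
    (b : B) :
    qz f ℤ ≫ (BGaNotS.gaPt ((Scheme.ΓSpecIso (CommRingCat.of (AddMonoidAlgebra B (NN ℤ)))).inv
      (AddMonoidAlgebra.single (⟨k, hk.le⟩ : NN ℤ) 1 * cC B (NN ℤ) b)) :
        pt (AddMonoidAlgebra B (NN ℤ)) (fL f (NN ℤ)) ⟶ Red.Ga S) = 1 := by
  refine BGaNotS.gaPt_ext ?_
  rw [BGaNotS.gaFn_one, BGaNotS.gaFn_comp, qz, qm_left, BGaNotS.gaFn_gaPt]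
  apply (ConcreteCategory.bijective_of_isIso (Scheme.ΓSpecIso (CommRingCat.of B)).hom).1
  refine ((ConcreteCategory.congr_hom (Scheme.ΓSpecIso_naturality (CommRingCat.ofHom (z0 ℤ B))) _).trans ?_).trans
    (map_zero _).symm
  show z0 ℤ B ((Scheme.ΓSpecIso (CommRingCat.of (AddMonoidAlgebra B (NN ℤ)))).hom
    ((Scheme.ΓSpecIso (CommRingCat.of (AddMonoidAlgebra B (NN ℤ)))).inv _)) = 0
  rw [show ∀ z, (Scheme.ΓSpecIso (CommRingCat.of (AddMonoidAlgebra B (NN ℤ)))).hom
    ((Scheme.ΓSpecIso (CommRingCat.of (AddMonoidAlgebra B (NN ℤ)))).inv z) = z from fun z =>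
      ConcreteCategory.congr_hom (Scheme.ΓSpecIso (CommRingCat.of (AddMonoidAlgebra B (NN ℤ)))).inv_hom_id z,
    map_mul, z0_single, if_neg hk.ne', MulZeroClass.zero_mul]

/-- Contracted points are products of the positive root groups. -/
theorem exists_pow_of_mem_USub (F : Frame c root u) (mu : M →+ ℤ) (hmu : ∀ a, mu (root a) ≠ 0) {m : ℕ}
    (e : Fin m → idx) (he : RedSub.Enumerates {a | 0 < mu (root a)} e) {B : Type u} [CommRing B]
    {f : Spec (CommRingCat.of B) ⟶ S} {g : pt B f ⟶ G} (hg : g ∈ USub f (Red.DSmap S mu ≫ c)) :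
    ∃ Y : pt B f ⟶ RedSub.pow (Red.Ga S) m, Y ≫ RedSub.prodMap (Red.Ga S) m (fun l => u (e l)) = g := by
  haveI := F.hG.1; haveI := F.hG.2.1; haveI := F.hc.1
  obtain ⟨P, _, p, hP⟩ := exists_isP (G := G) (Red.DSmap S mu ≫ c)
  obtain ⟨φ, hφ⟩ := F.exists_iso_isP mu hmu e he hP
  obtain ⟨z, hz⟩ := hP.exists_fac_iff.2 (USub_le_PSub _ _ hg)
  obtain ⟨t, Y, hzY⟩ : ∃ (t : pt B f ⟶ Red.DS S M) (Y : pt B f ⟶ RedSub.pow (Red.Ga S) m), z ≫ φ.inv = lift t Y :=
    ⟨z ≫ φ.inv ≫ fst _ _, z ≫ φ.inv ≫ snd _ _, CartesianMonoidalCategory.hom_ext _ _ (by simp) (by simp)⟩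
  have h1 : g = (t ≫ c) * (Y ≫ RedSub.prodMap (Red.Ga S) m fun l => u (e l)) := by
    rw [← hz, show z = lift t Y ≫ φ.hom by rw [← hzY, Category.assoc, Iso.inv_hom_id, Category.comp_id],
      Category.assoc, hφ, borelC, MonObj.comp_mul, lift_fst_assoc, lift_snd_assoc]
  have hY := prodMap_mem_USub_global mu f (fun l => F.hu (e l)) (fun l => he.2.subset ⟨l, rfl⟩) Y
  have ht : t ≫ c ∈ USub f (Red.DSmap S mu ≫ c) := by
    rw [show t ≫ c = g * (Y ≫ RedSub.prodMap (Red.Ga S) m fun l => u (e l))⁻¹ by rw [h1, mul_inv_cancel_right]]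
    exact mul_mem hg (inv_mem hY)
  have hZ : t ≫ c ∈ ZSub f (Red.DSmap S mu ≫ c) := (mem_ZSub_iff_commute f _).2 fun B' _ f' x h => by
    rw [← Category.assoc x, ← Category.assoc h, ← MonObj.mul_comp, ← MonObj.mul_comp,
      show (x ≫ t) * (h ≫ Red.DSmap S mu) = (h ≫ Red.DSmap S mu) * (x ≫ t) from
        ch_ext fun m => by rw [ch_mul, ch_mul, mul_comm]]
  have h2 := (mem_USub_iff_lim.1 ht).2
  rw [lim_of_mem_ZSub hZ] at h2
  exact ⟨Y, by rw [h1, h2, _root_.one_mul]⟩

variable {U : Over S} [GrpObj U] {j : U ⟶ G} [IsMonHom j] [IsImmersion j.left] [Smooth U.hom]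

/-- A subgroup with connected fibres without subtori normalised by the torus. -/
def IsStabUnip (c : Red.DS S M ⟶ G) (j : U ⟶ G) : Prop :=
  (∀ s : S, ConnectedSpace ↥(Red.geomFibre s U).left ∧
      Red.HasNoSubtorus (AlgebraicClosure (S.residueField s)) (Red.geomFibre s U)) ∧
    ∀ (X : Over S) (x : X ⟶ Red.DS S M) (y : X ⟶ U), ∃ y' : X ⟶ U, (x ≫ c) * (y ≫ j) * (x ≫ c)⁻¹ = y' ≫ j

set_option maxHeartbeats 8000000 in
/-- The fibres of a unipotent subgroup normalised by the torus. -/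
theorem Frame.unip_fibre (F : Frame c root u) (hst : IsStabUnip c j) (s : S) :
    (∀ a, InFib j (u a) s ↔ ∃ v, v ≫ (Over.pullback (Red.geomPt s)).map j = bcGa (Red.geomPt s) (u a)) ∧
    ∃ mu : M →+ ℤ, (∀ a, mu (root a) ≠ 0) ∧ (∀ a, InFib j (u a) s → 0 < mu (root a)) ∧
      ∀ {m : ℕ} (e : Fin m → idx), RedSub.Enumerates {a | InFib j (u a) s} e →
        ∃ ψ : RedSub.pow (Red.Ga (Spec (CommRingCat.of (AlgebraicClosure (S.residueField s))))) m ≅
            Red.bc (Red.geomPt s) U,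
          ψ.hom ≫ (Over.pullback (Red.geomPt s)).map j =
            RedSub.prodMap (Red.Ga _) m (fun l => bcGa (Red.geomPt s) (u (e l))) := by
  let τ := Red.geomPt s
  haveI := F.hG.1; haveI := F.hG.2.1; haveI := F.hc.1
  haveI : IsAffine (Red.bc τ G).left := (F.hG.2.2 s).1
  haveI : Smooth (Red.bc τ G).hom := MorphismProperty.pullback_snd (P := @Smooth) G.hom τ inferInstance
  haveI : ConnectedSpace (Red.bc τ G).left := (F.hG.2.2 s).2.2.1
  haveI := isMonHom_map' τ j
  haveI : IsImmersion ((Over.pullback τ).map j).left :=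
    MorphismProperty.overPullbackMap (P := @IsImmersion) τ j inferInstance
  haveI : IsClosedImmersion ((Over.pullback τ).map j).left :=
    Groth.Agent.S0351.result _ _ _ ((Over.pullback τ).map j)
  haveI : Smooth (Red.bc τ U).hom := inferInstanceAs (Smooth (pullback.snd U.hom τ))
  haveI : ConnectedSpace (Red.bc τ U).left := (hst.1 s).1
  haveI : IsMonHom (bcHom' τ c) := isMonHom_bcHom' τ c
  haveI : ∀ a, IsMonHom (u a) := fun a => (F.hu a).1
  have hnormK : ∀ (X : Over (Spec (CommRingCat.of (AlgebraicClosure (S.residueField s)))))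
      (x : X ⟶ Red.DS _ M) (y : X ⟶ Red.bc τ U), ∃ y' : X ⟶ Red.bc τ U,
      (x ≫ bcHom' τ c) * (y ≫ (Over.pullback τ).map j) * (x ≫ bcHom' τ c)⁻¹ =
        y' ≫ (Over.pullback τ).map j := fun X x y => by
    obtain ⟨y', hy'⟩ := hst.2 _ ((Over.map τ).map x ≫ ejPt τ M) (fromBC τ y)
    have hinv : ∀ z : (Over.map τ).obj X ⟶ G, toBC τ z⁻¹ = (toBC τ z)⁻¹ := fun z =>
      map_inv (MonoidHom.mk' (fun z : (Over.map τ).obj X ⟶ G => toBC τ z) (toBC_mul τ)) z
    refine ⟨toBC τ y', ?_⟩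
    rw [← toBC_comp, ← hy', toBC_mul, toBC_mul, hinv, toBC_comp τ j, show toBC τ (fromBC τ y) = y from
      Equiv.apply_symm_apply _ _, bcHom', ← Category.assoc x, comp_ej, ← toBC_comp]
  obtain ⟨hpt, mu, hmu, hpos, hprod⟩ := (F.bc τ).exists_unip_prod ((Over.pullback τ).map j) (hst.1 s).2 hnormK
  have hiff : ∀ a, InFib j (u a) s ↔ ∃ v, v ≫ (Over.pullback τ).map j = bcGa τ (u a) := fun a => by
    constructor
    · rintro ⟨x, w, hxw, hx⟩
      let y : 𝟙_ (Over (Spec (CommRingCat.of (AlgebraicClosure (S.residueField s))))) ⟶ Red.Ga _ :=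
        BGaNotS.gaPt (W := 𝟙_ _) (Red.gaFn x :)
      have hy : (Over.map τ).map y ≫ gaPush τ = x := BGaNotS.gaPt_ext (by
        rw [gaFn_gaPush]; exact BGaNotS.gaFn_gaPt _)
      have h1 : y ≫ bcGa τ (u a) = toBC τ w ≫ (Over.pullback τ).map j := by
        rw [bcGa_eq, hy, hxw, toBC_comp]
      exact hpt a y _ h1 fun e => hx (BGaNotS.gaPt_ext (by
        rw [← hy, gaFn_gaPush, e, BGaNotS.gaFn_one, BGaNotS.gaFn_one]))
    · rintro ⟨w, hw⟩
      let y : 𝟙_ (Over (Spec (CommRingCat.of (AlgebraicClosure (S.residueField s))))) ⟶ Red.Ga _ :=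
        BGaNotS.gaPt 1
      refine ⟨(Over.map τ).map y ≫ gaPush τ, fromBC τ (y ≫ w), ?_, fun e => ?_⟩
      · apply ((Over.mapPullbackAdj τ).homEquiv _ _).injective
        show toBC τ _ = toBC τ _
        rw [← bcGa_eq, toBC_comp, ← hw, ← Category.assoc]
        congr 1
        exact (Equiv.apply_symm_apply _ _).symm
      · have h1 := congrArg Red.gaFn e
        rw [gaFn_gaPush, BGaNotS.gaFn_gaPt, BGaNotS.gaFn_one] at h1
        have h2 := congrArg (Scheme.ΓSpecIso (CommRingCat.of (AlgebraicClosure (S.residueField s)))).hom h1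
        rw [map_one, map_zero] at h2
        exact one_ne_zero h2
  refine ⟨hiff, mu, hmu, fun a ha => hpos a ((hiff a).1 ha), fun {m} e he => hprod e ?_⟩
  exact ⟨he.1, he.2.trans (Set.ext hiff)⟩

set_option maxHeartbeats 4000000 in
/-- **The roots of a unipotent subgroup normalised by the torus are locally constant.** -/
theorem Frame.isLocallyConstant_inFib (F : Frame c root u) (hst : IsStabUnip c j) :
    IsLocallyConstant fun s : S => {a | InFib j (u a) s} := by
  classical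
  let R : S → Finset idx := fun s => Finset.univ.filter fun a => InFib j (u a) s
  have hR : ∀ s a, a ∈ R s ↔ InFib j (u a) s := fun s a => by simp [R]
  have hcard : ∀ s : S, topologicalKrullDim ↥(U.hom.base ⁻¹' {s}) = ((R s).card : WithBot ℕ∞) := fun s => by
    obtain ⟨-, mu, -, -, hψ⟩ := F.unip_fibre hst s
    obtain ⟨ψ, -⟩ := hψ (fun l => ((R s).equivFin.symm l : idx))
      ⟨fun x y h => (R s).equivFin.symm.injective (Subtype.ext h), Set.ext fun b => ⟨fun ⟨l, hl⟩ =>
        hl ▸ (hR s _).1 ((R s).equivFin.symm l).2, fun hb => ⟨(R s).equivFin ⟨b, (hR s b).2 hb⟩, by simp⟩⟩⟩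
    haveI : IsIso ψ.hom.left := inferInstanceAs (IsIso ((Over.forget _).map ψ.hom))
    rw [← MTImage.dim_geomFibre U s, ← IsHomeomorph.topologicalKrullDim_eq _ (ψ.hom.left.homeomorph).isHomeomorph,
      dim_powGa]
  have hlc : IsLocallyConstant R := by
    refine (IsLocallyConstant.iff_exists_open _).2 fun s => ?_
    obtain ⟨W, hW, hsW, hdim⟩ :=
      (IsLocallyConstant.iff_exists_open _).1 (SmNeutral.isLocallyConstant_dim U) s
    let C : Set S := ⋂ b : {b : idx // b ∉ R s}, {t | InFib j (u b.1) t}ᶜ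
    have hC : IsOpen C := isOpen_iInter_of_finite fun b =>
      (F.isClosed_inFib_of_iff j b.1 fun t => (F.unip_fibre hst t).1 b.1).isOpen_compl
    have hsC : s ∈ C := Set.mem_iInter.2 fun b h => b.2 ((hR s b.1).2 h)
    refine ⟨W ∩ C, hW.inter hC, ⟨hsW, hsC⟩, fun t ht => ?_⟩
    refine Finset.eq_of_subset_of_card_le (fun b hb => ?_) (le_of_eq ?_)
    · by_contra hb'
      exact Set.mem_iInter.1 ht.2 ⟨b, hb'⟩ ((hR t b).1 hb)
    · have h1 := hdim t ht.1
      simp only [hcard] at h1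
      exact_mod_cast h1.symm
  have : (fun s : S => {a | InFib j (u a) s}) = (fun A : Finset idx => (A : Set idx)) ∘ R :=
    funext fun s => Set.ext fun a => (hR s a).symm
  rw [this]
  exact hlc.comp _

/-- **The roots of a unipotent subgroup normalised by the torus do not depend on the fibre.** -/
theorem Frame.inFib_unip_const [PreconnectedSpace S] (F : Frame c root u) (hst : IsStabUnip c j) (a : idx)
    (s t : S) : InFib j (u a) s ↔ InFib j (u a) t :=
  Set.ext_iff.1 ((F.isLocallyConstant_inFib hst).apply_eq_of_preconnectedSpace s t) a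

set_option maxHeartbeats 32000000 in
/-- **A unipotent subgroup normalised by the torus is the product of its root groups where these are constant.** -/
theorem Frame.exists_unip_global_of_const [Nonempty S] (F : Frame c root u) (hst : IsStabUnip c j)
    (hconst : ∀ a (s t : S), InFib j (u a) s ↔ InFib j (u a) t) :
    IsClosedImmersion j.left ∧
    (∀ a (s : S), InFib j (u a) s ↔ ∃ v, v ≫ j = u a) ∧
    ∃ mu : M →+ ℤ, (∀ a, mu (root a) ≠ 0) ∧ (∀ a, (∃ v, v ≫ j = u a) → 0 < mu (root a)) ∧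
      ∀ {m : ℕ} (e : Fin m → idx), RedSub.Enumerates {a | ∃ v, v ≫ j = u a} e →
        ∃ ψ : RedSub.pow (Red.Ga S) m ≅ U, ψ.hom ≫ j = RedSub.prodMap (Red.Ga S) m (fun l => u (e l)) := by
  classical
  obtain ⟨s₀⟩ : Nonempty S := inferInstance
  haveI := F.hG.1; haveI := F.hG.2.1; haveI := F.hc.1
  haveI : ∀ a, IsMonHom (u a) := fun a => (F.hu a).1
  haveI : Mono j := Over.mono_of_mono_left j
  obtain ⟨-, mu, hmu, hpos₀, -⟩ := F.unip_fibre hst s₀
  let R : Set idx := {a | InFib j (u a) s₀}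
  have hRs : ∀ a s, InFib j (u a) s ↔ a ∈ R := fun a s => hconst a s s₀
  -- it suffices to treat the product in one order
  suffices key : ∀ {m : ℕ} (e : Fin m → idx), RedSub.Enumerates R e →
      IsClosedImmersion j.left ∧ (∀ a ∈ R, ∃ v, v ≫ j = u a) ∧
        ∃ ψ : RedSub.pow (Red.Ga S) m ≅ U, ψ.hom ≫ j = RedSub.prodMap (Red.Ga S) m (fun l => u (e l)) by
    obtain ⟨m₀, e₀, -, he₀⟩ := exists_extend R (Fin.elim0 : Fin 0 → idx) (fun x => x.elim0) fun x => x.elim0
    obtain ⟨hci, hfac, -⟩ := key _ he₀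
    have hmem : ∀ a (s : S), InFib j (u a) s ↔ ∃ v, v ≫ j = u a := fun a s =>
      ⟨fun h => hfac a ((hRs a s).1 h), fun h => F.inFib_of_fac h s⟩
    have hR : R = {a | ∃ v, v ≫ j = u a} := Set.ext fun a => hmem a s₀
    exact ⟨hci, hmem, mu, hmu, fun a ha => hpos₀ a ((hmem a s₀).2 ha),
      fun e he => (key e (hR ▸ he)).2.2⟩
  intro m e he
  -- the big cell
  obtain ⟨N', e', -, hP⟩ := exists_extend {b | 0 < mu (root b)} e he.1 fun l => hpos₀ _ (he.2.subset ⟨l, rfl⟩)
  obtain ⟨N, en', -, hN⟩ := exists_extend {b | 0 < (-mu) (root b)} (Fin.elim0 : Fin 0 → idx) (fun x => x.elim0)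
    fun x => x.elim0
  let eP := Fin.append e e'
  let eN := Fin.append (Fin.elim0 : Fin 0 → idx) en'
  let wP := fun l => u (eP l)
  let wN := fun l => u (eN l)
  obtain ⟨κ, hκ, hκo⟩ : ∃ κ, κ = cellC c wN wP ∧ IsOpenImmersion κ.left :=
    ⟨_, rfl, (F.cell mu hmu eN eN eP eP hN hP hN hP).1⟩
  haveI := hκo
  haveI : Mono κ := Over.mono_of_mono_left κ
  obtain ⟨pd, r, hpr, hrl, hpd⟩ := exists_pad_coord (S := S) (G := G) (m + N') m (Nat.le_add_right _ _)
  have hek : ∀ l : Fin m, eP (Fin.castLE (Nat.le_add_right m N') l) = e l := fun l => Fin.append_left e e' l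
  have hpd' : pd ≫ RedSub.prodMap (Red.Ga S) _ wP = RedSub.prodMap (Red.Ga S) m fun l => u (e l) := by
    rw [hpd wP fun l => inferInstance]
    simp only [wP, hek]
  obtain ⟨oN, hoN⟩ := exists_origin (S := S) (G := G) (0 + N)
  -- points of the product of the roots of the subgroup, in the cell
  obtain ⟨ci, hci⟩ : ∃ ci, ci = lift (toUnit (RedSub.pow (Red.Ga S) m) ≫ oN) (lift (1 : _ ⟶ Red.DS S M) pd) := ⟨_, rfl⟩
  have hciκ : ci ≫ κ = RedSub.prodMap (Red.Ga S) m fun l => u (e l) := by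
    rw [hci, hκ, comp_cellC, Category.assoc, hoN wN fun l => inferInstance, MonObj.comp_one, MonObj.one_comp,
      _root_.one_mul, _root_.one_mul, hpd']
  have hψ : ∀ s : S, ∃ (κm : RedSub.pow (Red.Ga (Spec (CommRingCat.of (AlgebraicClosure (S.residueField s))))) m ⟶
      Red.bc (Red.geomPt s) (RedSub.pow (Red.Ga S) m))
      (ψ : RedSub.pow (Red.Ga (Spec (CommRingCat.of (AlgebraicClosure (S.residueField s))))) m ≅
        Red.bc (Red.geomPt s) U), IsIso κm ∧
      ψ.hom ≫ (Over.pullback (Red.geomPt s)).map j =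
        κm ≫ (Over.pullback (Red.geomPt s)).map (RedSub.prodMap (Red.Ga S) m fun l => u (e l)) := fun s => by
    obtain ⟨-, -, -, -, hψ⟩ := F.unip_fibre hst s
    obtain ⟨ψ, hψ⟩ := hψ e ⟨he.1, he.2.trans (Set.ext fun a => (hRs a s).symm)⟩
    obtain ⟨κm, hκm, hκm'⟩ := exists_powBC (Red.geomPt s) (G := G) m
    exact ⟨κm, ψ, hκm, hψ.trans (hκm' fun l => u (e l)).symm⟩
  -- the subgroup lies in the cell
  obtain ⟨f, hf⟩ := (exists_fac_iff_range κ j).2 (by
    rintro _ ⟨z, rfl⟩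
    obtain ⟨κm, ψ, -, hψ⟩ := hψ (U.hom z)
    let τ := Red.geomPt (U.hom z)
    obtain ⟨z', hz', -⟩ := Scheme.Pullback.exists_preimage_pullback (f := U.hom) (g := τ) z
      (IsLocalRing.closedPoint _) (by rw [MTImage.geomPt_closedPoint])
    have h2 : ψ.inv ≫ κm ≫ (Over.pullback τ).map (ci ≫ κ) = (Over.pullback τ).map j := by
      rw [hciκ, ← hψ, Iso.inv_hom_id_assoc]
    have h3 := congrArg (fun g => g.left ≫ pullback.fst G.hom τ) h2
    simp [Over.pullback] at h3
    have h4 := congrArg (fun g => g z') h3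
    simp only [Scheme.Hom.comp_apply] at h4
    rw [hz'] at h4
    exact ⟨_, h4⟩)
  obtain ⟨q, hq⟩ : ∃ q, q = f ≫ snd _ _ ≫ snd _ _ ≫ r := ⟨_, rfl⟩
  have hciq : ci ≫ snd _ _ ≫ snd _ _ ≫ r = 𝟙 _ := by rw [hci, lift_snd_assoc, lift_snd_assoc, hpr]
  -- the projection is an isomorphism
  haveI : LocallyOfFinitePresentation U.hom := inferInstance
  haveI := smooth_powGa S m
  haveI : IsIso q := ParNorm.isIso_of_geomPts q fun s => by
    obtain ⟨κm, ψ, hκm, hψ⟩ := hψ s
    haveI := hκm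
    let τ := Red.geomPt s
    haveI : IsOpenImmersion ((Over.pullback τ).map κ).left :=
      MorphismProperty.overPullbackMap (P := @IsOpenImmersion) τ κ inferInstance
    haveI : Mono ((Over.pullback τ).map κ) := Over.mono_of_mono_left _
    have h1 : ψ.hom ≫ (Over.pullback τ).map f = κm ≫ (Over.pullback τ).map ci := by
      rw [← cancel_mono ((Over.pullback τ).map κ), Category.assoc, ← Functor.map_comp, hf, hψ, Category.assoc,
        ← Functor.map_comp, hciκ]
    have h2 : (Over.pullback τ).map q = ψ.inv ≫ κm := by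
      rw [← cancel_epi ψ.hom, Iso.hom_inv_id_assoc, hq, Functor.map_comp, reassoc_of% h1, ← Functor.map_comp, hciq,
        CategoryTheory.Functor.map_id, Category.comp_id]
    rw [h2]
    infer_instance
  have hqc : ∀ {X : Over S} (y : X ⟶ U) (l : Fin m),
      y ≫ q ≫ proj S m l = (y ≫ f ≫ snd _ _ ≫ snd _ _) ≫ r ≫ proj S m l := fun y l => by
    rw [hq]; simp only [Category.assoc]
  obtain ⟨o, ho, ho'⟩ := exists_pow_prod (fun l => u (e l)) (X := 𝟙_ (Over S)) fun _ => 1
  have hone : ∀ {X : Over S} (l : Fin m), (1 : X ⟶ U) ≫ q ≫ proj S m l = 1 := fun {X} l => by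
    have h1 : (1 : 𝟙_ (Over S) ⟶ U) ≫ f = o ≫ ci := by
      rw [← cancel_mono κ, Category.assoc, Category.assoc, hf, hciκ, MonObj.one_comp, ho']
      simp [MonObj.one_comp]
    rw [← MonObj.comp_one (toUnit X), Category.assoc, hq, Category.assoc, Category.assoc, Category.assoc,
      reassoc_of% h1, reassoc_of% hciq, ho, MonObj.comp_one]
  -- equivariance of the coordinates
  have hequiv : ∀ {X : Over S} (s : X ⟶ Red.DS S M) (y : X ⟶ U), ∃ w : X ⟶ U,
      w ≫ j = (s ≫ c) * (y ≫ j) * (s ≫ c)⁻¹ ∧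
        ∀ l, Red.gaFn (w ≫ q ≫ proj S m l) = ch s (Multiplicative.ofAdd (root (e l))) * Red.gaFn (y ≫ q ≫ proj S m l) := by
    intro X s y
    obtain ⟨w, hw⟩ := hst.2 X s y
    refine ⟨w, hw.symm, fun l => ?_⟩
    obtain ⟨n', -, hn'⟩ := exists_conj_coord (fun l => F.hu (eN l)) s (y ≫ f ≫ fst _ _)
    obtain ⟨p', hp, hp'⟩ := exists_conj_coord (fun l => F.hu (eP l)) s (y ≫ f ≫ snd _ _ ≫ snd _ _)
    have hy : lift (y ≫ f ≫ fst _ _) (lift (y ≫ f ≫ snd _ _ ≫ fst _ _) (y ≫ f ≫ snd _ _ ≫ snd _ _)) = y ≫ f := by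
      refine CartesianMonoidalCategory.hom_ext _ _ (by simp) ?_
      exact CartesianMonoidalCategory.hom_ext _ _ (by simp) (by simp)
    have hcomm : Commute (s ≫ c) ((y ≫ f ≫ snd _ _ ≫ fst _ _) ≫ c) := by
      show _ * _ = _ * _
      rw [← MonObj.mul_comp, ← MonObj.mul_comp, show s * _ = _ * s from ch_ext fun m => by
        rw [ch_mul, ch_mul, mul_comm]]
    have h1 : w ≫ f = lift n' (lift (y ≫ f ≫ snd _ _ ≫ fst _ _) p') := by
      have h2 : y ≫ j = ((y ≫ f ≫ fst _ _) ≫ RedSub.prodMap (Red.Ga S) _ wN) *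
          (((y ≫ f ≫ snd _ _ ≫ fst _ _) ≫ c) * ((y ≫ f ≫ snd _ _ ≫ snd _ _) ≫ RedSub.prodMap (Red.Ga S) _ wP)) := by
        rw [← comp_cellC, hy, Category.assoc, ← hκ, hf]
      rw [← cancel_mono κ, Category.assoc, hf, ← hw, hκ, comp_cellC, hn', hp', h2, conj_cell']
      exact hcomm
    rw [hqc w l, hqc y l, show w ≫ f ≫ snd _ _ ≫ snd _ _ = p' by rw [reassoc_of% h1, lift_snd_assoc, lift_snd],
      hrl, hp, ← Category.assoc]
    congr 2
    show Multiplicative.ofAdd (root (eP _)) = _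
    rw [hek]
  have hq1 : (1 : 𝟙_ (Over S) ⟶ U) ≫ q = 1 ≫ q := rfl
  -- the root groups
  have hline : ∀ a ∈ R, ∃ v, v ≫ j = u a := by
    intro a ha
    obtain ⟨l₀, hl₀⟩ := he.2.ge ha
    obtain ⟨d, hd⟩ := exists_pow (S := S) (X := Red.Ga S) fun l : Fin m => if l = l₀ then 𝟙 _ else 1
    refine ⟨d ≫ inv q, hom_ext_pts _ _ fun B _ fB x => ?_⟩
    have hqx : ∀ l, (x ≫ d ≫ inv q) ≫ q ≫ proj S m l = if l = l₀ then x else 1 := fun l => by
      simp only [Category.assoc, IsIso.inv_hom_id_assoc, hd]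
      split_ifs
      · rw [Category.comp_id]
      · rw [MonObj.comp_one]
    obtain ⟨y, hy⟩ : ∃ y : pt B fB ⟶ U, y = x ≫ d ≫ inv q := ⟨_, rfl⟩
    rw [← hy] at hqx
    obtain ⟨nQ, π, hπs, hπa, hker⟩ := F.exists_kernel a
    -- it is contracted
    let a₀ := mu (root a)
    have ha₀ : 0 < a₀ := hpos₀ a ha
    let xs : pt (AddMonoidAlgebra B ℤ) (fL fB ℤ) ⟶ Red.DS S M := xu fB ℤ ≫ Red.DSmap S mu
    obtain ⟨w, hw, hwq⟩ := hequiv xs (qc ℤ fB ≫ y)
    let xN : pt (AddMonoidAlgebra B (NN ℤ)) (fL fB (NN ℤ)) ⟶ Red.Ga S := BGaNotS.gaPt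
      ((Scheme.ΓSpecIso (CommRingCat.of (AddMonoidAlgebra B (NN ℤ)))).inv
        (AddMonoidAlgebra.single (⟨a₀, ha₀.le⟩ : NN ℤ) 1 *
          cC B (NN ℤ) ((Scheme.ΓSpecIso (CommRingCat.of B)).hom (Red.gaFn x))))
    have hwN : w = qn fB ℤ ≫ xN ≫ d ≫ inv q := by
      rw [← cancel_mono q]
      refine pow_ext fun l => BGaNotS.gaPt_ext ?_
      simp only [Category.assoc, IsIso.inv_hom_id_assoc]
      rw [hwq, Category.assoc (qc ℤ fB) y, hqx, hd]
      split_ifs with hl
      · subst hl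
        rw [Category.comp_id]
        subst hl₀
        exact gaFn_orbit_coord fB mu (root (e l)) ha₀ x
      · simp only [MonObj.comp_one, BGaNotS.gaFn_one, MulZeroClass.mul_zero]
    have hU : y ≫ j ∈ USub fB (Red.DSmap S mu ≫ c) := by
      refine (mem_USub fB _).2 ⟨xN ≫ d ≫ inv q ≫ j, ?_, ?_⟩
      · have h0 : qz fB ℤ ≫ xN = 1 := qz_orbit_coord fB ha₀ _
        have hd0 : (1 : pt B fB ⟶ Red.Ga S) ≫ d = (1 : pt B fB ⟶ U) ≫ q := by
          refine pow_ext fun l => ?_
          rw [Category.assoc, hd, Category.assoc, hone l]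
          split_ifs <;> simp [MonObj.comp_one, MonObj.one_comp]
        rw [reassoc_of% h0, reassoc_of% hd0, IsIso.hom_inv_id_assoc, MonObj.one_comp]
      · rw [orb_apply, show qn fB ℤ ≫ xN ≫ d ≫ inv q ≫ j = (qn fB ℤ ≫ xN ≫ d ≫ inv q) ≫ j by
          simp only [Category.assoc], ← hwN, hw]
        simp only [xs, Category.assoc]
    -- so it lies in the product of the positive root groups and commutes with the kernel torus
    obtain ⟨Y, hY⟩ := exists_pow_of_mem_USub F mu hmu eP hP hU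
    have hcommQ : ∀ (X' : Over S) (ρ : X' ⟶ pt B fB) (s : X' ⟶ Red.DS S (Fin nQ → ℤ)),
        Commute ((ρ ≫ Y) ≫ RedSub.prodMap (Red.Ga S) _ wP) (s ≫ Red.DSmap S π ≫ c) := by
      intro X' ρ s
      rw [Category.assoc, hY]
      obtain ⟨w', hw', hw'q⟩ := hequiv (s ≫ Red.DSmap S π) (ρ ≫ y)
      have h1 : w' = ρ ≫ y := by
        rw [← cancel_mono q]
        refine pow_ext fun l => BGaNotS.gaPt_ext ?_
        rw [Category.assoc w', hw'q, Category.assoc, Category.assoc, hqx]
        simp only [Category.assoc, hqx]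
        split_ifs with hl
        · rw [hl, ch_DSmap, toAdd_ofAdd, hl₀, hπa, ofAdd_zero, map_one, _root_.one_mul]
        · simp only [MonObj.comp_one, BGaNotS.gaFn_one, MulZeroClass.mul_zero]
      rw [h1, Category.assoc, Category.assoc, eq_mul_inv_iff_mul_eq] at hw'
      exact hw'
    obtain ⟨x', hx'⟩ := F.eq_root_pt hker mu hmu ha₀ eP hP Y hcommQ
    rw [hY] at hx'
    -- its coordinate is the given one
    obtain ⟨dx, hdx⟩ : ∃ dx : pt B fB ⟶ RedSub.pow (Red.Ga S) m, dx = x' ≫ d := ⟨_, rfl⟩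
    have hfd : y ≫ f = dx ≫ ci := by
      rw [← cancel_mono κ, Category.assoc, hf, ← hx', Category.assoc, hciκ, hdx, comp_prodMap_eq,
        prod_ofFn_single _ l₀]
      · simp [hd, hl₀]
      · intro l hl
        simp [hd, hl, MonObj.comp_one, MonObj.one_comp]
    have hxx : x' = x := by
      have h1 := hqx l₀
      rw [if_pos rfl, hqc, reassoc_of% hfd, ← Category.assoc ci, ← Category.assoc _ r] at h1
      simp only [Category.assoc, reassoc_of% hciq, hdx, hd, if_pos, Category.comp_id] at h1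
      exact h1
    rw [hxx, hy] at hx'
    simp only [Category.assoc] at hx' ⊢
    exact hx'.symm
  choose v hv using fun l => hline (e l) (he.2.subset ⟨l, rfl⟩)
  obtain ⟨π₀, hπ₀⟩ : ∃ π₀, π₀ = RedSub.prodMap (Red.Ga S) m v := ⟨_, rfl⟩
  have hπj : π₀ ≫ j = RedSub.prodMap (Red.Ga S) m fun l => u (e l) := by
    rw [hπ₀, prodMap_comp_hom]; simp only [hv]
  have hπq : π₀ ≫ q = 𝟙 _ := by
    have h1 : π₀ ≫ f = ci := by rw [← cancel_mono κ, Category.assoc, hf, hπj, hciκ]
    rw [hq, reassoc_of% h1, hciq]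
  haveI : IsIso π₀ := by rw [eq_comm.1 (IsIso.inv_eq_of_inv_hom_id hπq)]; infer_instance
  refine ⟨?_, hline, asIso π₀, hπj⟩
  obtain ⟨P, _, p, hP'⟩ := exists_isP (G := G) (Red.DSmap S mu ≫ c)
  obtain ⟨φP, hφP⟩ := F.exists_iso_isP mu hmu eP hP hP'
  haveI := hP'.2.1
  haveI : IsIso π₀.left := inferInstanceAs (IsIso ((Over.forget S).map π₀))
  haveI : IsAffineHom (RedSub.pow (Red.Ga S) (m + N')).hom := isSeparated_powGa S _
  haveI : IsAffineHom (RedSub.pow (Red.Ga S) m).hom := isSeparated_powGa S _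
  haveI : IsAffineHom r.left := by
    haveI : IsAffineHom (r.left ≫ (RedSub.pow (Red.Ga S) m).hom) := by rw [Over.w r]; infer_instance
    exact IsAffineHom.of_comp r.left (RedSub.pow (Red.Ga S) m).hom
  haveI : IsClosedImmersion pd.left := by
    haveI : IsClosedImmersion (pd.left ≫ r.left) := by
      rw [← Over.comp_left, hpr]; exact inferInstanceAs (IsClosedImmersion (𝟙 _))
    exact IsClosedImmersion.of_comp _ r.left
  haveI : IsIso φP.hom.left := inferInstanceAs (IsIso ((Over.forget S).map φP.hom))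
  obtain ⟨sec, hsec, hsec'⟩ : ∃ sec : RedSub.pow (Red.Ga S) (m + N') ⟶ Red.DS S M ⊗ RedSub.pow (Red.Ga S) (m + N'),
      IsClosedImmersion sec.left ∧ sec ≫ borelC c wP = RedSub.prodMap (Red.Ga S) _ wP := by
    refine ⟨lift 1 (𝟙 _), ?_, by rw [borelC, MonObj.comp_mul, lift_fst_assoc, lift_snd_assoc, MonObj.one_comp,
      Category.id_comp, _root_.one_mul]⟩
    haveI : Mono (lift (1 : RedSub.pow (Red.Ga S) (m + N') ⟶ Red.DS S M) (𝟙 _)) :=
      mono_of_mono_fac (lift_snd _ _)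
    haveI := MTBridge.isAffineHom_DS S M
    exact isClosedImmersion_section _
  haveI := hsec
  have hj : j = inv π₀ ≫ pd ≫ sec ≫ φP.hom ≫ p := by
    rw [hφP, hsec', hpd', ← hπj, IsIso.inv_hom_id_assoc]
  haveI : IsIso (inv π₀).left := inferInstanceAs (IsIso ((Over.forget S).map (inv π₀)))
  rw [hj, Over.comp_left, Over.comp_left, Over.comp_left, Over.comp_left]
  infer_instance

/-- **A unipotent subgroup normalised by the torus over a connected base is the product of its root groups.** -/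
theorem Frame.exists_unip_global [ConnectedSpace S] (F : Frame c root u) (hst : IsStabUnip c j) :
    IsClosedImmersion j.left ∧
    (∀ a (s : S), InFib j (u a) s ↔ ∃ v, v ≫ j = u a) ∧
    ∃ mu : M →+ ℤ, (∀ a, mu (root a) ≠ 0) ∧ (∀ a, (∃ v, v ≫ j = u a) → 0 < mu (root a)) ∧
      ∀ {m : ℕ} (e : Fin m → idx), RedSub.Enumerates {a | ∃ v, v ≫ j = u a} e →
        ∃ ψ : RedSub.pow (Red.Ga S) m ≅ U, ψ.hom ≫ j = RedSub.prodMap (Red.Ga S) m (fun l => u (e l)) :=
  F.exists_unip_global_of_const hst fun a s t => F.inFib_unip_const hst a s t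

end Groth.Agent.RootBase
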