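import Groth.Agent.RootBase.SubComb
import Groth.Agent.RootBase.TypeRMain
import Groth.Agent.RootBase.UnipStabS
import Groth.Agent.RootBase.Datum
import Groth.Agent.RootSys.TwoBorel

/-!
# Subgroups containing the torus whose root sets are stable under reflections from the subgroup
-/

set_option autoImplicit false
set_option backward.isDefEq.respectTransparency false
set_option linter.style.haveILetI false
set_option maxHeartbeats 2000000
set_option synthInstance.maxHeartbeats 400000

universe u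

open CategoryTheory Limits MonoidalCategory CartesianMonoidalCategory MonObj GrpObj AlgebraicGeometry
open scoped CategoryTheory.Obj

noncomputable section

namespace Groth.Agent.RootBase

open Groth.Agent.HomDiag Groth.Agent.DynPar Groth.Agent.RootSys Groth.Agent.MTBridge

variable {S : Scheme.{u}} {G H : Over S} [GrpObj G] [GrpObj H] {M : Type} [AddCommGroup M]
  [Module.Free ℤ M] [Module.Finite ℤ M] {idx : Type} [Fintype idx]

/-- A subgroup containing the torus with root set `R`, containing elements realising the reflections of `R`. -/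
structure SymSub (c : Red.DS S M ⟶ G) (P : RootPairing idx ℤ M (Module.Dual ℤ M))
    (u : idx → (Red.Ga S ⟶ G)) (h : H ⟶ G) (cH : Red.DS S M ⟶ H) (R : Set idx) : Prop where
  frame : Frame c P.root u
  hP : P.toLinearMap = Module.Dual.eval ℤ M
  conn : RedSub.HasConnectedFibres H
  comp : cH ≫ h = c
  roots : ∀ a (s : S), InFib h (u a) s ↔ a ∈ R
  fac : ∀ a ∈ R, ∃ v, v ≫ h = u a
  refl : ∀ a ∈ R, ∃ n : 𝟙_ (Over S) ⟶ H, ∀ (X : Over S) (t : X ⟶ Red.DS S M),
    cj (n ≫ h) (t ≫ c) = refl (P.root a) (P.coroot a).toAddMonoidHom t ≫ c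

variable {c : Red.DS S M ⟶ G} {P : RootPairing idx ℤ M (Module.Dual ℤ M)} {u : idx → (Red.Ga S ⟶ G)}
  {h : H ⟶ G} [IsMonHom h] [IsImmersion h.left] [Smooth H.hom] {cH : Red.DS S M ⟶ H} [IsMonHom cH] {R : Set idx}

omit [Smooth H.hom] [IsMonHom cH] in
/-- The root set is stable under its reflections. -/
theorem SymSub.stable [Nonempty S] (Y : SymSub c P u h cH R) {a b : idx} (ha : a ∈ R) (hb : b ∈ R) :
    P.reflectionPerm a b ∈ R := by
  obtain ⟨n, hn⟩ := Y.refl a ha
  obtain ⟨v, hv⟩ := Y.fac b hb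
  obtain ⟨x', hx'⟩ := (Y.frame.wmoves_refl Y.hP hn (Red.Ga S)).root' (P.reflectionPerm a b) (𝟙 _)
  rw [RootPairing.reflectionPerm_symm, P.reflectionPerm_self, Category.id_comp] at hx'
  have h1 : ((toUnit _ ≫ n) * (x' ≫ v) * (toUnit _ ≫ n)⁻¹) ≫ h = u (P.reflectionPerm a b) := by
    rw [MonObj.mul_comp, MonObj.mul_comp, GrpObj.inv_comp, Category.assoc x', hv, Category.assoc, ← hx']
    group
  obtain ⟨s⟩ : Nonempty S := inferInstance
  exact (Y.roots _ s).1 (Y.frame.inFib_of_fac ⟨_, h1⟩ s)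

/-- The data pass to geometric fibres. -/
theorem SymSub.bc {k : Type u} [Field k] [IsAlgClosed k] (τ : Spec (CommRingCat.of k) ⟶ S)
    (Y : SymSub c P u h cH R) :
    SymSub (bcHom' τ c) P (fun a => bcGa τ (u a)) ((Over.pullback τ).map h) (bcHom' τ cH) R where
  frame := Y.frame.bc τ
  hP := Y.hP
  conn s := by
    haveI := MTImage.connectedSpace_bc_pt H Y.conn τ
    haveI : Subsingleton ↥(Spec (CommRingCat.of k)) := inferInstanceAs (Subsingleton (PrimeSpectrum k))
    rw [show (Red.bc τ H).hom.base ⁻¹' {s} = Set.univ from Set.eq_univ_of_forall fun x => Subsingleton.elim _ _]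
    exact isConnected_univ
  comp := by rw [bcHom', Category.assoc, ← Functor.map_comp, Y.comp]; rfl
  roots a s := (inFib_bc_iff (u a) τ s).trans (Y.roots a _)
  fac a ha := by
    obtain ⟨v, hv⟩ := Y.fac a ha
    exact ⟨bcGa τ v, by rw [bcGa, bcGa, Category.assoc, ← Functor.map_comp, hv]⟩
  refl a ha := by
    obtain ⟨n, hn⟩ := Y.refl a ha
    refine ⟨toBC τ (toUnit _ ≫ n), fun X t => ?_⟩
    have hinv : ∀ z : (Over.map τ).obj X ⟶ G, toBC τ z⁻¹ = (toBC τ z)⁻¹ := fun z =>
      map_inv (MonoidHom.mk' (fun z : (Over.map τ).obj X ⟶ G => toBC τ z) (toBC_mul τ)) z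
    have eX : toUnit X ≫ toBC τ (toUnit _ ≫ n) = toBC τ (toUnit ((Over.map τ).obj X) ≫ n) := by
      have e := ((Over.mapPullbackAdj τ).homEquiv_naturality_left (toUnit X) (toUnit _ ≫ n)).symm
      rw [← Category.assoc, toUnit_unique ((Over.map τ).map (toUnit X) ≫ toUnit _) (toUnit _)] at e
      exact e
    have et : ∀ t' : X ⟶ Red.DS _ M, t' ≫ bcHom' τ c = toBC τ (((Over.map τ).map t' ≫ ejPt τ M) ≫ c) := fun t' => by
      rw [bcHom', ← Category.assoc, comp_ej, ← toBC_comp]
    have er : RootBase.refl (P.root a) (P.coroot a).toAddMonoidHom ((Over.map τ).map t ≫ ejPt τ M) =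
        (Over.map τ).map (RootBase.refl (P.root a) (P.coroot a).toAddMonoidHom t) ≫ ejPt τ M := ch_ext fun m => by
      obtain ⟨m, rfl⟩ : ∃ x : M, Multiplicative.ofAdd x = m := ⟨m.toAdd, rfl⟩
      rw [ch_refl, ch_map_ejPt, ch_map_ejPt, ch_refl]
    have e := congrArg (toBC τ) (hn _ ((Over.map τ).map t ≫ ejPt τ M))
    rw [er] at e
    simp only [cj] at e ⊢
    rw [toBC_mul, toBC_mul, hinv, ← et, ← et, ← Category.assoc (toUnit _) n h, toBC_comp, ← eX, Category.assoc] at e
    exact e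

section Field

variable {k : Type u} [Field k] [IsAlgClosed k] {G H : Over (Spec (CommRingCat.of k))} [GrpObj G] [GrpObj H]
  {c : Red.DS (Spec (CommRingCat.of k)) M ⟶ G} {u : idx → (Red.Ga (Spec (CommRingCat.of k)) ⟶ G)}
  {h : H ⟶ G} [IsMonHom h] [IsImmersion h.left] [Smooth H.hom]
  {cH : Red.DS (Spec (CommRingCat.of k)) M ⟶ H} [IsMonHom cH]

omit [IsMonHom cH] in
/-- The subgroup is affine and connected. -/
theorem SymSub.inst (Y : SymSub c P u h cH R) :
    IsClosedImmersion h.left ∧ IsAffine H.left ∧ ConnectedSpace H.left := by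
  obtain ⟨i1, i2, i3⟩ := red_inst Y.frame.hG
  haveI := Groth.Agent.S0351.result k H G h
  haveI : Subsingleton ↥(Spec (CommRingCat.of k)) := inferInstanceAs (Subsingleton (PrimeSpectrum k))
  have hc := Y.conn (IsLocalRing.closedPoint k)
  rw [show H.hom.base ⁻¹' {IsLocalRing.closedPoint k} = Set.univ from
    Set.eq_univ_of_forall fun x => Subsingleton.elim _ _] at hc
  exact ⟨inferInstance, isAffine_of_isAffineHom h.left, connectedSpace_iff_univ.2 hc⟩

/-- **Over a field such a subgroup is reductive.** -/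
theorem SymSub.isReductiveOver (Y : SymSub c P u h cH R) : Red.IsReductiveOver k H := by
  obtain ⟨i1, i2, i3⟩ := Y.inst
  haveI := i1; haveI := i2; haveI := i3
  haveI : Nonempty ↥(Spec (CommRingCat.of k)) := inferInstanceAs (Nonempty (PrimeSpectrum k))
  obtain ⟨g1, g2, g3⟩ := red_inst Y.frame.hG
  haveI := g1
  refine ⟨i2, inferInstance, i3, fun U _ i _ hi hUs hUc hn hno => ?_⟩
  haveI := hi; haveI := hUs; haveI := hUc
  haveI : IsClosedImmersion (i ≫ h).left := by rw [Over.comp_left]; infer_instance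
  haveI : IsMonHom c := Y.frame.hc.1
  obtain ⟨-, mu, -, hpos, hprod⟩ := Y.frame.exists_unip_prod (i ≫ h) hno fun X x y => by
    obtain ⟨y', hy'⟩ := hn X (x ≫ cH) y
    refine ⟨y', ?_⟩
    rw [← Category.assoc y' i h, ← hy', MonObj.mul_comp, MonObj.mul_comp, GrpObj.inv_comp]
    simp only [Category.assoc, Y.comp]
  have hnone : ∀ a, ¬ ∃ v, v ≫ i ≫ h = u a := fun a => by
    rintro ⟨v, hv⟩
    let s : ↥(Spec (CommRingCat.of k)) := IsLocalRing.closedPoint k
    have ha : a ∈ R := (Y.roots a s).1 (Y.frame.inFib_of_fac ⟨v ≫ i, by rw [Category.assoc, hv]⟩ s)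
    obtain ⟨n, hn'⟩ := Y.refl a ha
    obtain ⟨x', hx'⟩ := (Y.frame.wmoves_refl Y.hP hn' (Red.Ga _)).root' (P.reflectionPerm a a) (𝟙 _)
    rw [RootPairing.reflectionPerm_symm, P.reflectionPerm_self, Category.id_comp] at hx'
    obtain ⟨y, hy⟩ := hn (Red.Ga _) (toUnit _ ≫ n) (x' ≫ v)
    have h1 : y ≫ i ≫ h = u (P.reflectionPerm a a) := by
      rw [← Category.assoc, ← hy, MonObj.mul_comp, MonObj.mul_comp, GrpObj.inv_comp]
      simp only [Category.assoc, hv]
      rw [← hx']
      group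
    have h2 := hpos a ⟨v, hv⟩
    have h3 := hpos _ ⟨y, h1⟩
    rw [root_opp, map_neg] at h3
    omega
  obtain ⟨ψ, -⟩ := hprod (Fin.elim0 : Fin 0 → idx) ⟨fun x => x.elim0, Set.ext fun a =>
    ⟨fun ⟨x, _⟩ => x.elim0, fun ha => absurd ha (hnone a)⟩⟩
  show IsIso U.hom
  haveI : IsIso ψ.inv.left := inferInstanceAs (IsIso ((Over.forget _).map ψ.inv))
  rw [← Over.w ψ.inv]
  haveI : IsIso (RedSub.pow (Red.Ga (Spec (CommRingCat.of k))) 0).hom := inferInstanceAs (IsIso (𝟙 _))
  infer_instance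

end Field

/-- **Every geometric fibre is reductive.** -/
theorem SymSub.isReductiveOver_fibre (Y : SymSub c P u h cH R) (s : S) :
    Red.IsReductiveOver (AlgebraicClosure (S.residueField s)) (Red.geomFibre s H) := by
  haveI := isMonHom_map' (Red.geomPt s) h
  haveI : IsImmersion ((Over.pullback (Red.geomPt s)).map h).left :=
    MorphismProperty.overPullbackMap (P := @IsImmersion) (Red.geomPt s) h inferInstance
  haveI : Smooth (Red.bc (Red.geomPt s) H).hom :=
    MorphismProperty.pullback_snd (P := @Smooth) H.hom (Red.geomPt s) inferInstance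
  exact (Y.bc (Red.geomPt s)).isReductiveOver

section FieldFrame

variable {k : Type u} [Field k] [IsAlgClosed k] {G H : Over (Spec (CommRingCat.of k))} [GrpObj G] [GrpObj H]
  {c : Red.DS (Spec (CommRingCat.of k)) M ⟶ G} {u : idx → (Red.Ga (Spec (CommRingCat.of k)) ⟶ G)}
  {h : H ⟶ G} [IsMonHom h] [IsImmersion h.left] [Smooth H.hom]
  {cH : Red.DS (Spec (CommRingCat.of k)) M ⟶ H} [IsMonHom cH]

theorem SymSub.isReductive (Y : SymSub c P u h cH R) : Red.IsReductive H := by
  obtain ⟨-, i2, -⟩ := Y.inst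
  exact ⟨isAffineHom_of_isAffine H.hom, inferInstance, Y.isReductiveOver_fibre⟩

/-- **The frame of the subgroup.** -/
theorem SymSub.frameH (Y : SymSub c P u h cH R) [Fintype ↥R] (u' : ↥R → (Red.Ga (Spec (CommRingCat.of k)) ⟶ H))
    (hu' : ∀ a, u' a ≫ h = u a.1) :
    Frame cH (fun a : ↥R => P.root a.1) u' := by
  classical
  obtain ⟨i1, i2, i3⟩ := Y.inst
  haveI := i1; haveI := i2; haveI := i3
  obtain ⟨g1, g2, g3⟩ := red_inst Y.frame.hG
  haveI := g1
  haveI : Mono h := Over.mono_of_mono_left h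
  haveI := Y.frame.hc.1
  haveI : Mono c := Y.frame.hc.2.1
  haveI : Mono cH := by
    haveI : Mono (cH ≫ h) := by rw [Y.comp]; infer_instance
    exact mono_of_mono cH h
  have hc : Red.IsMaximalTorus cH := by
    refine ⟨inferInstance, inferInstance, Y.frame.hc.2.2.1, fun s T' _ j _ _ f hT' hf => ?_⟩
    haveI := isMonHom_map' (Red.geomPt s) h
    haveI : IsImmersion ((Over.pullback (Red.geomPt s)).map h).left :=
      MorphismProperty.overPullbackMap (P := @IsImmersion) (Red.geomPt s) h inferInstance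
    haveI : Mono ((Over.pullback (Red.geomPt s)).map h) := Over.mono_of_mono_left _
    haveI : Mono (j ≫ (Over.pullback (Red.geomPt s)).map h) := mono_comp _ _
    exact Y.frame.hc.2.2.2 s T' (j ≫ (Over.pullback (Red.geomPt s)).map h) f hT' (by
      rw [reassoc_of% hf, ← Functor.map_comp, Y.comp])
  have hu : ∀ a, Red.IsRootHom cH (Red.chi _ (P.root a.1)) (u' a) := fun a => by
    have hG := Y.frame.hu a.1
    haveI := hG.1
    haveI : IsMonHom (u' a) := MTSplit.isMonHom_of_comp_mono (u' a) h (u a.1) (hu' a)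
    refine ⟨inferInstance, ?_, fun X t x => ?_⟩
    · haveI : IsClosedImmersion ((u' a).left ≫ h.left) := by rw [← Over.comp_left, hu']; exact hG.2.1
      exact IsClosedImmersion.of_comp _ h.left
    · obtain ⟨y, hy, hy'⟩ := hG.2.2 X t x
      refine ⟨y, ?_, hy'⟩
      rw [← cancel_mono h]
      simp only [MonObj.mul_comp, GrpObj.inv_comp, Category.assoc, hu', Y.comp]
      exact hy
  have hH := Y.isReductive
  let E : Grp.mk (Red.DS (Spec (CommRingCat.of k)) M) ≅ Grp.mk (Red.DS (Spec (CommRingCat.of k)) M) := Iso.refl _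
  have hE : E.inv.hom.hom ≫ cH = cH := Category.id_comp cH
  have hEc : E.inv.hom.hom ≫ c = c := Category.id_comp c
  haveI : IsMonHom (E.inv.hom.hom ≫ cH) := by rw [hE]; infer_instance
  haveI : IsMonHom (E.inv.hom.hom ≫ c) := by rw [hEc]; infer_instance
  have hspl : ∀ a : ↥R, IsSplitRoot cH (P.root a.1) := fun a => by
    obtain ⟨h0, v, hv, hv1⟩ := isSplitRoot_of_rootHom (i := cH) (E := E) (Y.frame.ne a.1) (u := u' a)
      (by rw [hE]; exact hu a)
    exact ⟨h0, v, hv.congr_hom hE, hv1⟩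
  obtain ⟨_, P', -, -, -, -, hdim⟩ := exists_datum hH cH hc
  let φ : ↥R → Roots cH := fun a => ⟨P.root a.1, hspl a⟩
  have hbij : Function.Bijective φ := by
    refine ⟨fun a b e => Subtype.ext (P.root.injective (congrArg Subtype.val e)), fun e => ?_⟩
    obtain ⟨v, hv⟩ := exists_rootHom (E := E) (i := cH) hH hc (a := e.1) (by
      obtain ⟨h0, w, hw, hw1⟩ := e.2
      exact ⟨h0, w, hw.congr_hom hE.symm, hw1⟩)
    rw [hE] at hv
    haveI := hv.1; haveI := hv.2.1
    have hvG : Red.IsRootHom c (Red.chi _ e.1) (v ≫ h) := by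
      refine ⟨inferInstance, by rw [Over.comp_left]; infer_instance, fun X t x => ?_⟩
      obtain ⟨y, hy, hy'⟩ := hv.2.2 X t x
      refine ⟨y, ?_, hy'⟩
      rw [← Category.assoc, hy, MonObj.mul_comp, MonObj.mul_comp, GrpObj.inv_comp]
      simp only [Category.assoc, Y.comp]
    obtain ⟨b, hb⟩ := Y.frame.exists_eq_root (e := e.1) (by
      obtain ⟨h0, w, hw, hw1⟩ := isSplitRoot_of_rootHom (i := c) (E := E) e.2.1 (u := v ≫ h) (by rw [hEc]; exact hvG)
      exact ⟨h0, w, hw.congr_hom hEc, hw1⟩)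
    rw [← hb] at hvG
    obtain ⟨x', hx'⟩ := Y.frame.rootHom_range hvG (BGaNotS.gaPt (W := 𝟙_ _) 1)
    have hne : x' ≠ 1 := fun h0 => by
      haveI := (Y.frame.hu b).1
      rw [h0, MonObj.one_comp] at hx'
      haveI : Mono v := Over.mono_of_mono_left v
      have h1 : BGaNotS.gaPt (W := 𝟙_ (Over (Spec (CommRingCat.of k)))) 1 = 1 := by
        rw [← cancel_mono (v ≫ h), ← hx', MonObj.one_comp]
      have h2 := congrArg Red.gaFn h1
      rw [BGaNotS.gaFn_gaPt, BGaNotS.gaFn_one] at h2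
      haveI : Nontrivial Γ((𝟙_ (Over (Spec (CommRingCat.of k)))).left, ⊤) := by
        obtain ⟨z⟩ : Nonempty (𝟙_ (Over (Spec (CommRingCat.of k)))).left := inferInstanceAs (Nonempty (PrimeSpectrum k))
        exact ((𝟙_ (Over (Spec (CommRingCat.of k)))).left.presheaf.germ ⊤ z trivial).hom.domain_nontrivial
      exact one_ne_zero h2
    haveI := smooth_Ga (Spec (CommRingCat.of k))
    haveI : IsReduced (Red.Ga (Spec (CommRingCat.of k))).left :=
      SmoothRed.isReduced_of_smooth_scheme (Red.Ga (Spec (CommRingCat.of k))).hom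
    obtain ⟨w, hw⟩ := fac_of_point h (cH := cH) Y.comp (Y.frame.ne b) (Y.frame.hu b) (x := x')
      (w := BGaNotS.gaPt (W := 𝟙_ _) 1 ≫ v) (by rw [hx', Category.assoc]) hne
    exact ⟨⟨b, (Y.roots b (IsLocalRing.closedPoint k)).1 (Y.frame.inFib_of_fac ⟨w, hw⟩ _)⟩, Subtype.ext hb⟩
  have hcard := Fintype.card_of_bijective hbij
  refine ⟨hH, hc, fun a b e => Subtype.ext (P.root.injective e), fun a => Y.frame.ne a.1, hu, fun s => ?_⟩
  haveI : Subsingleton ↥(Spec (CommRingCat.of k)) := inferInstanceAs (Subsingleton (PrimeSpectrum k))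
  rw [MTImage.dim_geomFibre, show H.hom.base ⁻¹' {s} = Set.univ from
    Set.eq_univ_of_forall fun x => Subsingleton.elim _ _,
    IsHomeomorph.topologicalKrullDim_eq _ (Homeomorph.Set.univ H.left).isHomeomorph, hdim, hcard]

end FieldFrame

end Groth.Agent.RootBase
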