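import Groth.Agent.RootBase.TypeRField
import Groth.Agent.RootBase.BigCell
import Groth.Agent.S8407

/-!
# The cell of a smooth subgroup containing the torus, over a field
-/

set_option autoImplicit false
set_option backward.isDefEq.respectTransparency false
set_option linter.style.haveILetI false
set_option maxHeartbeats 1000000
set_option synthInstance.maxHeartbeats 400000

universe u

open CategoryTheory Limits MonoidalCategory CartesianMonoidalCategory MonObj GrpObj AlgebraicGeometry LieS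
open scoped CategoryTheory.Obj

noncomputable section

namespace Groth.Agent.RootBase

open Groth.Agent.HomDiag Groth.Agent.DynPar Groth.Agent.RootSys
open Groth.Agent.DynPar.Der (dv uB pl sG)

/-- Product maps composed with a homomorphism. -/
theorem prodMap_comp_hom {S : Scheme.{u}} {G H : Over S} [GrpObj G] [GrpObj H] (h : H ⟶ G) [IsMonHom h] {m : ℕ}
    (v : Fin m → (Red.Ga S ⟶ H)) :
    RedSub.prodMap (Red.Ga S) m v ≫ h = RedSub.prodMap (Red.Ga S) m (fun l => v l ≫ h) := by
  rw [← Category.id_comp (RedSub.prodMap (Red.Ga S) m v), ← Category.id_comp (RedSub.prodMap (Red.Ga S) m fun l => v l ≫ h),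
    comp_prodMap_eq, comp_prodMap_eq, prod_comp, List.map_ofFn]
  simp only [Function.comp_def, Category.assoc]

variable {k : Type u} [Field k] [IsAlgClosed k] {G H : Over (Spec (CommRingCat.of k))} [GrpObj G] [GrpObj H]
  [IsAffine G.left] [IsAffine H.left] [Smooth H.hom] [ConnectedSpace H.left] {M : Type} [AddCommGroup M]
  [Module.Free ℤ M] [Module.Finite ℤ M] {c : Red.DS (Spec (CommRingCat.of k)) M ⟶ G} [IsMonHom c]
  {idx : Type} [Fintype idx] {root : idx → M} {u : idx → (Red.Ga (Spec (CommRingCat.of k)) ⟶ G)}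
  {h : H ⟶ G} [IsMonHom h] [IsClosedImmersion h.left]
  {cH : Red.DS (Spec (CommRingCat.of k)) M ⟶ H} [IsMonHom cH]

/-- **The contracted subgroup of a subgroup containing the torus is the product of its root groups.** -/
theorem Frame.isIso_prod_sub (F : Frame c root u) (hcH : cH ≫ h = c) (mu : M →+ ℤ) {m : ℕ} (e : Fin m → idx)
    (he : RedSub.Enumerates {a | (∃ w, w ≫ h = u a) ∧ 0 < mu (root a)} e)
    (v : Fin m → (Red.Ga (Spec (CommRingCat.of k)) ⟶ H)) (hv : ∀ l, v l ≫ h = u (e l))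
    {U : Over (Spec (CommRingCat.of k))} [GrpObj U] {uU : U ⟶ H}
    (hU : IsU (Red.DSmap (Spec (CommRingCat.of k)) mu ≫ cH) uU) :
    ∃ z : RedSub.pow (Red.Ga (Spec (CommRingCat.of k))) m ≅ U,
      z.hom ≫ uU = RedSub.prodMap (Red.Ga (Spec (CommRingCat.of k))) m v := by
  classical
  let S := Spec (CommRingCat.of k)
  haveI := F.hG.2.1
  haveI : IsAffineHom G.hom := isAffineHom_of_isAffine G.hom
  haveI : IsAffineHom H.hom := isAffineHom_of_isAffine H.hom
  haveI : Mono h := Over.mono_of_mono_left h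
  obtain ⟨P, _, p, hP⟩ := exists_isP (G := H) (Red.DSmap S mu ≫ cH)
  obtain ⟨Z, _, zZ, hZ, -, -⟩ := exists_centralizer_DS (G := H) inferInstance inferInstance (Red.DSmap S mu ≫ cH)
  haveI : Smooth U.hom := (smooth_isU inferInstance hP hU hZ).1
  haveI := hU.1; haveI := hU.2.1
  haveI : Mono uU := Over.mono_of_mono_left uU
  haveI : IsAffine U.left := isAffine_of_isAffineHom uU.left
  haveI : ConnectedSpace U.left := (field_fibre (Red.DSmap S mu ≫ cH) hP hU).2.1
  haveI : IsIntegral U.left := RGDev.isIntegral_of_smooth_connected U.hom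
  have hpos : ∀ l, 0 < mu (root (e l)) := fun l => (he.2.subset ⟨l, rfl⟩).2
  have hinj : Function.Injective fun l => root (e l) := F.inj.comp he.1
  have hvr : ∀ l, Red.IsRootHom cH (Red.chi S (root (e l))) (v l) := fun l =>
    rootHom_of_comp hcH (F.hu (e l)) (hv l)
  haveI : ∀ l, IsMonHom (v l) := fun l => (hvr l).1
  obtain ⟨z, hz⟩ := hU.exists_le (RedSub.prodMap (Red.Ga S) m v) fun B _ f y => prodMap_mem_USub mu hvr hpos y
  haveI : IsClosedImmersion z.left := by
    haveI : IsClosedImmersion (z.left ≫ (uU ≫ h).left) := by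
      rw [← Over.comp_left, ← Category.assoc, hz, prodMap_comp_hom h]
      simp only [hv]
      exact isClosedImmersion_prodMap mu (fun l => F.hu (e l)) hpos hinj
    haveI : IsClosedImmersion (uU ≫ h).left := by rw [Over.comp_left]; infer_instance
    exact IsClosedImmersion.of_comp z.left (uU ≫ h).left
  choose zl hzl using fun l => hU.exists_le (v l) fun B _ f x => rootHom_mem_USub' (hvr l) mu (hpos l) x
  haveI : ∀ l, IsMonHom (zl l) := fun l => MTSplit.isMonHom_of_comp_mono (zl l) uU (v l) (hzl l)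
  -- the tangent vectors
  have hdim : topologicalKrullDim ↥U.left ≤ (m : WithBot ℕ∞) := by
    refine (dim_le_of_span (fun l => RootIntrinsic.vU (zl l)) fun w a ha => ?_).trans (by simp)
    obtain ⟨b, rfl⟩ := uU.left.app_surjective ⊤ (isAffineOpen_top H.left) a
    change dv w (uU.left.appTop b) = 0
    rw [← dv_map uU w b]
    obtain ⟨Fs, comp, hcd, hcomp, hv'⟩ := exists_wt_decomp (c := cH) (LieS.map k _ uU w)
    rw [hv', Der.dv_prod]
    refine Finset.sum_eq_zero fun d _ => ?_
    rcases le_or_gt (mu d) 0 with hd | hd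
    · rw [hcd]
      have hmem : ((LieS.map k (RootIntrinsic.f₀ (k := k)) uU w).1 : pt (DualNumber k) (fd _) ⟶ H) ∈
          USub (fd _) (Red.DSmap S mu ≫ cH) := hU.exists_fac_iff.1 ⟨w.1, rfl⟩
      have hw := (mem_USub_iff cH mu gens_univ).1 hmem
      rcases hd.lt_or_eq with hd | hd
      · rw [← rp_vec_snd, (mem_PSub_iff cH mu gens_univ).1 hw.1 b (Set.mem_univ b) d hd, TrivSqZeroExt.snd_zero]
      · rw [← rp_vec_snd, hw.2 b (Set.mem_univ b) d hd]
        exact (rp_vec_snd (1 : Lie H k _) _).trans (Der.dv_one _)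
    · by_cases h1 : comp d = 1
      · rw [h1, Der.dv_one]
      have hd0 : d ≠ 0 := fun h => by rw [h, map_zero] at hd; exact lt_irrefl _ hd
      have hG1 : LieS.map k _ h (comp d) ≠ 1 := fun e1 => h1 (map_injective h (e1.trans (map_one _).symm))
      have hGw : IsWt c (LieS.map k _ h (comp d)) d := (hcomp d).map c hcH
      obtain ⟨a₀, ha₀⟩ := F.exists_eq_root ⟨hd0, _, hGw, hG1⟩
      have hR : ∃ w', w' ≫ h = u a₀ := F.fac_of_weight hcH (by rw [ha₀]; exact hcomp d) h1
      obtain ⟨l, hl⟩ := he.2.ge (show a₀ ∈ {a | (∃ w', w' ≫ h = u a) ∧ 0 < mu (root a)} from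
        ⟨hR, by rw [ha₀]; exact hd⟩)
      haveI := (F.hu (e l)).1
      haveI := (F.hu (e l)).2.1
      haveI : Mono (u (e l)) := Over.mono_of_mono_left (u (e l))
      let E : Grp.mk (Red.DS S M) ≅ Grp.mk (Red.DS S M) := Iso.refl _
      have hE : E.inv.hom.hom ≫ c = c := Category.id_comp c
      haveI : IsMonHom (E.inv.hom.hom ≫ c) := by rw [hE]; infer_instance
      have hvl : IsWt c (RootIntrinsic.vU (u (e l))) (root (e l)) :=
        (isWt_vU E ((rootHom_split_iff c E _ _).1 (by rw [hE]; exact F.hu (e l)))).congr_hom hE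
      haveI := F.hG.1
      haveI : ConnectedSpace G.left := (red_inst F.hG).2.2
      rcases (field_rank_one F.hG c F.hc E (hvl.congr_hom hE.symm) (F.ne _) (RootIntrinsic.vU_ne_one (u (e l)))).2 d
          (LieS.map k _ h (comp d)) (hGw.congr_hom hE.symm) hG1 hd0 ⟨1, 1, one_ne_zero, by rw [hl, ha₀]⟩ with
        ⟨-, r, hr⟩ | hneg
      · have h2 : LieS.map k _ uU (RootIntrinsic.vU (zl l)) = RootIntrinsic.vU (v l) :=
          Subtype.ext ((Category.assoc _ _ _).trans (congrArg (_ ≫ ·) (hzl l)))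
        have h3 : LieS.map k _ h (RootIntrinsic.vU (v l)) = RootIntrinsic.vU (u (e l)) :=
          Subtype.ext ((Category.assoc _ _ _).trans (congrArg (_ ≫ ·) (hv l)))
        have h4 : comp d = r • RootIntrinsic.vU (v l) := map_injective h (by
          rw [RootSys.map_smul h, h3]; exact hr)
        rw [h4, Der.dv_smul, ← h2, dv_map]
        exact mul_eq_zero_of_right _ (ha l)
      · have h2 : (2 : ℤ) • d = 0 := by
          rw [two_zsmul]; nth_rw 1 [hneg, hl, ha₀]; rw [neg_add_cancel]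
        exact absurd ((smul_eq_zero.1 h2).resolve_left two_ne_zero) hd0
  -- the ring of functions
  obtain ⟨Y, -, _⟩ := exists_powPt k m
  let Q := MvPolynomial (Fin m) k
  haveI : IsAffine (pt Q (Spec.map (CommRingCat.ofHom MvPolynomial.C) :
      Spec (CommRingCat.of Q) ⟶ S)).left := isAffine_Spec _
  haveI : IsIso Y.left := inferInstanceAs (IsIso ((Over.forget _).map Y))
  let ψ : Γ(U.left, ⊤) →+* Q := rp (Y ≫ z)
  haveI : IsClosedImmersion (Y ≫ z).left := by rw [Over.comp_left]; infer_instance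
  have hψ : Function.Surjective ψ := fun b => by
    obtain ⟨a, ha⟩ := (Y ≫ z).left.app_surjective ⊤ (isAffineOpen_top U.left)
      ((Scheme.ΓSpecIso (CommRingCat.of Q)).inv b)
    refine ⟨a, ?_⟩
    show (Scheme.ΓSpecIso (CommRingCat.of Q)).hom ((Y ≫ z).left.appTop a) = b
    rw [show (Y ≫ z).left.appTop a = (Scheme.ΓSpecIso (CommRingCat.of Q)).inv b from ha]
    exact ConcreteCategory.congr_hom (Scheme.ΓSpecIso (CommRingCat.of Q)).inv_hom_id b
  haveI : Nonempty (⊤ : U.left.Opens) := ⟨⟨Classical.arbitrary U.left, trivial⟩⟩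
  haveI : IsDomain Γ(U.left, ⊤) := inferInstance
  have hA : ringKrullDim Γ(U.left, ⊤) ≤ (m : WithBot ℕ∞) := by
    rw [← PrimeSpectrum.topologicalKrullDim_eq_ringKrullDim]
    exact le_trans (IsHomeomorph.topologicalKrullDim_eq _
      (Scheme.homeoOfIso U.left.isoSpec).isHomeomorph).ge hdim
  have hinjψ : Function.Injective ψ := by
    rw [injective_iff_map_eq_zero]
    intro x hx
    by_contra hx0
    have h1 := ringKrullDim_quotient_succ_le_of_nonZeroDivisor (mem_nonZeroDivisors_of_ne_zero hx0)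
    have h2 : ringKrullDim Q ≤ ringKrullDim (Γ(U.left, ⊤) ⧸ Ideal.span {x}) :=
      ringKrullDim_le_of_surjective (Ideal.Quotient.lift _ ψ fun y hy => by
        obtain ⟨t, rfl⟩ := Ideal.mem_span_singleton'.1 hy
        rw [map_mul, hx, mul_zero]) fun b => by
        obtain ⟨a, ha⟩ := hψ b
        exact ⟨Ideal.Quotient.mk _ a, ha⟩
    rw [MvPolynomial.ringKrullDim_of_isNoetherianRing, ringKrullDim_eq_zero_of_field, zero_add, Nat.card_fin] at h2
    have h3 := (add_le_add h2 le_rfl).trans (h1.trans hA)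
    have h4 : m + 1 ≤ m := by exact_mod_cast h3
    omega
  haveI : IsIso (Y ≫ z).left := by
    haveI : IsIso (Y ≫ z).left.appTop := (ConcreteCategory.isIso_iff_bijective _).2
      ⟨fun a b h => hinjψ (congrArg (Scheme.ΓSpecIso (CommRingCat.of Q)).hom h),
        fun b => (Y ≫ z).left.app_surjective ⊤ (isAffineOpen_top U.left) b⟩
    rw [show (Y ≫ z).left = (pt Q _).left.isoSpec.hom ≫ Spec.map (Y ≫ z).left.appTop ≫ U.left.isoSpec.inv by
      rw [Scheme.isoSpec_inv_naturality, Iso.hom_inv_id_assoc]]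
    infer_instance
  haveI : IsIso ((Over.forget _).map (Y ≫ z)) := ‹IsIso (Y ≫ z).left›
  haveI : IsIso (Y ≫ z) := isIso_of_reflects_iso _ (Over.forget _)
  haveI : IsIso z := IsIso.of_isIso_comp_left Y z
  exact ⟨asIso z, hz⟩

/-- **The cell of a subgroup containing the torus.** -/
theorem Frame.isOpenImmersion_sub_cell (F : Frame c root u) (hcH : cH ≫ h = c) (mu : M →+ ℤ)
    (hmu : ∀ a, mu (root a) ≠ 0) {n m : ℕ} (en : Fin n → idx) (ep : Fin m → idx)
    (hn : RedSub.Enumerates {a | (∃ w, w ≫ h = u a) ∧ 0 < (-mu) (root a)} en)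
    (hp : RedSub.Enumerates {a | (∃ w, w ≫ h = u a) ∧ 0 < mu (root a)} ep)
    (vn : Fin n → (Red.Ga (Spec (CommRingCat.of k)) ⟶ H)) (hvn : ∀ l, vn l ≫ h = u (en l))
    (vp : Fin m → (Red.Ga (Spec (CommRingCat.of k)) ⟶ H)) (hvp : ∀ l, vp l ≫ h = u (ep l)) :
    IsOpenImmersion (cellC cH vn vp).left := by
  let S := Spec (CommRingCat.of k)
  haveI : IsAffineHom H.hom := isAffineHom_of_isAffine H.hom
  haveI : Mono h := Over.mono_of_mono_left h
  haveI : Mono c := F.hc.2.1
  haveI : Mono cH := by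
    haveI : Mono (cH ≫ h) := by rw [hcH]; infer_instance
    exact mono_of_mono cH h
  have hzG := F.centralizer mu hmu
  have hcen : Red.IsCentralizerOf (Red.DSmap S mu ≫ cH) cH := by
    refine ⟨inferInstance, inferInstance, fun X g => ⟨?_, fun hcomm => ?_⟩⟩
    · rintro ⟨x, rfl⟩ X' ρ s
      rw [← Category.assoc s, ← Category.assoc ρ, ← MonObj.mul_comp, ← MonObj.mul_comp,
        show (ρ ≫ x) * (s ≫ Red.DSmap S mu) = (s ≫ Red.DSmap S mu) * (ρ ≫ x) from
          ch_ext fun m => by rw [ch_mul, ch_mul, mul_comm]]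
    · obtain ⟨x, hx⟩ := (hzG.2.2 X (g ≫ h)).2 fun X' ρ s => by
        have h1 := congrArg (· ≫ h) (hcomm X' ρ s)
        simp only [MonObj.mul_comp, Category.assoc, hcH] at h1
        exact h1
      exact ⟨x, by rw [← cancel_mono h, Category.assoc, hcH, hx]⟩
  obtain ⟨P, _, p, hP⟩ := exists_isP (G := H) (Red.DSmap S mu ≫ cH)
  obtain ⟨U, _, uU, hU⟩ := exists_isU (G := H) (Red.DSmap S mu ≫ cH)
  obtain ⟨V, _, vV, hV⟩ := exists_isU (G := H) (Red.DSmap S (-mu) ≫ cH)
  obtain ⟨L⟩ := exists_leviData hP hU hcen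
  haveI := L.iso
  obtain ⟨zn, hzn⟩ := F.isIso_prod_sub hcH (-mu) en hn vn hvn hV
  obtain ⟨zm, hzm⟩ := F.isIso_prod_sub hcH mu ep hp vp hvp hU
  let φ := zn.hom ⊗ₘ ((𝟙 (Red.DS S M) ⊗ₘ zm.hom) ≫ (L.l ⊗ₘ L.iu) ≫ μ)
  haveI : IsIso φ.left := inferInstanceAs (IsIso ((Over.forget _).map φ))
  have hlu : (L.l ⊗ₘ L.iu) ≫ μ ≫ p = (fst _ _ ≫ cH) * (snd _ _ ≫ uU) := by
    haveI := hP.1
    rw [← Category.assoc, show (L.l ⊗ₘ L.iu) ≫ μ = (fst _ _ ≫ L.l) * (snd _ _ ≫ L.iu) by rw [Hom.mul_def]; congr 1,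
      MonObj.mul_comp, Category.assoc, Category.assoc, L.l_p, L.iu_p]
  have hmap : φ ≫ upMap vV p = cellC cH vn vp := by
    rw [upMap, MonObj.comp_mul, cellC]
    simp only [φ, S, tensorHom_fst_assoc, tensorHom_snd_assoc, Category.assoc, hzn, hlu, MonObj.comp_mul,
      Category.id_comp, hzm]
  haveI := isOpenImmersion_upMap mu hV hP
  rw [← hmap, Over.comp_left]
  infer_instance

set_option maxHeartbeats 2000000 in
/-- **Rational points of the subgroup in the cell of the kernel torus centraliser of a root outside it.** -/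
theorem Frame.coord_eq_one (F : Frame c root u) (hcH : cH ≫ h = c) {a a' : idx} (hopp : root a' = -root a)
    (hcon : ¬∃ w, w ≫ h = u a) {g : 𝟙_ (Over (Spec (CommRingCat.of k))) ⟶ H}
    {x y : 𝟙_ (Over (Spec (CommRingCat.of k))) ⟶ Red.Ga (Spec (CommRingCat.of k))}
    {t : 𝟙_ (Over (Spec (CommRingCat.of k))) ⟶ Red.DS (Spec (CommRingCat.of k)) M}
    (hg : g ≫ h = (y ≫ u a') * ((t ≫ c) * (x ≫ u a))) : x = 1 := by
  let S := Spec (CommRingCat.of k)
  haveI := F.hG.2.1
  haveI : IsAffineHom G.hom := isAffineHom_of_isAffine G.hom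
  haveI : IsAffineHom H.hom := isAffineHom_of_isAffine H.hom
  haveI : Mono h := Over.mono_of_mono_left h
  haveI : Mono c := F.hc.2.1
  haveI : Mono cH := by
    haveI : Mono (cH ≫ h) := by rw [hcH]; infer_instance
    exact mono_of_mono cH h
  obtain ⟨n, π, hπs, hπa, hker⟩ := F.exists_kernel a
  obtain ⟨mu, hmu, ha⟩ := F.exists_regular_at a
  haveI : IsMonHom (Red.DSmap S π) := MTQuot.isMonHom_DSmap π
  haveI : Mono (Red.DSmap S π) := LieWeight.mono_DSmap π hπs
  haveI : Mono (Red.DSmap S π ≫ cH) := mono_comp _ _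
  obtain ⟨C, _, z, hz, hzc, hCs⟩ := exists_centralizer_DS (G := H) inferInstance inferInstance (Red.DSmap S π ≫ cH)
  haveI := hz.1; haveI := hz.2.1; haveI := hzc; haveI := hCs
  haveI : IsAffine C.left := isAffine_of_isAffineHom z.left
  haveI : IsAffineHom C.hom := isAffineHom_of_isAffine C.hom
  haveI : QuasiCompact H.hom := inferInstance
  haveI : ConnectedSpace C.left :=
    (Groth.Agent.S8407.result k H _ (Red.DSmap S π ≫ cH) (MTCentre.isTorus_DS_scheme S _) C z hz).2
  haveI : IsIntegral C.left := RGDev.isIntegral_of_smooth_connected C.hom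
  obtain ⟨tC, htC⟩ := (hz.2.2 _ cH).2 fun X' x g => by
    rw [← Category.assoc g, ← MonObj.mul_comp, ← MonObj.mul_comp,
      show x * (g ≫ Red.DSmap S π) = (g ≫ Red.DSmap S π) * x from ch_ext fun m => by rw [ch_mul, ch_mul, mul_comm]]
  haveI : IsMonHom tC := MTSplit.isMonHom_of_comp_mono tC z cH htC
  obtain ⟨P, _, p, hP⟩ := exists_isP (G := C) (Red.DSmap S (-mu) ≫ tC)
  obtain ⟨U, _, uC, hU⟩ := exists_isU (G := C) (Red.DSmap S mu ≫ tC)
  haveI := hU.1; haveI := hP.1; haveI := hP.2.1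
  have htriv : ∀ q : 𝟙_ (Over S) ⟶ U, q = 1 := F.trivial_pts_U hcH hcon hker mu hmu ha hz htC hU
  haveI hopen : IsOpenImmersion (upMap uC p).left := isOpenImmersion_upMap (-mu) (by rw [neg_neg]; exact hU) hP
  haveI : LocallyOfFiniteType C.hom := inferInstance
  haveI : JacobsonSpace C.left := LocallyOfFiniteType.jacobsonSpace C.hom
  haveI : IsIso p := isIso_of_pts p fun σ => by
    -- closed points of the cell come from the parabolic subgroup
    have hsub : Set.range (upMap uC p).left ∩ closedPoints C.left ⊆ Set.range p.left := by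
      rintro c' ⟨hcO, hcc⟩
      let s' : 𝟙_ (Over S) ⟶ C :=
        Over.homMk (pointOfClosedPoint C.hom c' hcc) (pointOfClosedPoint_comp _ _ _)
      obtain ⟨ω, hω⟩ := (exists_fac_iff_range (upMap uC p) s').2 (by
        rintro _ ⟨o, rfl⟩
        show pointOfClosedPoint C.hom c' hcc o ∈ _
        rw [pointOfClosedPoint_apply]
        exact hcO)
      rw [upMap, MonObj.comp_mul, ← Category.assoc ω (fst U P), htriv (ω ≫ fst U P), MonObj.one_comp,
        _root_.one_mul, ← Category.assoc] at hω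
      refine ⟨(ω ≫ snd U P).left (IsLocalRing.closedPoint k), ?_⟩
      rw [← pointOfClosedPoint_apply C.hom c' hcc (IsLocalRing.closedPoint k)]
      exact congrArg (fun w => w.left (IsLocalRing.closedPoint k)) hω
    have hO : IsOpen (Set.range (upMap uC p).left) := (upMap uC p).left.isOpenEmbedding.isOpen_range
    have hne : (Set.range (upMap uC p).left).Nonempty :=
      ⟨(upMap uC p).left ((lift (1 : 𝟙_ (Over S) ⟶ U) (1 : 𝟙_ (Over S) ⟶ P)).left (IsLocalRing.closedPoint k)),
        _, rfl⟩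
    have h1 := closure_minimal hsub p.left.isClosedEmbedding.isClosed_range
    rw [JacobsonSpace.closure_inter_closedPoints_eq_closure hO.isLocallyClosed, (hO.dense hne).closure_eq] at h1
    obtain ⟨q, hq⟩ := h1 (Set.mem_univ (σ.left (IsLocalRing.closedPoint k)))
    haveI := hP.2.1
    haveI : LocallyOfFiniteType P.hom := by rw [← Over.w p]; infer_instance
    have hqc : IsClosed ({q} : Set P.left) := by
      have hc : IsClosed ({σ.left (IsLocalRing.closedPoint k)} : Set C.left) :=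
        (pointEquivClosedPoint C.hom ⟨σ.left, Over.w σ⟩).2
      have : ({q} : Set P.left) = p.left ⁻¹' {σ.left (IsLocalRing.closedPoint k)} := Set.ext fun r =>
        ⟨fun hr => by rw [Set.mem_singleton_iff.1 hr]; exact hq, fun hr =>
          p.left.isClosedEmbedding.injective ((Set.mem_singleton_iff.1 hr).trans hq.symm)⟩
      rw [this]
      exact hc.preimage p.left.continuous
    let q' : 𝟙_ (Over S) ⟶ P := Over.homMk (pointOfClosedPoint P.hom q hqc) (pointOfClosedPoint_comp _ _ _)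
    refine ⟨q', Over.OverMorphism.ext (ext_of_apply_closedPoint_eq C.hom (Over.w (q' ≫ p)) (Over.w σ) ?_)⟩
    show p.left (pointOfClosedPoint P.hom q hqc _) = _
    rw [pointOfClosedPoint_apply]
    exact hq
  -- the point lies in the centraliser
  obtain ⟨σ, hσ⟩ := (hz.2.2 _ g).2 fun X' ρ s => by
    have hfix : ∀ {b : idx}, π (root b) = 0 → ∀ w : X' ⟶ Red.Ga S,
        Commute (w ≫ u b) (s ≫ Red.DSmap S π ≫ c) := fun {b} hb w => by
      obtain ⟨w', hw, hw'⟩ := (F.hu b).2.2 X' (s ≫ Red.DSmap S π) w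
      have : w' = w := BGaNotS.gaPt_ext (by
        rw [hw', RootIntrinsic.gmFn_chi, ch_DSmap, toAdd_ofAdd, hb, ofAdd_zero, map_one, _root_.one_mul])
      rw [this, Category.assoc] at hw
      show _ * _ = _ * _
      conv_lhs => rw [hw]
      rw [inv_mul_cancel_right]
    have ht : Commute ((ρ ≫ t) ≫ c) (s ≫ Red.DSmap S π ≫ c) := by
      show _ * _ = _ * _
      rw [← Category.assoc s, ← MonObj.mul_comp, ← MonObj.mul_comp,
        show (ρ ≫ t) * (s ≫ Red.DSmap S π) = (s ≫ Red.DSmap S π) * (ρ ≫ t) from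
          ch_ext fun m => by rw [ch_mul, ch_mul, mul_comm]]
    have h3 := (hfix (b := a') (by rw [hopp, map_neg, hπa, neg_zero]) (ρ ≫ y)).mul_left
      (ht.mul_left (hfix (b := a) hπa (ρ ≫ x)))
    rw [← cancel_mono h, MonObj.mul_comp, MonObj.mul_comp, Category.assoc ρ, hg,
      show (s ≫ Red.DSmap S π ≫ cH) ≫ h = s ≫ Red.DSmap S π ≫ c by rw [Category.assoc, Category.assoc, hcH],
      MonObj.comp_mul, MonObj.comp_mul]
    simp only [← Category.assoc]
    simp only [← Category.assoc] at h3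
    exact h3.eq
  let f : Spec (CommRingCat.of k) ⟶ Spec (CommRingCat.of k) := 𝟙 _
  have hmem : (g ≫ h : pt k f ⟶ G) ∈ PSub f (Red.DSmap S (-mu) ≫ c) := by
    have h1 : ((σ ≫ inv p) ≫ p : pt k f ⟶ C) ∈ PSub f (Red.DSmap S (-mu) ≫ tC) := hP.exists_fac_iff.1 ⟨_, rfl⟩
    have h2 := comp_mem_PSub f (Red.DSmap S (-mu) ≫ tC) (z ≫ h) h1
    rw [Category.assoc (Red.DSmap S (-mu)), show tC ≫ z ≫ h = c by rw [reassoc_of% htC, hcH]] at h2
    simp only [Category.assoc, IsIso.inv_hom_id_assoc] at h2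
    rw [reassoc_of% hσ] at h2
    exact h2
  haveI := (F.hu a).1
  haveI := (F.hu a).2.1
  haveI : Mono (u a) := Over.mono_of_mono_left (u a)
  have hy : ((y ≫ u a') : pt k f ⟶ G) ∈ PSub f (Red.DSmap S (-mu) ≫ c) :=
    USub_le_PSub _ _ (rootHom_mem_USub' (F.hu a') (-mu) (by rw [AddMonoidHom.neg_apply, hopp, map_neg]; omega) y)
  have ht : ((t ≫ c) : pt k f ⟶ G) ∈ PSub f (Red.DSmap S (-mu) ≫ c) := mem_PSub_torus (-mu) f t
  have hx : ((x ≫ u a) : pt k f ⟶ G) ∈ PSub f (Red.DSmap S (-mu) ≫ c) := by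
    rw [show (x ≫ u a : pt k f ⟶ G) = (t ≫ c)⁻¹ * ((y ≫ u a')⁻¹ * (g ≫ h)) by rw [hg]; group]
    exact mul_mem (inv_mem ht) (mul_mem (inv_mem hy) hmem)
  have h1 := eq_one_of_opp mu (rootHom_mem_USub' (F.hu a) mu ha x) hx
  exact (cancel_mono (u a)).1 (h1.trans (MonObj.one_comp _).symm)

end Groth.Agent.RootBase
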