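import Groth.Agent.RootBase.TypeRPts
import Groth.Agent.RootBase.Restrict
import Groth.Agent.RootBase.Borel
import Groth.Agent.DynPar.Reflect

/-!
# Root groups of a smooth subgroup containing the torus, over a field
-/

set_option autoImplicit false
set_option backward.isDefEq.respectTransparency false
set_option linter.style.haveILetI false
set_option maxHeartbeats 1000000
set_option synthInstance.maxHeartbeats 400000

universe u

open CategoryTheory Limits MonoidalCategory CartesianMonoidalCategory MonObj GrpObj AlgebraicGeometry LieS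
open scoped CategoryTheory.Obj

noncomputable section

namespace Groth.Agent.RootBase

open Groth.Agent.HomDiag Groth.Agent.DynPar Groth.Agent.RootSys
open Groth.Agent.DynPar.Der (dv uB pl sG)

section General

variable {S : Scheme.{u}} {G : Over S} [GrpObj G] {M : Type} [AddCommGroup M] [Module.Free ℤ M] [Module.Finite ℤ M]
  {c : Red.DS S M ⟶ G} {idx : Type} [Fintype idx] {root : idx → M} {u : idx → (Red.Ga S ⟶ G)}

/-- A lattice quotient killing exactly the line of a root. -/
theorem Frame.exists_kernel [Nonempty S] (F : Frame c root u) (a : idx) :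
    ∃ (n : ℕ) (π : M →+ (Fin n → ℤ)), Function.Surjective π ∧ π (root a) = 0 ∧
      ∀ b, π (root b) = 0 → root b = root a ∨ root b = -root a := by
  obtain ⟨M', _, _, _, π₀, m₁, hπs, hm₁, -, hπa, hker⟩ := DynPar.exists_line (root a) (F.ne a)
  let e := (Module.finBasis ℤ M').equivFun.toAddEquiv
  refine ⟨_, e.toAddMonoidHom.comp π₀, e.surjective.comp hπs,
    (by show e (π₀ (root a)) = 0; rw [hπa, map_zero]), fun b hb => ?_⟩
  obtain ⟨l, hl⟩ := hker (root b) (e.injective ((show e (π₀ (root b)) = 0 from hb).trans e.map_zero.symm))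
  obtain ⟨k, hk⟩ := hker (root a) hπa
  have hk0 : k ≠ 0 := fun h0 => F.ne a (by rw [hk, h0, zero_smul])
  exact F.dep l k hk0 (by rw [hl, hk, smul_smul, smul_smul, mul_comm])

/-- A functional without zeros on the roots, positive on a given one. -/
theorem Frame.exists_regular_at (F : Frame c root u) (a : idx) :
    ∃ mu : M →+ ℤ, (∀ b, mu (root b) ≠ 0) ∧ 0 < mu (root a) := by
  classical
  obtain ⟨mu, hmu⟩ := DynPar.exists_hom_ne_zero (Finset.univ.image root)
  have hne : ∀ b, mu (root b) ≠ 0 := fun b => hmu _ (Finset.mem_image_of_mem _ (Finset.mem_univ b)) (F.ne b)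
  rcases lt_or_gt_of_ne (hne a) with h | h
  · exact ⟨-mu, fun b => by rw [AddMonoidHom.neg_apply]; exact neg_ne_zero.2 (hne b),
      by rw [AddMonoidHom.neg_apply]; omega⟩
  · exact ⟨mu, hne, h⟩

/-- **A product of positive root elements commuting with the kernel torus of a root lies in its root group.** -/
theorem Frame.eq_root_pt (F : Frame c root u) {a : idx} {n : ℕ} {π : M →+ (Fin n → ℤ)}
    (hker : ∀ b, π (root b) = 0 → root b = root a ∨ root b = -root a) (mu : M →+ ℤ)
    (hmu : ∀ b, mu (root b) ≠ 0) (ha : 0 < mu (root a)) {m : ℕ} (e : Fin m → idx)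
    (he : RedSub.Enumerates {b | 0 < mu (root b)} e) {X : Over S} (y : X ⟶ RedSub.pow (Red.Ga S) m)
    (hcomm : ∀ (X' : Over S) (ρ : X' ⟶ X) (s : X' ⟶ Red.DS S (Fin n → ℤ)),
      Commute ((ρ ≫ y) ≫ RedSub.prodMap (Red.Ga S) m (fun l => u (e l))) (s ≫ Red.DSmap S π ≫ c)) :
    ∃ x : X ⟶ Red.Ga S, x ≫ u a = y ≫ RedSub.prodMap (Red.Ga S) m (fun l => u (e l)) := by
  classical
  haveI := F.hc.1
  haveI : ∀ b, IsMonHom (u b) := fun b => (F.hu b).1
  obtain ⟨p, en, -, hn⟩ := exists_extend {b | 0 < (-mu) (root b)} (Fin.elim0 : Fin 0 → idx) (fun x => x.elim0)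
    fun k => k.elim0
  have ho := (F.cell mu hmu _ _ e e hn he hn he).1
  obtain ⟨θ, hθ⟩ := DynPar.exists_hom_ne_zero (Finset.univ.image fun b => π (root b))
  obtain ⟨y0, hy0, -⟩ := exists_pow_prod (G := G)
    (fun l => u ((Fin.append (Fin.elim0 : Fin 0 → idx) en) l)) (X := X) fun _ => 1
  have hp : lift y0 (lift 1 y) ≫ cellC c (fun l => u (Fin.append (Fin.elim0 : Fin 0 → idx) en l)) (fun l => u (e l)) =
      y ≫ RedSub.prodMap (Red.Ga S) m (fun l => u (e l)) := by
    rw [comp_cellC, prodMap_one _ (fun k => (F.hu _).1) y0 hy0, MonObj.one_comp, _root_.one_mul, _root_.one_mul]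
  have hz := (F.eq_one_of_commute _ e ho y0 1 y (θ.comp π) fun X' ρ r => by
    rw [hp, ← Category.assoc]
    rw [show (r ≫ Red.DSmap S (θ.comp π)) ≫ c = (r ≫ Red.DSmap S θ) ≫ Red.DSmap S π ≫ c by
      rw [show r ≫ Red.DSmap S (θ.comp π) = (r ≫ Red.DSmap S θ) ≫ Red.DSmap S π from ch_ext fun m => by
        rw [ch_DSmap, ch_DSmap, ch_DSmap, toAdd_ofAdd]; rfl, Category.assoc]]
    exact hcomm X' ρ (r ≫ Red.DSmap S θ)).2
  obtain ⟨l₀, hl₀⟩ := he.2.ge (show a ∈ {b | 0 < mu (root b)} from ha)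
  refine ⟨y ≫ proj S m l₀, ?_⟩
  rw [comp_prodMap_eq, prod_ofFn_single _ l₀, hl₀]
  intro j hj
  have hpos : 0 < mu (root (e j)) := he.2.subset ⟨j, rfl⟩
  have h0 : π (root (e j)) ≠ 0 := fun h0 => by
    rcases hker _ h0 with h1 | h1
    · exact hj (he.1 ((F.inj h1).trans hl₀.symm))
    · rw [h1, map_neg] at hpos; omega
  rw [hz j (hθ _ (Finset.mem_image_of_mem _ (Finset.mem_univ (e j))) h0), MonObj.one_comp]

end General

variable {k : Type u} [Field k] [IsAlgClosed k] {G H : Over (Spec (CommRingCat.of k))} [GrpObj G] [GrpObj H]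
  [IsAffine G.left] [IsAffine H.left] [Smooth H.hom] [ConnectedSpace H.left] {M : Type} [AddCommGroup M]
  [Module.Free ℤ M] [Module.Finite ℤ M] {c : Red.DS (Spec (CommRingCat.of k)) M ⟶ G} [IsMonHom c]
  {idx : Type} [Fintype idx] {root : idx → M} {u : idx → (Red.Ga (Spec (CommRingCat.of k)) ⟶ G)}
  {h : H ⟶ G} [IsMonHom h] [IsClosedImmersion h.left]
  {cH : Red.DS (Spec (CommRingCat.of k)) M ⟶ H} [IsMonHom cH]

theorem ga_field (k : Type u) [Field k] :
    IsReduced (Red.Ga (Spec (CommRingCat.of k))).left ∧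
      LocallyOfFiniteType (Red.Ga (Spec (CommRingCat.of k))).hom := by
  haveI := RedR1.smooth_ga k
  haveI := RedR1.connectedSpace_ga k
  haveI : IsAffine Red.GaZ.left := isAffine_Spec _
  haveI : IsAffineHom (Red.Ga (Spec (CommRingCat.of k))).hom :=
    MorphismProperty.pullback_snd (P := @IsAffineHom) Red.GaZ.hom _ (isAffineHom_of_isAffine _)
  haveI : IsAffine (Red.Ga (Spec (CommRingCat.of k))).left := isAffine_of_isAffineHom (Red.Ga (Spec (CommRingCat.of k))).hom
  haveI := RGDev.isIntegral_of_smooth_connected (Red.Ga (Spec (CommRingCat.of k))).hom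
  exact ⟨inferInstance, inferInstance⟩

omit [Smooth H.hom] [ConnectedSpace H.left] [IsAffine G.left] [IsAffine H.left] [IsMonHom c] in
/-- The factorisation of a root homomorphism is a root homomorphism. -/
theorem rootHom_of_comp (hcH : cH ≫ h = c) {d : M} {w : Red.Ga (Spec (CommRingCat.of k)) ⟶ G}
    (hw : Red.IsRootHom c (Red.chi _ d) w) {v : Red.Ga (Spec (CommRingCat.of k)) ⟶ H} (hv : v ≫ h = w) :
    Red.IsRootHom cH (Red.chi _ d) v := by
  haveI := hw.1
  haveI := hw.2.1
  haveI : Mono h := Over.mono_of_mono_left h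
  refine ⟨MTSplit.isMonHom_of_comp_mono v h w hv, ?_, fun X t x => ?_⟩
  · haveI : IsClosedImmersion (v.left ≫ h.left) := by rw [← Over.comp_left, hv]; infer_instance
    exact IsClosedImmersion.of_comp v.left h.left
  · obtain ⟨y, hy, hy'⟩ := hw.2.2 X t x
    refine ⟨y, ?_, hy'⟩
    rw [← cancel_mono h, Category.assoc, MonObj.mul_comp, MonObj.mul_comp, GrpObj.inv_comp, Category.assoc,
      Category.assoc, hcH, hv]
    exact hy

omit [Smooth H.hom] [ConnectedSpace H.left] in
/-- A root group in the subgroup gives a weight vector. -/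
theorem Frame.weight_of_fac (F : Frame c root u) (hcH : cH ≫ h = c) {a : idx}
    (ha : ∃ v, v ≫ h = u a) : ∃ v : Lie H k (fk k), IsWt cH v (root a) ∧ v ≠ 1 := by
  obtain ⟨v, hv⟩ := ha
  have h1 := rootHom_of_comp (h := h) (cH := cH) hcH (F.hu a) hv
  haveI := h1.1
  haveI := h1.2.1
  haveI : Mono v := Over.mono_of_mono_left v
  let E : Grp.mk (Red.DS (Spec (CommRingCat.of k)) M) ≅ Grp.mk (Red.DS (Spec (CommRingCat.of k)) M) := Iso.refl _
  have hE : E.inv.hom.hom ≫ cH = cH := Category.id_comp cH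
  haveI : IsMonHom (E.inv.hom.hom ≫ cH) := by rw [hE]; infer_instance
  exact ⟨RootIntrinsic.vU v, (isWt_vU E ((rootHom_split_iff cH E _ _).1 (by rw [hE]; exact h1))).congr_hom hE,
    RootIntrinsic.vU_ne_one v⟩

omit [Smooth H.hom] [ConnectedSpace H.left] in
/-- The contracted subgroup of the centraliser of the kernel torus of a root outside the subgroup has only the
trivial rational point. -/
theorem Frame.trivial_pts_U (F : Frame c root u) (hcH : cH ≫ h = c) {a : idx} (hcon : ¬∃ w, w ≫ h = u a)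
    {n : ℕ} {π : M →+ (Fin n → ℤ)} (hker : ∀ b, π (root b) = 0 → root b = root a ∨ root b = -root a)
    (mu : M →+ ℤ) (hmu : ∀ b, mu (root b) ≠ 0) (ha : 0 < mu (root a))
    {C U : Over (Spec (CommRingCat.of k))} [GrpObj C] [IsAffine C.left] [GrpObj U] {z : C ⟶ H} [IsMonHom z] [Mono z]
    (hz : Red.IsCentralizerOf (Red.DSmap _ π ≫ cH) z) {tC : Red.DS (Spec (CommRingCat.of k)) M ⟶ C} [IsMonHom tC]
    (htC : tC ≫ z = cH) {uC : U ⟶ C} (hU : IsU (Red.DSmap (Spec (CommRingCat.of k)) mu ≫ tC) uC)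
    (q : 𝟙_ (Over (Spec (CommRingCat.of k))) ⟶ U) : q = 1 := by
  classical
  let S := Spec (CommRingCat.of k)
  haveI := F.hG.2.1
  haveI := hU.1; haveI := hU.2.1
  haveI : Mono uC := Over.mono_of_mono_left uC
  haveI : Mono h := Over.mono_of_mono_left h
  haveI : IsAffineHom G.hom := isAffineHom_of_isAffine G.hom
  obtain ⟨m, e', -, he⟩ := exists_extend {b | 0 < mu (root b)} (Fin.elim0 : Fin 0 → idx) (fun x => x.elim0)
    fun k => k.elim0
  let e := Fin.append (Fin.elim0 : Fin 0 → idx) e'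
  obtain ⟨UG, _, uG, hUG⟩ := exists_isU (G := G) (Red.DSmap S mu ≫ c)
  obtain ⟨zG, hzG⟩ := F.isIso_prod mu e he hUG
  obtain ⟨wG, hwG⟩ := hUG.exists_le (uC ≫ z ≫ h) fun B _ f y => by
    have h1 : y ≫ uC ∈ USub f (Red.DSmap S mu ≫ tC) := hU.exists_fac_iff.1 ⟨y, rfl⟩
    have h2 := comp_mem_USub f (Red.DSmap S mu ≫ tC) (z ≫ h) h1
    rw [Category.assoc, show tC ≫ z ≫ h = c by rw [reassoc_of% htC, hcH], Category.assoc] at h2
    exact h2
  have hy : ((q ≫ wG) ≫ zG.inv) ≫ RedSub.prodMap (Red.Ga S) _ (fun l => u (e l)) = (q ≫ uC ≫ z) ≫ h := by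
    rw [← hzG, Category.assoc, Category.assoc, Iso.inv_hom_id_assoc, hwG, Category.assoc, Category.assoc]
  obtain ⟨x, hx⟩ := F.eq_root_pt hker mu hmu ha e he ((q ≫ wG) ≫ zG.inv) fun X' ρ s => by
    rw [Category.assoc, hy, show Red.DSmap S π ≫ c = (Red.DSmap S π ≫ cH) ≫ h by rw [Category.assoc, hcH],
      ← Category.assoc ρ, ← Category.assoc s]
    have h3 := (hz.2.2 _ (q ≫ uC ≫ z)).1 ⟨q ≫ uC, Category.assoc _ _ _⟩ X' ρ s
    show _ * _ = _ * _
    rw [← MonObj.mul_comp, ← MonObj.mul_comp, h3]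
  by_cases hx1 : x = 1
  · rw [hy, hx1] at hx
    haveI := (F.hu a).1
    rw [MonObj.one_comp] at hx
    rw [← cancel_mono uC, ← cancel_mono z, ← cancel_mono h, MonObj.one_comp, MonObj.one_comp, MonObj.one_comp]
    simpa only [Category.assoc] using hx.symm
  · obtain ⟨i1, i2⟩ := ga_field k
    haveI := i1; haveI := i2
    exact absurd (fac_of_point h hcH (F.ne a) (F.hu a) (hx.trans hy) hx1) hcon

/-- **A weight vector of the subgroup forces the root group to lie in it.** -/
theorem Frame.fac_of_weight (F : Frame c root u) (hcH : cH ≫ h = c) {a : idx} {v : Lie H k (fk k)}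
    (hv : IsWt cH v (root a)) (hv1 : v ≠ 1) : ∃ w, w ≫ h = u a := by
  classical
  let S := Spec (CommRingCat.of k)
  haveI := F.hG.2.1
  haveI : Mono c := F.hc.2.1
  haveI : IsAffineHom G.hom := isAffineHom_of_isAffine G.hom
  haveI : IsAffineHom H.hom := isAffineHom_of_isAffine H.hom
  haveI : Mono h := Over.mono_of_mono_left h
  haveI : Mono cH := by
    haveI : Mono (cH ≫ h) := by rw [hcH]; infer_instance
    exact mono_of_mono cH h
  obtain ⟨n, π, hπs, hπa, hker⟩ := F.exists_kernel a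
  obtain ⟨mu, hmu, ha⟩ := F.exists_regular_at a
  haveI : IsMonHom (Red.DSmap S π) := MTQuot.isMonHom_DSmap π
  haveI : Mono (Red.DSmap S π) := LieWeight.mono_DSmap π hπs
  haveI : Mono (Red.DSmap S π ≫ cH) := mono_comp _ _
  obtain ⟨C, _, z, hz, hzc, hCs⟩ := exists_centralizer_DS (G := H) inferInstance inferInstance (Red.DSmap S π ≫ cH)
  haveI := hz.1; haveI := hz.2.1; haveI := hzc; haveI := hCs
  haveI : IsAffine C.left := isAffine_of_isAffineHom z.left
  haveI : IsAffineHom C.hom := isAffineHom_of_isAffine C.hom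
  obtain ⟨tC, htC⟩ := (hz.2.2 _ cH).2 fun X' x g => by
    rw [← Category.assoc g, ← MonObj.mul_comp, ← MonObj.mul_comp,
      show x * (g ≫ Red.DSmap S π) = (g ≫ Red.DSmap S π) * x from ch_ext fun m => by rw [ch_mul, ch_mul, mul_comm]]
  haveI : IsMonHom tC := MTSplit.isMonHom_of_comp_mono tC z cH htC
  obtain ⟨P, _, p, hP⟩ := exists_isP (G := C) (Red.DSmap S mu ≫ tC)
  obtain ⟨Z, _, zC, hZ, -, -⟩ := exists_centralizer_DS (G := C) inferInstance inferInstance (Red.DSmap S mu ≫ tC)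
  obtain ⟨U, _, uC, hU⟩ := exists_isU (G := C) (Red.DSmap S mu ≫ tC)
  haveI := hU.1; haveI := hU.2.1
  haveI : Smooth U.hom := (smooth_isU inferInstance hP hU hZ).1
  haveI : ConnectedSpace U.left := (field_fibre (Red.DSmap S mu ≫ tC) hP hU).2.1
  haveI : IsAffine U.left := isAffine_of_isAffineHom uC.left
  haveI : Mono uC := Over.mono_of_mono_left uC
  obtain ⟨v₀, hv₀, hv₀'⟩ := exists_lie_lift π hz htC hv hπa
  by_contra hcon
  -- all rational points of the contracted subgroup are trivial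
  have htriv : ∀ q : 𝟙_ (Over S) ⟶ U, q = 1 := F.trivial_pts_U hcH hcon hker mu hmu ha hz htC hU
  have hmem : (v₀.1 : pt (DualNumber k) (fd (fk k)) ⟶ C) ∈ USub (fd (fk k)) (Red.DSmap S mu ≫ tC) := by
    refine (mem_USub_iff tC mu gens_univ).2 ⟨hv₀.mem_PSub tC mu ha.le, fun x _ m hm => TrivSqZeroExt.ext ?_ ?_⟩
    · rw [rp_vec_fst]
      exact (rp_vec_fst (1 : Lie C k (fk k)) _).symm
    · rw [rp_vec_snd, hv₀ x m (fun h0 => by rw [h0] at hm; omega)]
      exact ((rp_vec_snd (1 : Lie C k (fk k)) _).trans (Der.dv_one _)).symm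
  obtain ⟨y, hy⟩ := hU.exists_fac_iff.2 hmem
  rw [eq_one_of_trivial_pts htriv y, MonObj.one_comp] at hy
  exact hv1 (by rw [← hv₀', show v₀ = 1 from Subtype.ext hy.symm, map_one])

end Groth.Agent.RootBase
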