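import Groth.Agent.RootBase.TypeRMain

/-!
# Inclusions between subgroups of type (R) from fibres
-/

set_option autoImplicit false
set_option backward.isDefEq.respectTransparency false
set_option linter.style.haveILetI false
set_option maxHeartbeats 1000000
set_option synthInstance.maxHeartbeats 400000

universe u

open CategoryTheory Limits MonoidalCategory CartesianMonoidalCategory MonObj GrpObj AlgebraicGeometry
open scoped CategoryTheory.Obj

noncomputable section

namespace Groth.Agent.RootBase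

open Groth.Agent.HomDiag Groth.Agent.DynPar Groth.Agent.RootSys Groth.Agent.MTBridge

variable {S : Scheme.{u}} {G H H'' : Over S} [GrpObj G] [GrpObj H] [GrpObj H'']

/-- Factorisations through a monomorphism glue. -/
theorem exists_fac_glue (h : H ⟶ G) (h'' : H'' ⟶ G) [Mono h''.left] (U : S → S.Opens) (hU : ∀ s, s ∈ U s)
    (hf : ∀ s, ∃ f : Red.bc (U s).ι H ⟶ Red.bc (U s).ι H'',
      f ≫ (Over.pullback (U s).ι).map h'' = (Over.pullback (U s).ι).map h) : ∃ f : H ⟶ H'', f ≫ h'' = h := by
  choose f hf using hf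
  let 𝒲 := (S.openCoverOfIsOpenCover U (TopologicalSpace.IsOpenCover.mk (by
    rw [eq_top_iff]
    intro s _
    exact TopologicalSpace.Opens.mem_iSup.2 ⟨s, hU s⟩))).pullback₁ H.hom
  have hex : ∀ s, ∃ g : 𝒲.X s ⟶ H''.left, g ≫ h''.left = 𝒲.f s ≫ h.left := fun s => by
    refine ⟨(f s).left ≫ pullback.fst H''.hom (U s).ι, ?_⟩
    have h1 := congrArg (fun q => q.left ≫ pullback.fst G.hom (U s).ι) (hf s)
    show ((f s).left ≫ pullback.fst H''.hom (U s).ι) ≫ h''.left = pullback.fst H.hom (U s).ι ≫ h.left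
    simpa [Over.pullback] using h1
  choose g hg using hex
  obtain ⟨F, hF⟩ : ∃ F : H.left ⟶ H''.left, F ≫ h''.left = h.left := by
    refine ⟨Scheme.Cover.glueMorphisms 𝒲 g fun s t => ?_, Scheme.Cover.hom_ext 𝒲 _ _ fun s => ?_⟩
    · rw [← cancel_mono h''.left, Category.assoc, Category.assoc, hg, hg, pullback.condition_assoc]
    · rw [← Category.assoc, Scheme.Cover.ι_glueMorphisms]
      exact hg s
  exact ⟨Over.homMk F (by rw [← Over.w h'', ← Category.assoc, hF, Over.w h]), Over.OverMorphism.ext hF⟩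

variable {M : Type} [AddCommGroup M] [Module.Free ℤ M] [Module.Finite ℤ M]
  {c : Red.DS S M ⟶ G} {idx : Type} [Fintype idx] {root : idx → M} {u : idx → (Red.Ga S ⟶ G)} {h : H ⟶ G}
  [IsMonHom h] [IsImmersion h.left] [Smooth H.hom] {cH : Red.DS S M ⟶ H} [IsMonHom cH] {h'' : H'' ⟶ G}
  [IsMonHom h''] [IsImmersion h''.left] [Smooth H''.hom] {c'' : Red.DS S M ⟶ H''} [IsMonHom c'']

/-- **Inclusion of fibre patterns gives inclusion.** -/
theorem Frame.exists_le (F : Frame c root u) (hopp : ∀ a, ∃ a', root a' = -root a)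
    (hconn : RedSub.HasConnectedFibres H) (hcH : cH ≫ h = c) (hconn'' : RedSub.HasConnectedFibres H'')
    (hc'' : c'' ≫ h'' = c) (hle : ∀ a (s : S), InFib h (u a) s → InFib h'' (u a) s) :
    ∃ f : H ⟶ H'', f ≫ h'' = h := by
  choose U hU hUc using F.exists_nhd_const hopp hconn hcH
  choose U'' hU'' hUc'' using F.exists_nhd_const hopp hconn'' hc''
  refine exists_fac_glue h h'' (fun s => U s ⊓ U'' s) (fun s => ⟨hU s, hU'' s⟩) fun s => ?_
  let τ := (U s ⊓ U'' s).ι
  haveI := F.hc.1
  haveI : Smooth (Red.bc τ H).hom := inferInstanceAs (Smooth (pullback.snd H.hom τ))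
  haveI : Smooth (Red.bc τ H'').hom := inferInstanceAs (Smooth (pullback.snd H''.hom τ))
  haveI := isMonHom_map' τ h
  haveI := isMonHom_map' τ h''
  haveI : IsImmersion ((Over.pullback τ).map h).left :=
    MorphismProperty.overPullbackMap (P := @IsImmersion) τ h inferInstance
  haveI : IsImmersion ((Over.pullback τ).map h'').left :=
    MorphismProperty.overPullbackMap (P := @IsImmersion) τ h'' inferInstance
  haveI : IsMonHom (bcHom' τ cH) := isMonHom_bcHom' τ cH
  haveI : IsMonHom (bcHom' τ c'') := isMonHom_bcHom' τ c''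
  have e1 : bcHom' τ cH ≫ (Over.pullback τ).map h = bcHom' τ c := by
    rw [bcHom', Category.assoc, ← Functor.map_comp, hcH]
    rfl
  have e2 : bcHom' τ c'' ≫ (Over.pullback τ).map h'' = bcHom' τ c := by
    rw [bcHom', Category.assoc, ← Functor.map_comp, hc'']
    rfl
  have hc1 : RedSub.HasConnectedFibres (Red.bc τ H) := MTImage.isConnected_fibre_bc H hconn τ
  have hc2 : RedSub.HasConnectedFibres (Red.bc τ H'') := MTImage.isConnected_fibre_bc H'' hconn'' τ
  have hp : ∀ a (t : (U s ⊓ U'' s).toScheme),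
      InFib ((Over.pullback τ).map h) (bcGa τ (u a)) t ↔ InFib h (u a) s := fun a t =>
    (inFib_bc_iff (u a) τ t).trans (hUc s (τ t) t.2.1 a)
  have hp'' : ∀ a (t : (U s ⊓ U'' s).toScheme),
      InFib ((Over.pullback τ).map h'') (bcGa τ (u a)) t ↔ InFib h'' (u a) s := fun a t =>
    (inFib_bc_iff (u a) τ t).trans (hUc'' s (τ t) t.2.2 a)
  refine (F.bc τ).exists_le_const hopp hc1 e1 (fun a => ?_) _ (bcHom' τ c'') e2 fun a ha => ?_
  · by_cases h0 : InFib h (u a) s
    · exact Or.inl fun t => (hp a t).2 h0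
    · exact Or.inr fun t ht => h0 ((hp a t).1 ht)
  · refine (F.bc τ).fac_of_const hopp hc2 e2 (fun b => ?_) fun t => ?_
    · by_cases h0 : InFib h'' (u b) s
      · exact Or.inl fun t => (hp'' b t).2 h0
      · exact Or.inr fun t ht => h0 ((hp'' b t).1 ht)
    · exact (hp'' a t).2 (hle a s ((hp a t).1 (ha t)))

end Groth.Agent.RootBase
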