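import Groth.Agent.RootBase.TypeREq

/-!
# Subgroups of type (R) are determined by their Lie algebras
-/

set_option autoImplicit false
set_option backward.isDefEq.respectTransparency false
set_option linter.style.haveILetI false
set_option maxHeartbeats 1000000
set_option synthInstance.maxHeartbeats 400000

universe u

open CategoryTheory Limits MonoidalCategory CartesianMonoidalCategory MonObj GrpObj AlgebraicGeometry LieS
open scoped CategoryTheory.Obj

noncomputable section

namespace Groth.Agent.RootBase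

open Groth.Agent.HomDiag Groth.Agent.DynPar Groth.Agent.RootSys Groth.Agent.MTBridge

variable {S S' : Scheme.{u}} {G H H' : Over S} [GrpObj G] [GrpObj H] [GrpObj H']

/-- Inclusion of the tangent vectors is compatible with base change. -/
theorem lie_le_bc (j : S' ⟶ S) (h : H ⟶ G) (h' : H' ⟶ G) [IsMonHom h] [IsMonHom h'] [Mono h']
    [IsMonHom ((Over.pullback j).map h)] [IsMonHom ((Over.pullback j).map h')]
    (hle : ∀ (B : Type u) [CommRing B] (f : Spec (CommRingCat.of B) ⟶ S),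
      (LieS.map B f h).range ≤ (LieS.map B f h').range)
    (B : Type u) [CommRing B] (g : Spec (CommRingCat.of B) ⟶ S') :
    (LieS.map B g ((Over.pullback j).map h)).range ≤ (LieS.map B g ((Over.pullback j).map h')).range := by
  rintro _ ⟨v, rfl⟩
  let i : dpt B (g ≫ j) ⟶ (Over.map j).obj (dpt B g) :=
    Over.homMk (𝟙 _) (by simp [LieS.dpt])
  let i' : (Over.map j).obj (dpt B g) ⟶ dpt B (g ≫ j) :=
    Over.homMk (𝟙 _) (by simp [LieS.dpt])
  let z : pt B (g ≫ j) ⟶ (Over.map j).obj (pt B g) := Over.homMk (𝟙 _) (by simp)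
  let z' : (Over.map j).obj (pt B g) ⟶ pt B (g ≫ j) := Over.homMk (𝟙 _) (by simp)
  have hii : i' ≫ i = 𝟙 _ := Over.OverMorphism.ext (Category.id_comp _)
  have hz1 : zeroSec B (g ≫ j) ≫ i = z ≫ (Over.map j).map (zeroSec B g) := by
    refine Over.OverMorphism.ext ?_
    simp [i, z, LieS.zeroSec]
  have hz2 : (Over.map j).map (zeroSec B g) ≫ i' = z' ≫ zeroSec B (g ≫ j) := by
    refine Over.OverMorphism.ext ?_
    simp [i', z', LieS.zeroSec]
  let v₁ : (Over.map j).obj (dpt B g) ⟶ H := ((Over.mapPullbackAdj j).homEquiv _ _).symm v.1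
  have hv₁ : (Over.map j).map (zeroSec B g) ≫ v₁ = 1 := by
    apply ((Over.mapPullbackAdj j).homEquiv _ _).injective
    rw [(Over.mapPullbackAdj j).homEquiv_naturality_left, Equiv.apply_symm_apply]
    exact ((mem_Lie_iff _ B g v.1).1 v.2).trans (toBC_one' j).symm
  let w : Lie H B (g ≫ j) := ⟨i ≫ v₁, (mem_Lie_iff H B (g ≫ j) _).2 (by
    rw [reassoc_of% hz1, hv₁, MonObj.comp_one])⟩
  obtain ⟨y, hy⟩ := hle B (g ≫ j) ⟨w, rfl⟩
  have hy' : y.1 ≫ h' = (i ≫ v₁) ≫ h := congrArg Subtype.val hy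
  have e : toBC j (i' ≫ y.1) ≫ (Over.pullback j).map h' = v.1 ≫ (Over.pullback j).map h := by
    rw [← toBC_comp, Category.assoc, hy', Category.assoc, reassoc_of% hii, toBC_comp]
    exact congrArg (· ≫ _) (Equiv.apply_symm_apply _ _)
  have hmem : toBC j (i' ≫ y.1) ∈ Lie (Red.bc j H') B g := by
    have hy0 : zeroSec B (g ≫ j) ≫ y.1 = 1 := (mem_Lie_iff _ B _ _).1 y.2
    rw [mem_Lie_iff]
    refine ((Over.mapPullbackAdj j).homEquiv_naturality_left _ _).symm.trans ?_
    rw [reassoc_of% hz2, hy0, MonObj.comp_one]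
    exact toBC_one' j
  exact ⟨⟨_, hmem⟩, Subtype.ext e⟩

variable {T : Over S} [GrpObj T]

set_option maxHeartbeats 2000000 in
/-- **Inclusion of Lie algebras gives inclusion of fibres.** -/
theorem fibreLe_of_lie (hG : Red.IsReductive G) (i : T ⟶ G) (hT : Red.IsMaximalTorus i) (h : H ⟶ G) (h' : H' ⟶ G)
    [IsMonHom h] [IsMonHom h'] (hH : RedSub.IsTypeR h) (hH' : RedSub.IsTypeR h') (t : T ⟶ H) (t' : T ⟶ H')
    (ht : t ≫ h = i) (ht' : t' ≫ h' = i)
    (hle : ∀ (B : Type u) [CommRing B] (f : Spec (CommRingCat.of B) ⟶ S),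
      (LieS.map B f h).range ≤ (LieS.map B f h').range) (s : S) : FibreLe h h' s := by
  obtain ⟨U, f, hf, ⟨x₀, hx₀⟩, D, hD⟩ := exists_local_data hG i hT s
  haveI := hf
  haveI : IsImmersion h'.left := hH'.1.2
  haveI : Mono h' := Over.mono_of_mono_left h'
  obtain ⟨hUH, tU, htU⟩ := hD h hH t ht
  obtain ⟨hUH', tU', htU'⟩ := hD h' hH' t' ht'
  haveI := isMonHom_map' f h
  haveI := isMonHom_map' f h'
  have hleU := fun (B : Type u) (_ : CommRing B) (g : Spec (CommRingCat.of B) ⟶ U) => lie_le_bc f h h' hle B g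
  suffices hpat : ∀ a (x : U), InFib ((Over.pullback f).map h) (D.u a) x →
      InFib ((Over.pullback f).map h') (D.u a) x by
    obtain ⟨k, hk⟩ := exists_le_split D _ hUH tU htU _ hUH' tU' htU' hpat
    rw [← hx₀]
    exact (fibreLe_bc_iff f x₀).1 (fibreLe_of_fac hk x₀)
  intro a x hx
  letI := D.grpT
  letI := D.acgM
  letI := D.fintypeIdx
  letI := D.finiteM
  letI := D.freeM
  have F := frame_of_splitRed D
  obtain ⟨⟨a1, a2⟩, a3, -, hconn, -⟩ := hUH
  obtain ⟨⟨b1, b2⟩, b3, -, hconn', -⟩ := hUH'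
  haveI := a2; haveI := a3; haveI := b2; haveI := b3
  haveI : Mono ((Over.pullback f).map h') := Over.mono_of_mono_left _
  obtain ⟨a4, hcH⟩ := cH_hcH D _ tU htU
  obtain ⟨b4, hcH'⟩ := cH_hcH D _ tU' htU'
  haveI := a4; haveI := b4
  let τ := Red.geomPt x
  let K := AlgebraicClosure (U.residueField x)
  obtain ⟨c1, c2, c3, c4, c5, c6⟩ := sub_fibre F.hG ((Over.pullback f).map h) hconn x
  obtain ⟨-, d2, d3, d4, d5, d6⟩ := sub_fibre F.hG ((Over.pullback f).map h') hconn' x
  haveI := c1; haveI := c2; haveI := c3; haveI := c4; haveI := c5; haveI := c6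
  haveI := d2; haveI := d3; haveI := d4; haveI := d5; haveI := d6
  haveI := F.hc.1
  have FK := F.bc τ
  haveI : IsMonHom (bcHom' τ (D.split.inv.hom.hom ≫ D.i)) := isMonHom_bcHom' τ _
  haveI : IsMonHom (bcHom' τ (D.split.inv.hom.hom ≫ tU)) := isMonHom_bcHom' τ _
  haveI : IsMonHom (bcHom' τ (D.split.inv.hom.hom ≫ tU')) := isMonHom_bcHom' τ _
  have e1 : bcHom' τ (D.split.inv.hom.hom ≫ tU) ≫ (Over.pullback τ).map ((Over.pullback f).map h) =
      bcHom' τ (D.split.inv.hom.hom ≫ D.i) := by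
    rw [bcHom', bcHom', Category.assoc, ← Functor.map_comp, hcH]
  have e2 : bcHom' τ (D.split.inv.hom.hom ≫ tU') ≫ (Over.pullback τ).map ((Over.pullback f).map h') =
      bcHom' τ (D.split.inv.hom.hom ≫ D.i) := by
    rw [bcHom', bcHom', Category.assoc, ← Functor.map_comp, hcH']
  obtain ⟨v, hv, hv1⟩ := FK.weight_of_fac e1 ((F.inFib_iff hconn hcH a x).1 hx)
  obtain ⟨v', hv'⟩ := lie_le_bc τ ((Over.pullback f).map h) ((Over.pullback f).map h')
    (fun B _ g => hleU B inferInstance g) K (fk K) ⟨v, rfl⟩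
  haveI : Mono ((Over.pullback τ).map ((Over.pullback f).map h)) := Over.mono_of_mono_left _
  haveI : Mono ((Over.pullback τ).map ((Over.pullback f).map h')) := Over.mono_of_mono_left _
  have hvG := hv.map (bcHom' τ (D.split.inv.hom.hom ≫ D.i)) e1
  rw [← hv'] at hvG
  refine (F.inFib_iff hconn' hcH' a x).2 (FK.fac_of_weight e2 (IsWt.of_map e2 hvG) fun h0 => hv1 ?_)
  rw [h0, map_one] at hv'
  exact RootSys.map_injective _ (hv'.symm.trans (map_one _).symm)

end Groth.Agent.RootBase
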