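import Groth.Agent.RootBase.TypeRCell
import Groth.Agent.RootBase.UPsi
import Groth.Agent.MTImage.CartanFamily
import Groth.Agent.MTBridge.ActTrivGeo
import Groth.Agent.S0351

/-!
# The fibres in which a root group lies in a subgroup
-/

set_option autoImplicit false
set_option backward.isDefEq.respectTransparency false
set_option linter.style.haveILetI false
set_option maxHeartbeats 1000000
set_option synthInstance.maxHeartbeats 400000

universe u

open CategoryTheory Limits MonoidalCategory CartesianMonoidalCategory MonObj GrpObj AlgebraicGeometry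
open scoped CategoryTheory.Obj

noncomputable section

namespace Groth.Agent.RootBase

open Groth.Agent.HomDiag Groth.Agent.DynPar Groth.Agent.RootSys Groth.Agent.MTBridge

variable {S : Scheme.{u}}

/-- The geometric point of a point as a test object. -/
abbrev GP (s : S) : Over S :=
  (Over.map (Red.geomPt s)).obj (𝟙_ (Over (Spec (CommRingCat.of (AlgebraicClosure (S.residueField s))))))

theorem GP_range {X : Over S} {s : S} (x : GP s ⟶ X) (o : (GP s).left) : X.hom (x.left o) = s := by
  rw [← Scheme.Hom.comp_apply, Over.w x]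
  show (𝟙 _ ≫ Red.geomPt s) o = s
  rw [Category.id_comp, Subsingleton.elim (α := ↥(Spec (CommRingCat.of (AlgebraicClosure (S.residueField s))))) o
    (IsLocalRing.closedPoint _), MTImage.geomPt_closedPoint]

instance (s : S) : Nonempty (GP s).left :=
  ⟨(IsLocalRing.closedPoint (AlgebraicClosure (S.residueField s)) :
    ↥(Spec (CommRingCat.of (AlgebraicClosure (S.residueField s)))))⟩

/-- Open sets meeting a fibre contain geometric points of that fibre. -/
theorem exists_GP_of_mem {X : Over S} [LocallyOfFiniteType X.hom] (O : X.left.Opens) {q : X.left} (hq : q ∈ O)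
    {s : S} (hs : X.hom q = s) : ∃ p : GP s ⟶ X, ∀ o, p.left o ∈ O := by
  let K := AlgebraicClosure (S.residueField s)
  let τ := Red.geomPt s
  haveI : LocallyOfFiniteType (Red.bc τ X).hom := inferInstanceAs (LocallyOfFiniteType (pullback.snd X.hom τ))
  haveI : JacobsonSpace (Red.bc τ X).left := LocallyOfFiniteType.jacobsonSpace (Red.bc τ X).hom
  obtain ⟨z, hz, -⟩ := Scheme.Pullback.exists_preimage_pullback (f := X.hom) (g := τ) q
    (IsLocalRing.closedPoint K) (by rw [hs, MTImage.geomPt_closedPoint])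
  let O' : Set ↥(Red.bc τ X).left := (pullback.fst X.hom τ) ⁻¹' (O : Set X.left)
  have hO' : IsOpen O' := O.2.preimage (pullback.fst X.hom τ).continuous
  obtain ⟨c, hc, hcc⟩ := nonempty_inter_closedPoints (Z := O')
    ⟨z, show pullback.fst X.hom τ z ∈ O by rw [hz]; exact hq⟩ hO'.isLocallyClosed
  let p : 𝟙_ (Over (Spec (CommRingCat.of K))) ⟶ Red.bc τ X :=
    Over.homMk (pointOfClosedPoint (Red.bc τ X).hom c hcc) (pointOfClosedPoint_comp _ _ _)
  refine ⟨fromBC τ p, fun o => ?_⟩
  have h1 : (fromBC τ p).left = p.left ≫ pullback.fst X.hom τ := by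
    simp [fromBC, Adjunction.homEquiv_counit]
  rw [h1, Scheme.Hom.comp_apply]
  show pullback.fst X.hom τ (pointOfClosedPoint (Red.bc τ X).hom c hcc o) ∈ O
  rw [pointOfClosedPoint_apply]
  exact hc

/-- The locus of non-vanishing of a function on a point of the additive group. -/
theorem gaPt_mem_basicOpen_iff {s : S} (x : GP s ⟶ Red.Ga S) :
    x ≠ 1 ↔ ∀ o, x.left o ∈ (Red.Ga S).left.basicOpen (Red.gaFn (𝟙 (Red.Ga S))) := by
  let K := AlgebraicClosure (S.residueField s)
  let e := Scheme.ΓSpecIso (CommRingCat.of K)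
  have h1 : x.left ⁻¹ᵁ (Red.Ga S).left.basicOpen (Red.gaFn (𝟙 (Red.Ga S))) = (GP s).left.basicOpen (Red.gaFn x) := by
    rw [Scheme.preimage_basicOpen_top, ← BGaNotS.gaFn_comp, Category.comp_id]
  constructor
  · intro hx o
    show o ∈ x.left ⁻¹ᵁ (Red.Ga S).left.basicOpen (Red.gaFn (𝟙 (Red.Ga S)))
    rw [h1]
    have hu : IsUnit (Red.gaFn x) := by
      have hne : e.hom (Red.gaFn x : Γ(Spec (CommRingCat.of K), ⊤)) ≠ 0 := fun h0 => hx (BGaNotS.gaPt_ext (by
        rw [BGaNotS.gaFn_one]
        exact (ConcreteCategory.bijective_of_isIso e.hom).1 (h0.trans (map_zero e.hom.hom).symm)))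
      have h2 := (isUnit_iff_ne_zero.2 hne).map e.inv.hom
      change IsUnit (e.inv (e.hom _)) at h2
      rwa [show e.inv (e.hom (Red.gaFn x : Γ(Spec (CommRingCat.of K), ⊤))) = _ from
        ConcreteCategory.congr_hom e.hom_inv_id _] at h2
    rw [Scheme.basicOpen_of_isUnit _ hu]
    trivial
  · intro h hx
    obtain ⟨o⟩ : Nonempty (GP s).left := inferInstance
    have h2 : o ∈ x.left ⁻¹ᵁ (Red.Ga S).left.basicOpen (Red.gaFn (𝟙 (Red.Ga S))) := h o
    rw [h1, hx, BGaNotS.gaFn_one, Scheme.basicOpen_zero] at h2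
    exact h2

variable {G H : Over S} [GrpObj G] [GrpObj H]

/-- The fibres in which a root group meets a subgroup outside the unit. -/
def InFib (h : H ⟶ G) (v : Red.Ga S ⟶ G) (s : S) : Prop :=
  ∃ (x : GP s ⟶ Red.Ga S) (w : GP s ⟶ H), x ≫ v = w ≫ h ∧ x ≠ 1

variable {M : Type} [AddCommGroup M] [Module.Free ℤ M] [Module.Finite ℤ M] {c : Red.DS S M ⟶ G} {idx : Type}
  [Fintype idx] {root : idx → M} {u : idx → (Red.Ga S ⟶ G)} {h : H ⟶ G} [IsMonHom h] [IsImmersion h.left]
  [Smooth H.hom] {cH : Red.DS S M ⟶ H}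

/-- The geometric fibres of a subgroup with connected fibres. -/
theorem sub_fibre (hG : Red.IsReductive G) (h : H ⟶ G) [IsMonHom h] [IsImmersion h.left] [Smooth H.hom]
    (hconn : RedSub.HasConnectedFibres H) (s : S) :
    IsAffine (Red.bc (Red.geomPt s) G).left ∧ IsMonHom ((Over.pullback (Red.geomPt s)).map h) ∧
      IsClosedImmersion ((Over.pullback (Red.geomPt s)).map h).left ∧ IsAffine (Red.bc (Red.geomPt s) H).left ∧
      Smooth (Red.bc (Red.geomPt s) H).hom ∧ ConnectedSpace (Red.bc (Red.geomPt s) H).left := by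
  let τ := Red.geomPt s
  haveI : IsAffine (Red.bc τ G).left := (hG.2.2 s).1
  haveI := isMonHom_map' τ h
  haveI : IsImmersion ((Over.pullback τ).map h).left :=
    MorphismProperty.overPullbackMap (P := @IsImmersion) τ h inferInstance
  haveI : IsClosedImmersion ((Over.pullback τ).map h).left :=
    Groth.Agent.S0351.result _ _ _ ((Over.pullback τ).map h)
  haveI : IsAffine (Red.bc τ H).left := isAffine_of_isAffineHom ((Over.pullback τ).map h).left
  exact ⟨inferInstance, inferInstance, inferInstance, inferInstance,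
    inferInstanceAs (Smooth (pullback.snd H.hom τ)), MTImage.connectedSpace_bc_pt H hconn τ⟩

/-- **In such a fibre the whole root group lies in the subgroup.** -/
theorem Frame.inFib_iff (F : Frame c root u) (hconn : RedSub.HasConnectedFibres H) [IsMonHom cH] (hcH : cH ≫ h = c)
    (a : idx) (s : S) :
    InFib h (u a) s ↔ ∃ w, w ≫ (Over.pullback (Red.geomPt s)).map h = bcGa (Red.geomPt s) (u a) := by
  let τ := Red.geomPt s
  obtain ⟨i1, i2, i3, i4, i5, i6⟩ := sub_fibre F.hG h hconn s
  haveI := i1; haveI := i2; haveI := i3; haveI := i4; haveI := i5; haveI := i6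
  have FK := F.bc τ
  haveI := F.hc.1
  haveI : IsMonHom (bcHom' τ c) := isMonHom_bcHom' τ c
  haveI : IsMonHom (bcHom' τ cH) := isMonHom_bcHom' τ cH
  have hcK : bcHom' τ cH ≫ (Over.pullback τ).map h = bcHom' τ c := by
    rw [bcHom', Category.assoc, ← Functor.map_comp, hcH]
    rfl
  haveI : IsMonHom (u a) := (F.hu a).1
  constructor
  · rintro ⟨x, w, hxw, hx⟩
    let y : 𝟙_ (Over (Spec (CommRingCat.of (AlgebraicClosure (S.residueField s))))) ⟶ Red.Ga _ :=
      BGaNotS.gaPt (W := 𝟙_ _) (Red.gaFn x :)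
    have hy : (Over.map τ).map y ≫ gaPush τ = x := BGaNotS.gaPt_ext (by
      rw [gaFn_gaPush]; exact BGaNotS.gaFn_gaPt _)
    have h1 : y ≫ bcGa τ (u a) = toBC τ w ≫ (Over.pullback τ).map h := by
      rw [bcGa_eq, hy, hxw, toBC_comp]
    have hy1 : y ≠ 1 := fun e => hx (BGaNotS.gaPt_ext (by
      rw [← hy, gaFn_gaPush, e, BGaNotS.gaFn_one, BGaNotS.gaFn_one]))
    obtain ⟨r1, r2⟩ := ga_field (AlgebraicClosure (S.residueField s))
    haveI := r1; haveI := r2
    exact fac_of_point ((Over.pullback τ).map h) hcK (F.ne a) (FK.hu a) h1 hy1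
  · rintro ⟨w, hw⟩
    let y : 𝟙_ (Over (Spec (CommRingCat.of (AlgebraicClosure (S.residueField s))))) ⟶ Red.Ga _ :=
      BGaNotS.gaPt 1
    refine ⟨(Over.map τ).map y ≫ gaPush τ, fromBC τ (y ≫ w), ?_, fun e => ?_⟩
    · apply ((Over.mapPullbackAdj τ).homEquiv _ _).injective
      show toBC τ _ = toBC τ _
      rw [← bcGa_eq, toBC_comp, ← hw, ← Category.assoc]
      congr 1
      exact (Equiv.apply_symm_apply _ _).symm
    · have h1 := congrArg Red.gaFn e
      rw [gaFn_gaPush, BGaNotS.gaFn_gaPt, BGaNotS.gaFn_one] at h1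
      have h2 := congrArg (Scheme.ΓSpecIso (CommRingCat.of (AlgebraicClosure (S.residueField s)))).hom h1
      rw [map_one, map_zero] at h2
      exact one_ne_zero h2

/-- **The locus where a root group lies in the subgroup is closed.** -/
theorem Frame.isClosed_inFib (F : Frame c root u) (hconn : RedSub.HasConnectedFibres H) [IsMonHom cH]
    (hcH : cH ≫ h = c) (a : idx) : IsClosed {s : S | InFib h (u a) s} := by
  haveI := (F.hu a).1
  haveI := smooth_Ga S
  let p := (Red.Ga S).hom
  let L : Set (Red.Ga S).left := Set.range (pullback.fst (u a).left h.left)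
  haveI : IsImmersion (pullback.fst (u a).left h.left) :=
    MorphismProperty.pullback_fst (P := @IsImmersion) _ _ inferInstance
  have hL : IsLocallyClosed L := (pullback.fst (u a).left h.left).isLocallyClosed_range
  let D := (Red.Ga S).left.basicOpen (Red.gaFn (𝟙 (Red.Ga S)))
  have hwhole : ∀ t, InFib h (u a) t → (p : (Red.Ga S).left → S) ⁻¹' {t} ⊆ L := by
    intro t ht q hq
    let τ := Red.geomPt t
    obtain ⟨w, hw⟩ := (F.inFib_iff hconn hcH a t).1 ht
    haveI := isIso_gaBC (S := S) τ
    have hw' : (inv (gaBC τ) ≫ w) ≫ (Over.pullback τ).map h = (Over.pullback τ).map (u a) := by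
      rw [Category.assoc, hw, bcGa, IsIso.inv_hom_id_assoc]
    have h2 := congrArg (fun f => f.left ≫ pullback.fst G.hom τ) hw'
    simp [Over.pullback] at h2
    obtain ⟨z, hz, -⟩ := Scheme.Pullback.exists_preimage_pullback (f := (Red.Ga S).hom) (g := τ) q
      (IsLocalRing.closedPoint _) (by rw [MTImage.geomPt_closedPoint]; exact hq)
    let m : (Red.bc τ (Red.Ga S)).left ⟶ pullback (u a).left h.left :=
      pullback.lift (pullback.fst _ _) ((inv (gaBC τ) ≫ w).left ≫ pullback.fst H.hom τ) (by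
        simpa [Category.assoc] using h2.symm)
    refine ⟨m z, ?_⟩
    rw [← Scheme.Hom.comp_apply, pullback.lift_fst]
    exact hz
  refine isClosed_of_closure_subset fun s hs => ?_
  obtain ⟨O, hO, hOL⟩ : ∃ O : (Red.Ga S).left.Opens, (O : Set (Red.Ga S).left) = coborder L ∧
      (O : Set (Red.Ga S).left) ∩ closure L = L := ⟨⟨coborder L, hL.isOpen_coborder⟩, rfl, coborder_inter_closure⟩
  -- the fibre of the point lies in the closure
  have hfib : (p : (Red.Ga S).left → S) ⁻¹' {s} ⊆ closure L := by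
    have hopen : IsOpenMap p := p.isOpenMap
    intro q hq
    have : q ∈ closure ((p : (Red.Ga S).left → S) ⁻¹' {t | InFib h (u a) t}) := by
      rw [← hopen.preimage_closure_eq_closure_preimage p.continuous]
      show p q ∈ closure {t | InFib h (u a) t}
      rw [show p q = s from hq]
      exact hs
    exact closure_mono (fun r hr => hwhole _ hr rfl) this
  -- the unit and a non-zero point lie in the two open sets
  let τ := Red.geomPt s
  let K := AlgebraicClosure (S.residueField s)
  have hone : ∀ o, (1 : GP s ⟶ Red.Ga S).left o ∈ O := fun o => by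
    have h1 : (1 : GP s ⟶ Red.Ga S).left o ∈ L := by
      refine ⟨(pullback.lift (1 : GP s ⟶ Red.Ga S).left (1 : GP s ⟶ H).left (by
        rw [← Over.comp_left, ← Over.comp_left, MonObj.one_comp, MonObj.one_comp]) : _ ⟶ _) o, ?_⟩
      rw [← Scheme.Hom.comp_apply, pullback.lift_fst]
    rw [← SetLike.mem_coe, hO]
    exact subset_coborder h1
  let x₁ : GP s ⟶ Red.Ga S := BGaNotS.gaPt 1
  have hx₁ : x₁ ≠ 1 := fun e => by
    have h1 := congrArg Red.gaFn e
    rw [BGaNotS.gaFn_gaPt, BGaNotS.gaFn_one] at h1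
    have h2 := congrArg (Scheme.ΓSpecIso (CommRingCat.of K)).hom h1
    rw [map_one, map_zero] at h2
    exact one_ne_zero h2
  have hD : ∀ o, x₁.left o ∈ D := (gaPt_mem_basicOpen_iff x₁).1 hx₁
  -- the geometric fibre is irreducible
  obtain ⟨r1, r2⟩ := ga_field K
  haveI := r1; haveI := r2
  haveI := RedR1.smooth_ga K
  haveI := RedR1.connectedSpace_ga K
  haveI : IsIso (gaBC (S := S) τ) := isIso_gaBC τ
  haveI : IsAffine Red.GaZ.left := isAffine_Spec _
  haveI : IsAffineHom (Red.Ga (Spec (CommRingCat.of K))).hom :=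
    MorphismProperty.pullback_snd (P := @IsAffineHom) Red.GaZ.hom _ (isAffineHom_of_isAffine _)
  haveI : IsAffine (Red.Ga (Spec (CommRingCat.of K))).left :=
    isAffine_of_isAffineHom (Red.Ga (Spec (CommRingCat.of K))).hom
  haveI : IsIntegral (Red.Ga (Spec (CommRingCat.of K))).left :=
    RGDev.isIntegral_of_smooth_connected (Red.Ga (Spec (CommRingCat.of K))).hom
  let π : (Red.Ga (Spec (CommRingCat.of K))).left ⟶ (Red.Ga S).left :=
    (gaBC (S := S) τ).left ≫ pullback.fst (Red.Ga S).hom τ
  let o₀ : (GP s).left := (IsLocalRing.closedPoint K : ↥(Spec (CommRingCat.of K)))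
  have hπ : ∀ x : GP s ⟶ Red.Ga S, ∃ y, x.left o₀ = π y := fun x => by
    refine ⟨(toBC τ x ≫ inv (gaBC (S := S) τ)).left o₀, ?_⟩
    have : (toBC τ x ≫ inv (gaBC (S := S) τ)).left ≫ π = x.left := by
      rw [← Category.assoc, ← Over.comp_left, Category.assoc, IsIso.inv_hom_id, Category.comp_id]
      conv_rhs => rw [← show fromBC τ (toBC τ x) = x from Equiv.symm_apply_apply _ _]
      generalize toBC τ x = z
      simp [fromBC, Adjunction.homEquiv_counit]
    rw [← Scheme.Hom.comp_apply, this]
    rfl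
  obtain ⟨y₁, hy₁⟩ := hπ x₁
  obtain ⟨y₀, hy₀⟩ := hπ 1
  obtain ⟨y, hyO, hyD⟩ := nonempty_preirreducible_inter (O.2.preimage π.continuous) (D.2.preimage π.continuous)
    ⟨y₀, show π y₀ ∈ O by rw [← hy₀]; exact hone _⟩ ⟨y₁, show π y₁ ∈ D by rw [← hy₁]; exact hD _⟩
  have hys : p (π y) = s := by
    show (Red.Ga S).hom ((pullback.fst (Red.Ga S).hom τ) ((gaBC (S := S) τ).left y)) = s
    rw [← Scheme.Hom.comp_apply, pullback.condition, Scheme.Hom.comp_apply,
      Subsingleton.elim (α := ↥(Spec (CommRingCat.of K)))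
        ((pullback.snd (Red.Ga S).hom τ) ((gaBC (S := S) τ).left y)) (IsLocalRing.closedPoint _),
      MTImage.geomPt_closedPoint]
  have hyL : π y ∈ L := hOL.le ⟨hyO, hfib hys⟩
  -- a geometric point of the intersection
  let J : Over S := Over.mk (pullback.fst (u a).left h.left ≫ (Red.Ga S).hom)
  let i : J ⟶ Red.Ga S := Over.homMk (pullback.fst (u a).left h.left) rfl
  let wJ : J ⟶ H := Over.homMk (pullback.snd (u a).left h.left) (by
    show pullback.snd _ _ ≫ H.hom = pullback.fst _ _ ≫ (Red.Ga S).hom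
    rw [← Over.w h, ← Category.assoc, ← pullback.condition, Category.assoc, Over.w (u a)])
  haveI : LocallyOfFiniteType i.left := inferInstanceAs (LocallyOfFiniteType (pullback.fst (u a).left h.left))
  haveI : LocallyOfFiniteType J.hom := inferInstanceAs (LocallyOfFiniteType (_ ≫ _))
  obtain ⟨j, hj⟩ := hyL
  obtain ⟨q, hq⟩ := exists_GP_of_mem (X := J) (i.left ⁻¹ᵁ D) (q := j)
    (show i.left j ∈ D by rw [show i.left j = π y from hj]; exact hyD) (s := s) (by
      show (pullback.fst (u a).left h.left ≫ (Red.Ga S).hom) j = s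
      rw [Scheme.Hom.comp_apply, hj]; exact hys)
  exact ⟨q ≫ i, q ≫ wJ, by rw [Category.assoc, Category.assoc, show i ≫ u a = wJ ≫ h from
    Over.OverMorphism.ext pullback.condition], (gaPt_mem_basicOpen_iff _).2 fun o => hq o⟩

end Groth.Agent.RootBase
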