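import Groth.Agent.RootBase.Coef
import Mathlib.Algebra.Polynomial.Laurent

/-!
# Self-maps of the additive group turning a weight into its opposite
-/

set_option autoImplicit false
set_option backward.isDefEq.respectTransparency false
set_option linter.style.haveILetI false
set_option maxHeartbeats 1000000
set_option synthInstance.maxHeartbeats 400000

universe u

open CategoryTheory Limits MonoidalCategory CartesianMonoidalCategory MonObj GrpObj AlgebraicGeometry LieS
open scoped CategoryTheory.Obj LaurentPolynomial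

noncomputable section

namespace Groth.Agent.RootBase

open Groth.Agent.HomDiag Groth.Agent.DynPar

/-- A polynomial `p` with `T ^ k * p (T ^ k * X) = p X` for a positive `k` is zero. -/
theorem poly_eq_zero_of_scale {B : Type*} [CommRing B] (p : Polynomial B) (k : ℕ) (hk : 0 < k)
    (h : (LaurentPolynomial.T (k : ℤ) : (Polynomial B)[T;T⁻¹]) *
        p.eval₂ ((LaurentPolynomial.C).comp (Polynomial.C : B →+* Polynomial B))
          (LaurentPolynomial.C Polynomial.X * LaurentPolynomial.T (k : ℤ)) = LaurentPolynomial.C p) : p = 0 := by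
  rw [Polynomial.eval₂_eq_sum_range, Finset.mul_sum] at h
  have h0 := congr(($h).coeff (0 : ℤ))
  rw [← LaurentPolynomial.single_eq_C p, AddMonoidAlgebra.coeff_single, Finsupp.single_eq_same,
    AddMonoidAlgebra.coeff_sum, Finsupp.finset_sum_apply] at h0
  rw [← h0]
  refine Finset.sum_eq_zero fun n _ => ?_
  rw [RingHom.comp_apply, mul_pow, ← map_pow, LaurentPolynomial.T_pow, ← _root_.mul_assoc (LaurentPolynomial.C _),
    ← map_mul, _root_.mul_left_comm, ← LaurentPolynomial.T_add,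
    ← LaurentPolynomial.single_eq_C_mul_T, AddMonoidAlgebra.coeff_single, Finsupp.single_eq_of_ne]
  intro h1
  have h2 : (0 : ℤ) ≤ (n : ℤ) * (k : ℤ) := by positivity
  omega

variable {S : Scheme.{u}} {M : Type} [AddCommGroup M] [Module.Free ℤ M]

/-- **A self-map of the additive group carrying a weight to its opposite is trivial.** -/
theorem gaEnd_eq_one_of_weight {m : M} (hm : m ≠ 0) (G : Red.Ga S ⟶ Red.Ga S)
    (h : ∀ (X : Over S) (r : X ⟶ Red.DS S M) (x y : X ⟶ Red.Ga S),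
      Red.gaFn y = ch r (Multiplicative.ofAdd m) * Red.gaFn x →
        Red.gaFn (y ≫ G) = ch r (Multiplicative.ofAdd (-m)) * Red.gaFn (x ≫ G)) : G = 1 := by
  classical
  obtain ⟨θ, hθ⟩ := DynPar.exists_hom_pos_of_ne_zero hm
  refine hom_ext_charts _ _ fun i B _ φ q => ?_
  let j : Spec (CommRingCat.of B) ⟶ S := Spec.map (CommRingCat.ofHom φ) ≫ S.affineOpenCover.f i
  let PB := Polynomial B
  let j₁ : Spec (CommRingCat.of PB) ⟶ S := Spec.map (CommRingCat.ofHom (Polynomial.C : B →+* PB)) ≫ j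
  let L := PB[T;T⁻¹]
  let CC : B →+* L := (LaurentPolynomial.C).comp Polynomial.C
  let j₂ : Spec (CommRingCat.of L) ⟶ S := Spec.map (CommRingCat.ofHom CC) ≫ j
  let val : ∀ {A : Type u} [CommRing A] {g : Spec (CommRingCat.of A) ⟶ S}, (pt A g ⟶ Red.Ga S) → A :=
    fun {A} _ {g} z => (Scheme.ΓSpecIso (CommRingCat.of A)).hom (Red.gaFn z)
  have val_inj : ∀ {A : Type u} [CommRing A] {g : Spec (CommRingCat.of A) ⟶ S} {z z' : pt A g ⟶ Red.Ga S},
      val z = val z' → z = z' := fun {A} _ {g} {z z'} e =>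
    BGaNotS.gaPt_ext ((ConcreteCategory.bijective_of_isIso (Scheme.ΓSpecIso (CommRingCat.of A)).hom).1 e)
  have val_comp : ∀ {A A' : Type u} [CommRing A] [CommRing A'] {g : Spec (CommRingCat.of A) ⟶ S}
      {g' : Spec (CommRingCat.of A') ⟶ S} (f : A →+* A') (ρ : pt A' g' ⟶ pt A g)
      (_ : ρ.left = Spec.map (CommRingCat.ofHom f)) (z : pt A g ⟶ Red.Ga S), val (ρ ≫ z) = f (val z) := by
    intro A A' _ _ g g' f ρ hρ z
    show (Scheme.ΓSpecIso (CommRingCat.of A')).hom (Red.gaFn (ρ ≫ z)) = _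
    rw [BGaNotS.gaFn_comp, hρ]
    exact ConcreteCategory.congr_hom (Scheme.ΓSpecIso_naturality (CommRingCat.ofHom f)) (Red.gaFn z)
  let x₀ : pt PB j₁ ⟶ Red.Ga S :=
    BGaNotS.gaPt ((Scheme.ΓSpecIso (CommRingCat.of PB)).inv Polynomial.X)
  have hx₀ : val x₀ = Polynomial.X := by
    show (Scheme.ΓSpecIso (CommRingCat.of PB)).hom (Red.gaFn x₀) = _
    rw [show Red.gaFn x₀ = _ from BGaNotS.gaFn_gaPt _]
    exact ConcreteCategory.congr_hom (Scheme.ΓSpecIso (CommRingCat.of PB)).inv_hom_id _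
  let N : ℕ := (θ m).natAbs
  have hN : (N : ℤ) = θ m := Int.natAbs_of_nonneg hθ.le
  let Y : L := LaurentPolynomial.C Polynomial.X * LaurentPolynomial.T (N : ℤ)
  let ev : PB →+* L := Polynomial.eval₂RingHom CC Y
  let ρ₁ : pt L j₂ ⟶ pt PB j₁ := Over.homMk (Spec.map (CommRingCat.ofHom (LaurentPolynomial.C : PB →+* L))) (by
    show Spec.map _ ≫ Spec.map _ ≫ j = Spec.map _ ≫ j
    rw [← Category.assoc, ← Spec.map_comp]
    rfl)
  let ρ₂ : pt L j₂ ⟶ pt PB j₁ := Over.homMk (Spec.map (CommRingCat.ofHom ev)) (by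
    show Spec.map _ ≫ Spec.map _ ≫ j = Spec.map _ ≫ j
    rw [← Category.assoc, ← Spec.map_comp, ← CommRingCat.ofHom_comp]
    rw [show ev.comp (Polynomial.C : B →+* PB) = CC from RingHom.ext fun b => Polynomial.eval₂_C CC Y])
  let e := Scheme.ΓSpecIso (CommRingCat.of L)
  let V : Lˣ := (LaurentPolynomial.isUnit_T (1 : ℤ) : IsUnit (LaurentPolynomial.T 1 : L)).unit
  let z : pt L j₂ ⟶ Red.Gm S := GmPts.ptOfUnit (Units.map e.inv.hom.toMonoidHom V)
  let r : pt L j₂ ⟶ Red.DS S M := z ≫ Red.DSmap S θ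
  have hV1 : (V : L) = LaurentPolynomial.T 1 := IsUnit.unit_spec _
  have hV : ∀ n : ℤ, ((V ^ n : Lˣ) : L) = LaurentPolynomial.T n := by
    intro n
    induction n using Int.induction_on with
    | zero => rw [zpow_zero, LaurentPolynomial.T_zero]; rfl
    | succ n ih => rw [zpow_add_one, Units.val_mul, ih, hV1, ← LaurentPolynomial.T_add]
    | pred n ih =>
      rw [← (LaurentPolynomial.isUnit_T (1 : ℤ)).mul_left_inj, ← LaurentPolynomial.T_add, sub_add_cancel, ← ih,
        ← hV1, ← Units.val_mul, ← zpow_add_one, sub_add_cancel]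
  have hch : ∀ n : ℤ, e.hom (ch z (Multiplicative.ofAdd n)) = (LaurentPolynomial.T n : L) := by
    intro n
    have h1 : (ch z).toHomUnits (Multiplicative.ofAdd (1 : ℤ)) = Units.map e.inv.hom.toMonoidHom V := Units.ext (by
      rw [MonoidHom.coe_toHomUnits, ← RootIntrinsic.gmFn_eq_ch]
      exact GmPts.gmFn_ptOfUnit _)
    have h2 : (ch z).toHomUnits (Multiplicative.ofAdd n) = Units.map e.inv.hom.toMonoidHom (V ^ n) := by
      rw [map_zpow, ← h1, ← map_zpow (ch z).toHomUnits]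
      congr 1
      exact Multiplicative.toAdd.injective (by simp)
    rw [← MonoidHom.coe_toHomUnits, h2]
    exact (ConcreteCategory.congr_hom e.inv_hom_id _).trans (hV n)
  have hr : ∀ d : M, e.hom (ch r (Multiplicative.ofAdd d)) = (LaurentPolynomial.T (θ d) : L) := fun d => by
    rw [ch_DSmap, toAdd_ofAdd, hch]
  have key := h (pt L j₂) r (ρ₁ ≫ x₀) (ρ₂ ≫ x₀) (by
    refine (ConcreteCategory.bijective_of_isIso e.hom).1 ?_
    rw [map_mul, hr]
    show val (ρ₂ ≫ x₀) = _ * val (ρ₁ ≫ x₀)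
    rw [val_comp ev ρ₂ rfl, val_comp LaurentPolynomial.C ρ₁ rfl, hx₀, Polynomial.coe_eval₂RingHom,
      Polynomial.eval₂_X, ← hN, mul_comm])
  have key' := congrArg e.hom key
  rw [map_mul, hr, map_neg] at key'
  change val (ρ₂ ≫ x₀ ≫ G) = _ * val (ρ₁ ≫ x₀ ≫ G) at key'
  rw [val_comp ev ρ₂ rfl, val_comp LaurentPolynomial.C ρ₁ rfl, ← hN] at key'
  let p : PB := val (x₀ ≫ G)
  have hp : p = 0 := poly_eq_zero_of_scale p N (by omega) (by
    rw [show p.eval₂ CC Y = LaurentPolynomial.T (-(N : ℤ)) * LaurentPolynomial.C p from key', ← _root_.mul_assoc,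
      ← LaurentPolynomial.T_add, add_neg_cancel, LaurentPolynomial.T_zero, _root_.one_mul])
  have h0 : x₀ ≫ G = 1 := val_inj (hp.trans (by
    show (0 : PB) = (Scheme.ΓSpecIso (CommRingCat.of PB)).hom (Red.gaFn (1 : pt PB j₁ ⟶ Red.Ga S))
    rw [BGaNotS.gaFn_one, map_zero]))
  let ev₀ : PB →+* B := Polynomial.eval₂RingHom (RingHom.id B) (val q)
  let ρ : pt B j ⟶ pt PB j₁ := Over.homMk (Spec.map (CommRingCat.ofHom ev₀)) (by
    show Spec.map _ ≫ Spec.map _ ≫ j = j
    rw [← Category.assoc, ← Spec.map_comp, ← CommRingCat.ofHom_comp,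
      show ev₀.comp (Polynomial.C : B →+* PB) = RingHom.id B from RingHom.ext fun b => Polynomial.eval₂_C _ _]
    simp)
  have hq : q = ρ ≫ x₀ := val_inj (by
    rw [val_comp ev₀ ρ rfl, hx₀, Polynomial.coe_eval₂RingHom, Polynomial.eval₂_X])
  rw [hq, Category.assoc, h0, MonObj.comp_one, MonObj.comp_one]

end Groth.Agent.RootBase
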