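import Groth.Agent.RootBase.TypeRPlane
import Groth.Agent.RootBase.Adjoint
import Groth.Agent.RootBase.TypeRWeight
import Groth.Agent.SmoothRed.Scheme

/-!
# The locus of a root group in a subgroup is open; root groups in all fibres lie in the subgroup
-/

set_option autoImplicit false
set_option backward.isDefEq.respectTransparency false
set_option linter.style.haveILetI false
set_option maxHeartbeats 1000000
set_option synthInstance.maxHeartbeats 400000

universe u

open CategoryTheory Limits MonoidalCategory CartesianMonoidalCategory MonObj GrpObj AlgebraicGeometry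
open scoped CategoryTheory.Obj

noncomputable section

namespace Groth.Agent.RootBase

open Groth.Agent.HomDiag Groth.Agent.DynPar Groth.Agent.RootSys Groth.Agent.MTBridge

variable {S : Scheme.{u}}

/-- The inverse of the comparison of additive groups transports points. -/
theorem toBC_rootPt {G : Over S} [GrpObj G] {S' : Scheme.{u}} (τ : S' ⟶ S) {X : Over S'}
    (x : (Over.map τ).obj X ⟶ Red.Ga S) (v : Red.Ga S ⟶ G) :
    haveI := isIso_gaBC (S := S) τ
    toBC τ (x ≫ v) = (toBC τ x ≫ inv (gaBC (S := S) τ)) ≫ bcGa τ v := by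
  haveI := isIso_gaBC (S := S) τ
  rw [toBC_comp, bcGa, Category.assoc, IsIso.inv_hom_id_assoc]

variable {G H : Over S} [GrpObj G] [GrpObj H] {M : Type} [AddCommGroup M] [Module.Free ℤ M] [Module.Finite ℤ M]
  {c : Red.DS S M ⟶ G} {idx : Type} [Fintype idx] {root : idx → M} {u : idx → (Red.Ga S ⟶ G)} {h : H ⟶ G}
  [IsMonHom h] [IsImmersion h.left] [Smooth H.hom] {cH : Red.DS S M ⟶ H} [IsMonHom cH]

/-- In a fibre not containing a root group its coordinate vanishes on the subgroup. -/
theorem Frame.coord_fibre (F : Frame c root u) (hconn : RedSub.HasConnectedFibres H) (hcH : cH ≫ h = c) {a a' : idx}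
    (hopp : root a' = -root a) {s : S} (hs : ¬ InFib h (u a) s) {g : GP s ⟶ H} {x y : GP s ⟶ Red.Ga S}
    {t : GP s ⟶ Red.DS S M} (hg : g ≫ h = (y ≫ u a') * ((t ≫ c) * (x ≫ u a))) : x = 1 := by
  let τ := Red.geomPt s
  obtain ⟨i1, i2, i3, i4, i5, i6⟩ := sub_fibre F.hG h hconn s
  haveI := i1; haveI := i2; haveI := i3; haveI := i4; haveI := i5; haveI := i6
  have FK := F.bc τ
  haveI := F.hc.1
  haveI : IsMonHom (bcHom' τ c) := isMonHom_bcHom' τ c
  haveI : IsMonHom (bcHom' τ cH) := isMonHom_bcHom' τ cH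
  haveI := isIso_gaBC (S := S) τ
  haveI := isIso_ej τ M
  haveI : IsMonHom (gaBC (S := S) τ) := inferInstance
  have hcK : bcHom' τ cH ≫ (Over.pullback τ).map h = bcHom' τ c := by
    rw [bcHom', Category.assoc, ← Functor.map_comp, hcH]
    rfl
  have ht : toBC τ (t ≫ c) = (toBC τ t ≫ inv (ej τ M)) ≫ bcHom' τ c := by
    rw [toBC_comp, bcHom', Category.assoc, IsIso.inv_hom_id_assoc]
  have h1 : toBC τ g ≫ (Over.pullback τ).map h =
      ((toBC τ y ≫ inv (gaBC (S := S) τ)) ≫ bcGa τ (u a')) *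
        (((toBC τ t ≫ inv (ej τ M)) ≫ bcHom' τ c) * ((toBC τ x ≫ inv (gaBC (S := S) τ)) ≫ bcGa τ (u a))) := by
    rw [← toBC_comp, hg, toBC_mul, toBC_mul, toBC_rootPt, toBC_rootPt, ht]
  have h2 := FK.coord_eq_one (h := (Over.pullback τ).map h) hcK hopp
    (fun hw => hs ((F.inFib_iff hconn hcH a s).2 hw)) h1
  have h3 : toBC τ x = 1 := by
    have h4 := congrArg (· ≫ gaBC (S := S) τ) h2
    simp only [Category.assoc, IsIso.inv_hom_id, Category.comp_id, MonObj.one_comp] at h4
    exact h4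
  exact ((Over.mapPullbackAdj τ).homEquiv _ _).injective (h3.trans (toBC_one' τ).symm)

/-- **The locus where a root group lies in the subgroup is open.** -/
theorem Frame.isOpen_inFib (F : Frame c root u) (hconn : RedSub.HasConnectedFibres H) (hcH : cH ≫ h = c) {a a' : idx}
    (hopp : root a' = -root a) : IsOpen {s : S | InFib h (u a) s} := by
  rcases isEmpty_or_nonempty S with hS | hS
  · rw [Set.eq_empty_of_isEmpty {s : S | InFib h (u a) s}]
    exact isOpen_empty
  obtain ⟨K, hK, wK, yc, tc, xc, hw, huni, -⟩ := F.exists_planeCell hcH hopp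
  haveI := hK
  haveI : ∀ b, IsMonHom (u b) := fun b => (F.hu b).1
  haveI := F.hc.1
  let O : K.left.Opens := xc.left ⁻¹ᵁ (Red.Ga S).left.basicOpen (Red.gaFn (𝟙 (Red.Ga S)))
  have himg : {s : S | InFib h (u a) s} = K.hom '' (O : Set K.left) := by
    ext s
    constructor
    · rintro ⟨x, w, hxw, hx⟩
      obtain ⟨k, -, -, -, hkx⟩ := huni (GP s) w 1 1 x (by
        rw [MonObj.one_comp, MonObj.one_comp, _root_.one_mul, _root_.one_mul, hxw])
      obtain ⟨o⟩ : Nonempty (GP s).left := inferInstance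
      refine ⟨k.left o, ?_, GP_range k o⟩
      show xc.left (k.left o) ∈ (Red.Ga S).left.basicOpen (Red.gaFn (𝟙 (Red.Ga S)))
      rw [← Scheme.Hom.comp_apply, ← Over.comp_left, hkx]
      exact (gaPt_mem_basicOpen_iff x).1 hx o
    · rintro ⟨q, hq, rfl⟩
      obtain ⟨p, hp⟩ := exists_GP_of_mem O hq rfl
      by_contra hs
      have h1 := F.coord_fibre hconn hcH hopp hs (g := p ≫ wK) (x := p ≫ xc) (y := p ≫ yc) (t := p ≫ tc) (by
        rw [Category.assoc, hw, MonObj.comp_mul, MonObj.comp_mul]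
        simp only [Category.assoc])
      exact (gaPt_mem_basicOpen_iff (p ≫ xc)).2 (fun o => hp o) h1
  rw [himg]
  exact K.hom.isOpenMap _ O.2

omit [Smooth H.hom] in
/-- Points of the root groups lying in a fibre of the subgroup. -/
theorem exists_lift_root {s : S} {v : Red.Ga S ⟶ G}
    (hs : ∃ w, w ≫ (Over.pullback (Red.geomPt s)).map h = bcGa (Red.geomPt s) v)
    {X : Over (Spec (CommRingCat.of (AlgebraicClosure (S.residueField s))))}
    (x : (Over.map (Red.geomPt s)).obj X ⟶ Red.Ga S) : ∃ g, g ≫ h = x ≫ v := by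
  obtain ⟨w, hw⟩ := hs
  haveI := isIso_gaBC (S := S) (Red.geomPt s)
  refine ⟨fromBC (Red.geomPt s) ((toBC (Red.geomPt s) x ≫ inv (gaBC (S := S) (Red.geomPt s))) ≫ w), ?_⟩
  apply ((Over.mapPullbackAdj (Red.geomPt s)).homEquiv _ _).injective
  show toBC _ _ = toBC _ _
  rw [toBC_rootPt, toBC_comp, show ∀ z, toBC (Red.geomPt s) (fromBC (G := H) (X := X) (Red.geomPt s) z) = z from
    fun z => Equiv.apply_symm_apply _ z, Category.assoc, hw]

/-- Fibrewise bijectivity on points of a morphism. -/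
theorem isIso_map_of_pts {A B : Over S} (f : A ⟶ B) {R : Scheme.{u}} (τ : R ⟶ S)
    (hsur : ∀ b : (Over.map τ).obj (Red.bc τ B) ⟶ B, ∃ a, a ≫ f = b)
    (hinj : ∀ a a' : (Over.map τ).obj (Red.bc τ A) ⟶ A, a ≫ f = a' ≫ f → a = a') :
    IsIso ((Over.pullback τ).map f) := by
  obtain ⟨σ, hσ⟩ := hsur (((Over.mapPullbackAdj τ).homEquiv _ _).symm (𝟙 _))
  let σ' : Red.bc τ B ⟶ Red.bc τ A := toBC τ σ
  have h1 : σ' ≫ (Over.pullback τ).map f = 𝟙 _ := by
    rw [← toBC_comp, hσ]
    exact Equiv.apply_symm_apply _ _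
  refine ⟨σ', ?_, h1⟩
  apply ((Over.mapPullbackAdj τ).homEquiv _ _).symm.injective
  apply hinj
  rw [← (Over.mapPullbackAdj τ).homEquiv_naturality_right_symm, ← (Over.mapPullbackAdj τ).homEquiv_naturality_right_symm,
    Category.assoc, h1, Category.comp_id, Category.id_comp]

set_option maxHeartbeats 2000000 in
/-- **A root group lying in the subgroup in all fibres lies in it.** -/
theorem Frame.fac_of_inFib (F : Frame c root u) (hconn : RedSub.HasConnectedFibres H) (hcH : cH ≫ h = c) {a a' : idx}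
    (hopp : root a' = -root a) (ha : ∀ s : S, InFib h (u a) s)
    (ha' : (∀ s : S, InFib h (u a') s) ∨ ∀ s : S, ¬ InFib h (u a') s) : ∃ v, v ≫ h = u a := by
  rcases isEmpty_or_nonempty S with hS | hS
  · haveI : IsEmpty (Red.Ga S).left := ⟨fun x => hS.false ((Red.Ga S).hom x)⟩
    let v₀ : (Red.Ga S).left ⟶ H.left := (isInitialOfIsEmpty (X := (Red.Ga S).left)).to _
    exact ⟨Over.homMk v₀ ((isInitialOfIsEmpty (X := (Red.Ga S).left)).hom_ext _ _),
      Over.OverMorphism.ext ((isInitialOfIsEmpty (X := (Red.Ga S).left)).hom_ext _ _)⟩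
  obtain ⟨K, hK, wK, yc, tc, xc, hw, huni, hmono⟩ := F.exists_planeCell hcH hopp
  haveI := hK
  haveI : ∀ b, IsMonHom (u b) := fun b => (F.hu b).1
  haveI := F.hc.1
  haveI := smooth_Ga S
  haveI := locallyOfFinitePresentation_of_isMultTypeFT _ (MTBridge.isMultTypeFT_of_isTorus _ F.hc.2.2.1)
  rcases ha' with ha' | ha'
  · haveI : IsIso (lift yc (lift tc xc)) := by
      haveI : LocallyOfFiniteType (Red.Ga S ⊗ (Red.DS S M ⊗ Red.Ga S)).hom := by
        show LocallyOfFiniteType (pullback.fst (Red.Ga S).hom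
          (pullback.fst (Red.DS S M).hom (Red.Ga S).hom ≫ (Red.DS S M).hom) ≫ (Red.Ga S).hom)
        infer_instance
      refine ParNorm.isIso_of_geomPts _ fun s => isIso_map_of_pts _ _ (fun b => ?_) fun k k' hk => ?_
      · obtain ⟨gy, hgy⟩ := exists_lift_root ((F.inFib_iff hconn hcH a' s).1 (ha' s)) (b ≫ fst _ _)
        obtain ⟨gx, hgx⟩ := exists_lift_root ((F.inFib_iff hconn hcH a s).1 (ha s)) (b ≫ snd _ _ ≫ snd _ _)
        obtain ⟨k, -, k1, k2, k3⟩ := huni _ (gy * (((b ≫ snd _ _ ≫ fst _ _) ≫ cH) * gx)) (b ≫ fst _ _)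
          (b ≫ snd _ _ ≫ fst _ _) (b ≫ snd _ _ ≫ snd _ _) (by
            rw [MonObj.mul_comp, MonObj.mul_comp, hgy, hgx, Category.assoc _ cH h, hcH])
        refine ⟨k, CartesianMonoidalCategory.hom_ext _ _ (by rw [Category.assoc, lift_fst, k1])
          (CartesianMonoidalCategory.hom_ext _ _ ?_ ?_)⟩
        · simp only [Category.assoc, lift_snd_assoc, lift_fst, k2]
        · simp only [Category.assoc, lift_snd_assoc, lift_snd, k3]
      · refine hmono _ k k' ?_ ?_ ?_
        · simpa using congrArg (fun f => f ≫ fst _ _) hk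
        · simpa using congrArg (fun f => f ≫ snd _ _ ≫ fst _ _) hk
        · simpa using congrArg (fun f => f ≫ snd _ _ ≫ snd _ _) hk
    let P : Red.Ga S ⟶ Red.Ga S ⊗ (Red.DS S M ⊗ Red.Ga S) := lift 1 (lift 1 (𝟙 _))
    have e0 := IsIso.inv_hom_id (lift yc (lift tc xc))
    have e1 : inv (lift yc (lift tc xc)) ≫ yc = fst _ _ := by simpa using congrArg (fun f => f ≫ fst _ _) e0
    have e2 : inv (lift yc (lift tc xc)) ≫ tc = snd _ _ ≫ fst _ _ := by
      simpa using congrArg (fun f => f ≫ snd _ _ ≫ fst _ _) e0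
    have e3 : inv (lift yc (lift tc xc)) ≫ xc = snd _ _ ≫ snd _ _ := by
      simpa using congrArg (fun f => f ≫ snd _ _ ≫ snd _ _) e0
    refine ⟨P ≫ inv (lift yc (lift tc xc)) ≫ wK, ?_⟩
    rw [Category.assoc, Category.assoc, hw]
    simp only [MonObj.comp_mul, ← Category.assoc]
    simp only [Category.assoc, reassoc_of% e1, reassoc_of% e2, reassoc_of% e3]
    simp only [P, lift_fst_assoc, lift_snd_assoc, MonObj.one_comp, Category.id_comp, _root_.one_mul]
  · -- the opposite root group lies in no fibre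
    have hopp' : root a = -root a' := by rw [hopp, neg_neg]
    have hy1 : ∀ s : S, (Over.pullback (Red.geomPt s)).map yc = 1 := fun s => by
      let τ := Red.geomPt s
      let L := AlgebraicClosure (S.residueField s)
      haveI : Smooth (Red.bc τ K).hom := inferInstanceAs (Smooth (pullback.snd K.hom τ))
      haveI : IsReduced (Red.bc τ K).left := SmoothRed.isReduced_of_smooth_scheme (Red.bc τ K).hom
      haveI : LocallyOfFiniteType (Red.bc τ (Red.Ga S)).hom :=
        inferInstanceAs (LocallyOfFiniteType (pullback.snd (Red.Ga S).hom τ))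
      haveI : IsAffine Red.GaZ.left := isAffine_Spec _
      haveI : IsAffineHom (Red.Ga S).hom :=
        MorphismProperty.pullback_snd (P := @IsAffineHom) Red.GaZ.hom _ (isAffineHom_of_isAffine _)
      haveI : IsSeparated (Red.bc τ (Red.Ga S)).hom :=
        inferInstanceAs (IsSeparated (pullback.snd (Red.Ga S).hom τ))
      haveI : LocallyOfFiniteType (((Over.pullback τ).map yc).left ≫ (Red.bc τ (Red.Ga S)).hom) := by
        rw [Over.w ((Over.pullback τ).map yc)]
        infer_instance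
      refine Over.OverMorphism.ext (ext_of_apply_eq (Red.bc τ (Red.Ga S)).hom Set.univ isClosed_univ.isLocallyClosed
        dense_univ (fun z _ hz => ?_) ((Over.w _).trans (Over.w _).symm))
      let p : 𝟙_ (Over (Spec (CommRingCat.of L))) ⟶ Red.bc τ K :=
        Over.homMk (pointOfClosedPoint (Red.bc τ K).hom z hz) (pointOfClosedPoint_comp _ _ _)
      have h2 : p ≫ (Over.pullback τ).map yc = p ≫ 1 := by
        rw [MonObj.comp_one, ← show toBC τ (fromBC τ p) = p from Equiv.apply_symm_apply _ _, ← toBC_comp]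
        refine Eq.trans ?_ (toBC_one' τ)
        congr 1
        by_contra hne
        obtain ⟨gx, hgx⟩ := exists_lift_root ((F.inFib_iff hconn hcH a s).1 (ha s)) (fromBC τ p ≫ xc)
        refine ha' s ⟨fromBC τ p ≫ yc, (fromBC τ p ≫ wK) * gx⁻¹ * ((fromBC τ p ≫ tc) ≫ cH)⁻¹, ?_, hne⟩
        rw [MonObj.mul_comp, MonObj.mul_comp, GrpObj.inv_comp, GrpObj.inv_comp, hgx, Category.assoc _ cH, hcH,
          Category.assoc _ wK, hw, MonObj.comp_mul, MonObj.comp_mul]
        simp only [Category.assoc]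
        group
      have h3 := congrArg (fun f => f.left (IsLocalRing.closedPoint L)) h2
      simp only [Over.comp_left, Scheme.Hom.comp_apply] at h3
      rwa [show p.left (IsLocalRing.closedPoint L) = z from pointOfClosedPoint_apply _ _ hz _] at h3
    haveI : IsIso (lift tc xc) := by
      haveI : LocallyOfFiniteType (Red.DS S M ⊗ Red.Ga S).hom := by
        show LocallyOfFiniteType (pullback.fst (Red.DS S M).hom (Red.Ga S).hom ≫ (Red.DS S M).hom)
        infer_instance
      refine ParNorm.isIso_of_geomPts _ fun s => isIso_map_of_pts _ _ (fun b => ?_) fun k k' hk => ?_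
      · obtain ⟨gx, hgx⟩ := exists_lift_root ((F.inFib_iff hconn hcH a s).1 (ha s)) (b ≫ snd _ _)
        obtain ⟨k, -, -, k2, k3⟩ := huni _ (((b ≫ fst _ _) ≫ cH) * gx) 1 (b ≫ fst _ _) (b ≫ snd _ _) (by
          rw [MonObj.mul_comp, hgx, Category.assoc _ cH h, hcH, MonObj.one_comp, _root_.one_mul])
        exact ⟨k, CartesianMonoidalCategory.hom_ext _ _ (by rw [Category.assoc, lift_fst, k2])
          (by rw [Category.assoc, lift_snd, k3])⟩
      · have hk1 : ∀ k : (Over.map (Red.geomPt s)).obj (Red.bc (Red.geomPt s) K) ⟶ K, k ≫ yc = 1 := fun k => by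
          apply ((Over.mapPullbackAdj (Red.geomPt s)).homEquiv _ _).injective
          show toBC _ _ = toBC _ _
          rw [toBC_comp, hy1 s, MonObj.comp_one, toBC_one']
        refine hmono _ k k' ((hk1 k).trans (hk1 k').symm) ?_ ?_
        · simpa using congrArg (fun f => f ≫ fst _ _) hk
        · simpa using congrArg (fun f => f ≫ snd _ _) hk
    obtain ⟨σ, e2, e3⟩ : ∃ σ : Red.Ga S ⟶ K, σ ≫ tc = 1 ∧ σ ≫ xc = 𝟙 _ := by
      have h0 := IsIso.inv_hom_id (lift tc xc)
      refine ⟨lift 1 (𝟙 _) ≫ inv (lift tc xc), ?_, ?_⟩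
      · have := congrArg (fun f => (lift (1 : Red.Ga S ⟶ Red.DS S M) (𝟙 _)) ≫ f ≫ fst _ _) h0
        simpa using this
      · have := congrArg (fun f => (lift (1 : Red.Ga S ⟶ Red.DS S M) (𝟙 _)) ≫ f ≫ snd _ _) h0
        simpa using this
    have eG : ∀ {X : Over S} (x : X ⟶ Red.Ga S), (x ≫ σ) ≫ wK ≫ h = ((x ≫ σ ≫ yc) ≫ u a') * (x ≫ u a) := by
      intro X x
      rw [hw, MonObj.comp_mul, MonObj.comp_mul, Category.assoc, Category.assoc, Category.assoc, Category.assoc,
        reassoc_of% e2, reassoc_of% e3, MonObj.one_comp, MonObj.comp_one, _root_.one_mul, Category.assoc]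
    have hG : σ ≫ yc = 1 := gaEnd_eq_one_of_weight (F.ne a) _ fun X r x y hy => by
      obtain ⟨y', hy', hy''⟩ := (F.hu a').2.2 X r (x ≫ σ ≫ yc)
      obtain ⟨x', hx', hx''⟩ := (F.hu a).2.2 X r x
      rw [RootIntrinsic.gmFn_chi] at hy'' hx''
      have hxy : x' = y := BGaNotS.gaPt_ext (hx''.trans hy.symm)
      rw [hxy] at hx'
      obtain ⟨k, -, k1, k2, k3⟩ := huni X ((r ≫ cH) * (x ≫ σ ≫ wK) * (r ≫ cH)⁻¹) y' 1 y (by
        simp only [MonObj.mul_comp, GrpObj.inv_comp, Category.assoc, hcH]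
        rw [← Category.assoc x, eG, MonObj.one_comp, _root_.one_mul, hy', hx']
        group)
      have hk : k = y ≫ σ := by
        rw [← cancel_mono (lift tc xc), comp_lift, comp_lift, k2, k3, Category.assoc, e2, MonObj.comp_one,
          Category.assoc, e3, Category.comp_id]
      rw [hk, Category.assoc] at k1
      rw [k1, hy'', hopp]
    refine ⟨σ ≫ wK, ?_⟩
    have h1 := eG (𝟙 (Red.Ga S))
    rw [Category.id_comp, Category.id_comp, hG, MonObj.one_comp, _root_.one_mul, Category.id_comp] at h1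
    rw [Category.assoc, h1]

end Groth.Agent.RootBase
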