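import Groth.Agent.RootBase.TypeRLocus
import Groth.Agent.MTBridge.FixedLocus

/-!
# The part of a subgroup in the cell of a pair of opposite roots
-/

set_option autoImplicit false
set_option backward.isDefEq.respectTransparency false
set_option linter.style.haveILetI false
set_option maxHeartbeats 1000000
set_option synthInstance.maxHeartbeats 400000

universe u

open CategoryTheory Limits MonoidalCategory CartesianMonoidalCategory MonObj GrpObj AlgebraicGeometry
open scoped CategoryTheory.Obj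

noncomputable section

namespace Groth.Agent.RootBase

open Groth.Agent.HomDiag Groth.Agent.DynPar

variable {S : Scheme.{u}} {G H T : Over S} [GrpObj G] [GrpObj H] [GrpObj T]

/-- The action by conjugation through a homomorphism. -/
def conjThrough (i : T ⟶ H) [IsMonHom i] : AlgGrp.Action T H where
  act := (fst T H ≫ i) * snd T H * (fst T H ≫ i)⁻¹
  one_act := by
    simp only [MonObj.comp_mul, GrpObj.comp_inv, ← Category.assoc, whiskerRight_fst, whiskerRight_snd]
    rw [Category.assoc, IsMonHom.one_hom, show fst (𝟙_ (Over S)) H = toUnit _ from toUnit_unique _ _, ← Hom.one_def,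
      inv_one, _root_.one_mul, _root_.mul_one, ← leftUnitor_hom]
  mul_act := by
    simp only [MonObj.comp_mul, GrpObj.comp_inv, ← Category.assoc, whiskerRight_fst, whiskerRight_snd,
      whiskerLeft_fst, whiskerLeft_snd]
    simp only [Category.assoc, whiskerRight_fst_assoc, whiskerLeft_fst_assoc, whiskerLeft_fst, whiskerLeft_snd,
      MonObj.comp_mul, GrpObj.comp_inv, associator_hom_fst_assoc, associator_hom_snd_fst_assoc, associator_hom_fst,
      associator_hom_snd_snd, associator_hom_snd_fst, MonObj.mul_eq_mul, MonObj.mul_comp]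
    group

theorem lift_conjThrough (i : T ⟶ H) [IsMonHom i] {X : Over S} (g : X ⟶ T) (x : X ⟶ H) :
    lift g x ≫ (conjThrough i).act = (g ≫ i) * x * (g ≫ i)⁻¹ := by
  simp only [conjThrough, MonObj.comp_mul, GrpObj.comp_inv, lift_fst_assoc, lift_snd]

variable {M : Type} [AddCommGroup M] [Module.Free ℤ M] [Module.Finite ℤ M] {c : Red.DS S M ⟶ G} {idx : Type}
  [Fintype idx] {root : idx → M} {u : idx → (Red.Ga S ⟶ G)} {h : H ⟶ G} [IsMonHom h] [IsImmersion h.left]
  [Smooth H.hom] {cH : Red.DS S M ⟶ H} [IsMonHom cH]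

/-- Products of the three coordinates are unique. -/
theorem Frame.exists_plane_coord (F : Frame c root u) {a a' : idx} (hopp : root a' = -root a) :
    ∃ (mu : M →+ ℤ) (p q : ℕ) (en : Fin p → idx) (ep : Fin q → idx) (la' : Fin p) (la : Fin q),
      (∀ b, mu (root b) ≠ 0) ∧ RedSub.Enumerates {b | 0 < mu (root b)} ep ∧
      RedSub.Enumerates {b | 0 < (-mu) (root b)} en ∧ en la' = a' ∧ ep la = a ∧
      ∀ (X : Over S) (y : X ⟶ Red.Ga S) (t : X ⟶ Red.DS S M) (x : X ⟶ Red.Ga S),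
        ∃ (Y : X ⟶ RedSub.pow (Red.Ga S) p) (Z : X ⟶ RedSub.pow (Red.Ga S) q),
          Y ≫ proj S p la' = y ∧ Z ≫ proj S q la = x ∧
          lift Y (lift t Z) ≫ cellC c (fun l => u (en l)) (fun l => u (ep l)) =
            (y ≫ u a') * ((t ≫ c) * (x ≫ u a)) := by
  classical
  obtain ⟨mu, hmu, ha⟩ := F.exists_regular_at a
  obtain ⟨p, en, -, hn⟩ := exists_extend {b | 0 < (-mu) (root b)} (Fin.elim0 : Fin 0 → idx) (fun x => x.elim0)
    fun k => k.elim0
  obtain ⟨q, ep, -, hp⟩ := exists_extend {b | 0 < mu (root b)} (Fin.elim0 : Fin 0 → idx) (fun x => x.elim0)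
    fun k => k.elim0
  obtain ⟨la', hla'⟩ := hn.2.ge (show a' ∈ {b | 0 < (-mu) (root b)} by
    show 0 < (-mu) (root a'); rw [AddMonoidHom.neg_apply, hopp, map_neg]; omega)
  obtain ⟨la, hla⟩ := hp.2.ge (show a ∈ {b | 0 < mu (root b)} from ha)
  refine ⟨mu, _, _, _, _, la', la, hmu, hp, hn, hla', hla, fun X y t x => ?_⟩
  haveI : ∀ b, IsMonHom (u b) := fun b => (F.hu b).1
  obtain ⟨Y, hY⟩ := exists_pow (S := S) (X := X) fun l => if l = la' then y else 1
  obtain ⟨Z, hZ⟩ := exists_pow (S := S) (X := X) fun l => if l = la then x else 1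
  refine ⟨Y, Z, by rw [hY, if_pos rfl], by rw [hZ, if_pos rfl], ?_⟩
  rw [comp_cellC, comp_prodMap_eq, comp_prodMap_eq]
  rw [prod_ofFn_single _ la' (fun j hj => by rw [hY, if_neg hj, MonObj.one_comp]),
    prod_ofFn_single _ la (fun j hj => by rw [hZ, if_neg hj, MonObj.one_comp])]
  rw [hY, if_pos rfl, hZ, if_pos rfl, hla', hla]

set_option maxHeartbeats 2000000 in
/-- **The part of the subgroup in the cell of a pair of opposite roots is smooth.** -/
theorem Frame.exists_planeCell [Nonempty S] (F : Frame c root u) (hcH : cH ≫ h = c) {a a' : idx}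
    (hopp : root a' = -root a) :
    ∃ (K : Over S) (_ : Smooth K.hom) (wK : K ⟶ H) (yc : K ⟶ Red.Ga S) (tc : K ⟶ Red.DS S M) (xc : K ⟶ Red.Ga S),
      wK ≫ h = (yc ≫ u a') * ((tc ≫ c) * (xc ≫ u a)) ∧
      (∀ (X : Over S) (g : X ⟶ H) (y : X ⟶ Red.Ga S) (t : X ⟶ Red.DS S M) (x : X ⟶ Red.Ga S),
        g ≫ h = (y ≫ u a') * ((t ≫ c) * (x ≫ u a)) →
          ∃ k, k ≫ wK = g ∧ k ≫ yc = y ∧ k ≫ tc = t ∧ k ≫ xc = x) ∧
      ∀ (X : Over S) (k k' : X ⟶ K), k ≫ yc = k' ≫ yc → k ≫ tc = k' ≫ tc → k ≫ xc = k' ≫ xc → k = k' := by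
  classical
  haveI := F.hc.1
  haveI := F.hG.1
  haveI : ∀ b, IsMonHom (u b) := fun b => (F.hu b).1
  obtain ⟨n, π, -, hπa, hker⟩ := F.exists_kernel a
  obtain ⟨mu, p, q, en, ep, la', la, hmu, hp, hn, hla', hla, hcoord⟩ := F.exists_plane_coord hopp
  haveI : IsMonHom (Red.DSmap S π) := MTQuot.isMonHom_DSmap π
  haveI : IsSeparated H.hom := by
    rw [← Over.w h]
    infer_instance
  obtain ⟨Z₀, z, hzc, hZs, hzfix⟩ := MTBridge.exists_fixed_locus (Red.DS S (Fin n → ℤ)) H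
    (MTBridge.isMultTypeFT_of_isTorus _ (MTCentre.isTorus_DS_scheme S _)) (conjThrough (Red.DSmap S π ≫ cH))
  haveI := hzc; haveI := hZs
  haveI : Mono z := Over.mono_of_mono_left z
  haveI : Mono h := Over.mono_of_mono_left h
  let j := cellC c (fun l => u (en l)) (fun l => u (ep l))
  haveI ho : IsOpenImmersion j.left := (F.cell mu hmu _ _ _ _ hn hp hn hp).1
  haveI : Mono j := Over.mono_of_mono_left j
  let U : Z₀.left.Opens := (z ≫ h).left ⁻¹ᵁ j.left.opensRange
  let K : Over S := Over.mk (U.ι ≫ Z₀.hom)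
  let i : K ⟶ Z₀ := Over.homMk U.ι rfl
  haveI : IsOpenImmersion i.left := inferInstanceAs (IsOpenImmersion U.ι)
  haveI : Mono i := Over.mono_of_mono_left i
  have hrange : Set.range i.left = ((z ≫ h).left : Z₀.left → G.left) ⁻¹' Set.range j.left := Scheme.Opens.range_ι U
  obtain ⟨θ, hθ⟩ := DynPar.exists_hom_ne_zero (Finset.univ.image fun b => π (root b))
  obtain ⟨ξ, hξ⟩ : ∃ ξ, ξ ≫ j = i ≫ z ≫ h := by
    rw [exists_fac_iff_range, Over.comp_left]
    rintro _ ⟨o, rfl⟩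
    have : i.left o ∈ Set.range i.left := ⟨o, rfl⟩
    rw [hrange] at this
    exact this
  let Y := ξ ≫ fst _ _
  let tc := ξ ≫ snd _ _ ≫ fst _ _
  let X' := ξ ≫ snd _ _ ≫ snd _ _
  have hξ' : lift Y (lift tc X') = ξ := by
    refine CartesianMonoidalCategory.hom_ext _ _ (by simp [Y]) ?_
    refine CartesianMonoidalCategory.hom_ext _ _ (by simp [tc]) (by simp [X'])
  have hiz : i ≫ z ≫ h = (Y ≫ RedSub.prodMap (Red.Ga S) _ fun l => u (en l)) *
      ((tc ≫ c) * (X' ≫ RedSub.prodMap (Red.Ga S) _ fun l => u (ep l))) := by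
    rw [← hξ, ← hξ', comp_cellC]
  obtain ⟨hz0, hz1⟩ := F.eq_one_of_commute en ep ho Y tc X' (θ.comp π) fun W ρ r => by
    rw [hξ']
    show Commute (ρ ≫ ξ ≫ j) _
    rw [hξ, show (r ≫ Red.DSmap S (θ.comp π)) ≫ c = (r ≫ Red.DSmap S θ) ≫ Red.DSmap S π ≫ cH ≫ h by
      rw [hcH, show r ≫ Red.DSmap S (θ.comp π) = (r ≫ Red.DSmap S θ) ≫ Red.DSmap S π from ch_ext fun m => by
        rw [ch_DSmap, ch_DSmap, ch_DSmap, toAdd_ofAdd]; rfl, Category.assoc]]
    have h1 := (hzfix K (i ≫ z)).1 ⟨i, rfl⟩ W ρ (r ≫ Red.DSmap S θ)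
    rw [lift_conjThrough] at h1
    have h2 := congrArg (· ≫ h) (mul_inv_eq_iff_eq_mul.1 h1)
    simp only [MonObj.mul_comp, Category.assoc] at h2
    show _ * _ = _ * _
    simp only [Category.assoc]
    exact h2.symm
  have hk : ∀ b, b ≠ a → b ≠ a' → θ (π (root b)) ≠ 0 := fun b hb hb' =>
    hθ _ (Finset.mem_image_of_mem _ (Finset.mem_univ b)) fun h0 => (hker b h0).elim (fun e => hb (F.inj e))
      fun e => hb' (F.inj (e.trans hopp.symm))
  have ha_pos : 0 < mu (root a) := by rw [← hla]; exact hp.2.subset ⟨la, rfl⟩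
  have hY : Y ≫ RedSub.prodMap (Red.Ga S) _ (fun l => u (en l)) = (Y ≫ proj S _ la') ≫ u a' := by
    rw [comp_prodMap_eq, prod_ofFn_single _ la', hla']
    intro l hl
    rw [hz0 l (hk _ (fun e => by
      have h1 : 0 < (-mu) (root (en l)) := hn.2.subset ⟨l, rfl⟩
      rw [e, AddMonoidHom.neg_apply] at h1; omega) fun e => hl (hn.1 (e.trans hla'.symm))), MonObj.one_comp]
  have hX : X' ≫ RedSub.prodMap (Red.Ga S) _ (fun l => u (ep l)) = (X' ≫ proj S _ la) ≫ u a := by
    rw [comp_prodMap_eq, prod_ofFn_single _ la, hla]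
    intro l hl
    rw [hz1 l (hk _ (fun e => hl (hp.1 (e.trans hla.symm))) fun e => by
      have h1 : 0 < mu (root (ep l)) := hp.2.subset ⟨l, rfl⟩
      rw [e, hopp, map_neg] at h1; omega), MonObj.one_comp]
  have hw : (i ≫ z) ≫ h = ((Y ≫ proj S _ la') ≫ u a') * ((tc ≫ c) * ((X' ≫ proj S _ la) ≫ u a)) := by
    rw [Category.assoc, hiz, hY, hX]
  refine ⟨K, inferInstanceAs (Smooth (U.ι ≫ Z₀.hom)), i ≫ z, Y ≫ proj S _ la', tc, X' ≫ proj S _ la, hw,
    fun X g y t x hg => ?_, fun X k k' h1 h2 h3 => ?_⟩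
  · obtain ⟨Y₁, Z₁, hY₁, hZ₁, hYZ⟩ := hcoord X y t x
    obtain ⟨w, hw'⟩ := (hzfix X g).2 fun W ρ s => by
      rw [lift_conjThrough, mul_inv_eq_iff_eq_mul, ← cancel_mono h, MonObj.mul_comp, MonObj.mul_comp, Category.assoc ρ,
        hg, show (s ≫ Red.DSmap S π ≫ cH) ≫ h = s ≫ Red.DSmap S π ≫ c by rw [Category.assoc, Category.assoc, hcH],
        MonObj.comp_mul, MonObj.comp_mul]
      have hfix : ∀ {b : idx}, π (root b) = 0 → ∀ v : W ⟶ Red.Ga S,
          Commute (v ≫ u b) (s ≫ Red.DSmap S π ≫ c) := fun {b} hb v => by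
        obtain ⟨v', hv, hv'⟩ := (F.hu b).2.2 W (s ≫ Red.DSmap S π) v
        have : v' = v := BGaNotS.gaPt_ext (by
          rw [hv', RootIntrinsic.gmFn_chi, ch_DSmap, toAdd_ofAdd, hb, ofAdd_zero, map_one, _root_.one_mul])
        rw [this, Category.assoc] at hv
        show _ * _ = _ * _
        conv_lhs => rw [hv]
        rw [inv_mul_cancel_right]
      have ht : Commute ((ρ ≫ t) ≫ c) (s ≫ Red.DSmap S π ≫ c) := by
        show _ * _ = _ * _
        rw [← Category.assoc s, ← MonObj.mul_comp, ← MonObj.mul_comp,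
          show (ρ ≫ t) * (s ≫ Red.DSmap S π) = (s ≫ Red.DSmap S π) * (ρ ≫ t) from
            ch_ext fun m => by rw [ch_mul, ch_mul, mul_comm]]
      have h3 := (hfix (b := a') (by rw [hopp, map_neg, hπa, neg_zero]) (ρ ≫ y)).mul_left
        (ht.mul_left (hfix (b := a) hπa (ρ ≫ x)))
      simp only [← Category.assoc] at h3 ⊢
      exact h3.eq.symm
    obtain ⟨k, hk⟩ : ∃ k, k ≫ i = w := by
      rw [exists_fac_iff_range, hrange]
      rintro _ ⟨o, rfl⟩
      have h1 : lift Y₁ (lift t Z₁) ≫ j = w ≫ z ≫ h := by rw [reassoc_of% hw', hYZ, hg]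
      exact ⟨(lift Y₁ (lift t Z₁)).left o, congrArg (fun f => f.left o) h1⟩
    have h1 : k ≫ ξ = lift Y₁ (lift t Z₁) := by
      rw [← cancel_mono j, Category.assoc, hξ, reassoc_of% hk, reassoc_of% hw', hYZ, hg]
    refine ⟨k, by rw [reassoc_of% hk, hw'], ?_, ?_, ?_⟩
    · show k ≫ (ξ ≫ fst _ _) ≫ _ = y
      rw [Category.assoc, reassoc_of% h1, lift_fst_assoc, hY₁]
    · show k ≫ ξ ≫ _ = t
      rw [reassoc_of% h1, lift_snd_assoc, lift_fst]
    · show k ≫ (ξ ≫ snd _ _ ≫ snd _ _) ≫ _ = x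
      simp only [Category.assoc]
      rw [reassoc_of% h1, lift_snd_assoc, lift_snd_assoc, hZ₁]
  · rw [← cancel_mono i, ← cancel_mono z, ← cancel_mono h]
    simp only [Category.assoc] at hw ⊢
    rw [hw]
    simp only [MonObj.comp_mul, ← Category.assoc] at h1 h2 h3 ⊢
    rw [h1, h2, h3]

end Groth.Agent.RootBase
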