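import Groth.Agent.RootBase.Gen
import Mathlib.AlgebraicGeometry.AlgClosed.Basic

/-!
# Rational points and root groups in a subgroup
-/

set_option autoImplicit false
set_option backward.isDefEq.respectTransparency false
set_option linter.style.haveILetI false
set_option maxHeartbeats 1000000
set_option synthInstance.maxHeartbeats 400000

universe u

open CategoryTheory Limits MonoidalCategory CartesianMonoidalCategory MonObj GrpObj AlgebraicGeometry
open scoped CategoryTheory.Obj

noncomputable section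

namespace Groth.Agent.RootBase

open Groth.Agent.HomDiag Groth.Agent.DynPar

variable {k : Type u} [Field k] [IsAlgClosed k]

/-- A closed subscheme of a reduced scheme containing all rational points is everything. -/
theorem isIso_of_pts {Z X : Over (Spec (CommRingCat.of k))} (i : Z ⟶ X) [IsClosedImmersion i.left]
    [IsReduced X.left] [LocallyOfFiniteType X.hom]
    (h : ∀ p : 𝟙_ (Over (Spec (CommRingCat.of k))) ⟶ X, ∃ q, q ≫ i = p) : IsIso i := by
  haveI : JacobsonSpace X.left := LocallyOfFiniteType.jacobsonSpace X.hom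
  haveI : Surjective i.left := by
    refine ⟨fun x => ?_⟩
    have hsub : closedPoints X.left ⊆ Set.range i.left := fun c hc => by
      let p : 𝟙_ (Over (Spec (CommRingCat.of k))) ⟶ X :=
        Over.homMk (pointOfClosedPoint X.hom c hc) (pointOfClosedPoint_comp _ _ _)
      obtain ⟨q, hq⟩ := h p
      refine ⟨q.left (IsLocalRing.closedPoint k), ?_⟩
      rw [← pointOfClosedPoint_apply X.hom c hc (IsLocalRing.closedPoint k)]
      exact congrArg (fun w => w.left (IsLocalRing.closedPoint k)) hq
    have h1 := closure_minimal hsub i.left.isClosedEmbedding.isClosed_range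
    rw [closure_closedPoints] at h1
    exact h1 (Set.mem_univ x)
  haveI : IsIso i.left := isIso_of_isClosedImmersion_of_surjective i.left
  haveI : IsIso ((Over.forget _).map i) := ‹IsIso i.left›
  exact isIso_of_reflects_iso i (Over.forget _)

/-- A smooth connected group with only the trivial rational point is trivial. -/
theorem eq_one_of_trivial_pts {U : Over (Spec (CommRingCat.of k))} [GrpObj U] [IsAffine U.left] [Smooth U.hom]
    [ConnectedSpace U.left] (h : ∀ p : 𝟙_ (Over (Spec (CommRingCat.of k))) ⟶ U, p = 1)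
    {X : Over (Spec (CommRingCat.of k))} (x : X ⟶ U) : x = 1 := by
  let e : 𝟙_ (Over (Spec (CommRingCat.of k))) ⟶ U := 1
  haveI : IsIntegral U.left := RGDev.isIntegral_of_smooth_connected U.hom
  haveI : IsAffineHom U.hom := isAffineHom_of_isAffine U.hom
  haveI : IsClosedImmersion e.left := by
    haveI : IsClosedImmersion (e.left ≫ U.hom) := by
      rw [Over.w e]
      exact inferInstanceAs (IsClosedImmersion (𝟙 (Spec (CommRingCat.of k))))
    exact IsClosedImmersion.of_comp e.left U.hom
  haveI := isIso_of_pts e fun p => ⟨𝟙 _, by rw [Category.id_comp, h p]⟩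
  have h1 : x = (x ≫ inv e) ≫ e := by rw [Category.assoc, IsIso.inv_hom_id, Category.comp_id]
  rw [h1]
  exact MonObj.comp_one _

variable {G H : Over (Spec (CommRingCat.of k))} [GrpObj G] [GrpObj H] {M : Type} [AddCommGroup M]
  [Module.Free ℤ M] [Module.Finite ℤ M] {c : Red.DS (Spec (CommRingCat.of k)) M ⟶ G}
  (h : H ⟶ G) [IsMonHom h]
  {cH : Red.DS (Spec (CommRingCat.of k)) M ⟶ H} (hcH : cH ≫ h = c)

include hcH in
/-- **A root group meeting a subgroup containing the torus in a nonzero point lies in it.** -/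
theorem fac_of_point [IsClosedImmersion h.left] [IsReduced (Red.Ga (Spec (CommRingCat.of k))).left]
    [LocallyOfFiniteType (Red.Ga (Spec (CommRingCat.of k))).hom] {d : M} (hd : d ≠ 0)
    {u : Red.Ga (Spec (CommRingCat.of k)) ⟶ G} (hu : Red.IsRootHom c (Red.chi _ d) u)
    {x : 𝟙_ (Over (Spec (CommRingCat.of k))) ⟶ Red.Ga (Spec (CommRingCat.of k))}
    {w : 𝟙_ (Over (Spec (CommRingCat.of k))) ⟶ H} (hxw : x ≫ u = w ≫ h) (hx : x ≠ 1) :
    ∃ v, v ≫ h = u := by
  classical
  let S := Spec (CommRingCat.of k)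
  haveI := hu.1
  obtain ⟨θ, hθ⟩ := DynPar.exists_hom_pos_of_ne_zero hd
  let J : Over S := Over.mk (pullback.fst u.left h.left ≫ (Red.Ga S).hom)
  let i : J ⟶ Red.Ga S := Over.homMk (pullback.fst u.left h.left) rfl
  let wJ : J ⟶ H := Over.homMk (pullback.snd u.left h.left) (by
    show pullback.snd u.left h.left ≫ H.hom = pullback.fst u.left h.left ≫ (Red.Ga S).hom
    rw [← Over.w h, ← Category.assoc, ← pullback.condition, Category.assoc, Over.w u])
  have hiw : i ≫ u = wJ ≫ h := Over.OverMorphism.ext pullback.condition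
  haveI : IsClosedImmersion i.left := inferInstanceAs (IsClosedImmersion (pullback.fst u.left h.left))
  let e := Scheme.ΓSpecIso (CommRingCat.of k)
  have hpts : ∀ p : 𝟙_ (Over S) ⟶ Red.Ga S, ∃ w', p ≫ u = w' ≫ h := by
    intro p
    by_cases hp : p = 1
    · exact ⟨1, by rw [hp, MonObj.one_comp, MonObj.one_comp]⟩
    have hne : ∀ {q : 𝟙_ (Over S) ⟶ Red.Ga S}, q ≠ 1 → e.hom (Red.gaFn q) ≠ 0 := fun hq h0 => hq
      (BGaNotS.gaPt_ext (by
        rw [BGaNotS.gaFn_one]
        exact (ConcreteCategory.bijective_of_isIso e.hom).1 (h0.trans (map_zero e.hom.hom).symm)))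
    let a : k := e.hom (Red.gaFn x)
    let b : k := e.hom (Red.gaFn p)
    obtain ⟨z, hz⟩ := IsAlgClosed.exists_pow_nat_eq (b / a) (n := (θ d).natAbs) (by omega)
    have hz0 : z ≠ 0 := fun h0 => by
      rw [h0, zero_pow (by omega)] at hz
      exact div_ne_zero (hne hp) (hne hx) hz.symm
    let U : kˣ := Units.mk0 z hz0
    let V : Γ((𝟙_ (Over S)).left, ⊤)ˣ := Units.map e.inv.hom.toMonoidHom U
    let r : 𝟙_ (Over S) ⟶ Red.Gm S := GmPts.ptOfUnit V
    obtain ⟨y, hy, hy'⟩ := hu.2.2 _ (r ≫ Red.DSmap S θ) x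
    have h1 : (ch r).toHomUnits (Multiplicative.ofAdd (1 : ℤ)) = V := Units.ext (by
      rw [MonoidHom.coe_toHomUnits, ← RootIntrinsic.gmFn_eq_ch]
      exact GmPts.gmFn_ptOfUnit V)
    have h2 : (ch r).toHomUnits (Multiplicative.ofAdd (θ d)) = V ^ θ d := by
      rw [← h1, ← map_zpow]
      congr 1
      exact Multiplicative.toAdd.injective (by simp)
    have hpy : y = p := BGaNotS.gaPt_ext (by
      refine (ConcreteCategory.bijective_of_isIso e.hom).1 ?_
      rw [hy', RootIntrinsic.gmFn_chi, ch_DSmap, toAdd_ofAdd, ← MonoidHom.coe_toHomUnits, h2,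
        ← Int.natAbs_of_nonneg hθ.le, zpow_natCast, Units.val_pow_eq_pow_val, map_mul, map_pow]
      show (e.hom (e.inv z)) ^ _ * a = b
      rw [show e.hom (e.inv z) = z from ConcreteCategory.congr_hom e.inv_hom_id z, hz]
      exact div_mul_cancel₀ b (hne hx))
    refine ⟨((r ≫ Red.DSmap S θ) ≫ cH) * w * ((r ≫ Red.DSmap S θ) ≫ cH)⁻¹, ?_⟩
    rw [MonObj.mul_comp, MonObj.mul_comp, GrpObj.inv_comp, Category.assoc (r ≫ Red.DSmap S θ), hcH, ← hxw, ← hpy, hy]
  haveI := isIso_of_pts i fun p => by
    obtain ⟨w', hw'⟩ := hpts p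
    refine ⟨Over.homMk (pullback.lift p.left w'.left (congrArg (fun q => q.left) hw')) ?_, ?_⟩
    · show pullback.lift _ _ _ ≫ pullback.fst u.left h.left ≫ _ = _
      rw [← Category.assoc, pullback.lift_fst]
      exact Over.w p
    · exact Over.OverMorphism.ext (pullback.lift_fst _ _ _)
  exact ⟨inv i ≫ wJ, by rw [Category.assoc, ← hiw, IsIso.inv_hom_id_assoc]⟩

end Groth.Agent.RootBase
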