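import Groth.Agent.RootBase.TypeRMain
import Groth.Agent.RootSys.BorelSplit
import Groth.Agent.RootSys.NoRoot
import Groth.Agent.Chev.Structure
import Groth.Agent.Chev.BorelTools
import Groth.Agent.Chev.BorelCent
import Groth.Agent.Chev.TorusTheory
import Groth.Agent.RedCent.Reductive
import Groth.Agent.UniRad.Exists
import Groth.Agent.GrpField.SurjSmooth
import Groth.Agent.InfLift.SchemeSmallExt
import Groth.Agent.UnipTor.Main
import Groth.Agent.BPair.Twist
import Groth.Agent.S3927
import Groth.Agent.S7998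
import Groth.Agent.S8093

/-!
# Solvable subgroups containing the torus, over an algebraically closed field
-/

set_option autoImplicit false
set_option backward.isDefEq.respectTransparency false
set_option linter.style.haveILetI false
set_option maxHeartbeats 1000000
set_option synthInstance.maxHeartbeats 400000

universe u

open CategoryTheory Limits MonoidalCategory CartesianMonoidalCategory MonObj GrpObj AlgebraicGeometry LieS
open scoped CategoryTheory.Obj

noncomputable section

namespace Groth.Agent.RootBase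

open Groth.Agent.HomDiag Groth.Agent.DynPar Groth.Agent.RootSys
open Groth.Agent.DynPar.Der (dv uB pl sG)

variable {k : Type u} [Field k] [IsAlgClosed k]

/-- Smooth surjective homomorphisms are surjective on tangent vectors. -/
theorem lie_surjective_of_smooth {H Q : Over (Spec (CommRingCat.of k))} [GrpObj H] [GrpObj Q] (q : H ⟶ Q)
    [IsMonHom q] [Smooth q.left] (w : Lie Q k (fk k)) : ∃ v : Lie H k (fk k), LieS.map k (fk k) q v = w := by
  let e : pt k (fk k) ⟶ H := 1
  have hsurj : Function.Surjective (TrivSqZeroExt.fstHom k k k).toRingHom := fun b => ⟨TrivSqZeroExt.inl b, rfl⟩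
  have hsq : RingHom.ker (TrivSqZeroExt.fstHom k k k).toRingHom ^ 2 = ⊥ := by
    rw [eq_bot_iff, pow_two, Ideal.mul_le]
    intro x hx y hy
    rw [RingHom.mem_ker] at hx hy
    have hx' : x.fst = 0 := hx
    have hy' : y.fst = 0 := hy
    refine TrivSqZeroExt.ext ?_ ?_
    · simp [hx']
    · simp [hx', hy']
  obtain ⟨gam, h1, h2⟩ := InfLift.exists_lift_of_smooth q.left (TrivSqZeroExt.fstHom k k k).toRingHom hsurj hsq
    e.left w.1.left (by
      rw [← Over.comp_left, show e ≫ q = 1 from MonObj.one_comp q]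
      exact congrArg CommaMorphism.left w.2)
  refine ⟨⟨Over.homMk gam ?_, Over.OverMorphism.ext h1⟩, Subtype.ext (Over.OverMorphism.ext h2)⟩
  rw [← Over.w q, reassoc_of% h2]
  exact Over.w w.1

/-- Diagonalisable groups are solvable. -/
theorem isSolvableGrp_DS (S : Scheme.{u}) (M : Type) [AddCommGroup M] : Red.IsSolvableGrp (Red.DS S M) := by
  refine ⟨1, fun X => ?_⟩
  rw [derivedSeries_one, commutator_def, Subgroup.commutator_eq_bot_iff_le_centralizer]
  exact fun a _ b _ => ch_ext fun m => by rw [ch_mul, ch_mul, mul_comm]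

omit [IsAlgClosed k] in
/-- Solvability is invariant under isomorphisms. -/
theorem isSolvableGrp_of_isIso {A B : Over (Spec (CommRingCat.of k))} [GrpObj A] [GrpObj B] (f : A ⟶ B)
    [IsMonHom f] [IsIso f] (h : Red.IsSolvableGrp A) : Red.IsSolvableGrp B := by
  haveI : IsMonHom (asIso f).hom := inferInstanceAs (IsMonHom f)
  exact Chev.Borel.isSolvableGrp_of_mono (asIso f).inv h

variable {G H : Over (Spec (CommRingCat.of k))} [GrpObj G] [GrpObj H] [IsAffine G.left] [IsAffine H.left]
  [Smooth H.hom] [ConnectedSpace H.left] {M : Type} [AddCommGroup M] [Module.Free ℤ M] [Module.Finite ℤ M]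
  {c : Red.DS (Spec (CommRingCat.of k)) M ⟶ G} [IsMonHom c] {idx : Type} [Fintype idx] {root : idx → M}
  {u : idx → (Red.Ga (Spec (CommRingCat.of k)) ⟶ G)}
  {h : H ⟶ G} [IsMonHom h] [IsClosedImmersion h.left]
  {cH : Red.DS (Spec (CommRingCat.of k)) M ⟶ H} [IsMonHom cH]

omit [Smooth H.hom] [ConnectedSpace H.left] in
/-- A non-zero weight of the subgroup is the root of a root group in it. -/
theorem Frame.fac_of_nonzero_weight [Smooth H.hom] [ConnectedSpace H.left] (F : Frame c root u) (hcH : cH ≫ h = c)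
    {d : M} (hd : d ≠ 0) {v : Lie H k (fk k)} (hv : IsWt cH v d) (hv1 : v ≠ 1) :
    ∃ a, root a = d ∧ ∃ w, w ≫ h = u a := by
  haveI : Mono h := Over.mono_of_mono_left h
  obtain ⟨a, ha⟩ := F.exists_eq_root (e := d) ⟨hd, LieS.map k (fk k) h v, hv.map c hcH,
    fun e => hv1 (map_injective h (e.trans (map_one _).symm))⟩
  exact ⟨a, ha, F.fac_of_weight hcH (ha.symm ▸ hv) hv1⟩

set_option maxHeartbeats 4000000 in
/-- **Without opposite root groups the subgroup is solvable.** -/
theorem Frame.isSolvableGrp_of_asymm (F : Frame c root u) (hcH : cH ≫ h = c)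
    (has : ∀ a a', root a' = -root a → (∃ w, w ≫ h = u a) → ¬∃ w, w ≫ h = u a') : Red.IsSolvableGrp H := by
  classical
  let S := Spec (CommRingCat.of k)
  haveI : Mono h := Over.mono_of_mono_left h
  haveI : Mono c := F.hc.2.1
  haveI : Mono cH := mono_of_mono_fac hcH
  haveI : IsAffineHom H.hom := isAffineHom_of_isAffine H.hom
  have hcT : Red.IsTorus (Red.DS S M) := F.hc.2.2.1
  haveI := Chev.isAffine_of_isTorus hcT
  haveI := Chev.smooth_of_isTorus hcT
  have hmaxH : AGF.IsMaxTorus cH := by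
    obtain ⟨-, -, -, hmax⟩ := Chev.Borel.isMaxTorus_of_isMaximalTorus c F.hc
    refine ⟨inferInstance, inferInstance, hcT, fun T' _ j _ _ f hT' hf => ?_⟩
    exact hmax T' (j ≫ h) f hT' (by rw [reassoc_of% hf, hcH])
  obtain ⟨U, _, uU, hU, hUa, hUc, hUn, -⟩ := UniRad.exists_unipotentRadical (G := H)
  have hU' := id hU
  obtain ⟨hum, huc, hnorm, hus, -, hufib, -⟩ := hU'
  haveI := hum; haveI := huc; haveI := hus; haveI := hUa; haveI := hUc
  obtain ⟨Q, _, q, hqm, hqf, hqs, hker, hQsep, hQs, hQq, hQc⟩ := Chev.exists_quotient_group uU hnorm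
  haveI := hqm; haveI := hqf; haveI := hqs; haveI := hQsep; haveI := hQs; haveI := hQq; haveI := hQc
  haveI : IsReduced Q.left := SmoothRed.isReduced_of_smooth_scheme Q.hom
  haveI : IsAffine Q.left := Chev.isAffine_of_surjective q
  have hQ : Red.IsReductive Q := S8093.result k H U uU hU Q q hker
  haveI : QuasiCompact q.left := by
    haveI : IsAffineHom Q.hom := isAffineHom_of_isAffine Q.hom
    haveI : QuasiCompact (q.left ≫ Q.hom) := by rw [Over.w q]; infer_instance
    exact QuasiCompact.of_comp q.left Q.hom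
  haveI : Smooth q.left := GrpField.smooth_of_kernel q (by
    let e := (hker.map (Over.forget _)).isoPullback
    haveI : IsIso e.inv := inferInstance
    show Smooth (pullback.snd q.left (η[Q] : 𝟙_ (Over S) ⟶ Q).left)
    rw [show pullback.snd q.left (η[Q] : 𝟙_ (Over S) ⟶ Q).left = e.inv ≫ (toUnit U).left from
      ((hker.map (Over.forget _)).isoPullback_inv_snd).symm]
    haveI : Smooth (toUnit U).left := by
      rw [Over.toUnit_left]; exact hus
    infer_instance)
  let cQ : Red.DS S M ⟶ Q := cH ≫ q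
  haveI : Mono cQ := by
    refine ⟨fun {X} a b hab => ?_⟩
    have h1 : (b⁻¹ * a) ≫ cH ≫ q = 1 := by
      rw [MonObj.mul_comp, GrpObj.inv_comp, show a ≫ cH ≫ q = b ≫ cH ≫ q from hab, inv_mul_cancel]
    obtain ⟨y, hy, -⟩ : ∃ y : X ⟶ U, y ≫ uU = (b⁻¹ * a) ≫ cH ∧ y ≫ toUnit U = toUnit X :=
      ⟨hker.lift ((b⁻¹ * a) ≫ cH) (toUnit X) (by rw [Category.assoc, h1, Hom.one_def]), hker.lift_fst _ _ _,
        hker.lift_snd _ _ _⟩
    haveI : Mono uU := Over.mono_of_mono_left uU
    have h2 : y = 1 := by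
      rw [← pullback.lift_fst (f := uU) (g := cH) y (b⁻¹ * a) hy, UnipTor.fst_eq_one cH hcT uU hufib, MonObj.comp_one]
    rw [h2, MonObj.one_comp] at hy
    exact (inv_mul_eq_one.1 ((cancel_mono cH).1 (by rw [← hy, MonObj.one_comp]))).symm
  haveI : IsMonHom cQ := inferInstanceAs (IsMonHom (cH ≫ q))
  haveI : IsAffineHom Q.hom := isAffineHom_of_isAffine Q.hom
  haveI := Chev.locallyOfFiniteType_of_isTorus hcT
  haveI : IsAffineHom (Red.DS S M).hom := isAffineHom_of_isAffine _
  haveI hcQc : IsClosedImmersion cQ.left := MTBridge.isClosedImmersion_of_mono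
    (MTBridge.locally_of_isMultTypeFT' _ (MTBridge.isMultTypeFT_of_isTorus _ hcT)) inferInstance cQ
  haveI : IsReduced (Red.DS S M).left := SmoothRed.isReduced_of_smooth_scheme (Red.DS S M).hom
  haveI : Surjective (𝟙 (Red.DS S M) : Red.DS S M ⟶ Red.DS S M).left :=
    inferInstanceAs (Surjective (𝟙 (Red.DS S M).left))
  have hmaxQ : Red.IsMaximalTorus cQ := Chev.Borel.isMaximalTorus_of_isMaxTorus _
    (S3927.result k H Q q (Red.DS S M) cH hmaxH (Red.DS S M) cQ hcQc (𝟙 _) (Category.id_comp _))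
  let E : Grp.mk (Red.DS S M) ≅ Grp.mk (Red.DS S M) := Iso.refl _
  have hE : E.inv.hom.hom ≫ cQ = cQ := Category.id_comp cQ
  haveI : IsMonHom (E.inv.hom.hom ≫ cQ) := by rw [hE]; infer_instance
  have key : ∀ (d : M) (w : Lie Q k (fk k)), d ≠ 0 → IsWt cQ w d → w ≠ 1 → ∃ a, root a = d ∧ ∃ x, x ≫ h = u a := by
    intro d w hd hw hw1
    obtain ⟨v, hv⟩ := lie_surjective_of_smooth q w
    obtain ⟨Fs, comp, -, hcomp, hprod⟩ := exists_wt_decomp cH v
    by_cases hd1 : comp d = 1
    · exfalso
      refine hw1 (Der.dv_injective (funext fun x => ?_))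
      rw [Der.dv_one, ← hw.dv_wc_self, ← hv, hprod, map_prod]
      suffices ∀ s : Finset M, dv (∏ e ∈ s, LieS.map k (fk k) q (comp e)) (wc cQ x d) = 0 from this Fs
      intro s
      induction s using Finset.induction_on with
      | empty => rw [Finset.prod_empty, Der.dv_one]
      | insert e s he ih =>
        rw [Finset.prod_insert he, Der.dv_mul, ih, add_zero]
        by_cases hed : e = d
        · rw [hed, hd1, map_one, Der.dv_one]
        · exact (hcomp e).map cQ rfl x d (Ne.symm hed)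
    · exact F.fac_of_nonzero_weight hcH hd (hcomp d) hd1
  have hnone : ∀ (d : M) (w : Lie Q k (fk k)), IsWt (E.inv.hom.hom ≫ cQ) w d → w ≠ 1 → d = 0 := by
    intro d w hw hw1
    by_contra hd
    obtain ⟨w', hw', hw'1⟩ := (field_rank_one hQ cQ hmaxQ E hw hd hw1).1
    obtain ⟨a, ha, hfa⟩ := key d w hd (hw.congr_hom hE) hw1
    obtain ⟨a', ha', hfa'⟩ := key (-d) w' (neg_ne_zero.2 hd) (hw'.congr_hom hE) hw'1
    exact has a a' (by rw [ha', ha]) hfa hfa'
  haveI := RootSys.isIso_of_no_wt cQ hQ hmaxQ E hnone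
  have hQsol : Red.IsSolvableGrp Q := isSolvableGrp_of_isIso cQ (isSolvableGrp_DS S M)
  haveI := RedCent.isSolvable_of_noSubtorus hUn
  exact S7998.result k U H Q uU q hker (Chev.Borel.isSolvableGrp_of_rp U) hQsol

/-- **A solvable subgroup has its roots positive for a regular functional.** -/
theorem Frame.exists_regular_of_solvable [Smooth G.hom] [ConnectedSpace G.left] (F : Frame c root u)
    (hcH : cH ≫ h = c) (hsol : Red.IsSolvableGrp H) :
    ∃ mu : M →+ ℤ, (∀ a, mu (root a) ≠ 0) ∧ ∀ a, (∃ w, w ≫ h = u a) → 0 < mu (root a) := by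
  classical
  let S := Spec (CommRingCat.of k)
  haveI : Mono c := F.hc.2.1
  haveI : Group.IsSolvable (Chev.RP H) := Chev.Borel.isSolvable_rp hsol
  obtain ⟨B, _, iB, f, hB, hf⟩ := Chev.Borel.exists_borel_containing h
  haveI := hB.1; haveI := hB.2.1; haveI := hB.2.2.1; haveI := hB.2.2.2.1
  haveI : Mono iB := Over.mono_of_mono_left iB
  haveI : IsMonHom f := MTSplit.isMonHom_of_comp_mono f iB h hf
  have hB' : Red.IsBorel iB := ⟨hB.1, hB.2.1, hB.2.2.1, fun s => by
    haveI := Chev.Borel.isIso_geomPt k s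
    exact BPair.isBorelOver_bc_iso (Red.geomPt s) iB hB⟩
  let E : Grp.mk (Red.DS S M) ≅ Grp.mk (Red.DS S M) := Iso.refl _
  have hE : E.inv.hom.hom ≫ c = c := Category.id_comp c
  haveI : IsMonHom (E.inv.hom.hom ≫ c) := by rw [hE]; infer_instance
  let cB : Red.DS S M ⟶ B := cH ≫ f
  have hcB : cB ≫ iB = c := by show (_ ≫ _) ≫ _ = _; rw [Category.assoc, hf, hcH]
  haveI : IsMonHom cB := inferInstanceAs (IsMonHom (cH ≫ f))
  obtain ⟨mu, hP, hreg⟩ := exists_borel_eq F.hG c F.hc E iB hB' cB hcB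
  rw [hE] at hP
  haveI : IsAffine B.left := isAffine_of_isAffineHom iB.left
  have hnz : ∀ a, mu (root a) ≠ 0 := fun a => by
    obtain ⟨v, hv, hv1⟩ := F.weight_of_fac (h := 𝟙 G) (cH := c) (Category.comp_id c) ⟨u a, Category.comp_id _⟩
    exact hreg v _ (hv.congr_hom hE.symm) hv1 (F.ne a)
  refine ⟨mu, hnz, fun a ⟨w, hw⟩ => ?_⟩
  obtain ⟨v, hv, hv1⟩ := F.weight_of_fac (h := iB) (cH := cB) hcB ⟨w ≫ f, by rw [Category.assoc, hf, hw]⟩
  by_contra hle
  have hneg : mu (root a) < 0 := lt_of_le_of_ne (not_lt.1 hle) (hnz a)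
  have hwG : IsWt c (LieS.map k (fk k) iB v) (root a) := hv.map c hcB
  refine hv1 (map_injective iB (Der.dv_injective (funext fun x => ?_)))
  rw [map_one, Der.dv_one, ← hwG.dv_wc_self]
  exact dv_map_eq_zero iB v (appTop_wc_eq_zero c mu hP x hneg)

end Groth.Agent.RootBase
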