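import Groth.Agent.RootBase.Prod
import Groth.Agent.RootBase.Main

/-!
# The contracted subgroup of a functional as the product of the root subgroups on which it is positive
-/

set_option autoImplicit false
set_option backward.isDefEq.respectTransparency false
set_option linter.style.haveILetI false
set_option maxHeartbeats 1000000
set_option synthInstance.maxHeartbeats 400000

universe u

open CategoryTheory Limits MonoidalCategory CartesianMonoidalCategory MonObj GrpObj AlgebraicGeometry LieS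
open scoped CategoryTheory.Obj

noncomputable section

namespace Groth.Agent.RootBase

open Groth.Agent.HomDiag Groth.Agent.DynPar Groth.Agent.RootSys Groth.Agent.MTBridge
open Groth.Agent.DynPar.Der (dv uB pl sG)

section Frame

variable {S S' : Scheme.{u}} {G : Over S} [GrpObj G] {M : Type} [AddCommGroup M]

/-- A split maximal torus together with root homomorphisms for as many roots as the fibres have. -/
structure Frame (c : Red.DS S M ⟶ G) {idx : Type} [Fintype idx] (root : idx → M)
    (u : idx → (Red.Ga S ⟶ G)) : Prop where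
  hG : Red.IsReductive G
  hc : Red.IsMaximalTorus c
  inj : Function.Injective root
  ne : ∀ a, root a ≠ 0
  hu : ∀ a, Red.IsRootHom c (Red.chi S (root a)) (u a)
  hdim : ∀ s : S, topologicalKrullDim ↥(Red.geomFibre s G).left =
    ((Module.finrank ℤ M + Fintype.card idx : ℕ) : WithBot ℕ∞)

variable {c : Red.DS S M ⟶ G} {idx : Type} [Fintype idx] {root : idx → M} {u : idx → (Red.Ga S ⟶ G)}

theorem Frame.bc (F : Frame c root u) (j : S' ⟶ S) :
    Frame (bcHom' j c) root (fun a => bcGa j (u a)) := by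
  haveI := F.hG.2.1
  refine ⟨isReductive_bc j F.hG, isMaximalTorus_bcHom' j F.hG F.hc, F.inj, F.ne,
    fun a => isRootHom_bc j (F.hu a), fun x => ?_⟩
  rw [← F.hdim (j x)]
  refine (IsHomeomorph.topologicalKrullDim_eq _ (Scheme.homeoOfIso
    ((Over.forget _).mapIso ((Over.pullbackComp (Red.geomPt x) j).app G).symm)).isHomeomorph).trans ?_
  show topologicalKrullDim ↥(Red.bc (Red.geomPt x ≫ j) G).left = _
  rw [MTImage.dim_bc_point, MTImage.dim_geomFibre, Scheme.Hom.comp_apply, MTImage.geomPt_closedPoint]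

/-- The frame of a splitting. -/
theorem frame_of_splitRed (D : Red.SplitRed G) :
    letI := D.grpT
    letI := D.acgM
    letI := D.fintypeIdx
    Frame (D.split.inv.hom.hom ≫ D.i) (fun a => D.P.root a) D.u := by
  letI := D.grpT
  letI := D.acgM
  letI := D.fintypeIdx
  have h1 : D.split.inv.hom.hom ≫ D.split.hom.hom.hom = 𝟙 _ := congrArg (fun z => z.hom.hom) D.split.inv_hom_id
  refine ⟨D.reductive, isMaximalTorus_DS D.maximalTorus D.split, D.P.root.injective, fun a h => ?_, fun a => ?_,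
    D.dim_fibre⟩
  · have h2 := D.P.root_coroot_two a
    rw [show D.P.root a = 0 from h, map_zero, LinearMap.zero_apply] at h2
    exact two_ne_zero h2.symm
  · refine ⟨(D.rootHom a).1, (D.rootHom a).2.1, fun X t x => ?_⟩
    obtain ⟨y, hy, hy'⟩ := (D.rootHom a).2.2 X (t ≫ D.split.inv.hom.hom) x
    rw [Category.assoc] at hy
    rw [Category.assoc, reassoc_of% h1] at hy'
    exact ⟨y, hy, hy'⟩

end Frame

section BC

variable {S S' : Scheme.{u}} (τ : S' ⟶ S) {G : Over S} [GrpObj G]

theorem prodMap_bc : ∀ {m : ℕ} (w : Fin m → (Red.Ga S ⟶ G)) {X : Over S'}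
    (x : (Over.map τ).obj X ⟶ RedSub.pow (Red.Ga S) m) (y : X ⟶ RedSub.pow (Red.Ga S') m),
    (∀ l, x ≫ proj S m l = (Over.map τ).map (y ≫ proj S' m l) ≫ gaPush τ) →
    toBC τ (x ≫ RedSub.prodMap (Red.Ga S) m w) = y ≫ RedSub.prodMap (Red.Ga S') m (fun l => bcGa τ (w l))
  | 0, w, X, x, y, _ => by
    rw [show RedSub.prodMap (Red.Ga S) 0 w = 1 from rfl,
      show RedSub.prodMap (Red.Ga S') 0 (fun l => bcGa τ (w l)) = 1 from rfl, MonObj.comp_one, MonObj.comp_one]
    exact map_one (MonoidHom.mk' (fun z : (Over.map τ).obj X ⟶ G => toBC τ z) (toBC_mul τ))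
  | m + 1, w, X, x, y, h => by
    rw [prodMap_succ, prodMap_succ, toBC_mul, ← prodMap_bc (fun l => w l.succ)
        (x ≫ snd (Red.Ga S) (RedSub.pow (Red.Ga S) m)) (y ≫ snd (Red.Ga S') (RedSub.pow (Red.Ga S') m))
        (fun l => by rw [proj_snd, proj_snd]; exact h l.succ), h 0, bcGa_eq]

/-- The fibre of a power of the additive group. -/
theorem exists_powBC (m : ℕ) :
    ∃ κ : RedSub.pow (Red.Ga S') m ⟶ Red.bc τ (RedSub.pow (Red.Ga S) m), IsIso κ ∧
      ∀ w : Fin m → (Red.Ga S ⟶ G), κ ≫ (Over.pullback τ).map (RedSub.prodMap (Red.Ga S) m w) =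
        RedSub.prodMap (Red.Ga S') m (fun l => bcGa τ (w l)) := by
  obtain ⟨x, hx⟩ := exists_pow (X := (Over.map τ).obj (RedSub.pow (Red.Ga S') m))
    fun l => (Over.map τ).map (proj S' m l) ≫ gaPush τ
  haveI := isIso_gaBC τ
  obtain ⟨v, hv⟩ := exists_pow (X := Red.bc τ (RedSub.pow (Red.Ga S) m))
    fun l => (Over.pullback τ).map (proj S m l) ≫ inv (gaBC τ)
  have hproj : ∀ l, toBC τ x ≫ (Over.pullback τ).map (proj S m l) = proj S' m l ≫ gaBC τ := fun l => by
    rw [← toBC_comp, hx, comp_gaBC]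
  refine ⟨toBC τ x, ⟨v, pow_ext fun l => ?_, ?_⟩, fun w => ?_⟩
  · rw [Category.assoc, hv, ← Category.assoc, hproj, Category.assoc, IsIso.hom_inv_id, Category.comp_id,
      Category.id_comp]
  · apply ((Over.mapPullbackAdj τ).homEquiv _ _).symm.injective
    refine pow_ext fun l => ?_
    rw [← (Over.mapPullbackAdj τ).homEquiv_naturality_right_symm, ← (Over.mapPullbackAdj τ).homEquiv_naturality_right_symm,
      Category.assoc, hproj, ← Category.assoc, hv, Category.assoc, IsIso.inv_hom_id, Category.comp_id, Category.id_comp]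
  · rw [← toBC_comp, ← Category.id_comp (RedSub.prodMap (Red.Ga S') m _)]
    exact prodMap_bc τ w x (𝟙 _) fun l => by rw [hx, Category.id_comp]

end BC

section Field

variable {k : Type u} [Field k] [IsAlgClosed k] {G : Over (Spec (CommRingCat.of k))} [GrpObj G] [IsAffine G.left]
  {M : Type} [AddCommGroup M] [Module.Free ℤ M] [Module.Finite ℤ M]
  {c : Red.DS (Spec (CommRingCat.of k)) M ⟶ G} [IsMonHom c] {idx : Type} [Fintype idx] {root : idx → M}
  {u : idx → (Red.Ga (Spec (CommRingCat.of k)) ⟶ G)}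

theorem Frame.isSplitRoot (F : Frame c root u) (a : idx) : IsSplitRoot c (root a) := by
  let E : Grp.mk (Red.DS (Spec (CommRingCat.of k)) M) ≅ Grp.mk (Red.DS (Spec (CommRingCat.of k)) M) := Iso.refl _
  have hE : E.inv.hom.hom ≫ c = c := Category.id_comp c
  haveI : IsMonHom (E.inv.hom.hom ≫ c) := by rw [hE]; infer_instance
  obtain ⟨h0, v, hv, hv1⟩ := isSplitRoot_of_rootHom (i := c) (E := E) (F.ne a) (u := u a) (by rw [hE]; exact F.hu a)
  exact ⟨h0, v, hv.congr_hom hE, hv1⟩

/-- Every root of the fibre is one of the frame. -/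
theorem Frame.exists_eq_root (F : Frame c root u) {e : M} (he : IsSplitRoot c e) : ∃ a, root a = e := by
  obtain ⟨hfin, P, -, -, -, -, hdim⟩ := exists_datum F.hG c F.hc
  let φ : idx → Roots c := fun a => ⟨root a, F.isSplitRoot a⟩
  have hφ : Function.Injective φ := fun a b h => F.inj (congrArg Subtype.val h)
  let s : ↥(Spec (CommRingCat.of k)) := IsLocalRing.closedPoint k
  haveI := Chev.Borel.isIso_geomPt k s
  have h1 := RootIntrinsic.dim_bc_iso G (Red.geomPt s) _ (F.hdim s)
  rw [hdim] at h1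
  have h2 : Fintype.card idx = Fintype.card (Roots c) := by
    have : Module.finrank ℤ M + Fintype.card (Roots c) = Module.finrank ℤ M + Fintype.card idx := by
      exact_mod_cast h1
    omega
  obtain ⟨a, ha⟩ := ((Fintype.bijective_iff_injective_and_card φ).2 ⟨hφ, h2⟩).2 ⟨e, he⟩
  exact ⟨a, congrArg Subtype.val ha⟩

/-- **Over a field the contracted subgroup is the product of the positive root subgroups.** -/
theorem Frame.isIso_prod_field [Smooth G.hom] (F : Frame c root u) (mu : M →+ ℤ) {m : ℕ} (e : Fin m → idx)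
    (he : RedSub.Enumerates {a | 0 < mu (root a)} e)
    {U : Over (Spec (CommRingCat.of k))} [GrpObj U] {uU : U ⟶ G}
    (hU : IsU (Red.DSmap (Spec (CommRingCat.of k)) mu ≫ c) uU)
    (z : RedSub.pow (Red.Ga (Spec (CommRingCat.of k))) m ⟶ U)
    (hz : z ≫ uU = RedSub.prodMap (Red.Ga (Spec (CommRingCat.of k))) m (fun l => u (e l))) : IsIso z := by
  classical
  let S := Spec (CommRingCat.of k)
  obtain ⟨i1, i2, i3⟩ := red_inst F.hG
  haveI := i3
  haveI : IsAffineHom G.hom := isAffineHom_of_isAffine G.hom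
  obtain ⟨P, _, p, hP⟩ := exists_isP (G := G) (Red.DSmap S mu ≫ c)
  obtain ⟨Z, _, zZ, hZ, -, -⟩ := exists_centralizer_DS (G := G) inferInstance inferInstance (Red.DSmap S mu ≫ c)
  haveI : Smooth U.hom := (smooth_isU inferInstance hP hU hZ).1
  haveI := hU.1; haveI := hU.2.1
  haveI : Mono uU := Over.mono_of_mono_left uU
  haveI : IsAffine U.left := isAffine_of_isAffineHom uU.left
  haveI : ConnectedSpace U.left := (field_fibre (Red.DSmap S mu ≫ c) hP hU).2.1
  haveI : IsIntegral U.left := RGDev.isIntegral_of_smooth_connected U.hom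
  haveI : ∀ l, IsMonHom (u (e l)) := fun l => (F.hu _).1
  have hpos : ∀ l, 0 < mu (root (e l)) := fun l => he.2.subset ⟨l, rfl⟩
  have hinj : Function.Injective fun l => root (e l) := F.inj.comp he.1
  haveI : IsClosedImmersion z.left := by
    haveI : IsClosedImmersion (z.left ≫ uU.left) := by
      rw [← Over.comp_left, hz]
      exact isClosedImmersion_prodMap mu (fun l => F.hu (e l)) hpos hinj
    exact IsClosedImmersion.of_comp z.left uU.left
  choose zl hzl using fun l => hU.exists_le (u (e l)) fun B _ f x =>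
    rootHom_mem_USub' (F.hu (e l)) mu (hpos l) x
  haveI : ∀ l, IsMonHom (zl l) := fun l => MTSplit.isMonHom_of_comp_mono (zl l) uU (u (e l)) (hzl l)
  -- the tangent vectors
  have hdim : topologicalKrullDim ↥U.left ≤ (m : WithBot ℕ∞) := by
    refine (dim_le_of_span (fun l => RootIntrinsic.vU (zl l)) fun w a ha => ?_).trans (by simp)
    obtain ⟨b, rfl⟩ := uU.left.app_surjective ⊤ (isAffineOpen_top G.left) a
    change dv w (uU.left.appTop b) = 0
    rw [← dv_map uU w b]
    obtain ⟨Fs, comp, hcd, hcomp, hv⟩ := exists_wt_decomp (c := c) (LieS.map k _ uU w)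
    rw [hv, Der.dv_prod]
    refine Finset.sum_eq_zero fun d _ => ?_
    rcases le_or_gt (mu d) 0 with hd | hd
    · rw [hcd]
      have hmem : ((LieS.map k (RootIntrinsic.f₀ (k := k)) uU w).1 : pt (DualNumber k) (fd _) ⟶ G) ∈
          USub (fd _) (Red.DSmap S mu ≫ c) := hU.exists_fac_iff.1 ⟨w.1, rfl⟩
      have hw := (mem_USub_iff c mu gens_univ).1 hmem
      rcases hd.lt_or_eq with hd | hd
      · rw [← rp_vec_snd, (mem_PSub_iff c mu gens_univ).1 hw.1 b (Set.mem_univ b) d hd, TrivSqZeroExt.snd_zero]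
      · rw [← rp_vec_snd, hw.2 b (Set.mem_univ b) d hd]
        exact (rp_vec_snd (1 : Lie G k _) _).trans (Der.dv_one _)
    · by_cases h1 : comp d = 1
      · rw [h1, Der.dv_one]
      have hd0 : d ≠ 0 := fun h => by rw [h, map_zero] at hd; exact lt_irrefl _ hd
      obtain ⟨a₀, ha₀⟩ := F.exists_eq_root ⟨hd0, comp d, hcomp d, h1⟩
      obtain ⟨l, hl⟩ := he.2.ge (show a₀ ∈ {a | 0 < mu (root a)} by show 0 < mu (root a₀); rw [ha₀]; exact hd)
      haveI := (F.hu (e l)).2.1
      haveI : Mono (u (e l)) := Over.mono_of_mono_left (u (e l))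
      let E : Grp.mk (Red.DS S M) ≅ Grp.mk (Red.DS S M) := Iso.refl _
      have hE : E.inv.hom.hom ≫ c = c := Category.id_comp c
      haveI : IsMonHom (E.inv.hom.hom ≫ c) := by rw [hE]; infer_instance
      have hvl : IsWt c (RootIntrinsic.vU (u (e l))) (root (e l)) :=
        (isWt_vU E ((rootHom_split_iff c E _ _).1 (by rw [hE]; exact F.hu (e l)))).congr_hom hE
      rcases (field_rank_one F.hG c F.hc E (hvl.congr_hom hE.symm) (F.ne _) (RootIntrinsic.vU_ne_one (u (e l)))).2 d
          (comp d) ((hcomp d).congr_hom hE.symm) h1 hd0 ⟨1, 1, one_ne_zero, by rw [hl, ha₀]⟩ with ⟨-, r, hr⟩ | h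
      · rw [hr, Der.dv_smul]
        have h2 : LieS.map k _ uU (RootIntrinsic.vU (zl l)) = RootIntrinsic.vU (u (e l)) :=
          Subtype.ext ((Category.assoc _ _ _).trans (congrArg (_ ≫ ·) (hzl l)))
        rw [← h2, dv_map]
        exact mul_eq_zero_of_right _ (ha l)
      · have h2 : (2 : ℤ) • d = 0 := by
          rw [two_zsmul]; nth_rw 1 [h, hl, ha₀]; rw [neg_add_cancel]
        exact absurd ((smul_eq_zero.1 h2).resolve_left two_ne_zero) hd0
  -- the ring of functions
  obtain ⟨Y, -, _⟩ := exists_powPt k m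
  let Q := MvPolynomial (Fin m) k
  haveI : IsAffine (pt Q (Spec.map (CommRingCat.ofHom MvPolynomial.C) :
      Spec (CommRingCat.of Q) ⟶ S)).left := isAffine_Spec _
  haveI : IsIso Y.left := inferInstanceAs (IsIso ((Over.forget _).map Y))
  let ψ : Γ(U.left, ⊤) →+* Q := rp (Y ≫ z)
  haveI : IsClosedImmersion (Y ≫ z).left := by rw [Over.comp_left]; infer_instance
  have hψ : Function.Surjective ψ := fun b => by
    obtain ⟨a, ha⟩ := (Y ≫ z).left.app_surjective ⊤ (isAffineOpen_top U.left)
      ((Scheme.ΓSpecIso (CommRingCat.of Q)).inv b)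
    refine ⟨a, ?_⟩
    show (Scheme.ΓSpecIso (CommRingCat.of Q)).hom ((Y ≫ z).left.appTop a) = b
    rw [show (Y ≫ z).left.appTop a = (Scheme.ΓSpecIso (CommRingCat.of Q)).inv b from ha]
    exact ConcreteCategory.congr_hom (Scheme.ΓSpecIso (CommRingCat.of Q)).inv_hom_id b
  haveI : Nonempty (⊤ : U.left.Opens) := ⟨⟨Classical.arbitrary U.left, trivial⟩⟩
  haveI : IsDomain Γ(U.left, ⊤) := inferInstance
  have hA : ringKrullDim Γ(U.left, ⊤) ≤ (m : WithBot ℕ∞) := by
    rw [← PrimeSpectrum.topologicalKrullDim_eq_ringKrullDim]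
    exact le_trans (IsHomeomorph.topologicalKrullDim_eq _
      (Scheme.homeoOfIso U.left.isoSpec).isHomeomorph).ge hdim
  have hinjψ : Function.Injective ψ := by
    rw [injective_iff_map_eq_zero]
    intro x hx
    by_contra hx0
    have h1 := ringKrullDim_quotient_succ_le_of_nonZeroDivisor (mem_nonZeroDivisors_of_ne_zero hx0)
    have h2 : ringKrullDim Q ≤ ringKrullDim (Γ(U.left, ⊤) ⧸ Ideal.span {x}) :=
      ringKrullDim_le_of_surjective (Ideal.Quotient.lift _ ψ fun y hy => by
        obtain ⟨t, rfl⟩ := Ideal.mem_span_singleton'.1 hy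
        rw [map_mul, hx, mul_zero]) fun b => by
        obtain ⟨a, ha⟩ := hψ b
        exact ⟨Ideal.Quotient.mk _ a, ha⟩
    rw [MvPolynomial.ringKrullDim_of_isNoetherianRing, ringKrullDim_eq_zero_of_field, zero_add, Nat.card_fin] at h2
    have h3 := (add_le_add h2 le_rfl).trans (h1.trans hA)
    have h4 : m + 1 ≤ m := by exact_mod_cast h3
    omega
  haveI : IsIso (Y ≫ z).left := by
    haveI : IsIso (Y ≫ z).left.appTop := (ConcreteCategory.isIso_iff_bijective _).2
      ⟨fun a b h => hinjψ (congrArg (Scheme.ΓSpecIso (CommRingCat.of Q)).hom h),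
        fun b => (Y ≫ z).left.app_surjective ⊤ (isAffineOpen_top U.left) b⟩
    rw [show (Y ≫ z).left = (pt Q _).left.isoSpec.hom ≫ Spec.map (Y ≫ z).left.appTop ≫ U.left.isoSpec.inv by
      rw [Scheme.isoSpec_inv_naturality, Iso.hom_inv_id_assoc]]
    infer_instance
  haveI : IsIso ((Over.forget _).map (Y ≫ z)) := ‹IsIso (Y ≫ z).left›
  haveI : IsIso (Y ≫ z) := isIso_of_reflects_iso _ (Over.forget _)
  exact IsIso.of_isIso_comp_left Y z

end Field

variable {R : Type u} [CommRing R] {G : Over (Spec (CommRingCat.of R))} [GrpObj G] [IsAffine G.left]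
  {M : Type} [AddCommGroup M] [Module.Free ℤ M] [Module.Finite ℤ M]
  {c : Red.DS (Spec (CommRingCat.of R)) M ⟶ G} [IsMonHom c] {idx : Type} [Fintype idx] {root : idx → M}
  {u : idx → (Red.Ga (Spec (CommRingCat.of R)) ⟶ G)}

/-- **The contracted subgroup is the product of the positive root subgroups, in any order.** -/
theorem Frame.isIso_prod (F : Frame c root u) (mu : M →+ ℤ) {m : ℕ} (e : Fin m → idx)
    (he : RedSub.Enumerates {a | 0 < mu (root a)} e)
    {U : Over (Spec (CommRingCat.of R))} [GrpObj U] {uU : U ⟶ G}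
    (hU : IsU (Red.DSmap (Spec (CommRingCat.of R)) mu ≫ c) uU) :
    ∃ z : RedSub.pow (Red.Ga (Spec (CommRingCat.of R))) m ≅ U,
      z.hom ≫ uU = RedSub.prodMap (Red.Ga (Spec (CommRingCat.of R))) m (fun l => u (e l)) := by
  let S := Spec (CommRingCat.of R)
  haveI := F.hG.1
  haveI := F.hG.2.1
  haveI := hU.1; haveI := hU.2.1
  obtain ⟨P, _, p, hP⟩ := exists_isP (G := G) (Red.DSmap S mu ≫ c)
  obtain ⟨Z, _, zZ, hZ, -, -⟩ := exists_centralizer_DS (G := G) inferInstance inferInstance (Red.DSmap S mu ≫ c)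
  haveI : Smooth U.hom := (smooth_isU inferInstance hP hU hZ).1
  have hpos : ∀ l, 0 < mu (root (e l)) := fun l => he.2.subset ⟨l, rfl⟩
  obtain ⟨z, hz⟩ := hU.exists_le (RedSub.prodMap (Red.Ga S) m fun l => u (e l)) fun B _ f y =>
    prodMap_mem_USub mu (fun l => F.hu (e l)) hpos y
  obtain ⟨Y, -, _⟩ := exists_powPt R m
  haveI : Smooth (RedSub.pow (Red.Ga S) m).hom := by
    haveI : IsIso (inv Y).left := inferInstanceAs (IsIso ((Over.forget _).map (inv Y)))
    rw [← Over.w (inv Y)]
    haveI : Smooth (Spec.map (CommRingCat.ofHom (MvPolynomial.C (σ := Fin m) (R := R)))) := by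
      rw [HasRingHomProperty.Spec_iff (P := @Smooth)]
      show RingHom.Smooth (algebraMap R (MvPolynomial (Fin m) R))
      rw [RingHom.smooth_algebraMap]
      exact ⟨inferInstance, inferInstance⟩
    show Smooth ((inv Y).left ≫ Spec.map (CommRingCat.ofHom MvPolynomial.C))
    infer_instance
  haveI : IsIso z := ParNorm.isIso_of_geomPts z fun s => by
    let τ := Red.geomPt s
    haveI : IsAffine (Red.bc τ G).left := (F.hG.2.2 s).1
    haveI : IsMonHom (bcHom' τ c) := isMonHom_bcHom' τ c
    haveI : Smooth (Red.bc τ G).hom := MorphismProperty.pullback_snd (P := @Smooth) G.hom τ inferInstance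
    obtain ⟨κ, hκ, hκw⟩ := exists_powBC τ (G := G) m
    haveI := hκ
    have hUK : IsU (Red.DSmap _ mu ≫ bcHom' τ c) ((Over.pullback τ).map uU) := by
      rw [← bcHom'_DSmap]; exact hU.bc τ
    haveI := (F.bc τ).isIso_prod_field mu e he hUK (κ ≫ (Over.pullback τ).map z) (by
      rw [Category.assoc, ← Functor.map_comp, hz, hκw])
    exact IsIso.of_isIso_comp_left κ _
  exact ⟨asIso z, hz⟩

end Groth.Agent.RootBase
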