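import Groth.Agent.RootBase.TypeRSolvable
import Groth.Agent.RootBase.TypeRSolv
import Groth.Agent.UnipTor.Main
import Groth.Agent.UniRad.Radical
import Groth.Agent.RedCent.Reductive
import Groth.Agent.RedR1.GaSpace

/-!
# Unipotent subgroups normalised by the torus, over an algebraically closed field
-/

set_option autoImplicit false
set_option backward.isDefEq.respectTransparency false
set_option linter.style.haveILetI false
set_option maxHeartbeats 1000000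
set_option synthInstance.maxHeartbeats 400000

universe u

open CategoryTheory Limits MonoidalCategory CartesianMonoidalCategory MonObj GrpObj AlgebraicGeometry LieS
open scoped CategoryTheory.Obj

noncomputable section

namespace Groth.Agent.RootBase

open Groth.Agent.HomDiag Groth.Agent.DynPar Groth.Agent.RootSys Groth.Agent.MTBridge

/-- A copy of an object, to carry another group law. -/
theorem exists_copy {S : Scheme.{u}} (X : Over S) : ∃ (P : Over S) (_ : X ≅ P), True := ⟨X, Iso.refl X, trivial⟩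

/-- **The product with a torus normalising a subgroup which meets it trivially is a subgroup.** -/
theorem exists_semidirect {S : Scheme.{u}} {G T U : Over S} [GrpObj G] [GrpObj T] [GrpObj U] (i : T ⟶ G) [IsMonHom i]
    [Mono i] (j : U ⟶ G) [IsMonHom j] [Mono j]
    (hnorm : ∀ (X : Over S) (x : X ⟶ T) (y : X ⟶ U), ∃ y' : X ⟶ U, (x ≫ i) * (y ≫ j) * (x ≫ i)⁻¹ = y' ≫ j)
    (hdisj : ∀ (X : Over S) (y : X ⟶ U) (x : X ⟶ T), y ≫ j = x ≫ i → y = 1) :
    ∃ (P : Over S) (_ : GrpObj P) (e : T ⊗ U ≅ P) (φ : P ⟶ G) (r : P ⟶ T) (lT : T ⟶ P) (lU : U ⟶ P),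
      IsMonHom φ ∧ Mono φ ∧ IsMonHom r ∧ IsMonHom lT ∧ IsMonHom lU ∧
      e.hom ≫ φ = (fst T U ≫ i) * (snd T U ≫ j) ∧ e.hom ≫ r = fst T U ∧
      lT = lift (𝟙 T) (1 : T ⟶ U) ≫ e.hom ∧ lU = lift (1 : U ⟶ T) (𝟙 U) ≫ e.hom ∧ lT ≫ φ = i ∧ lU ≫ φ = j := by
  obtain ⟨P, e, -⟩ := exists_copy (T ⊗ U)
  obtain ⟨φ, hφ⟩ : ∃ φ : P ⟶ G, φ = e.inv ≫ ((fst T U ≫ i) * (snd T U ≫ j)) := ⟨_, rfl⟩
  have he : e.hom ≫ φ = (fst T U ≫ i) * (snd T U ≫ j) := by rw [hφ, Iso.hom_inv_id_assoc]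
  have hev : ∀ {X : Over S} (w : X ⟶ T ⊗ U),
      w ≫ e.hom ≫ φ = ((w ≫ fst _ _) ≫ i) * ((w ≫ snd _ _) ≫ j) := fun w => by
    rw [he, MonObj.comp_mul, Category.assoc, Category.assoc]
  have hev' : ∀ {X : Over S} (w : X ⟶ P),
      w ≫ φ = ((w ≫ e.inv ≫ fst _ _) ≫ i) * ((w ≫ e.inv ≫ snd _ _) ≫ j) := fun w => by
    rw [hφ, MonObj.comp_mul, MonObj.comp_mul]; simp only [Category.assoc]
  have hinj : ∀ {X : Over S} (a b : X ⟶ T) (y z : X ⟶ U),
      (a ≫ i) * (y ≫ j) = (b ≫ i) * (z ≫ j) → a = b ∧ y = z := by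
    intro X a b y z e
    have h1 : (y * z⁻¹) ≫ j = (a⁻¹ * b) ≫ i := by
      rw [MonObj.mul_comp, MonObj.mul_comp, GrpObj.inv_comp, GrpObj.inv_comp, eq_inv_mul_iff_mul_eq,
        ← _root_.mul_assoc, e, mul_inv_cancel_right]
    have hyz : y = z := mul_inv_eq_one.1 (hdisj X _ _ h1)
    exact ⟨(cancel_mono i).1 (mul_right_cancel (hyz ▸ e : (a ≫ i) * (z ≫ j) = (b ≫ i) * (z ≫ j))), hyz⟩
  haveI : Mono φ := ⟨fun a b hab => by
    rw [hev', hev'] at hab
    obtain ⟨h1, h2⟩ := hinj _ _ _ _ hab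
    rw [← cancel_mono e.inv]
    exact CartesianMonoidalCategory.hom_ext _ _ ((Category.assoc _ _ _).trans (h1.trans (Category.assoc _ _ _).symm))
      ((Category.assoc _ _ _).trans (h2.trans (Category.assoc _ _ _).symm))⟩
  obtain ⟨hg, hm⟩ := MTBridge.exists_grpObj_of_div φ
    ⟨lift 1 1 ≫ e.hom, by
      rw [Category.assoc, hev, lift_fst, lift_snd, MonObj.one_comp, MonObj.one_comp, _root_.one_mul, Hom.one_def]
      simp⟩
    fun X k₁ k₂ => by
      obtain ⟨y', hy'⟩ := hnorm X ((k₁ ≫ e.inv ≫ fst _ _)⁻¹ * (k₂ ≫ e.inv ≫ fst _ _))⁻¹ (k₁ ≫ e.inv ≫ snd _ _)⁻¹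
      refine ⟨lift ((k₁ ≫ e.inv ≫ fst _ _)⁻¹ * (k₂ ≫ e.inv ≫ fst _ _)) (y' * (k₂ ≫ e.inv ≫ snd _ _)) ≫ e.hom, ?_⟩
      rw [Category.assoc, hev, hev' k₁, hev' k₂, lift_fst, lift_snd, MonObj.mul_comp y', ← hy']
      simp only [GrpObj.inv_comp, MonObj.mul_comp, _root_.mul_inv_rev, _root_.inv_inv]
      group
  letI := hg
  haveI := hm
  have h1 : (lift (𝟙 T) (1 : T ⟶ U) ≫ e.hom) ≫ φ = i := by
    rw [Category.assoc, hev, lift_fst, lift_snd, MonObj.one_comp, _root_.mul_one, Category.id_comp]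
  have h2 : (lift (1 : U ⟶ T) (𝟙 U) ≫ e.hom) ≫ φ = j := by
    rw [Category.assoc, hev, lift_fst, lift_snd, MonObj.one_comp, _root_.one_mul, Category.id_comp]
  refine ⟨P, hg, e, φ, e.inv ≫ fst T U, _, _, hm, inferInstance, ?_, MTSplit.isMonHom_of_comp_mono _ φ i h1,
    MTSplit.isMonHom_of_comp_mono _ φ j h2, he, Iso.hom_inv_id_assoc _ _, rfl, rfl, h1, h2⟩
  refine HomDiag.isMonHom_of_mul (e.inv ≫ fst T U) fun X a b => ?_
  have e1 := hev' (a * b)
  rw [MonObj.mul_comp, hev' a, hev' b] at e1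
  obtain ⟨y', hy'⟩ := hnorm X (b ≫ e.inv ≫ fst _ _)⁻¹ (a ≫ e.inv ≫ snd _ _)
  refine (hinj _ _ _ (y' * (b ≫ e.inv ≫ snd _ _)) (e1.symm.trans ?_)).1
  rw [MonObj.mul_comp y', ← hy']
  simp only [GrpObj.inv_comp, MonObj.mul_comp, _root_.inv_inv]
  group

/-- The ordered product inside a product with a torus. -/
theorem borel_factor {S : Scheme.{u}} {G T U P X : Over S} [GrpObj G] [GrpObj T] [GrpObj U] [GrpObj P] (c : T ⟶ G)
    (j : U ⟶ G) (e : T ⊗ U ≅ P) (φ : P ⟶ G) [IsMonHom φ] [Mono φ] (lT : T ⟶ P) (lU : U ⟶ P)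
    (he : e.hom ≫ φ = (fst T U ≫ c) * (snd T U ≫ j)) (hcP : lT ≫ φ = c) (hjP : lU ≫ φ = j) (π : X ⟶ U) :
    (fst T X ≫ lT) * (snd T X ≫ π ≫ lU) = (𝟙 T ⊗ₘ π) ≫ e.hom := by
  rw [← cancel_mono φ, Category.assoc, he, MonObj.mul_comp, MonObj.comp_mul, Category.assoc, Category.assoc,
    Category.assoc, hcP, hjP, tensorHom_fst_assoc, tensorHom_snd_assoc, Category.id_comp]

/-- An open and closed piece of a connected product is everything. -/
theorem isIso_of_tensor {S : Scheme.{u}} {T U P X : Over S} [GrpObj T] (e : T ⊗ U ≅ P) (π : X ⟶ U)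
    [IsClosedImmersion π.left] [IsOpenImmersion ((𝟙 T ⊗ₘ π) ≫ e.hom).left] [ConnectedSpace P.left]
    (o : 𝟙_ (Over S) ⟶ X) (s : S) : IsIso π := by
  let ψ₀ : T ⊗ X ⟶ T ⊗ U := 𝟙 T ⊗ₘ π
  haveI : IsIso e.inv.left := inferInstanceAs (IsIso ((Over.forget S).map e.inv))
  haveI : IsOpenImmersion ψ₀.left := by
    rw [show ψ₀ = (ψ₀ ≫ e.hom) ≫ e.inv by rw [Category.assoc, Iso.hom_inv_id, Category.comp_id], Over.comp_left]
    infer_instance
  haveI : IsClosedImmersion ψ₀.left := by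
    show IsClosedImmersion (T ◁ π).left
    rw [Over.whiskerLeft_left]
    exact MorphismProperty.pullback_map (P := @IsClosedImmersion) (inferInstance : IsClosedImmersion (𝟙 T.left))
      ‹IsClosedImmersion π.left› (Category.id_comp _).symm (Over.w π).symm
  haveI : ConnectedSpace (T ⊗ U).left :=
    Function.Surjective.connectedSpace (f := e.inv.left) e.inv.left.homeomorph.surjective e.inv.left.continuous
  haveI : Surjective ψ₀.left := ⟨fun x => by
    have hcl : IsClopen (Set.range ψ₀.left) :=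
      ⟨ψ₀.left.isClosedEmbedding.isClosed_range, ψ₀.left.isOpenEmbedding.isOpen_range⟩
    rcases isClopen_iff.1 hcl with h0 | h0
    · exact absurd h0 (Set.Nonempty.ne_empty ⟨_, (lift (1 : 𝟙_ (Over S) ⟶ T) o).left s, rfl⟩)
    · exact h0.ge trivial⟩
  haveI : Epi ψ₀.left.base := (TopCat.epi_iff_surjective _).2 ψ₀.left.surjective
  haveI : IsIso ψ₀.left := IsOpenImmersion.isIso ψ₀.left
  haveI : IsIso ((Over.forget S).map ψ₀) := ‹IsIso ψ₀.left›
  haveI : IsIso ψ₀ := isIso_of_reflects_iso ψ₀ (Over.forget S)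
  refine ⟨lift (toUnit U ≫ (1 : 𝟙_ (Over S) ⟶ T)) (𝟙 U) ≫ inv ψ₀ ≫ snd _ _, ?_, ?_⟩
  · have h1 : lift (toUnit X ≫ (1 : 𝟙_ (Over S) ⟶ T)) (𝟙 _) ≫ ψ₀ =
        π ≫ lift (toUnit U ≫ (1 : 𝟙_ (Over S) ⟶ T)) (𝟙 U) := by
      refine CartesianMonoidalCategory.hom_ext _ _ ?_ ?_ <;> simp [ψ₀]
    rw [← Category.assoc π, ← h1, Category.assoc, IsIso.hom_inv_id_assoc, lift_snd]
  · have h2 : inv ψ₀ ≫ snd _ _ ≫ π = snd T U := by
      rw [IsIso.inv_comp_eq]
      simp [ψ₀]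
    simp only [Category.assoc, h2, lift_snd]

set_option maxHeartbeats 8000000 in
/-- The cell without negative roots is the ordered product. -/
theorem cellC_zero {S : Scheme.{u}} {P : Over S} [GrpObj P] {M : Type} [AddCommGroup M] (c : Red.DS S M ⟶ P) {m : ℕ}
    (wn : Fin 0 → (Red.Ga S ⟶ P)) (wp : Fin m → (Red.Ga S ⟶ P)) :
    lift (toUnit (Red.DS S M ⊗ RedSub.pow (Red.Ga S) m)) (𝟙 _) ≫ cellC c wn wp = borelC c wp := by
  obtain ⟨h1, h2⟩ : lift (toUnit (Red.DS S M ⊗ RedSub.pow (Red.Ga S) m)) (𝟙 _) ≫ snd (RedSub.pow (Red.Ga S) 0) _ =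
      𝟙 (Red.DS S M ⊗ RedSub.pow (Red.Ga S) m) ∧ RedSub.prodMap (Red.Ga S) 0 wn = 1 := ⟨lift_snd _ _, rfl⟩
  rw [cellC, borelC, h2, MonObj.comp_mul, MonObj.comp_mul, MonObj.comp_one, MonObj.comp_one, _root_.one_mul,
    reassoc_of% h1, reassoc_of% h1]

section Field

variable {k : Type u} [Field k] [IsAlgClosed k] {G : Over (Spec (CommRingCat.of k))} [GrpObj G]
  [IsAffine G.left] [Smooth G.hom] [ConnectedSpace G.left] {M : Type} [AddCommGroup M] [Module.Free ℤ M]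
  [Module.Finite ℤ M] {c : Red.DS (Spec (CommRingCat.of k)) M ⟶ G} [IsMonHom c] {idx : Type} [Fintype idx]
  {root : idx → M} {u : idx → (Red.Ga (Spec (CommRingCat.of k)) ⟶ G)}

omit [IsAlgClosed k] in
/-- The additive group has no subtorus. -/
theorem hasNoSubtorus_ga [Infinite k] : Red.HasNoSubtorus k (Red.Ga (Spec (CommRingCat.of k))) := by
  intro T _ j hj _ hT
  haveI : IsMonHom j := hj
  refine TorusKilled.isTrivial T hT one_pos ?_
  have h1 : j = 1 := MTBridge.eq_one_Ga _ T (MTBridge.isMultTypeFT_of_isTorus T hT) j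
  rw [pow_one, ← cancel_mono j, Category.id_comp, h1, MonObj.comp_one]

omit [IsAlgClosed k] in
/-- An extension of a commutative group by a solvable one, on rational points. -/
theorem isSolvable_rp_of_retraction {T U P : Over (Spec (CommRingCat.of k))} [GrpObj T] [GrpObj U] [GrpObj P]
    [Group.IsSolvable (Chev.RP U)] (hT : ∀ a b : Chev.RP T, a * b = b * a) (r : P ⟶ T) [IsMonHom r] (lU : U ⟶ P)
    [IsMonHom lU] (hker : ∀ x : Chev.RP P, x ≫ r = 1 → ∃ y : Chev.RP U, y ≫ lU = x) :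
    Group.IsSolvable (Chev.RP P) := by
  letI : CommGroup (Chev.RP T) := { (inferInstance : Group (Chev.RP T)) with mul_comm := hT }
  exact solvable_of_ker_le_range (Chev.BorelFixed.rpHom lU) (Chev.BorelFixed.rpHom r) fun x hx => hker x hx

/-- An extension of a commutative group by a solvable one is solvable. -/
theorem isSolvableGrp_of_retraction {T U P : Over (Spec (CommRingCat.of k))} [GrpObj T] [GrpObj U] [GrpObj P]
    [Smooth P.hom] [QuasiCompact P.hom] [Group.IsSolvable (Chev.RP U)] (hT : ∀ a b : Chev.RP T, a * b = b * a)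
    (r : P ⟶ T) [IsMonHom r] (lU : U ⟶ P)
    [IsMonHom lU] (hker : ∀ x : Chev.RP P, x ≫ r = 1 → ∃ y : Chev.RP U, y ≫ lU = x) : Red.IsSolvableGrp P := by
  haveI := isSolvable_rp_of_retraction hT r lU hker
  exact Chev.Borel.isSolvableGrp_of_rp P

set_option maxHeartbeats 4000000 in
/-- The solvable product of a torus and a connected subgroup without subtori which it normalises. -/
theorem exists_solvable_product {G T U : Over (Spec (CommRingCat.of k))} [GrpObj G] [GrpObj T] [GrpObj U]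
    [LocallyOfFiniteType G.hom] [IsAffine G.left] (c : T ⟶ G) [IsMonHom c] [Mono c] (hT : Red.IsTorus T) (j : U ⟶ G) [IsMonHom j]
    [Mono j] [IsAffine U.left] [Smooth U.hom] [ConnectedSpace U.left] (hU : Red.HasNoSubtorus k U)
    (hnorm : ∀ (X : Over (Spec (CommRingCat.of k))) (x : X ⟶ T) (y : X ⟶ U), ∃ y' : X ⟶ U,
      (x ≫ c) * (y ≫ j) * (x ≫ c)⁻¹ = y' ≫ j)
    (hdisj : ∀ (X : Over (Spec (CommRingCat.of k))) (y : X ⟶ U) (x : X ⟶ T), y ≫ j = x ≫ c → y = 1) :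
    ∃ (P : Over (Spec (CommRingCat.of k))) (_ : GrpObj P) (e : T ⊗ U ≅ P) (φ : P ⟶ G) (r : P ⟶ T) (lT : T ⟶ P)
      (lU : U ⟶ P),
      (IsMonHom φ ∧ IsClosedImmersion φ.left ∧ IsMonHom r ∧ IsMonHom lT ∧ IsMonHom lU ∧ IsAffine P.left ∧
        Smooth P.hom ∧ ConnectedSpace P.left) ∧ Red.IsSolvableGrp P ∧
      e.hom ≫ φ = (fst T U ≫ c) * (snd T U ≫ j) ∧ e.hom ≫ r = fst T U ∧
      lT = lift (𝟙 T) (1 : T ⟶ U) ≫ e.hom ∧ lU = lift (1 : U ⟶ T) (𝟙 U) ≫ e.hom ∧ lT ≫ φ = c ∧ lU ≫ φ = j := by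
  let S := Spec (CommRingCat.of k)
  haveI : IsAffine T.left := Chev.isAffine_of_isTorus hT
  haveI : Smooth T.hom := Chev.smooth_of_isTorus hT
  obtain ⟨P, hP, e₀, φ, r, lT, lU, hφm, hφmono, hr, hlTm, hlUm, he, her, hlT, hlU, hcP, hjP⟩ :=
    exists_semidirect c j hnorm hdisj
  haveI := hφm; haveI := hφmono; haveI := hr; haveI := hlTm; haveI := hlUm
  haveI : ConnectedSpace T.left := Chev.connectedSpace_of_isTorus hT
  obtain ⟨hPc, hPs, -⟩ := UniRad.prod_conn T U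
  haveI := hPc; haveI := hPs
  haveI : IsAffine (T ⊗ U).left := inferInstanceAs (IsAffine (pullback T.hom U.hom))
  haveI : IsIso e₀.inv.left := inferInstanceAs (IsIso ((Over.forget S).map e₀.inv))
  haveI : IsIso e₀.hom.left := inferInstanceAs (IsIso ((Over.forget S).map e₀.hom))
  haveI : IsAffine P.left := IsAffine.of_isIso e₀.inv.left
  haveI : ConnectedSpace P.left :=
    Function.Surjective.connectedSpace (f := e₀.hom.left) e₀.hom.left.homeomorph.surjective e₀.hom.left.continuous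
  haveI : Smooth P.hom := by rw [← Over.w e₀.inv]; infer_instance
  haveI : Subsingleton ↥S := inferInstanceAs (Subsingleton (PrimeSpectrum k))
  haveI : Nonempty ↥S := inferInstanceAs (Nonempty (PrimeSpectrum k))
  haveI : IsAffineHom φ.left := isAffineHom_of_isAffine _
  haveI : IsClosedImmersion φ.left := GrpField.isClosedImmersion_of_mono φ
  haveI : IsAffineHom P.hom := isAffineHom_of_isAffine _
  haveI := RedCent.isSolvable_of_noSubtorus hU
  refine ⟨P, hP, e₀, φ, r, lT, lU, ⟨hφm, inferInstance, hr, hlTm, hlUm, inferInstance, inferInstance, inferInstance⟩,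
    isSolvableGrp_of_retraction (fun a b => RedR1.mul_comm_torus hT a b) r lU
    (fun x hx => ⟨x ≫ e₀.inv ≫ snd _ _, ?_⟩), he, her, hlT, hlU, hcP, hjP⟩
  have hx' : x ≫ e₀.inv ≫ fst T U = 1 := by
    rw [← her, Iso.inv_hom_id_assoc]; exact hx
  rw [hlU, ← Category.assoc, ← cancel_mono e₀.inv, Category.assoc, Iso.hom_inv_id, Category.comp_id]
  exact CartesianMonoidalCategory.hom_ext _ _ (by simp [hx']) (by simp)

set_option maxHeartbeats 40000000 in
/-- **A connected unipotent subgroup normalised by the torus is the product of its root groups.** -/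
theorem Frame.exists_unip_prod (F : Frame c root u) {U : Over (Spec (CommRingCat.of k))} [GrpObj U] (j : U ⟶ G)
    [IsMonHom j] [IsClosedImmersion j.left] [Smooth U.hom] [ConnectedSpace U.left] (hU : Red.HasNoSubtorus k U)
    (hnorm : ∀ (X : Over (Spec (CommRingCat.of k))) (x : X ⟶ Red.DS (Spec (CommRingCat.of k)) M) (y : X ⟶ U),
      ∃ y' : X ⟶ U, (x ≫ c) * (y ≫ j) * (x ≫ c)⁻¹ = y' ≫ j) :
    (∀ a (x : 𝟙_ (Over (Spec (CommRingCat.of k))) ⟶ Red.Ga (Spec (CommRingCat.of k)))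
        (w : 𝟙_ (Over (Spec (CommRingCat.of k))) ⟶ U), x ≫ u a = w ≫ j → x ≠ 1 → ∃ v, v ≫ j = u a) ∧
    ∃ mu : M →+ ℤ, (∀ a, mu (root a) ≠ 0) ∧ (∀ a, (∃ v, v ≫ j = u a) → 0 < mu (root a)) ∧
      ∀ {m : ℕ} (e : Fin m → idx), RedSub.Enumerates {a | ∃ v, v ≫ j = u a} e →
        ∃ ψ : RedSub.pow (Red.Ga (Spec (CommRingCat.of k))) m ≅ U,
          ψ.hom ≫ j = RedSub.prodMap (Red.Ga (Spec (CommRingCat.of k))) m (fun l => u (e l)) := by
  classical
  let S := Spec (CommRingCat.of k)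
  let T := Red.DS S M
  haveI := F.hG.1; haveI := F.hG.2.1
  haveI : Mono c := F.hc.2.1
  haveI : Mono j := Over.mono_of_mono_left j
  have hT : Red.IsTorus T := F.hc.2.2.1
  haveI : IsAffine T.left := Chev.isAffine_of_isTorus hT
  haveI : Smooth T.hom := Chev.smooth_of_isTorus hT
  haveI : IsAffine U.left := isAffine_of_isAffineHom j.left
  have hfib : ∀ s : S, ConnectedSpace (Red.geomFibre s U).left ∧
      Red.HasNoSubtorus (AlgebraicClosure (S.residueField s)) (Red.geomFibre s U) := fun s =>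
    (UniRad.geomFibre_unipotent_iff U s).2 ⟨inferInstance, hU⟩
  have hdisj : ∀ (X : Over S) (y : X ⟶ U) (x : X ⟶ T), y ≫ j = x ≫ c → y = 1 := fun X y x e => by
    rw [← pullback.lift_fst (f := j) (g := c) y x e, UnipTor.fst_eq_one c hT j hfib, MonObj.comp_one]
  obtain ⟨P, hP, e₀, φ, r, lT, lU, ⟨i1, i2, i3, i4, i5, i6, i7, i8⟩, hsol, he, her, hlT, hlU, hcP, hjP⟩ :=
    exists_solvable_product c hT j hU hnorm hdisj
  haveI := i1; haveI := i2; haveI := i3; haveI := i4; haveI := i5; haveI := i6; haveI := i7; haveI := i8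
  haveI : Mono φ := Over.mono_of_mono_left φ
  -- roots of the product
  haveI : ConnectedSpace (Red.Ga S).left := RedR1.connectedSpace_ga k
  have hroots : ∀ a, (∃ w, w ≫ φ = u a) ↔ ∃ v, v ≫ j = u a := by
    refine fun a => ⟨fun ⟨w, hw⟩ => ?_, fun ⟨v, hv⟩ => ⟨v ≫ lU, by rw [Category.assoc, hjP, hv]⟩⟩
    haveI := (F.hu a).1
    haveI : IsMonHom w := MTSplit.isMonHom_of_comp_mono w φ _ hw
    haveI : IsAffineHom (Red.Ga S).hom := isAffineHom_Ga S
    haveI : IsAffine (Red.Ga S).left := isAffine_of_isAffineHom (Red.Ga S).hom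
    haveI := smooth_Ga S
    have h1 : w ≫ r = 1 := UniRad.hom_torus_eq_one (hasNoSubtorus_ga) hT _
    refine ⟨w ≫ e₀.inv ≫ snd _ _, ?_⟩
    rw [← hw]
    conv_rhs => rw [show φ = e₀.inv ≫ ((fst T U ≫ c) * (snd T U ≫ j)) by rw [← he, Iso.inv_hom_id_assoc],
      MonObj.comp_mul, MonObj.comp_mul]
    have h2 : w ≫ e₀.inv ≫ fst T U = 1 := by rw [← h1, ← her, Iso.inv_hom_id_assoc]
    rw [reassoc_of% h2, MonObj.one_comp, _root_.one_mul]
    simp only [Category.assoc]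
    rfl
  obtain ⟨mu, hmu, hpos⟩ := F.exists_regular_of_solvable hcP hsol
  refine ⟨fun a x w hxw hx => ?_, mu, hmu, fun a ha => hpos a ((hroots a).2 ha), fun {m} e he' => ?_⟩
  · obtain ⟨r1, r2⟩ := ga_field k
    haveI := r1; haveI := r2
    exact (hroots a).1 (fac_of_point φ hcP (F.ne a) (F.hu a) (w := w ≫ lU) (by rw [Category.assoc, hjP, hxw]) hx)
  have heP : RedSub.Enumerates {a | (∃ w, w ≫ φ = u a) ∧ 0 < mu (root a)} e := by
    refine ⟨he'.1, he'.2.trans (Set.ext fun a => ⟨fun ha => ?_, fun ha => (hroots a).1 ha.1⟩)⟩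
    exact ⟨(hroots a).2 ha, hpos a ((hroots a).2 ha)⟩
  have hen : RedSub.Enumerates {a | (∃ w, w ≫ φ = u a) ∧ 0 < (-mu) (root a)} (Fin.elim0 : Fin 0 → idx) := by
    refine ⟨fun x => x.elim0, Eq.trans (Set.eq_empty_of_forall_notMem fun a ⟨l, _⟩ => l.elim0)
      (Set.eq_empty_of_forall_notMem fun a ha => ?_).symm⟩
    have h1 := hpos a ha.1
    have h2 := ha.2
    rw [AddMonoidHom.neg_apply] at h2
    omega
  choose v hv using fun l => (he'.2.subset ⟨l, rfl⟩ : ∃ v, v ≫ j = u (e l))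
  haveI hop := F.isOpenImmersion_sub_cell (h := φ) hcP mu hmu (Fin.elim0 : Fin 0 → idx) e hen heP
    Fin.elim0 (fun l => l.elim0) (fun l => v l ≫ lU) fun l => by rw [Category.assoc, hjP, hv]
  let π := RedSub.prodMap (Red.Ga S) m v
  haveI : IsClosedImmersion π.left := by
    haveI : IsClosedImmersion (π.left ≫ j.left) := by
      rw [← Over.comp_left, prodMap_comp_hom]
      simp only [hv]
      exact isClosedImmersion_prodMap mu (fun l => F.hu (e l)) (fun l => (heP.2.subset ⟨l, rfl⟩).2)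
        (F.inj.comp he'.1)
    exact IsClosedImmersion.of_comp π.left j.left
  have hb : borelC lT (fun l => v l ≫ lU) = (𝟙 (Red.DS S M) ⊗ₘ π) ≫ e₀.hom := by
    rw [← borel_factor c j e₀ φ lT lU he hcP hjP π, borelC, ← prodMap_comp_hom lU v]
  haveI : IsOpenImmersion ((𝟙 (Red.DS S M) ⊗ₘ π) ≫ e₀.hom).left := by
    haveI : IsIso (lift (toUnit (Red.DS S M ⊗ RedSub.pow (Red.Ga S) m)) (𝟙 _) :
        _ ⟶ RedSub.pow (Red.Ga S) 0 ⊗ (Red.DS S M ⊗ RedSub.pow (Red.Ga S) m)) :=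
      ⟨snd _ _, lift_snd _ _, CartesianMonoidalCategory.hom_ext _ _ (toUnit_unique _ _) (by simp)⟩
    haveI : IsIso (lift (toUnit (Red.DS S M ⊗ RedSub.pow (Red.Ga S) m)) (𝟙 _) :
        _ ⟶ RedSub.pow (Red.Ga S) 0 ⊗ (Red.DS S M ⊗ RedSub.pow (Red.Ga S) m)).left :=
      inferInstanceAs (IsIso ((Over.forget S).map (lift (toUnit (Red.DS S M ⊗ RedSub.pow (Red.Ga S) m)) (𝟙 _) :
        _ ⟶ RedSub.pow (Red.Ga S) 0 ⊗ (Red.DS S M ⊗ RedSub.pow (Red.Ga S) m))))
    rw [← hb, ← cellC_zero lT (Fin.elim0 : Fin 0 → (Red.Ga S ⟶ P)), Over.comp_left]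
    infer_instance
  obtain ⟨o, -⟩ := exists_origin (S := S) (G := G) m
  haveI : IsIso π := isIso_of_tensor e₀ π o (IsLocalRing.closedPoint k)
  exact ⟨asIso π, (prodMap_comp_hom j v).trans (by simp only [hv])⟩

end Field

end Groth.Agent.RootBase
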