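import Groth.Agent.RootBase.B2
import Groth.Agent.RootBase.G2

/-!
# The root groups of the plane of two simple roots, permuted up to sign by their Weyl elements
-/

set_option autoImplicit false
set_option backward.isDefEq.respectTransparency false
set_option linter.style.haveILetI false
set_option maxHeartbeats 1000000
set_option synthInstance.maxHeartbeats 400000

universe u

open CategoryTheory Limits MonoidalCategory CartesianMonoidalCategory MonObj GrpObj AlgebraicGeometry LieS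
open scoped CategoryTheory.Obj

noncomputable section

namespace Groth.Agent.RootBase

open Groth.Agent.HomDiag Groth.Agent.DynPar Groth.Agent.RootSys Groth.Agent.MTBridge

variable {S : Scheme.{u}} {G : Over S} [GrpObj G] {M : Type} [AddCommGroup M]
  {c : Red.DS S M ⟶ G} {idx : Type} {P : RootPairing idx ℤ M (Module.Dual ℤ M)} {u : idx → (Red.Ga S ⟶ G)}

/-- A conjugation carrying a homomorphism of `𝔾ₐ` to another one up to sign. -/
def SMove (N : 𝟙_ (Over S) ⟶ G) (v v' : Red.Ga S ⟶ G) : Prop :=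
  ∃ t : Γ(S, ⊤), Sgn t ∧ ∀ (X : Over S) (x : X ⟶ Red.Ga S), cj N (x ≫ v) = scl t x ≫ v'

theorem SMove.one (v : Red.Ga S ⟶ G) : SMove 1 v v := ⟨1, Sgn.one, fun X x => by rw [one_cj, scl_one]⟩

theorem SMove.comp {N N' : 𝟙_ (Over S) ⟶ G} {v v' v'' : Red.Ga S ⟶ G} (h : SMove N v v') (h' : SMove N' v' v'') :
    SMove (N' * N) v v'' := by
  obtain ⟨t, ht, e⟩ := h
  obtain ⟨t', ht', e'⟩ := h'
  exact ⟨t' * t, ht'.mul ht, fun X x => by rw [← cj_cj, e, e', scl_scl]⟩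

theorem SMove.flip {N : 𝟙_ (Over S) ⟶ G} {v v' : Red.Ga S ⟶ G} (h : SMove N v v') : SMove N⁻¹ v' v := by
  obtain ⟨t, ht, e⟩ := h
  refine ⟨t, ht, fun X x => ?_⟩
  have h' := congrArg (cj N⁻¹) (e X (scl t x))
  rw [cj_inv_cj, scl_scl, ht.sq_eq_one, scl_one] at h'
  exact h'.symm

theorem sgn_par (k : ℤ) : Sgn (par k : Γ(S, ⊤)) := by
  by_cases h : Even k
  · rw [par_even h]; exact Sgn.one
  · rw [par_odd h]; exact Sgn.one.neg

theorem IsWeyl.smove_sq {a a' : idx} {N : 𝟙_ (Over S) ⟶ G} (W : IsWeyl c P u a a' N) {v : Red.Ga S ⟶ G} {m : M}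
    (hv : Red.IsRootHom c (Red.chi S m) v) : SMove (N * N) v v :=
  ⟨_, sgn_par _, fun X x => by rw [← cj_cj, W.cj_sq hv]⟩

/-- Moving back along a Weyl element. -/
theorem IsWeyl.smove_back {a a' : idx} {N : 𝟙_ (Over S) ⟶ G} (W : IsWeyl c P u a a' N) {v v' : Red.Ga S ⟶ G}
    {m : M} (hv : Red.IsRootHom c (Red.chi S m) v) (h : SMove N v v') : SMove N v' v := by
  have h' := h.flip.comp (W.smove_sq hv)
  rwa [_root_.mul_assoc, mul_inv_cancel, _root_.mul_one] at h'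

theorem IsWeyl.smove_inv {a a' : idx} {N : 𝟙_ (Over S) ⟶ G} (W : IsWeyl c P u a a' N) {v v' : Red.Ga S ⟶ G}
    {m : M} (hv : Red.IsRootHom c (Red.chi S m) v) (h : SMove N⁻¹ v v') : SMove N v v' := by
  have h' := (W.smove_sq hv).comp h
  rwa [← _root_.mul_assoc, inv_mul_cancel, _root_.one_mul] at h'

/-- The positive half of the root groups in the plane of two simple roots. -/
structure IsHalf (c : Red.DS S M ⟶ G) (P : RootPairing idx ℤ M (Module.Dual ℤ M)) (u : idx → (Red.Ga S ⟶ G))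
    (a b : idx) (Na Nb : 𝟙_ (Over S) ⟶ G) (L : idx → (Red.Ga S ⟶ G) → Prop) : Prop where
  func : ∀ r v v', L r v → L r v' → v = v'
  root : ∀ r v, L r v → Red.IsRootHom c (Red.chi S (P.root r)) v
  combo : ∀ r v, L r v → ∃ p q : ℕ, P.root r = (p : ℤ) • P.root a + (q : ℤ) • P.root b
  mema : L a (u a)
  memb : L b (u b)
  mova : ∀ r v, L r v → r ≠ a → ∃ v', L (P.reflectionPerm a r) v' ∧ SMove Na v v'
  movb : ∀ r v, L r v → r ≠ b → ∃ v', L (P.reflectionPerm b r) v' ∧ SMove Nb v v'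

/-- All the root groups of the plane. -/
structure IsPlane (P : RootPairing idx ℤ M (Module.Dual ℤ M)) (u : idx → (Red.Ga S ⟶ G))
    (a b : idx) (Na Nb : 𝟙_ (Over S) ⟶ G) (L : idx → (Red.Ga S ⟶ G) → Prop) : Prop where
  func : ∀ r v v', L r v → L r v' → v = v'
  combo : ∀ r v, L r v → ∃ p q : ℤ, P.root r = p • P.root a + q • P.root b ∧ (0 ≤ p ∧ 0 ≤ q ∨ p ≤ 0 ∧ q ≤ 0)
  mema : L a (u a)
  memb : L b (u b)
  mova : ∀ r v, L r v → ∃ v', L (P.reflectionPerm a r) v' ∧ SMove Na v v'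
  movb : ∀ r v, L r v → ∃ v', L (P.reflectionPerm b r) v' ∧ SMove Nb v v'

/-- The exact relations of the Weyl elements of two roots spanning a plane, according to its type. -/
structure Rels (P : RootPairing idx ℤ M (Module.Dual ℤ M)) (u : idx → (Red.Ga S ⟶ G)) (a b : idx)
    (Na Nb : 𝟙_ (Over S) ⟶ G) : Prop where
  zero : P.pairing b a = 0 → P.pairing a b = 0 → ∀ (X : Over S) (x : X ⟶ Red.Ga S), cj Na (x ≫ u b) = x ≫ u b
  comm : P.pairing b a = 0 → P.pairing a b = 0 → Na * Nb = Nb * Na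
  one : P.pairing b a = -1 → P.pairing a b = -1 →
    ∀ (X : Over S) (x : X ⟶ Red.Ga S), cj Na (x ≫ u b) = cj Nb (x⁻¹ ≫ u a)
  braid₁ : P.pairing b a = -1 → P.pairing a b = -1 → Na * Nb * Na⁻¹ = Nb * Na⁻¹ * Nb⁻¹
  two : P.pairing b a = -2 → P.pairing a b = -1 →
    (∀ (X : Over S) (x : X ⟶ Red.Ga S), cj Na (cj Nb (x ≫ u a)) = cj Nb (x⁻¹ ≫ u a)) ∧
      ∀ (X : Over S) (x : X ⟶ Red.Ga S), cj Nb (cj Na (x ≫ u b)) = cj Na (x ≫ u b)
  braid₂ : P.pairing b a = -2 → P.pairing a b = -1 → Nb * (Na * Nb * Na⁻¹) = Na * Nb * Na⁻¹ * Nb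
  three : P.pairing b a = -3 → P.pairing a b = -1 →
    (∀ (X : Over S) (x : X ⟶ Red.Ga S), cj Na (cj Nb (cj Na (x ≫ u b))) = cj Nb (cj Na (x ≫ u b))) ∧
      ∀ (X : Over S) (x : X ⟶ Red.Ga S), cj Nb (cj Na (cj Nb (x ≫ u a))) = cj Na (cj Nb (x ≫ u a))
  braid₃ : P.pairing b a = -3 → P.pairing a b = -1 →
    Nb * (Na * Nb * Na * (Na * Nb)⁻¹) = Na * Nb * Na * (Na * Nb)⁻¹ * Nb

/-- The relations of a pair in both orders. -/
abbrev Rels₂ (P : RootPairing idx ℤ M (Module.Dual ℤ M)) (u : idx → (Red.Ga S ⟶ G)) (a b : idx)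
    (Na Nb : 𝟙_ (Over S) ⟶ G) : Prop := Rels P u a b Na Nb ∧ Rels P u b a Nb Na

variable [Module.Free ℤ M] [Module.Finite ℤ M] [Fintype idx] [P.IsReduced]

theorem IsHalf.swap {a b : idx} {Na Nb : 𝟙_ (Over S) ⟶ G} {L : idx → (Red.Ga S ⟶ G) → Prop}
    (h : IsHalf c P u a b Na Nb L) : IsHalf c P u b a Nb Na L :=
  ⟨h.func, h.root, fun r v hr => by obtain ⟨p, q, e⟩ := h.combo r v hr; exact ⟨q, p, by rw [e, add_comm]⟩,
    h.memb, h.mema, h.movb, h.mova⟩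

/-- The four kinds of planes. -/
theorem pairing_simple {a b : idx} (hli : ∀ x y : ℤ, x • P.root a + y • P.root b = 0 → x = 0 ∧ y = 0)
    (hbot : P.root b - P.root a ∉ Set.range P.root) :
    (P.pairing b a = 0 ∧ P.pairing a b = 0) ∨ (P.pairing b a = -1 ∧ P.pairing a b = -1) ∨
      (P.pairing b a = -2 ∧ P.pairing a b = -1) ∨ (P.pairing b a = -1 ∧ P.pairing a b = -2) ∨
      (P.pairing b a = -3 ∧ P.pairing a b = -1) ∨ (P.pairing b a = -1 ∧ P.pairing a b = -3) := by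
  obtain ⟨p, q, hpq, -, -, hb⟩ := exists_chain P hli
  have hp : p = 0 := by
    by_contra h
    obtain ⟨e, he⟩ := (hb 1).2 (by omega)
    exact hbot ⟨e, by rw [he]; module⟩
  have h1 := P.pairingIn_pairingIn_mem_set_of_isCrystal_of_isRed' (i := b) (j := a)
    (fun h => by obtain ⟨h2, -⟩ := hli 1 (-1) (by rw [h]; module); omega)
    (fun h => by obtain ⟨h2, -⟩ := hli 1 1 (by rw [h]; module); omega)
  simp only [pairingIn_int, Set.mem_insert_iff, Set.mem_singleton_iff, Prod.mk.injEq] at h1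
  omega

variable (hcor : ∀ x y, P.coroot x (P.root y) = P.pairing y x) {a a' b b' : idx} {Na Nb : 𝟙_ (Over S) ⟶ G}
include hcor

theorem half_zero (hR : Rels₂ P u a b Na Nb) (Wa : IsWeyl c P u a a' Na) (Wb : IsWeyl c P u b b' Nb)
    (hli : ∀ x y : ℤ, x • P.root a + y • P.root b = 0 → x = 0 ∧ y = 0)
    (hba : P.pairing b a = 0) (hab : P.pairing a b = 0) : ∃ L, IsHalf c P u a b Na Nb L := by
  have e1 : P.reflectionPerm a b = b := P.root.injective (by rw [root_refl, hba]; module)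
  have e2 : P.reflectionPerm b a = a := P.root.injective (by rw [root_refl, hab]; module)
  refine ⟨fun r v => (r = a ∧ v = u a) ∨ (r = b ∧ v = u b), ⟨?_, ?_, ?_, Or.inl ⟨rfl, rfl⟩, Or.inr ⟨rfl, rfl⟩, ?_, ?_⟩⟩
  · rintro r v v' (⟨h, rfl⟩ | ⟨h, rfl⟩) (⟨h', rfl⟩ | ⟨h', rfl⟩) <;> simp only [h] at h' <;>
      first | rfl | rw [h']
  · rintro r v (⟨rfl, rfl⟩ | ⟨rfl, rfl⟩)
    exacts [Wa.hua, Wb.hua]
  · rintro r v (⟨rfl, rfl⟩ | ⟨rfl, rfl⟩)
    exacts [⟨1, 0, by simp⟩, ⟨0, 1, by simp⟩]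
  · rintro r v (⟨rfl, rfl⟩ | ⟨rfl, rfl⟩) hr
    · exact absurd rfl hr
    · rw [e1]
      exact ⟨u r, Or.inr ⟨rfl, rfl⟩, 1, Sgn.one, fun X x => by rw [scl_one, hR.1.zero hba hab]⟩
  · rintro r v (⟨rfl, rfl⟩ | ⟨rfl, rfl⟩) hr
    · rw [e2]
      exact ⟨u r, Or.inl ⟨rfl, rfl⟩, 1, Sgn.one, fun X x => by
        rw [scl_one, hR.2.zero hab hba]⟩
    · exact absurd rfl hr

theorem half_one (hR : Rels₂ P u a b Na Nb) (Wa : IsWeyl c P u a a' Na) (Wb : IsWeyl c P u b b' Nb)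
    (hli : ∀ x y : ℤ, x • P.root a + y • P.root b = 0 → x = 0 ∧ y = 0)
    (hba : P.pairing b a = -1) (hab : P.pairing a b = -1) :
    ∃ L, IsHalf c P u a b Na Nb L := by
  let t := P.reflectionPerm b a
  have ht : P.root t = P.root a + P.root b := by rw [show t = P.reflectionPerm b a from rfl, root_refl, hab]; module
  have e1 : P.reflectionPerm a b = t := P.root.injective (by rw [root_refl, hba, ht]; module)
  have e2 : P.reflectionPerm a t = b := by rw [← e1, P.reflectionPerm_self]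
  have e3 : P.reflectionPerm b t = a := P.reflectionPerm_self b a
  have hv : Red.IsRootHom c (Red.chi S (P.root t)) (cj Nb (u a)) := Wb.rootHom_refl hcor Wa.hua
  have m1 : SMove Nb (u a) (cj Nb (u a)) := ⟨1, Sgn.one, fun X x => by rw [scl_one, comp_cj]⟩
  have m2 : SMove Na (u b) (cj Nb (u a)) := ⟨-1, Sgn.one.neg, fun X x => by
    rw [scl_neg_one, comp_cj, hR.1.one hba hab]⟩
  have hab' : a ≠ b := fun h => by obtain ⟨h1, -⟩ := hli 1 (-1) (by rw [h]; module); omega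
  have hat : a ≠ t := fun h => by obtain ⟨-, h1⟩ := hli 0 1 (by rw [h] at ht; linear_combination (norm := module) -(1:ℤ) • ht); omega
  have hbt : b ≠ t := fun h => by obtain ⟨h1, -⟩ := hli 1 0 (by rw [h] at ht; linear_combination (norm := module) -(1:ℤ) • ht); omega
  refine ⟨fun r v => (r = a ∧ v = u a) ∨ (r = b ∧ v = u b) ∨ (r = t ∧ v = cj Nb (u a)),
    ⟨?_, ?_, ?_, Or.inl ⟨rfl, rfl⟩, Or.inr (Or.inl ⟨rfl, rfl⟩), ?_, ?_⟩⟩
  · rintro r v v' (⟨h, rfl⟩ | ⟨h, rfl⟩ | ⟨h, rfl⟩) (⟨h', rfl⟩ | ⟨h', rfl⟩ | ⟨h', rfl⟩) <;>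
      first
        | rfl
        | exact absurd (h.symm.trans h') ‹_›
        | exact absurd (h'.symm.trans h) ‹_›
  · rintro r v (⟨rfl, rfl⟩ | ⟨rfl, rfl⟩ | ⟨rfl, rfl⟩)
    exacts [Wa.hua, Wb.hua, hv]
  · rintro r v (⟨rfl, rfl⟩ | ⟨rfl, rfl⟩ | ⟨rfl, rfl⟩)
    exacts [⟨1, 0, by simp⟩, ⟨0, 1, by simp⟩, ⟨1, 1, by simp [ht]⟩]
  · rintro r v (⟨rfl, rfl⟩ | ⟨rfl, rfl⟩ | ⟨rfl, rfl⟩) hr
    · exact absurd rfl hr
    · exact ⟨_, Or.inr (Or.inr ⟨e1, rfl⟩), m2⟩
    · exact ⟨_, Or.inr (Or.inl ⟨e2, rfl⟩), Wa.smove_back Wb.hua m2⟩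
  · rintro r v (⟨rfl, rfl⟩ | ⟨rfl, rfl⟩ | ⟨rfl, rfl⟩) hr
    · exact ⟨_, Or.inr (Or.inr ⟨rfl, rfl⟩), m1⟩
    · exact absurd rfl hr
    · exact ⟨_, Or.inl ⟨e3, rfl⟩, Wb.smove_back Wa.hua m1⟩

theorem half_two (hR : Rels₂ P u a b Na Nb) (Wa : IsWeyl c P u a a' Na) (Wb : IsWeyl c P u b b' Nb)
    (hli : ∀ x y : ℤ, x • P.root a + y • P.root b = 0 → x = 0 ∧ y = 0)
    (hba : P.pairing b a = -2) (hab : P.pairing a b = -1) :
    ∃ L, IsHalf c P u a b Na Nb L := by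
  let c₁ := P.reflectionPerm b a
  let c₂ := P.reflectionPerm a b
  have h1 : P.root c₁ = P.root a + P.root b := by
    rw [show c₁ = P.reflectionPerm b a from rfl, root_refl, hab]; module
  have h2 : P.root c₂ = (2 : ℤ) • P.root a + P.root b := by
    rw [show c₂ = P.reflectionPerm a b from rfl, root_refl, hba]; module
  obtain ⟨r3, r4⟩ := hR.1.two hba hab
  have hne : ∀ (l r : idx) (p q p' q' : ℤ), P.root l = p • P.root a + q • P.root b →
      P.root r = p' • P.root a + q' • P.root b → (p ≠ p' ∨ q ≠ q') → l ≠ r := by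
    rintro l r p q p' q' h h' hpq rfl
    obtain ⟨e1, e2⟩ := hli (p - p') (q - q') (by linear_combination (norm := module) h' - h)
    omega
  have ea : P.root a = (1 : ℤ) • P.root a + (0 : ℤ) • P.root b := by module
  have eb : P.root b = (0 : ℤ) • P.root a + (1 : ℤ) • P.root b := by module
  have e1 : P.root c₁ = (1 : ℤ) • P.root a + (1 : ℤ) • P.root b := by rw [h1]; module
  have e2 : P.root c₂ = (2 : ℤ) • P.root a + (1 : ℤ) • P.root b := by rw [h2]; module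
  have n1 := hne a b _ _ _ _ ea eb (by omega); have n2 := hne a c₁ _ _ _ _ ea e1 (by omega)
  have n3 := hne a c₂ _ _ _ _ ea e2 (by omega); have n4 := hne b c₁ _ _ _ _ eb e1 (by omega)
  have n5 := hne b c₂ _ _ _ _ eb e2 (by omega); have n6 := hne c₁ c₂ _ _ _ _ e1 e2 (by omega)
  have p1 : P.reflectionPerm a c₁ = c₁ := P.root.injective (by
    rw [root_refl, pairing_root_combo e1, P.pairing_same, hba]; module)
  have p2 : P.reflectionPerm b c₂ = c₂ := P.root.injective (by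
    rw [root_refl, pairing_root_combo e2, P.pairing_same, hab]; module)
  have v1 : Red.IsRootHom c (Red.chi S (P.root c₁)) (cj Nb (u a)) := Wb.rootHom_refl hcor Wa.hua
  have v2 : Red.IsRootHom c (Red.chi S (P.root c₂)) (cj Na (u b)) := Wa.rootHom_refl hcor Wb.hua
  have ma : SMove Nb (u a) (cj Nb (u a)) := ⟨1, Sgn.one, fun X x => by rw [scl_one, comp_cj]⟩
  have mb : SMove Na (u b) (cj Na (u b)) := ⟨1, Sgn.one, fun X x => by rw [scl_one, comp_cj]⟩
  have m1 : SMove Na (cj Nb (u a)) (cj Nb (u a)) := ⟨-1, Sgn.one.neg, fun X x => by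
    rw [scl_neg_one, comp_cj, comp_cj, r3]⟩
  have m2 : SMove Nb (cj Na (u b)) (cj Na (u b)) := ⟨1, Sgn.one, fun X x => by rw [scl_one, comp_cj, r4]⟩
  refine ⟨fun r v => (r = a ∧ v = u a) ∨ (r = b ∧ v = u b) ∨ (r = c₁ ∧ v = cj Nb (u a)) ∨ (r = c₂ ∧ v = cj Na (u b)),
    ⟨?_, ?_, ?_, Or.inl ⟨rfl, rfl⟩, Or.inr (Or.inl ⟨rfl, rfl⟩), ?_, ?_⟩⟩
  · rintro r v v' (⟨h, rfl⟩ | ⟨h, rfl⟩ | ⟨h, rfl⟩ | ⟨h, rfl⟩) (⟨h', rfl⟩ | ⟨h', rfl⟩ | ⟨h', rfl⟩ | ⟨h', rfl⟩) <;>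
      first
        | rfl
        | exact absurd (h.symm.trans h') ‹_›
        | exact absurd (h'.symm.trans h) ‹_›
  · rintro r v (⟨rfl, rfl⟩ | ⟨rfl, rfl⟩ | ⟨rfl, rfl⟩ | ⟨rfl, rfl⟩)
    exacts [Wa.hua, Wb.hua, v1, v2]
  · rintro r v (⟨rfl, rfl⟩ | ⟨rfl, rfl⟩ | ⟨rfl, rfl⟩ | ⟨rfl, rfl⟩)
    exacts [⟨1, 0, by simp⟩, ⟨0, 1, by simp⟩, ⟨1, 1, by simp [h1]⟩, ⟨2, 1, by simp [h2]⟩]
  · rintro r v (⟨rfl, rfl⟩ | ⟨rfl, rfl⟩ | ⟨rfl, rfl⟩ | ⟨rfl, rfl⟩) hr
    · exact absurd rfl hr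
    · exact ⟨_, Or.inr (Or.inr (Or.inr ⟨rfl, rfl⟩)), mb⟩
    · exact ⟨_, Or.inr (Or.inr (Or.inl ⟨p1, rfl⟩)), m1⟩
    · exact ⟨_, Or.inr (Or.inl ⟨P.reflectionPerm_self a b, rfl⟩), Wa.smove_back Wb.hua mb⟩
  · rintro r v (⟨rfl, rfl⟩ | ⟨rfl, rfl⟩ | ⟨rfl, rfl⟩ | ⟨rfl, rfl⟩) hr
    · exact ⟨_, Or.inr (Or.inr (Or.inl ⟨rfl, rfl⟩)), ma⟩
    · exact absurd rfl hr
    · exact ⟨_, Or.inl ⟨P.reflectionPerm_self b a, rfl⟩, Wb.smove_back Wa.hua ma⟩
    · exact ⟨_, Or.inr (Or.inr (Or.inr ⟨p2, rfl⟩)), m2⟩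

theorem half_three (hR : Rels₂ P u a b Na Nb) (Wa : IsWeyl c P u a a' Na) (Wb : IsWeyl c P u b b' Nb)
    (hli : ∀ x y : ℤ, x • P.root a + y • P.root b = 0 → x = 0 ∧ y = 0)
    (hba : P.pairing b a = -3) (hab : P.pairing a b = -1) : ∃ L, IsHalf c P u a b Na Nb L := by
  let c₁ := P.reflectionPerm b a
  let c₂ := P.reflectionPerm a c₁
  let c₃ := P.reflectionPerm a b
  let c₄ := P.reflectionPerm b c₃
  have ea : P.root a = (1 : ℤ) • P.root a + (0 : ℤ) • P.root b := by module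
  have eb : P.root b = (0 : ℤ) • P.root a + (1 : ℤ) • P.root b := by module
  have e1 : P.root c₁ = (1 : ℤ) • P.root a + (1 : ℤ) • P.root b := by
    rw [show c₁ = P.reflectionPerm b a from rfl, root_refl, hab]; module
  have e2 : P.root c₂ = (2 : ℤ) • P.root a + (1 : ℤ) • P.root b := by
    rw [show c₂ = P.reflectionPerm a c₁ from rfl, root_refl, pairing_root_combo e1, P.pairing_same, hba, e1]; module
  have e3 : P.root c₃ = (3 : ℤ) • P.root a + (1 : ℤ) • P.root b := by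
    rw [show c₃ = P.reflectionPerm a b from rfl, root_refl, hba]; module
  have e4 : P.root c₄ = (3 : ℤ) • P.root a + (2 : ℤ) • P.root b := by
    rw [show c₄ = P.reflectionPerm b c₃ from rfl, root_refl, pairing_root_combo e3, P.pairing_same, hab, e3]; module
  have p4 : P.reflectionPerm a c₄ = c₄ := P.root.injective (by
    rw [root_refl, pairing_root_combo e4, P.pairing_same, hba]; module)
  have p2 : P.reflectionPerm b c₂ = c₂ := P.root.injective (by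
    rw [root_refl, pairing_root_combo e2, P.pairing_same, hab]; module)
  let V₁ := cj Nb (u a)
  let V₂ := cj Na V₁
  let V₃ := cj Na (u b)
  let V₄ := cj Nb V₃
  have h1 : Red.IsRootHom c (Red.chi S (P.root c₁)) V₁ := Wb.rootHom_refl hcor Wa.hua
  have h2 : Red.IsRootHom c (Red.chi S (P.root c₂)) V₂ := Wa.rootHom_refl hcor h1
  have h3 : Red.IsRootHom c (Red.chi S (P.root c₃)) V₃ := Wa.rootHom_refl hcor Wb.hua
  have h4 : Red.IsRootHom c (Red.chi S (P.root c₄)) V₄ := Wb.rootHom_refl hcor h3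
  have step : ∀ (N : 𝟙_ (Over S) ⟶ G) (V : Red.Ga S ⟶ G), SMove N V (cj N V) := fun N V =>
    ⟨1, Sgn.one, fun X x => by rw [scl_one, comp_cj]⟩
  obtain ⟨f4, f2⟩ := hR.1.three hba hab
  have m4 : SMove Na V₄ V₄ := ⟨1, Sgn.one, fun X x => by
    rw [scl_one, show x ≫ V₄ = cj Nb (cj Na (x ≫ u b)) by simp only [V₄, V₃, comp_cj], f4]⟩
  have m2 : SMove Nb V₂ V₂ := ⟨1, Sgn.one, fun X x => by
    rw [scl_one, show x ≫ V₂ = cj Na (cj Nb (x ≫ u a)) by simp only [V₂, V₁, comp_cj], f2]⟩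
  let T : Fin 6 → idx × (Red.Ga S ⟶ G) := ![(a, u a), (b, u b), (c₁, V₁), (c₂, V₂), (c₃, V₃), (c₄, V₄)]
  let p : Fin 6 → ℕ := ![1, 0, 1, 2, 3, 3]
  let q : Fin 6 → ℕ := ![0, 1, 1, 1, 1, 2]
  have hT : ∀ k, P.root (T k).1 = (p k : ℤ) • P.root a + (q k : ℤ) • P.root b := fun k => by
    fin_cases k
    exacts [ea, eb, e1, e2, e3, e4]
  have hinj : Function.Injective fun k => (T k).1 := fun k l h => by
    have e := (hT k).symm.trans ((congrArg P.root h).trans (hT l))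
    obtain ⟨h5, h6⟩ := hli ((p k : ℤ) - p l) ((q k : ℤ) - q l) (by linear_combination (norm := module) e)
    have key : ∀ k l : Fin 6, p k = p l → q k = q l → k = l := by decide
    exact key k l (by omega) (by omega)
  have mk : ∀ k, ∃ k', T k' = T k := fun k => ⟨k, rfl⟩
  refine ⟨fun r v => ∃ k, T k = (r, v), ⟨?_, ?_, ?_, mk 0, mk 1, ?_, ?_⟩⟩
  · rintro r v v' ⟨k, hk⟩ ⟨l, hl⟩
    obtain rfl : k = l := hinj (by simp only [hk, hl])
    exact (Prod.mk.inj (hk.symm.trans hl)).2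
  · rintro r v ⟨k, hk⟩
    obtain ⟨rfl, rfl⟩ := Prod.mk.inj hk.symm
    fin_cases k
    exacts [Wa.hua, Wb.hua, h1, h2, h3, h4]
  · rintro r v ⟨k, hk⟩
    obtain ⟨rfl, rfl⟩ := Prod.mk.inj hk.symm
    exact ⟨p k, q k, hT k⟩
  · rintro r v ⟨k, hk⟩ hr
    obtain ⟨rfl, rfl⟩ := Prod.mk.inj hk.symm
    fin_cases k
    · exact absurd rfl hr
    · exact ⟨V₃, mk 4, step Na (u b)⟩
    · exact ⟨V₂, mk 3, step Na V₁⟩
    · exact ⟨V₁, ⟨2, Prod.ext (P.reflectionPerm_self a c₁).symm rfl⟩, Wa.smove_back h1 (step Na V₁)⟩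
    · exact ⟨u b, ⟨1, Prod.ext (P.reflectionPerm_self a b).symm rfl⟩, Wa.smove_back Wb.hua (step Na (u b))⟩
    · exact ⟨V₄, ⟨5, Prod.ext p4.symm rfl⟩, m4⟩
  · rintro r v ⟨k, hk⟩ hr
    obtain ⟨rfl, rfl⟩ := Prod.mk.inj hk.symm
    fin_cases k
    · exact ⟨V₁, mk 2, step Nb (u a)⟩
    · exact absurd rfl hr
    · exact ⟨u a, ⟨0, Prod.ext (P.reflectionPerm_self b a).symm rfl⟩, Wb.smove_back Wa.hua (step Nb (u a))⟩
    · exact ⟨V₂, ⟨3, Prod.ext p2.symm rfl⟩, m2⟩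
    · exact ⟨V₄, mk 5, step Nb V₃⟩
    · exact ⟨V₃, ⟨4, Prod.ext (P.reflectionPerm_self b c₃).symm rfl⟩, Wb.smove_back h3 (step Nb V₃)⟩

/-- Any two simple roots have a positive half. -/
theorem exists_half (hR : Rels₂ P u a b Na Nb) (Wa : IsWeyl c P u a a' Na) (Wb : IsWeyl c P u b b' Nb)
    (hli : ∀ x y : ℤ, x • P.root a + y • P.root b = 0 → x = 0 ∧ y = 0)
    (hbot : P.root b - P.root a ∉ Set.range P.root) :
    ∃ L, IsHalf c P u a b Na Nb L := by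
  rcases pairing_simple hli hbot with ⟨h, h'⟩ | ⟨h, h'⟩ | ⟨h, h'⟩ | ⟨h, h'⟩ | ⟨h, h'⟩ | ⟨h, h'⟩
  · exact half_zero hcor hR Wa Wb hli h h'
  · exact half_one hcor hR Wa Wb hli h h'
  · exact half_two hcor hR Wa Wb hli h h'
  · obtain ⟨L, hL⟩ := half_two hcor hR.symm Wb Wa (li_symm P hli) h' h
    exact ⟨L, hL.swap⟩
  · exact half_three hcor hR Wa Wb hli h h'
  · obtain ⟨L, hL⟩ := half_three hcor hR.symm Wb Wa (li_symm P hli) h' h
    exact ⟨L, hL.swap⟩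

/-- **The root groups of the plane of two simple roots.** -/
theorem exists_isPlane (hR : Rels₂ P u a b Na Nb) (Wa : IsWeyl c P u a a' Na) (Wb : IsWeyl c P u b b' Nb)
    (hli : ∀ x y : ℤ, x • P.root a + y • P.root b = 0 → x = 0 ∧ y = 0)
    (hbot : P.root b - P.root a ∉ Set.range P.root) (hR' : Rels₂ P u a' b' Na⁻¹ Nb⁻¹) :
    ∃ L, IsPlane P u a b Na Nb L := by
  obtain ⟨L, hL⟩ := exists_half hcor hR Wa Wb hli hbot
  have hneg : ∀ x y : idx, P.root x - P.root y ∉ Set.range P.root → -P.root x - -P.root y ∉ Set.range P.root :=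
    fun x y h h' => h (by
      rw [show P.root x - P.root y = -(-P.root x - -P.root y) by abel]; exact P.neg_mem_range_root_iff.2 h')
  obtain ⟨L', hL'⟩ := exists_half hcor hR' Wa.symm Wb.symm (li_symm P (li_neg (li_symm P (li_neg hli Wa.opp)) Wb.opp))
    (by rw [Wa.opp, Wb.opp]; exact hneg b a hbot)
  have hop : ∀ {x x' : idx}, P.root x' = -P.root x → P.reflectionPerm x x = x' := fun h =>
    P.root.injective (by rw [root_opp, h])
  have hrf : ∀ {x x' : idx} {N : 𝟙_ (Over S) ⟶ G}, IsWeyl c P u x x' N → ∀ r,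
      P.reflectionPerm x' r = P.reflectionPerm x r := fun {x x' N} W r => P.root.injective (by
    rw [root_refl, root_refl, ← hcor, ← hcor, W.hcor, W.opp, neg_smul, smul_neg, neg_neg])
  have hpos : ∀ r v, L r v → ∀ v', ¬ L' r v' := fun r v hr v' hr' => by
    obtain ⟨p, q, e⟩ := hL.combo r v hr
    obtain ⟨p', q', e'⟩ := hL'.combo r v' hr'
    obtain ⟨h1, h2⟩ := hli ((p : ℤ) + p') ((q : ℤ) + q') (by
      rw [Wa.opp, Wb.opp, e] at e'
      linear_combination (norm := module) e')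
    refine P.ne_zero r ?_
    rw [e, show p = 0 by omega, show q = 0 by omega]; simp
  refine ⟨fun r v => L r v ∨ L' r v, ⟨?_, ?_, Or.inl hL.mema, Or.inl hL.memb, ?_, ?_⟩⟩
  · rintro r v v' (h | h) (h' | h')
    exacts [hL.func r v v' h h', absurd h' (hpos r v h v'), absurd h (hpos r v' h' v), hL'.func r v v' h h']
  · rintro r v (h | h)
    · obtain ⟨p, q, e⟩ := hL.combo r v h
      exact ⟨p, q, e, Or.inl ⟨by omega, by omega⟩⟩
    · obtain ⟨p, q, e⟩ := hL'.combo r v h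
      exact ⟨-p, -q, by rw [e, Wa.opp, Wb.opp]; module, Or.inr ⟨by omega, by omega⟩⟩
  · rintro r v (h | h)
    · by_cases hr : r = a
      · subst hr
        rw [hL.func r v (u r) h hL.mema, hop Wa.opp]
        exact ⟨_, Or.inr hL'.mema, -1, Sgn.one.neg, fun X x => by rw [Wa.pos, scl_neg_one]⟩
      · obtain ⟨v', h1, h2⟩ := hL.mova r v h hr
        exact ⟨v', Or.inl h1, h2⟩
    · by_cases hr : r = a'
      · subst hr
        rw [hL'.func r v (u r) h hL'.mema, ← hop Wa.opp, P.reflectionPerm_self, hop Wa.opp]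
        exact ⟨_, Or.inl hL.mema, -1, Sgn.one.neg, fun X x => by rw [Wa.neg, scl_neg_one]⟩
      · obtain ⟨v', h1, h2⟩ := hL'.mova r v h hr
        exact ⟨v', Or.inr (by rwa [hrf Wa] at h1), Wa.smove_inv (hL'.root r v h) h2⟩
  · rintro r v (h | h)
    · by_cases hr : r = b
      · subst hr
        rw [hL.func r v (u r) h hL.memb, hop Wb.opp]
        exact ⟨_, Or.inr hL'.memb, -1, Sgn.one.neg, fun X x => by rw [Wb.pos, scl_neg_one]⟩
      · obtain ⟨v', h1, h2⟩ := hL.movb r v h hr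
        exact ⟨v', Or.inl h1, h2⟩
    · by_cases hr : r = b'
      · subst hr
        rw [hL'.func r v (u r) h hL'.memb, ← hop Wb.opp, P.reflectionPerm_self, hop Wb.opp]
        exact ⟨_, Or.inl hL.memb, -1, Sgn.one.neg, fun X x => by rw [Wb.neg, scl_neg_one]⟩
      · obtain ⟨v', h1, h2⟩ := hL'.movb r v h hr
        exact ⟨v', Or.inr (by rwa [hrf Wb] at h1), Wb.smove_inv (hL'.root r v h) h2⟩

/-- The relations hold in a frame. -/
theorem rels_of_frame (F : Frame c P.root u) (Wa : IsWeyl c P u a a' Na) (Wb : IsWeyl c P u b b' Nb)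
    (hli : ∀ x y : ℤ, x • P.root a + y • P.root b = 0 → x = 0 ∧ y = 0)
    (hbot : P.root b - P.root a ∉ Set.range P.root) : Rels P u a b Na Nb := by
  have hp : P.pairing b a = 0 → P.pairing a b = 0 → P.root a + P.root b ∉ Set.range P.root := fun h h' ⟨d, hd⟩ => by
    rcases combos hli hbot (k := 0) (Or.inl rfl) h (by rw [h']; rfl) (i := 1) (j := 1) le_rfl le_rfl
      (by rw [hd, Nat.cast_one, one_smul, one_smul] : P.root d = _) with ⟨h1, h2⟩ | ⟨⟨h1, -⟩, -⟩ <;> omega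
  refine ⟨fun h h' X x => Wa.fixes F (F.hu b) hli (hp h h') hbot x,
    fun h h' => IsWeyl.commute_a1a1 F Wa Wb hli hbot (hp h h'),
    fun h h' => (a2_core hcor F Wa Wb hli hbot h h').1, fun h h' => a2_braid hcor F Wa Wb hli hbot h h',
    fun h h' => (b2_core F hcor Wa Wb hli hbot h h').2.2, fun h h' => b2_orth hcor F Wa Wb hli h h',
    fun h h' => ?_, fun h h' => g2_orth hcor F Wa Wb hli h h'⟩
  obtain ⟨v, r₁, r₂, r₃, r₄, H, va, vb, v1, v2, v3, v4⟩ := exists_g2 F hcor Wa Wb hli hbot h h'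
  refine ⟨fun X x => ?_, fun X x => ?_⟩
  · have h5 := H.a4 X x
    rw [v4, scl_one] at h5
    simp only [comp_cj] at h5
    exact h5
  · have h5 := H.b2 X x
    rw [v2, scl_one] at h5
    simp only [comp_cj] at h5
    exact h5

/-- The relations hold in both orders. -/
theorem rels₂_of_frame (F : Frame c P.root u) (Wa : IsWeyl c P u a a' Na) (Wb : IsWeyl c P u b b' Nb)
    (hli : ∀ x y : ℤ, x • P.root a + y • P.root b = 0 → x = 0 ∧ y = 0)
    (hbot : P.root b - P.root a ∉ Set.range P.root) : Rels₂ P u a b Na Nb :=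
  ⟨rels_of_frame hcor F Wa Wb hli hbot, rels_of_frame hcor F Wb Wa (li_symm P hli)
    (fun h => hbot (by rw [← neg_sub]; exact P.neg_mem_range_root_iff.2 h))⟩

end Groth.Agent.RootBase
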